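import Cfsg.Agent.GH.Q2.NoG2

/-!
# GH-Q, case (II): the types, in the presence of a swap
-/

set_option autoImplicit false

namespace Cfsg.Agent.GH.Q2

open Subgroup Cfsg.Agent.GH.Defs

variable {G : Type*} [Group G] {S : Subgroup G} {z r1 y1 r2 y2 s : G} {n : ℕ} {u1 j1 u2 j2 : ℤ}

/-- **the types, if the quaternion groups of some coordinates are interchanged.** -/
theorem types_of_swap [Finite G] (h0 : Sd S z r1 y1 r2 y2 n n) (hs : s ∈ S)
    (N : Sw r1 y1 r2 y2 s u1 j1 u2 j2) (h : Tg S z) : TypeSp4 ↥S ∨ TypeL4 ↥S := by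
  obtain ⟨r1, y1, r2, y2, n, h, hc⟩ := h
  rcases hc with ⟨x, hx, T, hc⟩ | ⟨t, ht, T, hc⟩ | ⟨x, hx, t, ht, T, T', htx, hc⟩ |
    ⟨rfl, x, hx, t, ht, T, T', htx, hc⟩
  · exact (NoG2.no_g2 h0 hs N h hx T hc).elim
  · left
    have hcard := h.card_two ht (T.not_mem h) hc
    refine ModelSp4.typeSp4 h.relR (T.relT h.h1 h.h2 h.h3 h.h4 ht) ?_
      (by rw [hcard]; congr 1; ring)
    rw [eq_top_iff]
    intro s _
    have key := h.mem_cl (X := closure {⟨t, ht⟩, ⟨y2, h.h4⟩, ⟨y1, h.h2⟩, ⟨r2, h.h3⟩, ⟨r1, h.h1⟩})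
      (subset_closure (by simp)) (subset_closure (by simp)) (subset_closure (by simp))
      (subset_closure (by simp))
    rcases hc s s.2 with h1 | h1
    · exact key s h1
    · have h2 := key ((⟨t, ht⟩ : S)⁻¹ * s) h1
      exact (Subgroup.mul_mem_cancel_left _ (inv_mem (subset_closure (by simp)))).1 h2
  · right
    have hcard := h.card_four (T.not_mem h) (h.mem_N0_of_ns hx T.ns) ht
      (h.not_mem_N0_of_sw rfl T'.sw_tgt) hc
    refine GHTypes.LFourRel.typeL4 h.relR (T.relX h.h1 h.h2 h.h3 h.h4 hx (mul_mem h.h1 h.h3))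
      (T'.relT h.h1 h.h2 h.h3 h.h4 ht) (Subtype.ext (cj_eq_self_iff.1 htx)) ?_
      (by rw [hcard]; congr 1; ring)
    rw [eq_top_iff]
    intro s _
    have key := h.mem_cl (X := closure {⟨t, ht⟩, ⟨x, hx⟩, ⟨y2, h.h4⟩, ⟨y1, h.h2⟩, ⟨r2, h.h3⟩,
      ⟨r1, h.h1⟩}) (subset_closure (by simp)) (subset_closure (by simp)) (subset_closure (by simp))
      (subset_closure (by simp))
    rcases hc s s.2 with h1 | h1 | h1 | h1
    · exact key s h1
    · have h2 := key ((⟨x, hx⟩ : S)⁻¹ * s) h1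
      exact (Subgroup.mul_mem_cancel_left _ (inv_mem (subset_closure (by simp)))).1 h2
    · have h2 := key ((⟨t, ht⟩ : S)⁻¹ * s) h1
      exact (Subgroup.mul_mem_cancel_left _ (inv_mem (subset_closure (by simp)))).1 h2
    · have h2 := key (((⟨t, ht⟩ : S) * (⟨x, hx⟩ : S))⁻¹ * s) h1
      exact (Subgroup.mul_mem_cancel_left _ (inv_mem (mul_mem (subset_closure (by simp))
        (subset_closure (by simp))))).1 h2
  · right
    have hcard := h.card_four (T.not_mem h) (h.mem_N0_of_ns hx T.ns) ht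
      (h.not_mem_N0_of_sw rfl T'.sw_tgt) hc
    refine ModelL4z.typeL4 h.relR (T.relX h.h1 h.h2 h.h3 h.h4 hx (mul_mem (mul_mem h.h1 h.h3) h.hz))
      (T'.relT h.h1 h.h2 h.h3 h.h4 ht) (Subtype.ext ?_) ?_
      (by rw [hcard])
    · change t * x = x * z * t
      rw [mul_cj, htx]
    rw [eq_top_iff]
    intro s _
    have key := h.mem_cl (X := closure {⟨t, ht⟩, ⟨x, hx⟩, ⟨y2, h.h4⟩, ⟨y1, h.h2⟩, ⟨r2, h.h3⟩,
      ⟨r1, h.h1⟩}) (subset_closure (by simp)) (subset_closure (by simp)) (subset_closure (by simp))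
      (subset_closure (by simp))
    rcases hc s s.2 with h1 | h1 | h1 | h1
    · exact key s h1
    · have h2 := key ((⟨x, hx⟩ : S)⁻¹ * s) h1
      exact (Subgroup.mul_mem_cancel_left _ (inv_mem (subset_closure (by simp)))).1 h2
    · have h2 := key ((⟨t, ht⟩ : S)⁻¹ * s) h1
      exact (Subgroup.mul_mem_cancel_left _ (inv_mem (subset_closure (by simp)))).1 h2
    · have h2 := key (((⟨t, ht⟩ : S) * (⟨x, hx⟩ : S))⁻¹ * s) h1
      exact (Subgroup.mul_mem_cancel_left _ (inv_mem (mul_mem (subset_closure (by simp))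
        (subset_closure (by simp))))).1 h2


end Cfsg.Agent.GH.Q2
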