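import Cfsg.Agent.GH.Q2.Struct
import Cfsg.Agent.Cit.Quat

/-!
# GH-Q, case (II): choice of coordinates

A `2`-group `S` permuting two commuting generalized quaternion groups `Q₁`, `Q₂` with `Q₁ ∩ Q₂ = ⟨z⟩`:
coordinates `Q_i = ⟨r_i, y_i⟩` such that `S` permutes `⟨r₁⟩`, `⟨r₂⟩` (also for `|Q_i| = 8`).

* `fix` : one factor;
* `exists_coord` : the coordinates, with the `act` clause of `Sd`.
-/

set_option autoImplicit false

namespace Cfsg.Agent.GH.Q2.Coord

open Subgroup Cfsg.Agent.Cit

variable {G : Type*} [Group G]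

section GQaux

variable {Q : Subgroup G} {c v z r y : G} {n : ℕ}

theorem qn_of_gq (h : GQ Q c v z n) : Qn z c v n where
  z_ne := h.z_ne
  z_sq := h.z_mul
  rp := h.z_eq
  ys := h.v_sq
  inv := h.conj

theorem closure_of_gq (h : GQ Q c v z n) : closure ({c, v} : Set G) = Q := by
  apply le_antisymm
  · rw [closure_le]
    rintro x (rfl | rfl)
    · exact h.c_mem
    · exact h.v_mem
  · intro x hx
    have hc : c ∈ closure ({c, v} : Set G) := subset_closure (by simp)
    have hv : v ∈ closure ({c, v} : Set G) := subset_closure (by simp)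
    rcases h.cov x hx with ⟨i, rfl⟩ | ⟨i, rfl⟩
    · exact pow_mem hc i
    · exact mul_mem hv (pow_mem hc i)

theorem gq_of_qn (h : Qn z r y n) : GQ (closure ({r, y} : Set G)) r y z n where
  c_mem := subset_closure (by simp)
  v_mem := subset_closure (by simp)
  ord := h.ord
  z_eq := h.rp
  v_sq := h.ys
  conj := h.inv
  cov x hx := by
    have hfin : ∀ i : ℤ, ∃ k : ℕ, r ^ i = r ^ k := by
      intro i
      have h1 : r ^ i ∈ Submonoid.powers r := by
        rw [mem_powers_iff_mem_zpowers' (isOfFinOrder_iff_pow_eq_one.2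
          ⟨2 ^ (n + 2), by positivity, h.rp2⟩)]
        exact zpow_mem_zpowers r i
      obtain ⟨k, hk⟩ := h1
      exact ⟨k, hk.symm⟩
    obtain ⟨i, hi⟩ := h.mem_iff.1 hx
    rcases hi with hi | hi
    · obtain ⟨k, hk⟩ := hfin i
      exact Or.inl ⟨k, by rw [hi, hk]⟩
    · obtain ⟨k, hk⟩ := hfin (-i)
      refine Or.inr ⟨k, ?_⟩
      rw [hi, ← hk, h.y_zpow, neg_neg]
where
  mem_powers_iff_mem_zpowers' {x g : G} (hx : IsOfFinOrder x) :
      g ∈ Submonoid.powers x ↔ g ∈ Subgroup.zpowers x := by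
    exact hx.mem_powers_iff_mem_zpowers

theorem gq_of_qn' (h : Qn z r y n) (hQ : closure ({r, y} : Set G) = Q) : GQ Q r y z n := by
  rw [← hQ]
  exact gq_of_qn h

theorem v_notin (h : GQ Q c v z n) : v ∉ zpowers c := by
  rintro ⟨i, hi⟩
  exact (qn_of_gq h).y_notin i hi

/-- the image of coordinates under conjugation -/
theorem cj_gq {Q' : Subgroup G} (h : GQ Q r y z n) (s : G) (hz : cj s z = z)
    (h1 : ∀ g ∈ Q, cj s g ∈ Q') (h2 : ∀ g ∈ Q', ∃ x ∈ Q, cj s x = g) :
    GQ Q' (cj s r) (cj s y) z n where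
  c_mem := h1 _ h.c_mem
  v_mem := h1 _ h.v_mem
  ord := by
    have : cj s r = MulAut.conj s r := rfl
    rw [this, MulEquiv.orderOf_eq]
    exact h.ord
  z_eq := by rw [← cj_pow, h.z_eq, hz]
  v_sq := by rw [← cj_mul, h.v_sq, hz]
  conj := by
    have := congrArg (cj s) h.conj
    rw [cj_mul, cj_mul, cj_inv, cj_inv] at this
    exact this
  cov g hg := by
    obtain ⟨x, hx, rfl⟩ := h2 g hg
    rcases h.cov x hx with ⟨i, rfl⟩ | ⟨i, rfl⟩
    · exact Or.inl ⟨i, cj_pow _ _ _⟩
    · exact Or.inr ⟨i, by rw [cj_mul, cj_pow]⟩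

/-- an element which preserves `⟨r⟩` has exponents -/
theorem exists_exp [Finite G] (h : GQ Q r y z n) {s : G} (hn : ∀ g ∈ Q, cj s g ∈ Q)
    (hr : cj s r ∈ zpowers r) : (∃ u : ℤ, cj s r = r ^ u) ∧ ∃ j : ℤ, cj s y = r ^ j * y := by
  obtain ⟨u, hu⟩ := hr
  refine ⟨⟨u, hu.symm⟩, ?_⟩
  rcases h.cov _ (hn y h.v_mem) with ⟨i, hi⟩ | ⟨i, hi⟩
  · exfalso
    -- `cj s y` commutes with `cj s r`
    have h1 : cj (cj s y) (cj s r) = (cj s r)⁻¹ := by
      rw [cj_cj, show cj y r = r⁻¹ from h.conj, cj_inv]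
    rw [hi, ← hu] at h1
    have h2 : cj (r ^ i) (r ^ u) = r ^ u := by
      have := cj_rz_r (r := r) i u
      rwa [zpow_natCast] at this
    simp only at h1
    rw [h2] at h1
    have h3 : cj s r = (cj s r)⁻¹ := by rw [← hu]; exact h1
    rw [← cj_inv] at h3
    exact (qn_of_gq h).r_ne_inv (cj_inj h3)
  · refine ⟨-i, ?_⟩
    rw [hi]
    have := (qn_of_gq h).y_zpow i
    rw [zpow_natCast] at this
    exact this
where
  cj_rz_r {r : G} (i j : ℤ) : cj (r ^ i) (r ^ j) = r ^ j := Qn.cj_rz_r i j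

end GQaux

/-- A `2`-group acting by conjugation on an odd set of subgroups fixes one of them. -/
theorem exists_fixed [Finite G] {S0 : Subgroup G} (hS : IsPGroup 2 S0) (X : Set (Subgroup G))
    (hX : ∀ s ∈ S0, ∀ A ∈ X, A.map (MulAut.conj s).toMonoidHom ∈ X) (hodd : ¬ 2 ∣ X.ncard) :
    ∃ A ∈ X, ∀ s ∈ S0, A.map (MulAut.conj s).toMonoidHom = A := by
  classical
  have : Fact (Nat.Prime 2) := ⟨Nat.prime_two⟩
  let inst : MulAction S0 X :=
    { smul := fun s A => ⟨(A : Subgroup G).map (MulAut.conj (s : G)).toMonoidHom, hX s s.2 A A.2⟩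
      one_smul := by
        intro A
        apply Subtype.ext
        change (A : Subgroup G).map (MulAut.conj ((1 : S0) : G)).toMonoidHom = A
        rw [OneMemClass.coe_one, map_one]
        exact Subgroup.map_id _
      mul_smul := by
        intro a b A
        apply Subtype.ext
        change (A : Subgroup G).map (MulAut.conj ((a * b : S0) : G)).toMonoidHom =
          ((A : Subgroup G).map (MulAut.conj (b : G)).toMonoidHom).map
            (MulAut.conj (a : G)).toMonoidHom
        rw [Subgroup.map_map]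
        congr 1
        rw [Subgroup.coe_mul, map_mul]
        rfl }
  obtain ⟨A, hA⟩ := hS.nonempty_fixed_point_of_prime_not_dvd_card X
    (by rwa [Nat.card_coe_set_eq])
  refine ⟨A, A.2, ?_⟩
  intro s hs
  exact congrArg Subtype.val (hA ⟨s, hs⟩)

/-- The cyclic subgroups `⟨r⟩` for coordinates `(r, y)` of `Q`. -/
def Fr (Q : Subgroup G) (z : G) (n : ℕ) : Set (Subgroup G) :=
  {A | ∃ r y, GQ Q r y z n ∧ A = zpowers r}

section odd

variable {Q : Subgroup G} {c v z r y : G} {n : ℕ}

theorem zpowers_eq_of_mem [Finite G] {a b : G} (h : a ∈ zpowers b) (ho : orderOf a = orderOf b) :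
    zpowers a = zpowers b := by
  apply Subgroup.eq_of_le_of_card_ge
  · rwa [zpowers_le]
  · rw [Nat.card_zpowers, Nat.card_zpowers, ho]

/-- in `Q₈` the two coordinates may be exchanged -/
theorem swap0 (h : Qn z c v 0) : Qn z v c 0 where
  z_ne := h.z_ne
  z_sq := h.z_sq
  rp := by
    rw [zero_add, pow_one, pow_two]
    exact h.ys
  ys := by
    have := h.rp
    rwa [zero_add, pow_one, pow_two] at this
  inv := by
    have h1 : c * c = z := by
      have := h.rp
      rwa [zero_add, pow_one, pow_two] at this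
    have h2 : cj c v = c ^ (2 : ℤ) * v := h.cj_r_y
    rw [h2, zpow_two, h1]
    apply eq_inv_of_mul_eq_one_left
    rw [mul_assoc, h.ys, h.z_sq]

theorem mul0 (h : Qn z c v 0) : Qn z (v * c) c 0 where
  z_ne := h.z_ne
  z_sq := h.z_sq
  rp := by
    rw [zero_add, pow_one, pow_two]
    have h1 : v * c = c ^ (-1 : ℤ) * v := by
      have := h.y_zpow 1
      rwa [zpow_one] at this
    rw [h1]
    exact h.ry_sq _
  ys := (swap0 h).ys
  inv := by
    have h1 : c * c = z := (swap0 h).ys
    have h2 : cj c (v * c) = c * v := by rw [cj_def]; group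
    rw [h2]
    apply eq_inv_of_mul_eq_one_left
    calc c * v * (v * c) = c * (v * v) * c := by group
      _ = c * z * c := by rw [h.ys]
      _ = z * (c * c) := by rw [← h.zr]; group
      _ = 1 := by rw [h1, h.z_sq]

theorem closure_swap (c v : G) : closure ({v, c} : Set G) = closure ({c, v} : Set G) := by
  rw [Set.pair_comm]

theorem closure_mul (c v : G) : closure ({v * c, c} : Set G) = closure ({c, v} : Set G) := by
  apply le_antisymm
  · rw [closure_le]
    have hc : c ∈ closure ({c, v} : Set G) := subset_closure (by simp)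
    have hv : v ∈ closure ({c, v} : Set G) := subset_closure (by simp)
    rintro x (rfl | rfl)
    · exact mul_mem hv hc
    · exact hc
  · rw [closure_le]
    have hc : c ∈ closure ({v * c, c} : Set G) := subset_closure (by simp)
    have hv : v * c ∈ closure ({v * c, c} : Set G) := subset_closure (by simp)
    rintro x (rfl | rfl)
    · exact hc
    · have := mul_mem hv (inv_mem hc)
      rwa [mul_inv_cancel_right] at this

theorem cj_fr [Finite G] {s : G} (hz : cj s z = z) (hn : ∀ g ∈ Q, cj s g ∈ Q) {A : Subgroup G}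
    (hA : A ∈ Fr Q z n) : A.map (MulAut.conj s).toMonoidHom ∈ Fr Q z n := by
  obtain ⟨r, y, g, rfl⟩ := hA
  refine ⟨cj s r, cj s y, cj_gq g s hz hn ?_, ?_⟩
  · intro x hx
    -- conjugation by `s` is surjective on `Q`
    have h1 : Q.map (MulAut.conj s).toMonoidHom = Q := by
      apply Subgroup.eq_of_le_of_card_ge
      · rintro _ ⟨w, hw, rfl⟩
        exact hn w hw
      · rw [Subgroup.card_map_of_injective (MulAut.conj s).injective]
    rw [← h1] at hx
    obtain ⟨w, hw, hw'⟩ := hx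
    exact ⟨w, hw, hw'⟩
  · rw [MonoidHom.map_zpowers]
    rfl

theorem fr_odd [Finite G] (h : GQ Q c v z n) : ¬ 2 ∣ (Fr Q z n).ncard := by
  rcases Nat.eq_zero_or_pos n with rfl | hn
  · have hq := qn_of_gq h
    have hcl := closure_of_gq h
    have e : Fr Q z 0 = {zpowers c, zpowers v, zpowers (v * c)} := by
      ext A
      constructor
      · rintro ⟨r, y, g, rfl⟩
        have ho : ∀ b, orderOf b = 4 → r ∈ zpowers b → zpowers r = zpowers b := by
          intro b hb hm
          exact zpowers_eq_of_mem hm (by rw [g.ord, hb]; norm_num)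
        have hc4 : orderOf c = 4 := h.ord
        have hz1 : ∀ i : ℕ, c ^ i = 1 ∨ c ^ i = z ∨ c ^ i = c ∨ c ^ i = c * z := by
          intro i
          have h1 : c * c = z := (swap0 hq).ys
          induction i with
          | zero => simp
          | succ k ih =>
            rw [pow_succ]
            rcases ih with ih | ih | ih | ih <;> rw [ih]
            · right; right; left; simp
            · right; right; right; rw [hq.zr]
            · right; left; exact h1
            · left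
              rw [mul_assoc, hq.zr, ← mul_assoc, h1, hq.z_sq]
        simp only [Set.mem_insert_iff, Set.mem_singleton_iff]
        rcases h.cov r g.c_mem with ⟨i, hi⟩ | ⟨i, hi⟩
        · left
          exact ho c hc4 ⟨i, by rw [hi]; simp⟩
        · rcases hz1 i with h1 | h1 | h1 | h1
          · right; left
            refine ho v h.orderOf_v ⟨1, ?_⟩
            simp only [zpow_one]
            rw [hi, h1, mul_one]
          · right; left
            refine ho v h.orderOf_v ?_
            rw [hi, h1, ← hq.ys]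
            exact mul_mem (mem_zpowers v) (mul_mem (mem_zpowers v) (mem_zpowers v))
          · right; right
            have h4 : orderOf (v * c) = 4 := by
              have := h.orderOf_out 1
              rwa [pow_one] at this
            refine ho _ h4 ?_
            rw [hi, h1]
            exact mem_zpowers _
          · right; right
            have h4 : orderOf (v * c) = 4 := by
              have := h.orderOf_out 1
              rwa [pow_one] at this
            refine ho _ h4 ?_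
            have h5 : z = (v * c) * (v * c) := by
              have := (mul0 hq).rp
              rw [zero_add, pow_one, pow_two] at this
              exact this.symm
            rw [hi, h1, ← mul_assoc, h5]
            exact mul_mem (mem_zpowers _) (mul_mem (mem_zpowers _) (mem_zpowers _))
      · rintro (rfl | rfl | rfl)
        · exact ⟨c, v, h, rfl⟩
        · exact ⟨v, c, gq_of_qn' (swap0 hq) ((closure_swap c v).trans hcl), rfl⟩
        · exact ⟨v * c, c, gq_of_qn' (mul0 hq) ((closure_mul c v).trans hcl), rfl⟩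
    have n1 : zpowers c ≠ zpowers v := by
      intro e1
      exact v_notin h (e1 ▸ mem_zpowers v)
    have n2 : zpowers c ≠ zpowers (v * c) := by
      intro e1
      apply v_notin h
      have h1 : v * c ∈ zpowers c := e1 ▸ mem_zpowers (v * c)
      have := mul_mem h1 (inv_mem (mem_zpowers c))
      rwa [mul_inv_cancel_right] at this
    have n3 : zpowers v ≠ zpowers (v * c) := by
      intro e1
      have h1 : v * c ∈ zpowers v := e1 ▸ mem_zpowers (v * c)
      have h2 := mul_mem (inv_mem (mem_zpowers v)) h1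
      rw [inv_mul_cancel_left] at h2
      exact v_notin (gq_of_qn' (swap0 hq) ((closure_swap c v).trans hcl)) h2
    have : (Fr Q z 0).ncard = 3 := by
      rw [e, Set.ncard_eq_three]
      exact ⟨_, _, _, n1, n2, n3, rfl⟩
    rw [this]
    norm_num
  · have e : Fr Q z n = {zpowers c} := by
      ext A
      rw [Set.mem_singleton_iff]
      constructor
      · rintro ⟨r, y, g, rfl⟩
        rcases h.cov r g.c_mem with ⟨i, hi⟩ | ⟨i, hi⟩
        · exact zpowers_eq_of_mem ⟨i, by rw [hi]; simp⟩ (by rw [g.ord, h.ord])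
        · exfalso
          have h1 := h.orderOf_out i
          rw [← hi, g.ord] at h1
          have h2 : 2 ^ 2 < 2 ^ (n + 2) := Nat.pow_lt_pow_right (by norm_num) (by omega)
          omega
      · rintro rfl
        exact ⟨c, v, h, rfl⟩
    rw [e, Set.ncard_singleton]
    norm_num

end odd

section main

variable {Q Q1 Q2 S S0 : Subgroup G} {c v z c1 v1 c2 v2 : G} {n n1 n2 : ℕ}

theorem eq_z_of_cj {s : G} (h : GQ Q c v z n) (h1 : cj s z ∈ Q) : cj s z = z := by
  refine h.eq_z h1 ?_ (cj_ne_one h.z_ne)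
  rw [← cj_mul, h.z_mul, cj_one]

/-- One factor: coordinates such that a `2`-group `S0` normalizing `Q` normalizes `⟨r⟩`. -/
theorem fix [Finite G] (hS : IsPGroup 2 S0) (h : GQ Q c v z n)
    (hn : ∀ s ∈ S0, ∀ g ∈ Q, cj s g ∈ Q) :
    ∃ r y, GQ Q r y z n ∧ ∀ s ∈ S0, cj s r ∈ zpowers r := by
  obtain ⟨A, ⟨r, y, g, rfl⟩, hA⟩ := exists_fixed hS (Fr Q z n)
    (fun s hs A hA => cj_fr (eq_z_of_cj h (hn s hs z h.z_mem)) (hn s hs) hA) (fr_odd h)
  refine ⟨r, y, g, fun s hs => ?_⟩
  have h1 : cj s r ∈ (zpowers r).map (MulAut.conj s).toMonoidHom := ⟨r, mem_zpowers r, rfl⟩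
  rwa [hA s hs] at h1

theorem n_unique (h : GQ Q c v z n) {c' v' z' : G} {n' : ℕ} (h' : GQ Q c' v' z' n') : n = n' := by
  have key : ∀ {c v z c' v' z' : G} {n n' : ℕ}, GQ Q c v z n → GQ Q c' v' z' n' → n ≤ n' := by
    intro c v z c' v' z' n n' h h'
    have h1 : c ^ 2 ^ (n' + 2) = 1 := by
      rcases h'.cov c h.c_mem with ⟨i, hi⟩ | ⟨i, hi⟩
      · rw [hi, ← pow_mul, mul_comm, pow_mul, ← h'.ord, pow_orderOf_eq_one, one_pow]
      · have h2 := h'.orderOf_out i
        rw [← hi] at h2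
        have h3 : 2 ^ (n' + 2) = 4 * 2 ^ n' := by ring
        rw [h3, pow_mul, ← h2, pow_orderOf_eq_one, one_pow]
    have h2 := orderOf_dvd_of_pow_eq_one h1
    rw [h.ord, Nat.pow_dvd_pow_iff_le_right (by norm_num)] at h2
    omega
  exact le_antisymm (key h h') (key h' h)

theorem co_of_gq (g1 : GQ Q1 c1 v1 z n1) (g2 : GQ Q2 c2 v2 z n2)
    (hc : ∀ a ∈ Q1, ∀ b ∈ Q2, a * b = b * a) (hi : ∀ g, g ∈ Q1 → g ∈ Q2 → g = 1 ∨ g = z) :
    Co z c1 v1 c2 v2 n1 n2 where
  q1 := qn_of_gq g1
  q2 := qn_of_gq g2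
  rr := hc _ g1.c_mem _ g2.c_mem
  ry := hc _ g1.c_mem _ g2.v_mem
  yr := hc _ g1.v_mem _ g2.c_mem
  yy := hc _ g1.v_mem _ g2.v_mem
  ind g h1 h2 := by
    rw [closure_of_gq g1] at h1
    rw [closure_of_gq g2] at h2
    exact hi g h1 h2

/-- **Choice of coordinates.** -/
theorem exists_coord [Finite G] (hS : IsPGroup 2 S) (g1 : GQ Q1 c1 v1 z n1)
    (g2 : GQ Q2 c2 v2 z n2) (hc : ∀ a ∈ Q1, ∀ b ∈ Q2, a * b = b * a)
    (hi : ∀ g, g ∈ Q1 → g ∈ Q2 → g = 1 ∨ g = z)
    (hp : ∀ s ∈ S, ((∀ g ∈ Q1, s * g * s⁻¹ ∈ Q1) ∧ (∀ g ∈ Q2, s * g * s⁻¹ ∈ Q2)) ∨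
      ((∀ g ∈ Q1, s * g * s⁻¹ ∈ Q2) ∧ (∀ g ∈ Q2, s * g * s⁻¹ ∈ Q1))) :
    ∃ r1 y1 r2 y2 : G, GQ Q1 r1 y1 z n1 ∧ GQ Q2 r2 y2 z n2 ∧ Co z r1 y1 r2 y2 n1 n2 ∧
      closure ({r1, y1} : Set G) = Q1 ∧ closure ({r2, y2} : Set G) = Q2 ∧
      ∀ s ∈ S, (∃ u1 j1 u2 j2 : ℤ, Ns r1 y1 r2 y2 s u1 j1 u2 j2) ∨
        (n1 = n2 ∧ ∃ u1 j1 u2 j2 : ℤ, Sw r1 y1 r2 y2 s u1 j1 u2 j2) := by
  -- the stabilizer of the two factors
  let S0 : Subgroup G :=
    { carrier := {s | s ∈ S ∧ (∀ g ∈ Q1, cj s g ∈ Q1) ∧ (∀ g ∈ Q2, cj s g ∈ Q2)}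
      one_mem' := ⟨one_mem S, fun g hg => by rwa [cj_one_left], fun g hg => by rwa [cj_one_left]⟩
      mul_mem' := by
        rintro a b ⟨ha, ha1, ha2⟩ ⟨hb, hb1, hb2⟩
        exact ⟨mul_mem ha hb, fun g hg => by rw [cj_mul_left]; exact ha1 _ (hb1 _ hg),
          fun g hg => by rw [cj_mul_left]; exact ha2 _ (hb2 _ hg)⟩
      inv_mem' := by
        rintro a ⟨ha, ha1, ha2⟩
        have surj : ∀ Q : Subgroup G, (∀ g ∈ Q, cj a g ∈ Q) → ∀ g ∈ Q, cj a⁻¹ g ∈ Q := by
          intro Q h g hg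
          have h1 : Q.map (MulAut.conj a).toMonoidHom = Q := by
            apply Subgroup.eq_of_le_of_card_ge
            · rintro _ ⟨w, hw, rfl⟩
              exact h w hw
            · rw [Subgroup.card_map_of_injective (MulAut.conj a).injective]
          rw [← h1] at hg
          obtain ⟨w, hw, rfl⟩ := hg
          have : cj a⁻¹ ((MulAut.conj a).toMonoidHom w) = w := cj_inv_cj a w
          rw [this]
          exact hw
        exact ⟨inv_mem ha, surj Q1 ha1, surj Q2 ha2⟩ }
  have hS0 : IsPGroup 2 S0 := hS.to_le (fun s hs => hs.1)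
  by_cases hsw : ∀ s ∈ S, s ∈ S0
  · -- no swap
    obtain ⟨r1, y1, k1, f1⟩ := fix hS0 g1 (fun s hs => hs.2.1)
    obtain ⟨r2, y2, k2, f2⟩ := fix hS0 g2 (fun s hs => hs.2.2)
    refine ⟨r1, y1, r2, y2, k1, k2, co_of_gq k1 k2 hc hi, closure_of_gq k1, closure_of_gq k2, ?_⟩
    intro s hs
    have hs0 := hsw s hs
    left
    obtain ⟨⟨u1, hu1⟩, j1, hj1⟩ := exists_exp k1 hs0.2.1 (f1 s hs0)
    obtain ⟨⟨u2, hu2⟩, j2, hj2⟩ := exists_exp k2 hs0.2.2 (f2 s hs0)
    exact ⟨u1, j1, u2, j2, hu1, hj1, hu2, hj2⟩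
  · push Not at hsw
    obtain ⟨t, ht, ht0⟩ := hsw
    have htw : (∀ g ∈ Q1, cj t g ∈ Q2) ∧ (∀ g ∈ Q2, cj t g ∈ Q1) := by
      rcases hp t ht with h1 | h1
      · exact absurd ⟨ht, h1.1, h1.2⟩ ht0
      · exact h1
    obtain ⟨r1, y1, k1, f1⟩ := fix hS0 g1 (fun s hs => hs.2.1)
    have hz : cj t z = z := eq_z_of_cj g2 (htw.1 z g1.z_mem)
    have hcard : Nat.card Q2 ≤ Nat.card Q1 := by
      have : (Q2.map (MulAut.conj t).toMonoidHom) ≤ Q1 := by
        rintro _ ⟨w, hw, rfl⟩
        exact htw.2 w hw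
      have := Subgroup.card_le_of_le this
      rwa [Subgroup.card_map_of_injective (MulAut.conj t).injective] at this
    have hmap : Q1.map (MulAut.conj t).toMonoidHom = Q2 := by
      apply Subgroup.eq_of_le_of_card_ge
      · rintro _ ⟨w, hw, rfl⟩
        exact htw.1 w hw
      · rw [Subgroup.card_map_of_injective (MulAut.conj t).injective]
        exact hcard
    have k2 : GQ Q2 (cj t r1) (cj t y1) z n1 := by
      refine cj_gq k1 t hz htw.1 ?_
      intro g hg
      rw [← hmap] at hg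
      obtain ⟨w, hw, hw'⟩ := hg
      exact ⟨w, hw, hw'⟩
    have hn : n1 = n2 := n_unique k2 g2
    subst hn
    refine ⟨r1, y1, cj t r1, cj t y1, k1, k2, co_of_gq k1 k2 hc hi, closure_of_gq k1,
      closure_of_gq k2, ?_⟩
    -- elements of `S0` act on both factors
    have hT : ∀ s ∈ S0, t⁻¹ * s * t ∈ S0 := by
      rintro s ⟨hs, hs1, hs2⟩
      refine ⟨mul_mem (mul_mem (inv_mem ht) hs) ht, ?_⟩
      rcases hp (t⁻¹ * s * t) (mul_mem (mul_mem (inv_mem ht) hs) ht) with h1 | h1
      · exact h1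
      · exfalso
        -- `s = t (t⁻¹ s t) t⁻¹` would swap
        have h2 : cj s (cj t r1) ∈ Q1 := by
          have e : cj s (cj t r1) = cj t (cj (t⁻¹ * s * t) r1) := by
            rw [← cj_mul_left, ← cj_mul_left]
            congr 1
            group
          rw [e]
          exact htw.2 _ (h1.1 _ k1.c_mem)
        have h3 : cj s (cj t r1) ∈ Q2 := hs2 _ (htw.1 _ k1.c_mem)
        have h5 : orderOf (cj s (cj t r1)) = 2 ^ (n1 + 2) := by
          have e1 : cj s (cj t r1) = MulAut.conj s (MulAut.conj t r1) := rfl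
          rw [e1, MulEquiv.orderOf_eq, MulEquiv.orderOf_eq]
          exact k1.ord
        rcases hi _ h2 h3 with h4 | h4
        · rw [h4, orderOf_one] at h5
          have : 1 < 2 ^ (n1 + 2) := Nat.one_lt_two_pow (by omega)
          omega
        · rw [h4, k1.orderOf_z] at h5
          have : 2 ^ 1 < 2 ^ (n1 + 2) := Nat.pow_lt_pow_right (by norm_num) (by omega)
          omega
    have f2 : ∀ s ∈ S0, cj s (cj t r1) ∈ zpowers (cj t r1) := by
      intro s hs
      obtain ⟨u, hu⟩ := f1 _ (hT s hs)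
      refine ⟨u, ?_⟩
      simp only at hu ⊢
      have e : cj s (cj t r1) = cj t (cj (t⁻¹ * s * t) r1) := by
        rw [← cj_mul_left, ← cj_mul_left]
        congr 1
        group
      rw [e, ← hu, cj_zpow]
    have hns : ∀ s ∈ S0, ∃ u1 j1 u2 j2 : ℤ, Ns r1 y1 (cj t r1) (cj t y1) s u1 j1 u2 j2 := by
      intro s hs0
      obtain ⟨⟨u1, hu1⟩, j1, hj1⟩ := exists_exp k1 hs0.2.1 (f1 s hs0)
      obtain ⟨⟨u2, hu2⟩, j2, hj2⟩ := exists_exp k2 hs0.2.2 (f2 s hs0)
      exact ⟨u1, j1, u2, j2, hu1, hj1, hu2, hj2⟩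
    intro s hs
    by_cases hs0 : s ∈ S0
    · exact Or.inl (hns s hs0)
    · right
      refine ⟨rfl, ?_⟩
      have hsw' : (∀ g ∈ Q1, cj s g ∈ Q2) ∧ (∀ g ∈ Q2, cj s g ∈ Q1) := by
        rcases hp s hs with h1 | h1
        · exact absurd ⟨hs, h1.1, h1.2⟩ hs0
        · exact h1
      -- `s * t` and `t⁻¹ * s` lie in `S0`
      have m1 : s * t ∈ S0 := by
        refine ⟨mul_mem hs ht, ?_, ?_⟩
        · intro g hg
          rw [cj_mul_left]
          exact hsw'.2 _ (htw.1 _ hg)
        · intro g hg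
          rw [cj_mul_left]
          exact hsw'.1 _ (htw.2 _ hg)
      have m2 : t⁻¹ * s ∈ S0 := by
        have h1 := hT _ m1
        have e : t⁻¹ * s = (t⁻¹ * (s * t) * t) * (t * t)⁻¹ := by group
        rw [e]
        refine mul_mem h1 (inv_mem ⟨mul_mem ht ht, ?_, ?_⟩)
        · intro g hg
          rw [cj_mul_left]
          exact htw.2 _ (htw.1 _ hg)
        · intro g hg
          rw [cj_mul_left]
          exact htw.1 _ (htw.2 _ hg)
      obtain ⟨u1, j1, u2, j2, N1⟩ := hns _ m1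
      obtain ⟨w1, k1', w2, k2', N2⟩ := hns _ m2
      refine ⟨w1, k1', u1, j1, ?_, ?_, ?_, ?_⟩
      · have := congrArg (cj t) N2.a1
        rwa [← cj_mul_left, mul_inv_cancel_left, cj_zpow] at this
      · have := congrArg (cj t) N2.b1
        rwa [← cj_mul_left, mul_inv_cancel_left, cj_mul, cj_zpow] at this
      · rw [← cj_mul_left]
        exact N1.a1
      · rw [← cj_mul_left]
        exact N1.b1

end main

end Cfsg.Agent.GH.Q2.Coord
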