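import Cfsg.Agent.GH.Q2.Sq

/-!
# GH-Q, case (II): the fusion facts used in sections 3, 4, 5

`Fu S z r1 y1 r2 y2` : facts valid for every Sylow 2-subgroup `S` of a group without subgroups of
index two in which `z` is not isolated.  `Al S z t h` : `h` normalizes `C_S(t)` and swaps `z`, `t`.
All are PROVED later from the Sylow hypotheses (file `Fusion`).
-/

set_option autoImplicit false

namespace Cfsg.Agent.GH.Q2

open Subgroup

variable {G : Type*} [Group G]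

/-- Fusion facts (section 2 of the blueprint). -/
structure Fu (S : Subgroup G) (z r1 y1 r2 y2 : G) : Prop where
  /-- (Z*) `z` is not isolated. -/
  iso : ∃ g : G, cj g z ∈ S ∧ cj g z ≠ z
  /-- (f1) the involutions of `R` other than `z` are conjugate in `C(z)`. -/
  f1 : ∀ a ∈ RR r1 y1 r2 y2, ∀ b ∈ RR r1 y1 r2 y2, a * a = 1 → a ≠ 1 → a ≠ z → b * b = 1 →
    b ≠ 1 → b ≠ z → ∃ c : G, cj c z = z ∧ cj c a = b
  /-- (f2) fusion in `C(z)` respects `S / R`. -/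
  f2 : ∀ c s : G, cj c z = z → s ∈ S → cj c s ∈ S →
    ∃ t ∈ S, cj c s * (cj t s)⁻¹ ∈ RR r1 y1 r2 y2
  /-- (C) extremal conjugates: `s = cj c (cj g z)`, `k` normalizes `C_S(s)` and moves `z`. -/
  ext : ∀ g : G, cj g z ∈ S → cj g z ≠ z → ∃ c k : G, cj c z = z ∧ cj (c * g) z ∈ S ∧
    cj k (cj (c * g) z) = cj (c * g) z ∧ cj k z ≠ z ∧
    ∀ w ∈ S, w * cj (c * g) z = cj (c * g) z * w → cj k w ∈ S
  /-- (T1) Thompson–Lyons transfer. -/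
  t1 : ∀ M : Subgroup G, M ≤ S → M.relIndex S = 2 → ∀ s ∈ S, s ∉ M → s * s = 1 →
    ∃ g : G, cj g s ∈ M ∧ ∀ w ∈ S, w * s = s * w → cj g w ∈ S
  /-- (T2) transfer for an element `x` of order four with `x ^ 2 = z`. -/
  t2 : ∀ M : Subgroup G, M ≤ S → M.relIndex S = 2 → ∀ x ∈ S, x ∉ M → x * x = z →
    (∀ g : G, cj g x ∉ M) → (∀ g : G, cj g z ∈ S → cj g z ∈ M) → False

/-- (A): `h` swaps `z` and `t` and normalizes `C_S(t)`. -/
structure Al (S : Subgroup G) (z t h : G) : Prop where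
  hz : cj h z = t
  ht : cj h t = z
  hh : h * h ∈ S
  nor : ∀ w ∈ S, w * t = t * w → cj h w ∈ S

namespace Al

variable {S : Subgroup G} {z t h : G}

theorem hh_t (a : Al S z t h) : cj (h * h) t = t := by
  rw [cj_mul_left, a.ht, a.hz]

theorem comm (a : Al S z t h) {w : G} (hw : w * z = z * w) : cj h w * t = t * cj h w := by
  rw [← a.hz, ← cj_mul, ← cj_mul, hw]

/-- `h⁻¹` has the same properties. -/
theorem inv (a : Al S z t h) : Al S z t h⁻¹ where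
  hz := by rw [← a.ht, cj_inv_cj]
  ht := by rw [← a.hz, cj_inv_cj]
  hh := by rw [← mul_inv_rev]; exact inv_mem a.hh
  nor w hw hwt := by
    have h1 := a.nor w hw hwt
    have h2 : cj h⁻¹ w = (h * h)⁻¹ * cj h w * (h * h)⁻¹⁻¹ := by simp [cj]; group
    rw [h2]
    exact mul_mem (mul_mem (inv_mem a.hh) h1) (inv_mem (inv_mem a.hh))

end Al

/-! ### targets -/

/-- `x` of type `(1, 1)`, centralizing `r1`, `r2`, with square `c`. -/
structure TX (c r1 y1 r2 y2 x : G) : Prop where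
  xx : x * x = c
  a1 : cj x r1 = r1
  a2 : cj x r2 = r2
  b1 : cj x y1 = r1 * y1
  b2 : cj x y2 = r2 * y2

/-- An involution swapping the factors. -/
structure TT (r1 y1 r2 y2 t : G) : Prop where
  tt : t * t = 1
  a : cj t r1 = r2
  b : cj t y1 = y2

/-- The four target presentations (in suitable coordinates). -/
def Tg (S : Subgroup G) (z : G) : Prop :=
  ∃ (r1 y1 r2 y2 : G) (n : ℕ), Sd S z r1 y1 r2 y2 n n ∧
    ((∃ x ∈ S, TX (r1 * r2) r1 y1 r2 y2 x ∧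
        ∀ s ∈ S, s ∈ RR r1 y1 r2 y2 ∨ x⁻¹ * s ∈ RR r1 y1 r2 y2) ∨
      (∃ t ∈ S, TT r1 y1 r2 y2 t ∧ ∀ s ∈ S, s ∈ RR r1 y1 r2 y2 ∨ t⁻¹ * s ∈ RR r1 y1 r2 y2) ∨
      (∃ x ∈ S, ∃ t ∈ S, TX (r1 * r2) r1 y1 r2 y2 x ∧ TT r1 y1 r2 y2 t ∧ cj t x = x ∧
        ∀ s ∈ S, s ∈ RR r1 y1 r2 y2 ∨ x⁻¹ * s ∈ RR r1 y1 r2 y2 ∨ t⁻¹ * s ∈ RR r1 y1 r2 y2 ∨
          (t * x)⁻¹ * s ∈ RR r1 y1 r2 y2) ∨
      (n = 0 ∧ ∃ x ∈ S, ∃ t ∈ S, TX (r1 * r2 * z) r1 y1 r2 y2 x ∧ TT r1 y1 r2 y2 t ∧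
        cj t x = x * z ∧
        ∀ s ∈ S, s ∈ RR r1 y1 r2 y2 ∨ x⁻¹ * s ∈ RR r1 y1 r2 y2 ∨ t⁻¹ * s ∈ RR r1 y1 r2 y2 ∨
          (t * x)⁻¹ * s ∈ RR r1 y1 r2 y2))

end Cfsg.Agent.GH.Q2
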