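import Cfsg.Agent.GH.Q2.InF1
import Cfsg.Agent.GH.Q2.Fus
import Cfsg.Agent.Transfer.Residual

/-!
# GH-Q (II), input: (f2) fusion in `C(z)` respects `S / R`
-/

set_option autoImplicit false
set_option maxHeartbeats 400000

open Cfsg Subgroup
open Cfsg.Agent.GH.Q2.InPair

namespace Cfsg.Agent.GH.Q2.InF2

variable {G : Type*} [Group G]

/-- `normalizer K`, acting on the classes of pairs `(w, v)`: the stabilizer of the class. -/
def Stab (K : Subgroup G) (z w v : G) : Subgroup G where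
  carrier := {g | g ∈ normalizer (K : Set G) ∧ g * z = z * g ∧
    ∃ k ∈ K, g * w * g⁻¹ = k * w * k⁻¹ ∧ g * v * g⁻¹ = k * v * k⁻¹}
  one_mem' := ⟨one_mem _, by simp, 1, one_mem _, by simp, by simp⟩
  mul_mem' := by
    rintro a b ⟨ha, haz, k, hk, h1, h2⟩ ⟨hb, hbz, l, hl, h3, h4⟩
    refine ⟨mul_mem ha hb, by rw [mul_assoc, hbz, ← mul_assoc, haz, mul_assoc], a * l * a⁻¹ * k,
      K.mul_mem ((mem_normalizer_iff.1 ha l).1 hl) hk, ?_, ?_⟩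
    · calc a * b * w * (a * b)⁻¹ = a * (b * w * b⁻¹) * a⁻¹ := by group
        _ = a * l * a⁻¹ * (a * w * a⁻¹) * (a * l * a⁻¹)⁻¹ := by rw [h3]; group
        _ = a * l * a⁻¹ * k * w * (a * l * a⁻¹ * k)⁻¹ := by rw [h1]; group
    · calc a * b * v * (a * b)⁻¹ = a * (b * v * b⁻¹) * a⁻¹ := by group
        _ = a * l * a⁻¹ * (a * v * a⁻¹) * (a * l * a⁻¹)⁻¹ := by rw [h4]; group
        _ = a * l * a⁻¹ * k * v * (a * l * a⁻¹ * k)⁻¹ := by rw [h2]; group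
  inv_mem' := by
    rintro a ⟨ha, haz, k, hk, h1, h2⟩
    refine ⟨inv_mem ha, ?_, a⁻¹ * k⁻¹ * a, ?_, ?_, ?_⟩
    · rw [inv_mul_eq_iff_eq_mul, ← mul_assoc, haz, mul_inv_cancel_right]
    · have := (mem_normalizer_iff.1 (inv_mem ha) k⁻¹).1 (K.inv_mem hk)
      rwa [inv_inv] at this
    · calc a⁻¹ * w * a⁻¹⁻¹ = a⁻¹ * k⁻¹ * (k * w * k⁻¹) * k * a := by group
        _ = a⁻¹ * k⁻¹ * a * w * (a⁻¹ * k⁻¹ * a)⁻¹ := by rw [← h1]; group
    · calc a⁻¹ * v * a⁻¹⁻¹ = a⁻¹ * k⁻¹ * (k * v * k⁻¹) * k * a := by group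
        _ = a⁻¹ * k⁻¹ * a * v * (a⁻¹ * k⁻¹ * a)⁻¹ := by rw [← h2]; group

theorem mem_stab {K : Subgroup G} {z w v g : G} : g ∈ Stab K z w v ↔
    g ∈ normalizer (K : Set G) ∧ g * z = z * g ∧
      ∃ k ∈ K, g * w * g⁻¹ = k * w * k⁻¹ ∧ g * v * g⁻¹ = k * v * k⁻¹ := Iff.rfl

variable [Finite G]

/-- The stabilizer has index at most two. -/
theorem stab_mul {K Q : Subgroup G} {c v z : G} {n : ℕ} (h : InQuat.QK K Q c v z n) {g : G}
    (hg : g ∈ normalizer (K : Set G)) (hgz : g * z = z * g) :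
    g * g ∈ Stab K z (c ^ 2 ^ n) v := by
  obtain ⟨w, hw⟩ : ∃ w, w = c ^ 2 ^ n := ⟨_, rfl⟩
  have hww : w * w = z := by rw [hw]; exact h.w_sq
  have hwK : w ∈ K := by rw [hw]; exact h.w_mem
  have hconjz : ∀ x : G, x * z = z * x → x * z * x⁻¹ = z := by
    intro x hx
    rw [hx, mul_inv_cancel_right]
  have hginv : g⁻¹ * z = z * g⁻¹ := by
    rw [inv_mul_eq_iff_eq_mul, ← mul_assoc, hgz, mul_inv_cancel_right]
  have hwv : w * v * w⁻¹ = v⁻¹ := by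
    rw [hw]
    have h1 := h.v_conj_w
    have h2 : v * c ^ 2 ^ n = (c ^ 2 ^ n)⁻¹ * v := by rw [← h1]; group
    have h3 : c ^ 2 ^ n * v * c ^ 2 ^ n = v := by rw [mul_assoc, h2, mul_inv_cancel_left]
    calc c ^ 2 ^ n * v * (c ^ 2 ^ n)⁻¹ = (c ^ 2 ^ n * v * c ^ 2 ^ n) * (c ^ 2 ^ n * c ^ 2 ^ n)⁻¹ := by
          group
      _ = v * (v * v)⁻¹ := by rw [h3, h.w_sq, h.gq.v_sq]
      _ = v⁻¹ := by group
  have hpair : ∀ x : G, x ∈ normalizer (K : Set G) → x * z = z * x → ∃ k ∈ K,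
      k * (x * w * x⁻¹) * k⁻¹ = w ∧ (k * (x * v * x⁻¹) * k⁻¹ = v ∨ k * (x * v * x⁻¹) * k⁻¹ = v * c) := by
    intro x hx hxz
    have h1 := h.pair (a := x * w * x⁻¹) (b := x * v * x⁻¹) ((mem_normalizer_iff.1 hx w).1 hwK)
      (by
        have : x * w * x⁻¹ * (x * w * x⁻¹) = x * (w * w) * x⁻¹ := by group
        rw [this, hww, hconjz x hxz]) ((mem_normalizer_iff.1 hx v).1 h.v_mem) (by
        have : x * v * x⁻¹ * (x * v * x⁻¹) = x * (v * v) * x⁻¹ := by group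
        rw [this, h.gq.v_sq, hconjz x hxz]) (by
        have : x * w * x⁻¹ * (x * v * x⁻¹) * (x * w * x⁻¹)⁻¹ = x * (w * v * w⁻¹) * x⁻¹ := by group
        rw [this, hwv]; group)
    obtain ⟨k, hk, h2, h3⟩ := h1
    exact ⟨k, hk, by rw [h2, hw], h3⟩
  rw [← hw]
  have hgood : ∀ x : G, x ∈ normalizer (K : Set G) → x * z = z * x → ∀ k ∈ K,
      k * (x * w * x⁻¹) * k⁻¹ = w → k * (x * v * x⁻¹) * k⁻¹ = v → x ∈ Stab K z w v := by
    intro x hx hxz k hk h1 h2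
    refine ⟨hx, hxz, k⁻¹, K.inv_mem hk, ?_, ?_⟩
    · calc x * w * x⁻¹ = k⁻¹ * (k * (x * w * x⁻¹) * k⁻¹) * k⁻¹⁻¹ := by group
        _ = k⁻¹ * w * k⁻¹⁻¹ := by rw [h1]
    · calc x * v * x⁻¹ = k⁻¹ * (k * (x * v * x⁻¹) * k⁻¹) * k⁻¹⁻¹ := by group
        _ = k⁻¹ * v * k⁻¹⁻¹ := by rw [h2]
  obtain ⟨k, hk, h1, h2⟩ := hpair g hg hgz
  obtain ⟨l, hl, h3, h4⟩ := hpair g⁻¹ (inv_mem hg) hginv
  rcases h2 with h2 | h2
  · exact mul_mem (hgood g hg hgz k hk h1 h2) (hgood g hg hgz k hk h1 h2)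
  · rcases h4 with h4 | h4
    · have := inv_mem (hgood _ (inv_mem hg) hginv l hl h3 h4)
      rw [inv_inv] at this
      exact mul_mem this this
    · -- `k g` and `l g⁻¹` send `(w, v)` to `(w, v c)`
      have h5 : (l * g⁻¹)⁻¹ * (k * g) * w * ((l * g⁻¹)⁻¹ * (k * g))⁻¹ = w := by
        calc (l * g⁻¹)⁻¹ * (k * g) * w * ((l * g⁻¹)⁻¹ * (k * g))⁻¹ =
            (l * g⁻¹)⁻¹ * (k * (g * w * g⁻¹) * k⁻¹) * (l * g⁻¹) := by group
          _ = (l * g⁻¹)⁻¹ * (l * (g⁻¹ * w * g⁻¹⁻¹) * l⁻¹) * (l * g⁻¹) := by rw [h1, h3]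
          _ = w := by group
      have h6 : (l * g⁻¹)⁻¹ * (k * g) * v * ((l * g⁻¹)⁻¹ * (k * g))⁻¹ = v := by
        calc (l * g⁻¹)⁻¹ * (k * g) * v * ((l * g⁻¹)⁻¹ * (k * g))⁻¹ =
            (l * g⁻¹)⁻¹ * (k * (g * v * g⁻¹) * k⁻¹) * (l * g⁻¹) := by group
          _ = (l * g⁻¹)⁻¹ * (l * (g⁻¹ * v * g⁻¹⁻¹) * l⁻¹) * (l * g⁻¹) := by rw [h2, h4]
          _ = v := by group
      -- `g l⁻¹ k g = (g l⁻¹ k g⁻¹) g g`
      have h7 : (l * g⁻¹)⁻¹ * (k * g) = (g * (l⁻¹ * k) * g⁻¹) * (g * g) := by group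
      rw [h7] at h5 h6
      refine hgood (g * g) (mul_mem hg hg) (by rw [mul_assoc, hgz, ← mul_assoc, hgz, mul_assoc])
        (g * (l⁻¹ * k) * g⁻¹) ((mem_normalizer_iff.1 hg _).1 (K.mul_mem (K.inv_mem hl) hk)) ?_ ?_
      · calc g * (l⁻¹ * k) * g⁻¹ * (g * g * w * (g * g)⁻¹) * (g * (l⁻¹ * k) * g⁻¹)⁻¹ =
            g * (l⁻¹ * k) * g⁻¹ * (g * g) * w * (g * (l⁻¹ * k) * g⁻¹ * (g * g))⁻¹ := by group
          _ = w := h5
      · calc g * (l⁻¹ * k) * g⁻¹ * (g * g * v * (g * g)⁻¹) * (g * (l⁻¹ * k) * g⁻¹)⁻¹ =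
            g * (l⁻¹ * k) * g⁻¹ * (g * g) * v * (g * (l⁻¹ * k) * g⁻¹ * (g * g))⁻¹ := by group
          _ = v := h6

omit [Finite G] in
/-- an element of odd order is a power of its square -/
theorem mem_of_sq {g : G} (hg : Odd (orderOf g)) {A : Subgroup G} (h : g * g ∈ A) : g ∈ A := by
  obtain ⟨m, hm⟩ := hg
  have h1 : (g * g) ^ (m + 1) = g := by
    rw [← pow_two, ← pow_mul, show 2 * (m + 1) = (2 * m + 1) + 1 by ring, pow_succ, ← hm,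
      pow_orderOf_eq_one, one_mul]
  rw [← h1]
  exact A.pow_mem h _

/-- elements of odd order of `C(z)` stabilize -/
theorem odd_mem {K Q : Subgroup G} {c v z : G} {n : ℕ} (h : InQuat.QK K Q c v z n) {g : G}
    (hg : g ∈ normalizer (K : Set G)) (hgz : g * z = z * g) (ho : Odd (orderOf g)) :
    g ∈ Stab K z (c ^ 2 ^ n) v := mem_of_sq ho (stab_mul h hg hgz)

/-- coordinates -/
theorem gq_of_qn {Q : Subgroup G} {z r y : G} {n : ℕ} (h : Qn z r y n)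
    (hQ : closure ({r, y} : Set G) = Q) : Cit.GQ Q r y z n := by
  have hr : r ∈ Q := by rw [← hQ]; exact subset_closure (by simp)
  have hy : y ∈ Q := by rw [← hQ]; exact subset_closure (by simp)
  refine ⟨hr, hy, h.ord, h.rp, h.ys, h.inv, ?_⟩
  intro x hx
  rw [← hQ] at hx
  obtain ⟨i, hi | hi⟩ := h.mem_iff.1 hx
  · left
    obtain ⟨k, hk⟩ := (mem_powers_iff_mem_zpowers (x := r) (y := x)).2 ⟨i, hi.symm⟩
    exact ⟨k, hk.symm⟩
  · right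
    obtain ⟨k, hk⟩ := (mem_powers_iff_mem_zpowers (x := r) (y := r ^ (-i))).2 ⟨-i, rfl⟩
    refine ⟨k, ?_⟩
    have hk' : r ^ k = r ^ (-i) := hk
    rw [hk', hi, h.y_zpow, neg_neg]

/-- types of elements of `S` stabilizing the class of the pair `(w, y)` are even -/
theorem even_of_stab {K Q : Subgroup G} {r y z s : G} {n : ℕ} (h : InQuat.QK K Q r y z n)
    {u j : ℤ} (hu : Odd u) (h1 : s * r * s⁻¹ = r ^ u) (h2 : s * y * s⁻¹ = r ^ j * y)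
    (hs : s ∈ Stab K z (r ^ 2 ^ n) y) : Even j := by
  obtain ⟨-, -, k, hk, h3, h4⟩ := hs
  have hw : s * r ^ 2 ^ n * s⁻¹ = (r ^ 2 ^ n) ^ u := by
    rw [← conj_pow, h1, ← zpow_natCast, ← zpow_natCast, ← zpow_mul, ← zpow_mul, mul_comm]
  have hw4 : (r ^ 2 ^ n) ^ (4 : ℤ) = 1 := by
    have h5 : (r ^ 2 ^ n) ^ (4 : ℤ) = (r ^ 2 ^ n * r ^ 2 ^ n) * (r ^ 2 ^ n * r ^ 2 ^ n) := by
      group
    rw [h5, h.w_sq, h.gq.z_mul]
  have hww : s * r ^ 2 ^ n * s⁻¹ = r ^ 2 ^ n ∨ s * r ^ 2 ^ n * s⁻¹ = (r ^ 2 ^ n)⁻¹ := by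
    obtain ⟨m, rfl⟩ := hu
    rcases Int.even_or_odd' m with ⟨l, hl | hl⟩
    · left
      rw [hw, hl, show 2 * (2 * l) + 1 = 4 * l + 1 by ring, zpow_add, zpow_mul, hw4, one_zpow,
        one_mul, zpow_one]
    · right
      rw [hw, hl, show 2 * (2 * l + 1) + 1 = 4 * (l + 1) + -1 by ring, zpow_add, zpow_mul, hw4,
        one_zpow, one_mul, zpow_neg_one]
  by_contra hj
  rw [Int.not_even_iff_odd] at hj
  rcases hww with h5 | h5
  · refine h.sep hk (by rw [← h3, h5]) (j := -j) hj.neg ?_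
    rw [← h4, h2, h.gq.v_zpow, neg_neg]
  · refine h.sep (k := y * k) (K.mul_mem h.v_mem hk) ?_ hj ?_
    · calc y * k * r ^ 2 ^ n * (y * k)⁻¹ = y * (k * r ^ 2 ^ n * k⁻¹) * y⁻¹ := by group
        _ = (y * r ^ 2 ^ n * y⁻¹)⁻¹ := by rw [← h3, h5]; group
        _ = r ^ 2 ^ n := by rw [h.v_conj_w, inv_inv]
    · calc y * k * y * (y * k)⁻¹ = y * (k * y * k⁻¹) * y⁻¹ := by group
        _ = y * r ^ j := by rw [← h4, h2]; group

variable {z : G} {K₁ K₂ S : Subgroup G}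

/-- `O^2(C(z))` as a subgroup of `G` -/
def Res (z : G) : Subgroup G :=
  (pResidual 2 ↥(centralizer ({z} : Set G))).map (centralizer ({z} : Set G)).subtype

omit [Finite G] in
theorem res_le {A : Subgroup G} (h : ∀ g : G, g * z = z * g → Odd (orderOf g) → g ∈ A) :
    Res z ≤ A := by
  unfold Res
  rw [map_le_iff_le_comap, pResidual, closure_le]
  rintro ⟨g, hg⟩ hgo
  refine h g (mem_centralizer_singleton_iff.1 hg) ?_
  have h1 : Nat.Coprime (orderOf (⟨g, hg⟩ : centralizer ({z} : Set G))) 2 := hgo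
  rw [Subgroup.orderOf_mk] at h1
  exact Nat.coprime_two_right.1 h1

omit [Finite G] in
theorem conj_mem_res {g x : G} (hg : g * z = z * g) (hx : x ∈ Res z) : g * x * g⁻¹ ∈ Res z := by
  obtain ⟨y, hy, rfl⟩ := hx
  exact ⟨_, Transfer.Residual.conj_mem_pResidual hy ⟨g, mem_centralizer_singleton_iff.2 hg⟩, rfl⟩

/-- `C(z) = O^2(C(z)) S` -/
theorem exists_mul (hS : Cit.Syl S (centralizer {z})) {g : G} (hg : g * z = z * g) :
    ∃ x ∈ Res z, ∃ s ∈ S, g = x * s := by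
  have hp : Fact (Nat.Prime 2) := ⟨Nat.prime_two⟩
  obtain ⟨T, hT⟩ := hS.exists_sylow
  have hn : (pResidual 2 ↥(centralizer ({z} : Set G))).Normal := Transfer.Residual.pResidual_normal 2
  have htop : pResidual 2 ↥(centralizer ({z} : Set G)) ⊔ (T : Subgroup _) = ⊤ := by
    rw [← index_eq_one]
    obtain ⟨k, hk⟩ := Transfer.Residual.exists_index_pResidual_eq_pow
      (G := ↥(centralizer ({z} : Set G))) 2
    have h1 : (pResidual 2 ↥(centralizer ({z} : Set G)) ⊔ (T : Subgroup _)).index ∣ 2 ^ k := by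
      rw [← hk]; exact index_dvd_of_le le_sup_left
    have h2 : (pResidual 2 ↥(centralizer ({z} : Set G)) ⊔ (T : Subgroup _)).index ∣
        (T : Subgroup ↥(centralizer ({z} : Set G))).index := index_dvd_of_le le_sup_right
    have h3 : Nat.Coprime (2 ^ k) (T : Subgroup ↥(centralizer ({z} : Set G))).index :=
      Nat.Coprime.pow_left k ((Nat.Prime.coprime_iff_not_dvd Nat.prime_two).2 T.not_dvd_index)
    exact Nat.eq_one_of_dvd_coprimes h3 h1 h2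
  have h1 : (⟨g, mem_centralizer_singleton_iff.2 hg⟩ : ↥(centralizer ({z} : Set G))) ∈
      pResidual 2 ↥(centralizer ({z} : Set G)) ⊔ (T : Subgroup _) := by
    rw [htop]; exact mem_top _
  obtain ⟨x, hx, s, hs, hxs⟩ := mem_sup_of_normal_left.1 h1
  refine ⟨x, ⟨x, hx, rfl⟩, s, ?_, ?_⟩
  · rw [hT] at hs
    exact hs
  · have := congrArg Subtype.val hxs
    exact this.symm

/-- elements of `O^2(C(z))` normalise the components -/
theorem res_le_normalizer (hr : SectionalPRankLE 2 4 G) (h1 : QC z K₁) (h2 : QC z K₂)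
    (hne : K₁ ≠ K₂) (hS : Cit.Syl S (centralizer {z})) : Res z ≤ normalizer (K₁ : Set G) := by
  apply res_le
  intro g hgz hgo
  apply mem_of_sq hgo
  have hgC : g ∈ centralizer ({z} : Set G) := mem_centralizer_singleton_iff.2 hgz
  rw [Cit.mem_normalizer_iff_cj, Cit.cj_mul, Cit.cj_def, Cit.cj_def]
  rcases perm hr h1 h2 hne hS hgC with ⟨e1, e2⟩ | ⟨e1, e2⟩
  · rw [e1, e1]
  · rw [e1, e2]

theorem res_le_stab (hr : SectionalPRankLE 2 4 G) (h1 : QC z K₁) (h2 : QC z K₂)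
    (hne : K₁ ≠ K₂) (hS : Cit.Syl S (centralizer {z})) {Q : Subgroup G} {c v : G} {n : ℕ}
    (h : InQuat.QK K₁ Q c v z n) : Res z ≤ Stab K₁ z (c ^ 2 ^ n) v := by
  apply res_le
  intro g hgz hgo
  refine odd_mem h ?_ hgz hgo
  apply mem_of_sq hgo
  have hgC : g ∈ centralizer ({z} : Set G) := mem_centralizer_singleton_iff.2 hgz
  rw [Cit.mem_normalizer_iff_cj, Cit.cj_mul, Cit.cj_def, Cit.cj_def]
  rcases perm hr h1 h2 hne hS hgC with ⟨e1, e2⟩ | ⟨e1, e2⟩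
  · rw [e1, e1]
  · rw [e1, e2]

/-- **`S ∩ O^2(C(z)) ≤ R`** -/
theorem mem_RR (hr : SectionalPRankLE 2 4 G) (h1 : QC z K₁) (h2 : QC z K₂)
    (hne : K₁ ≠ K₂) (hS : Cit.Syl S (centralizer {z})) {r1 y1 r2 y2 : G} {n1 n2 : ℕ}
    (h : Sd S z r1 y1 r2 y2 n1 n2) (c1 : closure ({r1, y1} : Set G) = S ⊓ K₁)
    (c2 : closure ({r2, y2} : Set G) = S ⊓ K₂) {s : G} (hs : s ∈ S) (hs' : s ∈ Res z) :
    s ∈ RR r1 y1 r2 y2 := by
  have k1 := h1.qk hS (gq_of_qn h.q1 c1)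
  have k2 := h2.qk hS (gq_of_qn h.q2 c2)
  have hs1 := res_le_stab hr h1 h2 hne hS k1 hs'
  have hs2 := res_le_stab hr h2 h1 hne.symm hS k2 hs'
  rcases h.act s hs with ⟨u1, j1, u2, j2, N⟩ | ⟨-, u1, j1, u2, j2, N⟩
  · exact h.inR s hs u1 j1 u2 j2 N (even_of_stab k1 (N.odd1 h.toCo) N.a1 N.b1 hs1)
      (even_of_stab k2 (N.odd2 h.toCo) N.a2 N.b2 hs2)
  · exfalso
    have hr1 : r1 ∈ S ⊓ K₁ := by rw [← c1]; exact subset_closure (by simp)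
    have hr2 : r2 ∈ S ⊓ K₂ := by rw [← c2]; exact subset_closure (by simp)
    have h3 : s * r1 * s⁻¹ ∈ S ⊓ K₁ :=
      ⟨S.mul_mem (S.mul_mem hs hr1.1) (S.inv_mem hs), (mem_normalizer_iff.1 hs1.1 r1).1 hr1.2⟩
    have h4 : s * r1 * s⁻¹ ∈ S ⊓ K₂ := by
      have h5 : s * r1 * s⁻¹ = r2 ^ u1 := N.a1
      rw [h5]
      exact (S ⊓ K₂).zpow_mem hr2 _
    have h5 : s * r1 * s⁻¹ = 1 ∨ s * r1 * s⁻¹ = z := inf_eq h1 h2 hne hS h3 h4
    apply h.q1.odd_ne (i := 1) odd_one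
    rw [zpow_one]
    rcases h5 with h5 | h5
    · left
      have h6 : r1 = s⁻¹ * (s * r1 * s⁻¹) * s := by group
      rw [h6, h5]; group
    · right
      have h6 : r1 = s⁻¹ * (s * r1 * s⁻¹) * s := by group
      rw [h6, h5, mul_assoc, ← h.zc hs, inv_mul_cancel_left]

/-- **(f2)** -/
theorem f2 (hr : SectionalPRankLE 2 4 G) (h1 : QC z K₁) (h2 : QC z K₂)
    (hne : K₁ ≠ K₂) (hS : Cit.Syl S (centralizer {z})) {r1 y1 r2 y2 : G} {n1 n2 : ℕ}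
    (h : Sd S z r1 y1 r2 y2 n1 n2) (c1 : closure ({r1, y1} : Set G) = S ⊓ K₁)
    (c2 : closure ({r2, y2} : Set G) = S ⊓ K₂) (c s : G) (hc : cj c z = z) (hs : s ∈ S)
    (hcs : cj c s ∈ S) : ∃ t ∈ S, cj c s * (cj t s)⁻¹ ∈ RR r1 y1 r2 y2 := by
  have hcz : c * z = z * c := cj_eq_self_iff.1 hc
  obtain ⟨x, hx, t, ht, rfl⟩ := exists_mul hS hcz
  have htz : t * z = z * t := h.zc ht
  have hts : cj t s ∈ S := S.mul_mem (S.mul_mem ht hs) (S.inv_mem ht)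
  refine ⟨t, ht, mem_RR hr h1 h2 hne hS h c1 c2 (S.mul_mem hcs (S.inv_mem hts)) ?_⟩
  have h3 : cj (x * t) s * (cj t s)⁻¹ = x * (cj t s * x⁻¹ * (cj t s)⁻¹) := by
    simp only [cj]; group
  rw [h3]
  exact mul_mem hx (conj_mem_res (h.zc hts) (inv_mem hx))

omit [Finite G] in
theorem RR_eq {r1 y1 r2 y2 : G} (c1 : closure ({r1, y1} : Set G) = S ⊓ K₁)
    (c2 : closure ({r2, y2} : Set G) = S ⊓ K₂) : RR r1 y1 r2 y2 = (S ⊓ K₁) ⊔ (S ⊓ K₂) := by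
  rw [RR, c1, c2]

/-- **(f1)** in the form of `Fu.f1` -/
theorem f1 (h1 : QC z K₁) (h2 : QC z K₂) (hne : K₁ ≠ K₂)
    (hS : Cit.Syl S (centralizer {z})) {r1 y1 r2 y2 : G}
    (c1 : closure ({r1, y1} : Set G) = S ⊓ K₁) (c2 : closure ({r2, y2} : Set G) = S ⊓ K₂) :
    ∀ a ∈ RR r1 y1 r2 y2, ∀ b ∈ RR r1 y1 r2 y2, a * a = 1 → a ≠ 1 → a ≠ z → b * b = 1 →
      b ≠ 1 → b ≠ z → ∃ c : G, cj c z = z ∧ cj c a = b := by
  intro a ha b hb haa ha1 haz hbb hb1 hbz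
  rw [RR_eq c1 c2] at ha hb
  exact InF1.f1 h1 h2 hne hS ha hb haa ha1 haz hbb hb1 hbz

end Cfsg.Agent.GH.Q2.InF2
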