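import Cfsg.Agent.GH.Q2.FiveF

/-!
# GH-Q, case (II), section 5: `z` is not conjugate to `t`

`five` : the structure of `S` if no element of `R` other than `z` is conjugate to `z`.
-/

set_option autoImplicit false

namespace Cfsg.Agent.GH.Q2

open Subgroup

variable {G : Type*} [Group G]

section

variable {S : Subgroup G} {z r1 y1 r2 y2 s s' t k x : G} {n1 n2 n : ℕ} {u1 j1 u2 j2 v1 k1 v2 k2 a c : ℤ}

/-- `R ∪ t R` -/
def MT (h : Sd S z r1 y1 r2 y2 n n) (ht : t ∈ S) (T : TT r1 y1 r2 y2 t) : Subgroup G where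
  carrier := {s | s ∈ RR r1 y1 r2 y2 ∨ t * s ∈ RR r1 y1 r2 y2}
  mul_mem' := by
    rintro a b (ha | ha) (hb | hb)
    · exact Or.inl (mul_mem ha hb)
    · right
      have e : t * (a * b) = cj t a * (t * b) := by simp [cj]; group
      rw [e]
      exact mul_mem (h.cj_R ht ha) hb
    · right
      rw [← mul_assoc]
      exact mul_mem ha hb
    · left
      have e : a * b = cj t (t * a) * (t * b) := by
        have : cj t (t * a) * (t * b) = (t * t) * (a * b) := by simp [cj]; group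
        rw [this, T.tt, one_mul]
      rw [e]
      exact mul_mem (h.cj_R ht ha) hb
  one_mem' := Or.inl (one_mem _)
  inv_mem' := by
    rintro a (ha | ha)
    · exact Or.inl (inv_mem ha)
    · right
      have e : t * a⁻¹ = cj t (t * a)⁻¹ := by
        rw [cj_inv, cj_mul, cj_self, mul_inv_rev, T.inv, cj_def, T.inv]
        simp only [mul_inv_rev, T.inv, mul_assoc, T.tt, mul_one]
      rw [e]
      exact h.cj_R ht (inv_mem ha)

theorem mem_MT (h : Sd S z r1 y1 r2 y2 n n) (ht : t ∈ S) (T : TT r1 y1 r2 y2 t) :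
    s ∈ MT h ht T ↔ s ∈ RR r1 y1 r2 y2 ∨ t * s ∈ RR r1 y1 r2 y2 := Iff.rfl

theorem MT_le (h : Sd S z r1 y1 r2 y2 n n) (ht : t ∈ S) (T : TT r1 y1 r2 y2 t) : MT h ht T ≤ S := by
  rintro s (hs | hs)
  · exact h.R_le hs
  · have e : s = t * (t * s) := by rw [← mul_assoc, T.tt, one_mul]
    rw [e]
    exact mul_mem ht (h.R_le hs)

theorem mem_MT_N (h : Sd S z r1 y1 r2 y2 n n) (ht : t ∈ S) (T : TT r1 y1 r2 y2 t) (hs : s ∈ S)
    (hN : IsN r1 y1 r2 y2 s) : s ∈ MT h ht T ↔ s ∈ RR r1 y1 r2 y2 := by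
  rw [mem_MT]
  refine ⟨?_, Or.inl⟩
  rintro (h1 | h1)
  · exact h1
  · have h2 := isN_of_mem h.toCo h1
    rw [isN_mul h ht hs] at h2
    exact absurd (h2.2 hN) (not_isN h.toCo T.sw)

theorem mem_MT_S (h : Sd S z r1 y1 r2 y2 n n) (ht : t ∈ S) (T : TT r1 y1 r2 y2 t)
    (hN : ¬ IsN r1 y1 r2 y2 s) : s ∈ MT h ht T ↔ t * s ∈ RR r1 y1 r2 y2 := by
  rw [mem_MT]
  refine ⟨?_, Or.inr⟩
  rintro (h1 | h1)
  · exact absurd (isN_of_mem h.toCo h1) hN
  · exact h1

theorem MT_relIndex (h : Sd S z r1 y1 r2 y2 n n) (F : Fu S z r1 y1 r2 y2)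
    (hz : ∀ g : G, cj g z ∈ RR r1 y1 r2 y2 → cj g z = z) (ht : t ∈ S) (T : TT r1 y1 r2 y2 t) (hx : x ∈ S)
    (N : Ns r1 y1 r2 y2 x u1 j1 u2 j2) (o1 : Odd j1) (o2 : Odd j2) : (MT h ht T).relIndex S = 2 := by
  have hco := h.toCo
  have hxR : x ∉ RR r1 y1 r2 y2 := fun h1 => by
    have := (N.even_of_mem hco h1).1
    exact absurd this (Int.not_even_iff_odd.2 o1)
  have hNx : IsN r1 y1 r2 y2 x := ⟨_, _, _, _, N⟩
  have key : ∀ v ∈ S, IsN r1 y1 r2 y2 v → Xor (v * x ∈ RR r1 y1 r2 y2) (v ∈ RR r1 y1 r2 y2) := by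
    intro v hv hN
    rcases cases_ns h F hz hx N o1 o2 hv hN with h1 | h1
    · right
      exact ⟨h1, fun h2 => hxR ((mul_mem_cancel_left h1).1 h2)⟩
    · left
      constructor
      · have e : v * x = cj x (x⁻¹ * v) * (x * x) := by rw [cj_def]; group
        rw [e]
        exact mul_mem (h.cj_R hx h1) (h.sq_mem hx N)
      · intro h2
        have h3 : x = v * (x⁻¹ * v)⁻¹ := by group
        apply hxR
        rw [h3]
        exact mul_mem h2 (inv_mem h1)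
  rw [relIndex_eq_two_iff]
  refine ⟨x, hx, fun b hb => ?_⟩
  have hbx : b * x ∈ S := mul_mem hb hx
  by_cases hN : IsN r1 y1 r2 y2 b
  · have hN' : IsN r1 y1 r2 y2 (b * x) := (isN_mul h hb hx).2 ⟨fun _ => hNx, fun _ => hN⟩
    rw [mem_MT_N h ht T hb hN, mem_MT_N h ht T hbx hN']
    exact key b hb hN
  · have hN' : ¬ IsN r1 y1 r2 y2 (b * x) := fun h1 => hN (((isN_mul h hb hx).1 h1).2 hNx)
    rw [mem_MT_S h ht T hN, mem_MT_S h ht T hN', ← mul_assoc]
    apply key _ (mul_mem ht hb)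
    rw [isN_mul h ht hb]
    exact ⟨fun h1 => absurd h1 (not_isN hco T.sw), fun h1 => absurd h1 hN⟩

/-- fusion in `C(z)` does not move elements of `S` into a subgroup of index two containing `R`. -/
theorem f2_M (F : Fu S z r1 y1 r2 y2) {M : Subgroup G} (hRM : RR r1 y1 r2 y2 ≤ M) (hMS : M ≤ S)
    (hidx : M.relIndex S = 2) (hs : s ∈ S) (hsM : s ∉ M) {g : G} (h1 : cj g z = z) (hg1 : cj g s ∈ M) : False := by
  obtain ⟨v, hv, hv2⟩ := F.f2 g s h1 hs (hMS hg1)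
  have h3 : cj v s ∈ M := by
    have h4 := M.mul_mem (M.inv_mem (hRM hv2)) hg1
    have h5 : (cj g s * (cj v s)⁻¹)⁻¹ * cj g s = cj v s := by group
    rwa [h5] at h4
  have hTn : (M.subgroupOf S).Normal := Subgroup.normal_of_index_eq_two hidx
  have h6 := hTn.conj_mem ⟨cj v s, hMS h3⟩ (mem_subgroupOf.2 h3) ⟨v⁻¹, S.inv_mem hv⟩
  have h7 : cj v⁻¹ (cj v s) ∈ M := h6
  rw [cj_inv_cj] at h7
  exact hsM h7

/-- (5.6), `a = 1`, `c = 0`. -/
theorem five6a (h : Sd S z r1 y1 r2 y2 n n) (F : Fu S z r1 y1 r2 y2)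
    (hz : ∀ g : G, cj g z ∈ RR r1 y1 r2 y2 → cj g z = z) (E : Ex S z t k) (T : TT r1 y1 r2 y2 t) (hx : x ∈ S)
    (X : XF n n z r1 y1 r2 y2 x 1 0) (hn : 1 ≤ n) (e : cj t x = x) : False := by
  have hco := h.toCo
  have ht := E.mem
  have N := X.ns hco
  have hNx : IsN r1 y1 r2 y2 x := ⟨_, _, _, _, N⟩
  have hxR : x ∉ RR r1 y1 r2 y2 := fun h1 => by
    have := (N.even_of_mem hco h1).1
    exact absurd this (by decide)
  have hM := MT_relIndex h F hz ht T hx N odd_one odd_one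
  have oi : Odd (1 + 2 ^ n * 1 : ℤ) := by
    rw [mul_one]
    refine odd_one.add_even ?_
    exact Even.pow_of_ne_zero even_two (by omega)
  set i : ℤ := 1 + 2 ^ n * 1 with hi
  have xx : x * x = r1 ^ i * r2 ^ i := by
    have := X.xx
    rwa [zpow_zero, mul_one] at this
  -- the element `t2 = r1^(-i) t x`
  set t2 : G := (r1 ^ i)⁻¹ * (t * x) with ht2
  have hA : r1 ^ i ∈ RR r1 y1 r2 y2 := Subgroup.zpow_mem _ hco.m1 _
  have htx : t * x ∈ S := mul_mem ht hx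
  have mt2 : t2 ∈ S := mul_mem (inv_mem (h.R_le hA)) htx
  have hNtx : ¬ IsN r1 y1 r2 y2 (t * x) := by
    rw [isN_mul h ht hx]
    intro h1
    exact not_isN hco T.sw (h1.2 hNx)
  have hN2 : ¬ IsN r1 y1 r2 y2 t2 := by
    rw [ht2, isN_mul h (inv_mem (h.R_le hA)) htx]
    intro h1
    exact hNtx (h1.1 (isN_of_mem hco (inv_mem hA)))
  have sq2 : t2 * t2 = z := by
    have e1 : (t * x) * (t * x) = r1 ^ i * r2 ^ i := by
      have e2 : t * x = x * t := by
        conv_rhs => rw [← e]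
        rw [cj_def, inv_mul_cancel_right]
      calc (t * x) * (t * x) = t * x * (x * t) := by rw [e2]
        _ = t * (x * x) * t⁻¹ := by rw [T.inv]; group
        _ = cj t (r1 ^ i * r2 ^ i) := by rw [xx, cj_def]
        _ = r1 ^ i * r2 ^ i := by
          rw [cj_mul, cj_zpow, cj_zpow, T.a, T.a2]
          exact (Sd.r_zpow_comm hco i i).symm
    have e3 : cj (t * x) (r1 ^ i) = r2 ^ i * z := by
      have hc : Commute r2 z := h.q2.zr.symm
      rw [cj_mul_left, cj_zpow, X.a1, zpow_one, cj_zpow, cj_mul, T.a, h.cj_z ht, hc.mul_zpow]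
      congr 1
      rcases h.q1.z_cases i with ⟨_, h2⟩ | ⟨h2, _⟩
      · exact absurd h2 (Int.not_even_iff_odd.2 oi)
      · exact h2
    have e4 : t2 * t2 = (r1 ^ i)⁻¹ * (cj (t * x) (r1 ^ i))⁻¹ * ((t * x) * (t * x)) := by
      rw [ht2]; simp [cj]; group
    rw [e4, e1, e3, mul_inv_rev, h.q1.zz]
    have hz1 : z * (r2 ^ i)⁻¹ = (r2 ^ i)⁻¹ * z := (Commute.inv_right (Commute.zpow_right h.q2.zr i))
    have hz2 : z * r1 ^ i = r1 ^ i * z := (Commute.zpow_right h.q1.zr i)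
    have hz3 : z * r2 ^ i = r2 ^ i * z := (Commute.zpow_right h.q2.zr i)
    have hz4 : (r2 ^ i)⁻¹ * r1 ^ i = r1 ^ i * (r2 ^ i)⁻¹ :=
      ((Commute.zpow_zpow (show Commute r2 r1 from h.rr.symm) i i).inv_left)
    calc (r1 ^ i)⁻¹ * (z * (r2 ^ i)⁻¹) * (r1 ^ i * r2 ^ i) = (r1 ^ i)⁻¹ * (z * ((r2 ^ i)⁻¹ * r1 ^ i)) * r2 ^ i := by
          group
      _ = (r1 ^ i)⁻¹ * (z * r1 ^ i) * (r2 ^ i)⁻¹ * r2 ^ i := by rw [hz4]; group
      _ = (r1 ^ i)⁻¹ * (r1 ^ i * z) * (r2 ^ i)⁻¹ * r2 ^ i := by rw [hz2]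
      _ = z := by group
  have t2M : t2 ∉ MT h ht T := by
    rw [mem_MT_S h ht T hN2]
    intro h1
    have h2 : t * t2 = cj t (r1 ^ i)⁻¹ * x := by
      rw [ht2]
      have : t * ((r1 ^ i)⁻¹ * (t * x)) = cj t (r1 ^ i)⁻¹ * ((t * t) * x) := by simp [cj]; group
      rw [this, T.tt, one_mul]
    rw [h2] at h1
    exact hxR ((mul_mem_cancel_left (h.cj_R ht (inv_mem hA))).1 h1)
  obtain ⟨w1, l1, w2, l2, W⟩ : ∃ u1 j1 u2 j2 : ℤ, Sw r1 y1 r2 y2 t2 u1 j1 u2 j2 := by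
    rcases h.act t2 mt2 with h1 | ⟨_, h1⟩
    · exact absurd h1 hN2
    · exact h1
  refine F.t2 (MT h ht T) (MT_le h ht T) hM t2 mt2 t2M sq2 ?_ ?_
  · intro g hg
    have h1 : cj g z ∈ RR r1 y1 r2 y2 := by
      rw [← sq2, cj_mul]
      exact sq_R h F hz ht T (MT_le h ht T hg)
    exact f2_M F (fun _ h1 => Or.inl h1) (MT_le h ht T) hM mt2 t2M (hz g h1) hg
  · intro g hgS
    have Z : Zt z (cj g z) := ⟨g, rfl⟩
    have huu := Z.sq h.q1.z_sq
    set u := cj g z with hu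
    by_contra huM
    by_cases hNu : IsN r1 y1 r2 y2 u
    · rw [mem_MT_N h ht T hgS hNu] at huM
      obtain ⟨p1, p2, V⟩ := exists_VV h F hz hgS huu huM hNu
      rcases cases_ns h F hz hx N odd_one odd_one hgS hNu with h1 | h1
      · exact huM h1
      · -- `u = x q`
        have hq : ∃ v : ℤ, (v = 1 ∨ v = -1) ∧ cj (x⁻¹ * u) r1 = r1 ^ v := by
          obtain ⟨i', j', hc⟩ := h.ns_of_mem h1
          rcases hc with ⟨_, M⟩ | ⟨_, M⟩ | ⟨_, M⟩ | ⟨_, M⟩
          · exact ⟨_, Or.inl rfl, M.a1⟩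
          · exact ⟨_, Or.inr rfl, M.a1⟩
          · exact ⟨_, Or.inl rfl, M.a1⟩
          · exact ⟨_, Or.inr rfl, M.a1⟩
        obtain ⟨v, hv, hq⟩ := hq
        have h2 : cj u r1 = cj x (r1 ^ v) := by
          rw [← hq, ← cj_mul_left, mul_inv_cancel_left]
        have hx1 := N.a1
        rw [V.a1, cj_zpow, hx1, ← zpow_mul, ← zpow_neg_one, h.q1.zpow_eq] at h2
        obtain ⟨m, rfl⟩ : ∃ m, n = m + 1 := ⟨n - 1, by omega⟩
        obtain ⟨d, hd⟩ := h2
        have h8 : (2 : ℤ) ^ (m + 1 + 2) = 4 * (2 * 2 ^ m) := by ring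
        have h9 : (2 : ℤ) ^ (m + 1 + 1) = 4 * 2 ^ m := by ring
        rw [h8, h9] at hd
        rcases hv with rfl | rfl
        · have h10 : (4 : ℤ) ∣ 2 := ⟨-(2 * 2 ^ m * d) - 2 ^ m, by linarith⟩
          norm_num at h10
        · have h11 : (4 * 2 ^ m : ℤ) = 4 * (2 * 2 ^ m) * d := by linarith
          have h12 : (4 * 2 ^ m : ℤ) * (2 * d - 1) = 0 := by linarith
          rcases mul_eq_zero.1 h12 with h13 | h13
          · have : (0 : ℤ) < 4 * 2 ^ m := by positivity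
            omega
          · omega
    · rw [mem_MT_S h ht T hNu] at huM
      have mtu : t * u ∈ S := mul_mem ht hgS
      have hNtu : IsN r1 y1 r2 y2 (t * u) := by
        rw [isN_mul h ht hgS]
        exact ⟨fun h1 => absurd h1 (not_isN hco T.sw), fun h1 => absurd h1 hNu⟩
      rcases cases_ns h F hz hx N odd_one odd_one mtu hNtu with h1 | h1
      · exact huM h1
      · have h2 : t2⁻¹ * u ∈ RR r1 y1 r2 y2 := by
          have e5 : t2⁻¹ * u = cj (t * x)⁻¹ (r1 ^ i) * (x⁻¹ * (t * u)) := by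
            have e6 : cj (t * x)⁻¹ (r1 ^ i) * (x⁻¹ * (t * u)) = x⁻¹ * t⁻¹ * r1 ^ i * (t * t) * u := by
              simp [cj]; group
            rw [e6, T.tt, ht2, mul_one]; group
          rw [e5]
          exact mul_mem (h.cj_R (inv_mem htx) hA) h1
        have h3 := h.sw_coset mt2 W (Or.inr sq2) h2 (by rw [mul_inv_cancel_left]; exact huu)
        rw [sq2] at h3
        exact h.q1.z_ne h3.1

/-- section 5 in the coordinates of the swap `t`. -/
theorem five_core (h : Sd S z r1 y1 r2 y2 n n) (F : Fu S z r1 y1 r2 y2)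
    (hz : ∀ g : G, cj g z ∈ RR r1 y1 r2 y2 → cj g z = z) (E : Ex S z t k) (T : TT r1 y1 r2 y2 t) : Tg S z := by
  have hco := h.toCo
  have ht := E.mem
  have hTN := not_isN hco T.sw
  have hts : ∀ s ∈ S, ¬ IsN r1 y1 r2 y2 s → IsN r1 y1 r2 y2 (t⁻¹ * s) := by
    intro s hs hN
    rw [T.inv, isN_mul h ht hs]
    exact ⟨fun h1 => absurd h1 hTN, fun h1 => absurd h1 hN⟩
  by_cases hx : ∃ s ∈ S, IsN r1 y1 r2 y2 s ∧ s ∉ RR r1 y1 r2 y2
  · obtain ⟨s, hs, ⟨u1, j1, u2, j2, N⟩, hsR⟩ := hx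
    have ho : Odd j1 ∧ Odd j2 := by
      rcases Int.even_or_odd j1 with e1 | o1 <;> rcases Int.even_or_odd j2 with e2 | o2
      · exact absurd (h.inR s hs _ _ _ _ N e1 e2) hsR
      · exact (no01 h F hz hs N e1 o2).elim
      · exact (no10 h F hz hs N o1 e2).elim
      · exact ⟨o1, o2⟩
    obtain ⟨x, hxS, _, a, c, ha, hc, X, -, han⟩ := h.nf_x hs N ho.1 ho.2
    have NX := X.ns hco
    -- `t x t⁻¹ ∈ {x, x z}`
    have hcz : ∀ i : ℤ, cj t (z ^ i) = z ^ i := fun i => by rw [cj_zpow, h.cj_z ht]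
    have ctx : cj t x ∈ S := mul_mem (mul_mem ht hxS) (inv_mem ht)
    have d1 : cj (cj t x) r1 = cj x r1 := by
      conv_lhs => rw [← T.a2]
      rw [cj_cj, X.a2, X.a1, cj_mul, T.a2, hcz]
    have d2 : cj (cj t x) y1 = cj x y1 := by
      conv_lhs => rw [← T.b2]
      rw [cj_cj, X.b2, X.b1, cj_mul, T.a2, T.b2]
    have d3 : cj (cj t x) r2 = cj x r2 := by
      conv_lhs => rw [← T.a]
      rw [cj_cj, X.a2, X.a1, cj_mul, T.a, hcz]
    have d4 : cj (cj t x) y2 = cj x y2 := by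
      conv_lhs => rw [← T.b]
      rw [cj_cj, X.b2, X.b1, cj_mul, T.a, T.b]
    rcases h.eq_or ctx hxS d1 d2 d3 d4 with e | e
    · rcases hc with rfl | rfl
      · rcases ha with rfl | rfl
        · -- the target `PSL4`
          refine ⟨r1, y1, r2, y2, n, h, Or.inr (Or.inr (Or.inl ⟨x, hxS, t, ht, ?_, T, e, ?_⟩))⟩
          · refine ⟨?_, ?_, ?_, X.b1, X.b2⟩
            · rw [X.xx]; simp
            · rw [X.a1]; simp
            · rw [X.a2]; simp
          · intro s hs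
            by_cases hN : IsN r1 y1 r2 y2 s
            · rcases cases_ns h F hz hxS NX odd_one odd_one hs hN with h1 | h1
              · exact Or.inl h1
              · exact Or.inr (Or.inl h1)
            · have hts' := hts s hs hN
              rcases cases_ns h F hz hxS NX odd_one odd_one (mul_mem (inv_mem ht) hs) hts' with h1 | h1
              · exact Or.inr (Or.inr (Or.inl h1))
              · right; right; right
                rwa [mul_inv_rev, mul_assoc]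
        · exact (five6a h F hz E T hxS X (han rfl).1 e).elim
      · exact (five6c h F hz E T hxS X ha (fun h1 => (han h1).1) e).elim
    · exact (five5 h F hz E T hxS NX odd_one odd_one e).elim
  · push Not at hx
    refine ⟨r1, y1, r2, y2, n, h, Or.inr (Or.inl ⟨t, ht, T, fun s hs => ?_⟩)⟩
    by_cases hN : IsN r1 y1 r2 y2 s
    · exact Or.inl (hx s hs hN)
    · exact Or.inr (hx _ (mul_mem (inv_mem ht) hs) (hts s hs hN))

/-- **Section 5.** -/
theorem five (h : Sd S z r1 y1 r2 y2 n1 n2) (F : Fu S z r1 y1 r2 y2)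
    (hz : ∀ g : G, cj g z ∈ RR r1 y1 r2 y2 → cj g z = z) : Tg S z := by
  obtain ⟨t, k, E, hN⟩ := exists_swap h F hz
  obtain ⟨hn, u1, j1, u2, j2, N⟩ : n1 = n2 ∧ ∃ u1 j1 u2 j2 : ℤ, Sw r1 y1 r2 y2 t u1 j1 u2 j2 := by
    rcases h.act t E.mem with h1 | h1
    · exact absurd h1 hN
    · exact h1
  subst hn
  have ch := h.change (u := u1) (j := j1) (N.odd1 h.toCo)
  have cR := h.toCo.RR_change (u := u1) (j := j1) (N.odd1 h.toCo)
  rw [← N.a1, ← N.b1] at ch cR
  have F' : Fu S z r1 y1 (cj t r1) (cj t y1) :=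
    ⟨F.iso, by rw [cR]; exact F.f1, by rw [cR]; exact F.f2, F.ext, F.t1, F.t2⟩
  exact five_core ch F' (by rw [cR]; exact hz) E ⟨E.zt.sq h.q1.z_sq, rfl, rfl⟩

end

end Cfsg.Agent.GH.Q2
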