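import Cfsg.Agent.GH.Q2.NF

/-!
# GH-Q, case (II), section (4.4): `n = 0`, `z ~ t`, `S / R = D₈` is impossible
-/

set_option autoImplicit false

namespace Cfsg.Agent.GH.Q2

open Subgroup

variable {G : Type*} [Group G]

section q8

variable {z r y : G}

theorem Qn.rr0 (h : Qn z r y 0) : r * r = z := by
  have := h.rp
  rwa [zero_add, pow_one, pow_two] at this

theorem Qn.rinv0 (h : Qn z r y 0) : r⁻¹ = r * z := by
  apply inv_eq_of_mul_eq_one_right
  rw [← mul_assoc, h.rr0, h.z_sq]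

theorem Qn.sq0 (h : Qn z r y 0) {a : G} (ha : a ∈ closure ({r, y} : Set G)) :
    (a * a = 1 ∧ (a = 1 ∨ a = z)) ∨ a * a = z := by
  obtain ⟨i, rfl | rfl⟩ := h.mem_iff.1 ha
  · have h1 : r ^ i * r ^ i = z ^ i := by
      rw [← zpow_add, ← two_mul, zpow_mul]
      congr 1
      rw [zpow_two, h.rr0]
    rw [h1]
    rcases h.z_cases i with ⟨h2, h3⟩ | ⟨h2, h3⟩
    · left
      refine ⟨h2, ?_⟩
      rw [h.zpow_mem]
      norm_num
      exact even_iff_two_dvd.1 h3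
    · right; exact h2
  · right; exact h.ry_sq i

end q8

section aux

variable {S : Subgroup G} {z r1 y1 r2 y2 s q v w : G} {n n1 n2 : ℕ}
  {u1 j1 u2 j2 v1 k1 v2 k2 w1 l1 w2 l2 : ℤ}

/-- squares in `R`, `n = 0` -/
theorem Co.sqR0 (h : Co z r1 y1 r2 y2 0 0) (hq : q ∈ RR r1 y1 r2 y2) : q * q = 1 ∨
    (q * q = z ∧ (q ∈ closure ({r1, y1} : Set G) ∨ q ∈ closure ({r2, y2} : Set G))) := by
  obtain ⟨a, ha, b, hb, rfl⟩ := h.mem_R'.1 hq
  have e : a * b * (a * b) = a * a * (b * b) := by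
    calc a * b * (a * b) = a * (b * a) * b := by group
      _ = a * (a * b) * b := by rw [h.comm ha hb]
      _ = _ := by group
  have z1 : z ∈ closure ({r1, y1} : Set G) := by
    rw [← h.q1.ys]; exact mul_mem (subset_closure (by simp)) (subset_closure (by simp))
  have z2 : z ∈ closure ({r2, y2} : Set G) := by
    rw [← h.q2.ys]; exact mul_mem (subset_closure (by simp)) (subset_closure (by simp))
  rw [e]
  rcases h.q1.sq0 ha with ⟨h1, h1'⟩ | h1 <;> rcases h.q2.sq0 hb with ⟨h2, h2'⟩ | h2 <;>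
    rw [h1, h2]
  · left; simp
  · right
    refine ⟨one_mul z, Or.inr ?_⟩
    rcases h1' with rfl | rfl
    · simpa using hb
    · exact mul_mem z2 hb
  · right
    refine ⟨mul_one z, Or.inl ?_⟩
    rcases h2' with rfl | rfl
    · simpa using ha
    · exact mul_mem ha z1
  · left; exact h.q1.z_sq

/-- a non-swapping element commuting with a swap has symmetric type -/
theorem Sw.comm_sym (M : Sw r1 y1 r2 y2 s v1 k1 v2 k2) (N : Ns r1 y1 r2 y2 q w1 l1 w2 l2)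
    (h : Co z r1 y1 r2 y2 n n) (hc : s * q = q * s) : Even l1 ↔ Even l2 := by
  have h1 := M.mul_ns N
  have h2 := N.mul_sw M
  rw [← hc] at h2
  have p := h1.parity1 h2 h
  have o1 := M.odd1 h
  have o2 := N.odd2 h
  rw [Int.even_add, Int.even_add, Int.even_mul, Int.even_mul] at p
  rw [← Int.not_even_iff_odd] at o1 o2
  tauto

/-- conjugation preserves "mixed" type -/
theorem Sd.mixed_cj (h : Sd S z r1 y1 r2 y2 n n) (hs : s ∈ S) (hq : q ∈ S)
    (N : Ns r1 y1 r2 y2 q w1 l1 w2 l2) (hN : ¬ (Even l1 ↔ Even l2)) :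
    ∃ w1 l1 w2 l2 : ℤ, Ns r1 y1 r2 y2 (cj s q) w1 l1 w2 l2 ∧ ¬ (Even l1 ↔ Even l2) := by
  have hm : cj s q ∈ S := mul_mem (mul_mem hs hq) (inv_mem hs)
  have e : cj s q * s = s * q := by simp [cj]
  rcases h.act s hs with ⟨v1, k1, v2, k2, M⟩ | ⟨_, v1, k1, v2, k2, M⟩
  · have P := M.mul N
    rcases h.act _ hm with ⟨m1, i1, m2, i2, T⟩ | ⟨_, m1, i1, m2, i2, T⟩
    · have P' := T.mul M
      rw [e] at P'
      refine ⟨m1, i1, m2, i2, T, ?_⟩
      have p1 := P.parity1 P' h.toCo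
      have p2 := P.parity2 P' h.toCo
      have o1 := M.odd1 h.toCo
      have o2 := M.odd2 h.toCo
      have o3 := T.odd1 h.toCo
      have o4 := T.odd2 h.toCo
      rw [← Int.not_even_iff_odd] at o1 o2 o3 o4
      simp only [Int.even_add, Int.even_mul, o1, o2, o3, o4, false_or] at p1 p2
      clear P P' o1 o2 o3 o4
      tauto
    · exfalso
      have P' := T.mul_ns M
      rw [e] at P'
      exact P.not_sw P' h.toCo
  · have P := M.mul_ns N
    rcases h.act _ hm with ⟨m1, i1, m2, i2, T⟩ | ⟨_, m1, i1, m2, i2, T⟩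
    · have P' := T.mul_sw M
      rw [e] at P'
      refine ⟨m1, i1, m2, i2, T, ?_⟩
      have p1 := P.parity1 P' h.toCo
      have p2 := P.parity2 P' h.toCo
      have o1 := M.odd1 h.toCo
      have o2 := M.odd2 h.toCo
      have o3 := T.odd1 h.toCo
      have o4 := T.odd2 h.toCo
      rw [← Int.not_even_iff_odd] at o1 o2 o3 o4
      simp only [Int.even_add, Int.even_mul, o1, o2, o3, o4, false_or] at p1 p2
      clear P P' o1 o2 o3 o4
      tauto
    · exfalso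
      have P' := T.mul M
      rw [e] at P'
      exact P'.not_sw P h.toCo

/-- left multiplication by `R` preserves "mixed" type -/
theorem Sd.mixed_mul (h : Sd S z r1 y1 r2 y2 n1 n2) (hs : s ∈ RR r1 y1 r2 y2)
    (N : Ns r1 y1 r2 y2 q w1 l1 w2 l2) (hN : ¬ (Even l1 ↔ Even l2)) :
    ∃ w1 l1 w2 l2 : ℤ, Ns r1 y1 r2 y2 (s * q) w1 l1 w2 l2 ∧ ¬ (Even l1 ↔ Even l2) := by
  obtain ⟨i, j, hc⟩ := h.ns_of_mem hs
  rcases hc with ⟨_, M⟩ | ⟨_, M⟩ | ⟨_, M⟩ | ⟨_, M⟩ <;>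
  · refine ⟨_, _, _, _, M.mul N, ?_⟩
    have e1 : ¬ Even (-1 : ℤ) := by decide
    simp only [one_mul, Int.even_add, Int.even_mul, e1, even_two, true_or, iff_true, false_or]
    exact hN

/-- `u² ≡ 1 mod 4` -/
theorem odd_sq {u : ℤ} (h : Odd u) : (4 : ℤ) ∣ u * u - 1 := by
  obtain ⟨m, rfl⟩ := h
  exact ⟨m * m + m, by ring⟩

/-- the square of a non-swapping element, `n = 0` -/
theorem Sd.sq_form0 (h : Sd S z r1 y1 r2 y2 0 0) (hs : s ∈ S)
    (N : Ns r1 y1 r2 y2 s u1 j1 u2 j2) : ∃ i j : ℤ, s * s = r1 ^ i * r2 ^ j ∧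
      (4 : ℤ) ∣ (u1 + 1) * j1 - 2 * i ∧ (4 : ℤ) ∣ (u2 + 1) * j2 - 2 * j := by
  obtain ⟨i, j, hc⟩ := h.ns_of_mem (h.sq_mem hs N)
  have NN := N.mul N
  have key1 : cj (s * s) r1 = r1 := by
    rw [NN.a1]
    conv_rhs => rw [← zpow_one r1]
    rw [h.q1.zpow_eq]
    exact odd_sq (N.odd1 h.toCo)
  have key2 : cj (s * s) r2 = r2 := by
    rw [NN.a2]
    conv_rhs => rw [← zpow_one r2]
    rw [h.q2.zpow_eq]
    exact odd_sq (N.odd2 h.toCo)
  have n1 : ∀ {a b : ℤ}, Ns r1 y1 r2 y2 (s * s) (-1) a b (2 * j) → False := by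
    intro a b M
    have := M.a1
    rw [key1, zpow_neg_one] at this
    exact h.q1.r_ne_inv this
  rcases hc with ⟨e, M⟩ | ⟨_, M⟩ | ⟨_, M⟩ | ⟨_, M⟩
  · refine ⟨i, j, e, ?_, ?_⟩
    · have := mul_right_cancel (NN.b1.symm.trans M.b1)
      rw [h.q1.zpow_eq] at this
      have e2 : (u1 + 1) * j1 - 2 * i = u1 * j1 + j1 - 2 * i := by ring
      rw [e2]
      simpa using this
    · have := mul_right_cancel (NN.b2.symm.trans M.b2)
      rw [h.q2.zpow_eq] at this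
      have e2 : (u2 + 1) * j2 - 2 * j = u2 * j2 + j2 - 2 * j := by ring
      rw [e2]
      simpa using this
  · exact (n1 M).elim
  · exfalso
    have := M.a2
    rw [key2, zpow_neg_one] at this
    exact h.q2.r_ne_inv this
  · exact (n1 M).elim

/-- an element of even second type centralizes a square root of `z` -/
theorem Sd.exists_sqrt (h : Sd S z r1 y1 r2 y2 0 0) (N : Ns r1 y1 r2 y2 s u1 j1 u2 j2)
    (e2 : Even j2) : ∃ v ∈ S, v * v = z ∧ cj s v = v := by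
  have o2 := N.odd2 h.toCo
  obtain ⟨m, hm⟩ := e2
  have c : (4 : ℤ) ∣ u2 - 1 ∨ (4 : ℤ) ∣ u2 + 1 := by
    obtain ⟨k, hk⟩ := o2
    omega
  rcases c with c | c
  · refine ⟨r2, h.h3, h.q2.rr0, ?_⟩
    rw [N.a2]
    conv_rhs => rw [← zpow_one r2]
    rw [h.q2.zpow_eq]
    exact c
  · refine ⟨r2 ^ m * y2, mul_mem (Subgroup.zpow_mem _ h.h3 _) h.h4, h.q2.ry_sq m, ?_⟩
    rw [cj_mul, cj_zpow, N.a2, N.b2, ← mul_assoc, ← zpow_mul, ← zpow_add]
    congr 1
    rw [h.q2.zpow_eq]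
    obtain ⟨k, hk⟩ := c
    refine ⟨k * m, ?_⟩
    rw [hm]
    have : u2 = 4 * k - 1 := by linarith
    rw [this]; ring

theorem Co.one_or_z_mul (h : Co z r1 y1 r2 y2 n1 n2) {a b : G} (ha : a = 1 ∨ a = z)
    (hb : b = 1 ∨ b = z) : a * b = 1 ∨ a * b = z := by
  rcases ha with rfl | rfl <;> rcases hb with rfl | rfl
  · left; simp
  · right; simp
  · right; simp
  · left; exact h.q1.z_sq

theorem Sd.sq_of_four1 (h : Sd S z r1 y1 r2 y2 0 0) (hs : s ∈ S)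
    (N : Ns r1 y1 r2 y2 s u1 j1 u2 j2) (e1 : Even j1) (h4 : (s * s) * (s * s) = 1) :
    s * s = 1 ∨ s * s = z := by
  obtain ⟨i, j, e, d1, -⟩ := h.sq_form0 hs N
  have o1 := N.odd1 h.toCo
  have hi : (2 : ℤ) ∣ i := by
    obtain ⟨a, ha⟩ := o1
    obtain ⟨b, hb⟩ := e1
    have e3 : (u1 + 1) * j1 = 4 * ((a + 1) * b) := by rw [ha, hb]; ring
    rw [e3] at d1
    omega
  have h1 : r1 ^ i = 1 ∨ r1 ^ i = z := by
    rw [h.q1.zpow_mem]
    simpa using hi
  have h1' : r1 ^ (i + i) = 1 := by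
    rw [h.q1.zpow_eq_one]
    obtain ⟨a, ha⟩ := hi
    exact ⟨a, by rw [ha]; ring⟩
  rw [e, Sd.A0_mul h.toCo, h1', one_mul, h.q2.zpow_eq_one] at h4
  have hj : (2 : ℤ) ∣ j := by
    norm_num at h4
    omega
  have h2 : r2 ^ j = 1 ∨ r2 ^ j = z := by
    rw [h.q2.zpow_mem]
    simpa using hj
  rw [e]
  exact h.one_or_z_mul h1 h2

theorem Sd.sq_of_four (h : Sd S z r1 y1 r2 y2 0 0) (hs : s ∈ S)
    (N : Ns r1 y1 r2 y2 s u1 j1 u2 j2) (e1 : Even j1 ∨ Even j2) (h4 : (s * s) * (s * s) = 1) :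
    s * s = 1 ∨ s * s = z := by
  rcases e1 with e1 | e1
  · exact h.sq_of_four1 hs N e1 h4
  · exact h.symm.sq_of_four1 hs N.symm e1 h4

/-- squares in the centralizer of an involution of mixed type -/
theorem Sd.sq_of_comm (h : Sd S z r1 y1 r2 y2 0 0) (hs : s ∈ S)
    (N : Ns r1 y1 r2 y2 s u1 j1 u2 j2) (hm : ¬ (Even j1 ↔ Even j2)) (hss : s * s = 1) (hw : w ∈ S)
    (hc : w * s = s * w) (h4 : (w * w) * (w * w) = 1) : w * w = 1 ∨ w * w = z := by
  rcases h.act w hw with ⟨w1, l1, w2, l2, W⟩ | ⟨_, w1, l1, w2, l2, W⟩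
  · by_cases e1 : Even l1 ∨ Even l2
    · exact h.sq_of_four hw W e1 h4
    · have P := W.mul N
      have o1 := W.odd1 h.toCo
      have o2 := W.odd2 h.toCo
      have e : w * s * (w * s) = w * w := by
        calc w * s * (w * s) = w * (s * w) * s := by group
          _ = w * (w * s) * s := by rw [hc]
          _ = w * w * (s * s) := by group
          _ = _ := by rw [hss, mul_one]
      have := h.sq_of_four (mul_mem hw hs) P (by
        rw [← Int.not_even_iff_odd] at o1 o2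
        simp only [Int.even_add, Int.even_mul, o1, o2, false_or]
        clear P
        tauto) (by rw [e]; exact h4)
      rwa [e] at this
  · exact absurd (W.comm_sym N h.toCo hc) hm

/-- No conjugate of `z` in `S` has type `(1, 0)` or `(0, 1)`. -/
theorem Sd.no_mixed (h : Sd S z r1 y1 r2 y2 0 0) (F : Fu S z r1 y1 r2 y2) {g : G}
    (hg : cj g z ∈ S) (N : Ns r1 y1 r2 y2 (cj g z) u1 j1 u2 j2) : Even j1 ↔ Even j2 := by
  by_contra hm
  have hne : cj g z ≠ z := by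
    intro e
    rw [e] at N
    have := N.even_of_mem h.toCo h.mz
    tauto
  obtain ⟨c, k, hc, hs, hk1, hk2, hk3⟩ := F.ext g hg hne
  obtain ⟨t, ht, htR⟩ := F.f2 c (cj g z) hc hg (by rw [← cj_mul_left]; exact hs)
  rw [← cj_mul_left] at htR
  obtain ⟨w1, l1, w2, l2, W, hW⟩ := h.mixed_cj ht hg N hm
  obtain ⟨w1, l1, w2, l2, W, hW⟩ := h.mixed_mul htR W hW
  rw [inv_mul_cancel_right] at W
  have hss : cj (c * g) z * cj (c * g) z = 1 := by rw [← cj_mul, h.q1.z_sq, cj_one]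
  -- a square root of `z` in the centralizer
  obtain ⟨v, hv, hvz, hvc⟩ : ∃ v ∈ S, v * v = z ∧ cj (cj (c * g) z) v = v := by
    by_cases e2 : Even l2
    · exact h.exists_sqrt W e2
    · have e1 : Even l1 := by tauto
      exact h.symm.exists_sqrt W.symm e1
  have hvc' : v * cj (c * g) z = cj (c * g) z * v := (cj_eq_self_iff.1 hvc).symm
  have h1 := hk3 v hv hvc'
  have h2 : cj k v * cj (c * g) z = cj (c * g) z * cj k v := by
    have := congrArg (cj k) hvc'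
    rwa [cj_mul, cj_mul, hk1] at this
  have h3 : cj k v * cj k v = cj k z := by rw [← cj_mul, hvz]
  have h4 := h.sq_of_comm hs W hW hss h1 h2 (by rw [h3, ← cj_mul, h.q1.z_sq, cj_one])
  rw [h3] at h4
  rcases h4 with h4 | h4
  · exact cj_ne_one h.q1.z_ne h4
  · exact hk2 h4

/-- the centralizer of a swap has exponent four, non-swapping elements -/
theorem Sd.exp_four_ns (h : Sd S z r1 y1 r2 y2 0 0) (hs : s ∈ S)
    (N : Ns r1 y1 r2 y2 s u1 j1 u2 j2) (V : Sw r1 y1 r2 y2 v v1 k1 v2 k2) (hc : v * s = s * v) :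
    (s * s) * (s * s) = 1 := by
  obtain ⟨i, j, e, d1, d2⟩ := h.sq_form0 hs N
  have hsym := V.comm_sym N h.toCo hc
  have o1 := N.odd1 h.toCo
  have ov := V.odd1 h.toCo
  have d3 : (4 : ℤ) ∣ v1 * u1 - u2 * v1 := by
    have e1 := (V.mul_ns N).a1
    have e2 := (N.mul_sw V).a1
    rw [hc, e2, h.q2.zpow_eq] at e1
    have e3 : v1 * u1 - u2 * v1 = -(u2 * v1 - v1 * u1) := by ring
    rw [e3, dvd_neg]
    exact e1
  have d4 : (4 : ℤ) ∣ u1 - u2 := by
    have e3 : v1 * u1 - u2 * v1 = v1 * (u1 - u2) := by ring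
    rw [e3] at d3
    obtain ⟨m, hm⟩ := ov
    have hcop : IsCoprime (4 : ℤ) v1 := by
      rw [hm]
      exact isCoprime_two_pow 2 m
    exact hcop.dvd_of_dvd_mul_left d3
  have hij : Even (i + j) := by
    obtain ⟨b, hb⟩ : Even (j1 + j2) := by rw [Int.even_add]; exact hsym
    obtain ⟨a, ha⟩ := o1
    obtain ⟨d, hd⟩ := d4
    have e5 : (u1 + 1) * j1 + (u2 + 1) * j2 = 4 * ((a + 1) * b - d * j2) := by
      have h1 : u2 = 2 * a + 1 - 4 * d := by linarith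
      have h2 : j1 = b + b - j2 := by linarith
      rw [h1, ha, h2]; ring
    rw [even_iff_two_dvd]
    have e6 : (4 : ℤ) ∣ ((u1 + 1) * j1 - 2 * i) + ((u2 + 1) * j2 - 2 * j) := dvd_add d1 d2
    have e7 : ((u1 + 1) * j1 - 2 * i) + ((u2 + 1) * j2 - 2 * j) =
        4 * ((a + 1) * b - d * j2) - 2 * (i + j) := by linarith
    rw [e7] at e6
    omega
  have f1 : r1 ^ (i + i) = z ^ i := by
    rw [← two_mul, zpow_mul, zpow_two, h.q1.rr0]
  have f2 : r2 ^ (j + j) = z ^ j := by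
    rw [← two_mul, zpow_mul, zpow_two, h.q2.rr0]
  rw [e, Sd.A0_mul h.toCo, f1, f2, ← zpow_add]
  have := h.q1.zpow_congr (a := i + j) (b := 0) (by rwa [sub_zero])
  rw [this, zpow_zero]

/-- the centralizer of a swap involution has exponent four -/
theorem Sd.exp_four (h : Sd S z r1 y1 r2 y2 0 0) (hs : s ∈ S) (hv : v ∈ S) (hvv : v * v = 1)
    (V : Sw r1 y1 r2 y2 v v1 k1 v2 k2) (hc : v * s = s * v) :
    (s * s) * (s * s) = 1 := by
  rcases h.act s hs with ⟨w1, l1, w2, l2, W⟩ | ⟨_, w1, l1, w2, l2, W⟩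
  · exact h.exp_four_ns hs W V hc
  · have e : s * v * (s * v) = s * s := by
      calc s * v * (s * v) = s * (v * s) * v := by group
        _ = s * (s * v) * v := by rw [hc]
        _ = s * s * (v * v) := by group
        _ = _ := by rw [hvv, mul_one]
    have h1 := h.exp_four_ns (mul_mem hs hv) (W.mul V) V (by rw [← mul_assoc, hc])
    rwa [e] at h1

/-- the type of an element -/
def Ty (r1 y1 r2 y2 s : G) (j1 j2 : ℤ) : Prop :=
  (∃ u1 u2, Ns r1 y1 r2 y2 s u1 j1 u2 j2) ∨ ∃ u1 u2, Sw r1 y1 r2 y2 s u1 j1 u2 j2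

theorem Ty.parity (h : Co z r1 y1 r2 y2 n n) (T : Ty r1 y1 r2 y2 s j1 j2)
    (T' : Ty r1 y1 r2 y2 s k1 k2) : Even (j1 + j2) ↔ Even (k1 + k2) := by
  rcases T with ⟨u1, u2, N⟩ | ⟨u1, u2, N⟩ <;> rcases T' with ⟨v1, v2, N'⟩ | ⟨v1, v2, N'⟩
  · have p1 := N.parity1 N' h
    have p2 := N.parity2 N' h
    rw [Int.even_add, Int.even_add, p1, p2]
  · exact (N.not_sw N' h).elim
  · exact (N'.not_sw N h).elim
  · have p1 := N.parity1 N' h
    have p2 := N.parity2 N' h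
    rw [Int.even_add, Int.even_add, p1, p2]

theorem Ty.mul (h : Co z r1 y1 r2 y2 n n) (T : Ty r1 y1 r2 y2 s j1 j2)
    (T' : Ty r1 y1 r2 y2 v k1 k2) : ∃ l1 l2, Ty r1 y1 r2 y2 (s * v) l1 l2 ∧
      (Even (l1 + l2) ↔ (Even (j1 + j2) ↔ Even (k1 + k2))) := by
  rcases T with ⟨u1, u2, N⟩ | ⟨u1, u2, N⟩ <;> rcases T' with ⟨v1, v2, N'⟩ | ⟨v1, v2, N'⟩
  · refine ⟨_, _, Or.inl ⟨_, _, N.mul N'⟩, ?_⟩
    have o1 := N.odd1 h
    have o2 := N.odd2 h
    rw [← Int.not_even_iff_odd] at o1 o2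
    simp only [Int.even_add, Int.even_mul, o1, o2, false_or]
    tauto
  · refine ⟨_, _, Or.inr ⟨_, _, N.mul_sw N'⟩, ?_⟩
    have o1 := N.odd1 h
    have o2 := N.odd2 h
    rw [← Int.not_even_iff_odd] at o1 o2
    simp only [Int.even_add, Int.even_mul, o1, o2, false_or]
    tauto
  · refine ⟨_, _, Or.inr ⟨_, _, N.mul_ns N'⟩, ?_⟩
    have o1 := N.odd1 h
    have o2 := N.odd2 h
    rw [← Int.not_even_iff_odd] at o1 o2
    simp only [Int.even_add, Int.even_mul, o1, o2, false_or]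
    tauto
  · refine ⟨_, _, Or.inl ⟨_, _, N.mul N'⟩, ?_⟩
    have o1 := N.odd1 h
    have o2 := N.odd2 h
    rw [← Int.not_even_iff_odd] at o1 o2
    simp only [Int.even_add, Int.even_mul, o1, o2, false_or]
    tauto

theorem Sd.exists_ty (h : Sd S z r1 y1 r2 y2 n n) (hs : s ∈ S) :
    ∃ j1 j2, Ty r1 y1 r2 y2 s j1 j2 := by
  rcases h.act s hs with ⟨w1, l1, w2, l2, W⟩ | ⟨_, w1, l1, w2, l2, W⟩
  · exact ⟨l1, l2, Or.inl ⟨_, _, W⟩⟩
  · exact ⟨l1, l2, Or.inr ⟨_, _, W⟩⟩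

/-- The elements with `j1 + j2` even. -/
def MM (h : Sd S z r1 y1 r2 y2 n n) : Subgroup G where
  carrier := {s | s ∈ S ∧ ∃ j1 j2, Ty r1 y1 r2 y2 s j1 j2 ∧ Even (j1 + j2)}
  one_mem' := ⟨one_mem _, 0, 0, Or.inl ⟨_, _, Ns.one⟩, by decide⟩
  mul_mem' := by
    rintro a b ⟨ha, j1, j2, hT, he⟩ ⟨hb, k1, k2, hT', he'⟩
    obtain ⟨l1, l2, hT'', he''⟩ := hT.mul h.toCo hT'
    exact ⟨mul_mem ha hb, l1, l2, hT'', he''.2 (by tauto)⟩
  inv_mem' := by
    rintro a ⟨ha, j1, j2, hT, he⟩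
    obtain ⟨k1, k2, hT'⟩ := h.exists_ty (inv_mem ha)
    obtain ⟨l1, l2, hT'', he''⟩ := hT.mul h.toCo hT'
    rw [mul_inv_cancel] at hT''
    have h1 : Ty r1 y1 r2 y2 (1 : G) 0 0 := Or.inl ⟨_, _, Ns.one⟩
    have h2 := (h1.parity h.toCo hT'').1 (by decide)
    refine ⟨inv_mem ha, k1, k2, hT', ?_⟩
    tauto

theorem mem_MM (h : Sd S z r1 y1 r2 y2 n n) : s ∈ MM h ↔
    s ∈ S ∧ ∃ j1 j2, Ty r1 y1 r2 y2 s j1 j2 ∧ Even (j1 + j2) := Iff.rfl

theorem MM_le (h : Sd S z r1 y1 r2 y2 n n) : MM h ≤ S := fun _ hs => hs.1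

theorem notin_MM (h : Sd S z r1 y1 r2 y2 n n) (N : Ty r1 y1 r2 y2 s j1 j2)
    (he : ¬ Even (j1 + j2)) : s ∉ MM h := by
  rintro ⟨_, k1, k2, T, hT⟩
  exact he ((N.parity h.toCo T).2 hT)

theorem MM_index (h : Sd S z r1 y1 r2 y2 n n) (hs : s ∈ S) (N : Ty r1 y1 r2 y2 s j1 j2)
    (he : ¬ Even (j1 + j2)) : (MM h).relIndex S = 2 := by
  rw [Subgroup.relIndex_eq_two_iff]
  refine ⟨s, hs, ?_⟩
  intro b hb
  obtain ⟨k1, k2, T⟩ := h.exists_ty hb
  obtain ⟨l1, l2, T', hT'⟩ := T.mul h.toCo N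
  by_cases hk : Even (k1 + k2)
  · right
    refine ⟨⟨hb, k1, k2, T, hk⟩, ?_⟩
    apply notin_MM h T'
    tauto
  · left
    refine ⟨⟨mul_mem hb hs, l1, l2, T', by tauto⟩, notin_MM h T hk⟩

theorem Al.conj {t k : G} (a : Al S z t k) (hs : s ∈ S) (hz : cj s z = z) :
    Al S z (cj s t) (cj s k) where
  hz := by
    have := cj_cj s k z
    rw [hz, a.hz] at this
    exact this
  ht := by rw [cj_cj, a.ht, hz]
  hh := by
    rw [← cj_mul]
    exact mul_mem (mul_mem hs a.hh) (inv_mem hs)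
  nor w hw hwt := by
    have h1 : cj s⁻¹ w ∈ S := mul_mem (mul_mem (inv_mem hs) hw) (inv_mem (inv_mem hs))
    have h2 : cj s⁻¹ w * t = t * cj s⁻¹ w := by
      have := congrArg (cj s⁻¹) hwt
      rwa [cj_mul, cj_mul, cj_inv_cj] at this
    have h3 := a.nor _ h1 h2
    have h4 : cj (cj s k) w = cj s (cj k (cj s⁻¹ w)) := by
      have := cj_cj s k (cj s⁻¹ w)
      rwa [cj_cj_inv] at this
    rw [h4]
    exact mul_mem (mul_mem hs h3) (inv_mem hs)

theorem Co.t_ne_z (h : Co z r1 y1 r2 y2 n1 n2) : r1 * r2 ≠ z := by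
  intro e
  have h1 : ∀ {r y : G} {n : ℕ}, Qn z r y n → r ≠ 1 ∧ r ≠ z := by
    intro r y n q
    constructor
    · rintro rfl
      apply q.z_ne
      rw [← q.rp, one_pow]
    · intro e
      apply q.r_ne_inv
      rw [e, q.zz]
  rcases h.mul_eq_z (subset_closure (by simp)) (subset_closure (by simp)) e with h2 | h2
  · exact (h1 h.q1).1 h2.1
  · exact (h1 h.q1).2 h2.1

theorem Co.t_sq (h : Co z r1 y1 r2 y2 0 0) : r1 * r2 * (r1 * r2) = 1 := by
  calc r1 * r2 * (r1 * r2) = r1 * (r2 * r1) * r2 := by group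
    _ = r1 * (r1 * r2) * r2 := by rw [h.rr]
    _ = (r1 * r1) * (r2 * r2) := by group
    _ = _ := by rw [h.q1.rr0, h.q2.rr0, h.q1.z_sq]

end aux

/-- Normal form of the elements of type `(1, 0)`, `(0, 1)`, for `n = 0`. -/
structure DE (S : Subgroup G) (z r1 y1 r2 y2 e1 e2 : G) (c : ℤ) : Prop where
  sd : Sd S z r1 y1 r2 y2 0 0
  m1 : e1 ∈ S
  m2 : e2 ∈ S
  a1 : cj e1 r1 = r1
  b1 : cj e1 y1 = r1 * y1
  a2 : cj e1 r2 = r2
  b2 : cj e1 y2 = y2
  q : e1 * e1 = r1 * z ^ c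
  a1' : cj e2 r1 = r1
  b1' : cj e2 y1 = y1
  a2' : cj e2 r2 = r2
  b2' : cj e2 y2 = r2 * y2
  q' : e2 * e2 = r2 * z ^ c

namespace DE

variable {S : Subgroup G} {z r1 y1 r2 y2 e1 e2 k v : G} {c u1 j1 u2 j2 : ℤ}

theorem ns1 (D : DE S z r1 y1 r2 y2 e1 e2 c) : Ns r1 y1 r2 y2 e1 1 1 1 0 :=
  ⟨by rw [D.a1, zpow_one], by rw [D.b1, zpow_one], by rw [D.a2, zpow_one],
    by rw [D.b2, zpow_zero, one_mul]⟩

theorem ns2 (D : DE S z r1 y1 r2 y2 e1 e2 c) : Ns r1 y1 r2 y2 e2 1 0 1 1 :=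
  ⟨by rw [D.a1', zpow_one], by rw [D.b1', zpow_zero, one_mul], by rw [D.a2', zpow_one],
    by rw [D.b2', zpow_one]⟩

theorem zc (D : DE S z r1 y1 r2 y2 e1 e2 c) {s : G} (hs : s ∈ S) (m : ℤ) :
    s * z ^ m = z ^ m * s :=
  (Commute.zpow_right (show Commute s z from D.sd.zc hs) m)

theorem zz (D : DE S z r1 y1 r2 y2 e1 e2 c) (m : ℤ) : z ^ m * z ^ m = 1 := by
  rw [← zpow_add, ← two_mul, zpow_mul, D.sd.q1.z2, one_zpow]

/-- `e1 ^ 4 = z` -/
theorem p4 (D : DE S z r1 y1 r2 y2 e1 e2 c) : (e1 * e1) * (e1 * e1) = z := by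
  rw [D.q]
  calc r1 * z ^ c * (r1 * z ^ c) = r1 * (z ^ c * r1) * z ^ c := by group
    _ = r1 * (r1 * z ^ c) * z ^ c := by rw [D.zc D.sd.h1]
    _ = (r1 * r1) * (z ^ c * z ^ c) := by group
    _ = z := by rw [D.sd.q1.rr0, D.zz, mul_one]

theorem p4' (D : DE S z r1 y1 r2 y2 e1 e2 c) : (e2 * e2) * (e2 * e2) = z := by
  rw [D.q']
  calc r2 * z ^ c * (r2 * z ^ c) = r2 * (z ^ c * r2) * z ^ c := by group
    _ = r2 * (r2 * z ^ c) * z ^ c := by rw [D.zc D.sd.h3]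
    _ = (r2 * r2) * (z ^ c * z ^ c) := by group
    _ = z := by rw [D.sd.q2.rr0, D.zz, mul_one]

theorem comm_or (D : DE S z r1 y1 r2 y2 e1 e2 c) : e1 * e2 = e2 * e1 ∨ e1 * e2 = e2 * e1 * z := by
  refine D.sd.eq_or (mul_mem D.m1 D.m2) (mul_mem D.m2 D.m1) ?_ ?_ ?_ ?_
  · rw [cj_mul_left, cj_mul_left, D.a1', D.a1, D.a1']
  · rw [cj_mul_left, cj_mul_left, D.b1', D.b1, cj_mul, D.a1', D.b1']
  · rw [cj_mul_left, cj_mul_left, D.a2', D.a2, D.a2']
  · rw [cj_mul_left, cj_mul_left, D.b2', D.b2, cj_mul, D.a2, D.b2, D.b2']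

/-- `(e1)^k` is a swap -/
theorem swap_of_four {S : Subgroup G} {z r1 y1 r2 y2 s : G} (h : Sd S z r1 y1 r2 y2 0 0)
    (hs : s ∈ S) (h4 : (s * s) * (s * s) = r1 * r2) :
    ∃ v1 k1 v2 k2 : ℤ, Sw r1 y1 r2 y2 s v1 k1 v2 k2 := by
  rcases h.act s hs with ⟨w1, l1, w2, l2, W⟩ | ⟨_, w1, l1, w2, l2, W⟩
  · exfalso
    rcases h.sqR0 (h.sq_mem hs W) with h1 | ⟨h1, _⟩
    · have h2 := h.t_ne_z
      rw [h4] at h1
      have : r2 = r1⁻¹ := (inv_eq_of_mul_eq_one_right h1).symm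
      rcases h.ind r1 (subset_closure (by simp)) (by
        rw [← inv_inv r1, ← this]
        exact inv_mem (subset_closure (by simp))) with h3 | h3
      · have := h.q1.rr0
        rw [h3, one_mul] at this
        exact h.q1.z_ne this.symm
      · exact h.q1.r_ne_inv (by rw [h3, h.q1.zz])
    · exact h.t_ne_z (by rw [← h4, h1])
  · exact ⟨_, _, _, _, W⟩

/-- case `[e1, e2] = 1` -/
theorem false_comm (D : DE S z r1 y1 r2 y2 e1 e2 c) (a : Al S z (r1 * r2) k)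
    (hc : e1 * e2 = e2 * e1) : False := by
  have h := D.sd
  have t1 : e1 * (r1 * r2) = (r1 * r2) * e1 := by
    rw [← cj_eq_self_iff, cj_mul, D.a1, D.a2]
  have t2 : e2 * (r1 * r2) = (r1 * r2) * e2 := by
    rw [← cj_eq_self_iff, cj_mul, D.a1', D.a2']
  have m1 := a.nor e1 D.m1 t1
  have m2 := a.nor e2 D.m2 t2
  have q1 : (cj k e1 * cj k e1) * (cj k e1 * cj k e1) = r1 * r2 := by
    rw [← cj_mul, ← cj_mul, D.p4, a.hz]
  have q2 : (cj k e2 * cj k e2) * (cj k e2 * cj k e2) = r1 * r2 := by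
    rw [← cj_mul, ← cj_mul, D.p4', a.hz]
  obtain ⟨v1, k1, v2, k2, V⟩ := swap_of_four h m1 q1
  obtain ⟨v1', k1', v2', k2', V'⟩ := swap_of_four h m2 q2
  have hcc : cj k e1 * cj k e2 = cj k e2 * cj k e1 := by rw [← cj_mul, hc, cj_mul]
  -- `q = s⁻¹ s'`
  obtain ⟨w1, l1, w2, l2, W⟩ := h.sw_sw m1 m2 V V'
  have mq : (cj k e1)⁻¹ * cj k e2 ∈ S := mul_mem (inv_mem m1) m2
  have eq1 : ((cj k e1)⁻¹ * cj k e2) * ((cj k e1)⁻¹ * cj k e2) = (r1 * r2) * z := by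
    have e : (e1⁻¹ * e2) * (e1⁻¹ * e2) = z * (r1 * r2) := by
      have hc' : e2 * e1⁻¹ = e1⁻¹ * e2 := by
        rw [mul_inv_eq_iff_eq_mul, mul_assoc, ← hc]; group
      calc (e1⁻¹ * e2) * (e1⁻¹ * e2) = e1⁻¹ * (e2 * e1⁻¹) * e2 := by group
        _ = e1⁻¹ * (e1⁻¹ * e2) * e2 := by rw [hc']
        _ = (e1 * e1)⁻¹ * (e2 * e2) := by group
        _ = (r1 * z ^ c)⁻¹ * (r2 * z ^ c) := by rw [D.q, D.q']
        _ = (z ^ c)⁻¹ * (r1⁻¹ * r2) * z ^ c := by group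
        _ = (z ^ c)⁻¹ * ((r1⁻¹ * r2) * z ^ c) := by group
        _ = (z ^ c)⁻¹ * (z ^ c * (r1⁻¹ * r2)) := by
            rw [D.zc (mul_mem (inv_mem h.h1) h.h3)]
        _ = r1⁻¹ * r2 := by group
        _ = z * (r1 * r2) := by rw [h.q1.rinv0, ← h.q1.zr, mul_assoc]
    calc ((cj k e1)⁻¹ * cj k e2) * ((cj k e1)⁻¹ * cj k e2)
        = cj k ((e1⁻¹ * e2) * (e1⁻¹ * e2)) := by simp only [cj_mul, cj_inv]
      _ = cj k z * cj k (r1 * r2) := by rw [e, cj_mul]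
      _ = _ := by rw [a.hz, a.ht]
  have tne : r1 * r2 ≠ 1 := by
    rw [← a.hz]
    exact cj_ne_one h.q1.z_ne
  have oq : ¬ Even l1 ∧ ¬ Even l2 := by
    have hsym := V.comm_sym W h.toCo (by
      have : cj k e1 * ((cj k e1)⁻¹ * cj k e2) = cj k e2 := by group
      rw [this, mul_assoc, ← hcc]; group)
    by_contra hcon
    have hev : Even l1 ∧ Even l2 := by tauto
    have hR := h.inR _ mq _ _ _ _ W hev.1 hev.2
    rcases h.sqR0 hR with h1 | ⟨h1, _⟩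
    · rw [eq1] at h1
      apply h.t_ne_z
      rw [mul_eq_one_iff_eq_inv, h.q1.zz] at h1
      exact h1
    · rw [eq1, mul_eq_right] at h1
      exact tne h1
  -- `X = s s`
  have X := V.mul V
  have mX : cj k e1 * cj k e1 ∈ S := mul_mem m1 m1
  have oX : ¬ Even (v2 * k1 + k2) ∧ ¬ Even (v1 * k2 + k1) := by
    have hsym := V.comm_sym X h.toCo (by group)
    by_contra hcon
    have hev : Even (v2 * k1 + k2) ∧ Even (v1 * k2 + k1) := by tauto
    have hR := h.inR _ mX _ _ _ _ X hev.1 hev.2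
    rcases h.sqR0 hR with h1 | ⟨h1, _⟩
    · rw [q1] at h1
      exact tne h1
    · rw [q1] at h1
      exact h.t_ne_z h1
  -- `r = s s'`
  have P := X.mul W
  have er : cj k e1 * cj k e1 * ((cj k e1)⁻¹ * cj k e2) = cj k e1 * cj k e2 := by group
  rw [er] at P
  have mr : cj k e1 * cj k e2 ∈ S := mul_mem m1 m2
  have hR : cj k e1 * cj k e2 ∈ RR r1 y1 r2 y2 := by
    refine h.inR _ mr _ _ _ _ P ?_ ?_
    · have o1 := X.odd1 h.toCo
      rw [← Int.not_even_iff_odd] at o1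
      rw [Int.even_add, Int.even_mul]
      tauto
    · have o1 := X.odd2 h.toCo
      rw [← Int.not_even_iff_odd] at o1
      rw [Int.even_add, Int.even_mul]
      tauto
  have rr : (cj k e1 * cj k e2) * (cj k e1 * cj k e2) = z := by
    have e : (e1 * e2) * (e1 * e2) = r1 * r2 := by
      calc (e1 * e2) * (e1 * e2) = e1 * (e2 * e1) * e2 := by group
        _ = e1 * (e1 * e2) * e2 := by rw [hc]
        _ = (e1 * e1) * (e2 * e2) := by group
        _ = (r1 * z ^ c) * (r2 * z ^ c) := by rw [D.q, D.q']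
        _ = r1 * (z ^ c * r2) * z ^ c := by group
        _ = r1 * (r2 * z ^ c) * z ^ c := by rw [D.zc h.h3]
        _ = r1 * r2 * (z ^ c * z ^ c) := by group
        _ = _ := by rw [D.zz, mul_one]
    rw [← cj_mul, ← cj_mul, e, a.ht]
  have hcr : cj (cj k e1) (cj k e1 * cj k e2) = cj k e1 * cj k e2 := by
    rw [cj_mul, cj_self]
    congr 1
    exact cj_eq_self hcc
  have hr1 : ∀ r : G, cj (cj k e1) r = r → r * r = z → r ∈ closure ({r1, y1} : Set G) → False := by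
    intro r h1 h2 h3
    have h4 := V.cj_mem1 h3
    rw [h1] at h4
    rcases h.ind r h3 h4 with h5 | h5
    · rw [h5, mul_one] at h2
      exact h.q1.z_ne h2.symm
    · rw [h5, h.q1.z_sq] at h2
      exact h.q1.z_ne h2.symm
  have hr2 : ∀ r : G, cj (cj k e1) r = r → r * r = z → r ∈ closure ({r2, y2} : Set G) → False := by
    intro r h1 h2 h3
    have h4 := V.cj_mem2 h3
    rw [h1] at h4
    exact hr1 r h1 h2 h4
  rcases h.sqR0 hR with h1 | ⟨_, h1 | h1⟩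
  · rw [rr] at h1
    exact h.q1.z_ne h1
  · exact hr1 _ hcr rr h1
  · exact hr2 _ hcr rr h1

/-- no involution of type `(1, 1)` if `[e1, e2] = z` -/
theorem no_inv11 (D : DE S z r1 y1 r2 y2 e1 e2 c) (hc : e1 * e2 = e2 * e1 * z) (hv : v ∈ S)
    (N : Ns r1 y1 r2 y2 v u1 j1 u2 j2) (o1 : Odd j1) (o2 : Odd j2) (hvv : v * v = 1) : False := by
  have h := D.sd
  have NN := N.mul N
  rw [hvv] at NN
  have d1 : (4 : ℤ) ∣ u1 + 1 := by
    have h1 := mul_right_cancel (NN.b1.symm.trans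
      (Ns.one (r1 := r1) (y1 := y1) (r2 := r2) (y2 := y2)).b1)
    rw [h.q1.zpow_eq] at h1
    have e1 : u1 * j1 + j1 - 0 = (u1 + 1) * j1 := by ring
    rw [e1] at h1
    obtain ⟨m, hm⟩ := o1
    have hcop : IsCoprime (4 : ℤ) j1 := by
      rw [hm]
      exact isCoprime_two_pow 2 m
    exact hcop.dvd_of_dvd_mul_right h1
  have d2 : (4 : ℤ) ∣ u2 + 1 := by
    have h1 := mul_right_cancel (NN.b2.symm.trans
      (Ns.one (r1 := r1) (y1 := y1) (r2 := r2) (y2 := y2)).b2)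
    rw [h.q2.zpow_eq] at h1
    have e1 : u2 * j2 + j2 - 0 = (u2 + 1) * j2 := by ring
    rw [e1] at h1
    obtain ⟨m, hm⟩ := o2
    have hcop : IsCoprime (4 : ℤ) j2 := by
      rw [hm]
      exact isCoprime_two_pow 2 m
    exact hcop.dvd_of_dvd_mul_right h1
  obtain ⟨i, hi⟩ := o1
  obtain ⟨j, hj⟩ := o2
  -- the candidate
  have Nx := (D.ns1.mul D.ns2).mul ((h.ns_r1 i).mul ((h.ns_r2 j).mul (h.ns_y1.mul h.ns_y2)))
  have mb : r1 ^ i * (r2 ^ j * (y1 * y2)) ∈ S := mul_mem (Subgroup.zpow_mem _ h.h1 _)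
    (mul_mem (Subgroup.zpow_mem _ h.h3 _) (mul_mem h.h2 h.h4))
  have mx : e1 * e2 * (r1 ^ i * (r2 ^ j * (y1 * y2))) ∈ S := mul_mem (mul_mem D.m1 D.m2) mb
  have f1 : r1 ^ u1 = r1 ^ (-1 : ℤ) := by
    rw [h.q1.zpow_eq, sub_neg_eq_add]
    exact d1
  have f2 : r2 ^ u2 = r2 ^ (-1 : ℤ) := by
    rw [h.q2.zpow_eq, sub_neg_eq_add]
    exact d2
  have hor := h.eq_or hv mx (by rw [N.a1, Nx.a1, f1]; norm_num) (by
      rw [N.b1, Nx.b1]; congr 2; rw [hi]; ring) (by rw [N.a2, Nx.a2, f2]; norm_num) (by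
      rw [N.b2, Nx.b2]; congr 2; rw [hj]; ring)
  -- its square
  have sq : (e1 * e2 * (r1 ^ i * (r2 ^ j * (y1 * y2)))) *
      (e1 * e2 * (r1 ^ i * (r2 ^ j * (y1 * y2)))) = z := by
    have hc2 : e2 * e1 = e1 * e2 * z := by
      rw [hc, mul_assoc, h.q1.z_sq, mul_one]
    set x := e1 * e2 with hx
    set b := r1 ^ i * r2 ^ j with hb
    set Y := y1 * y2 with hY
    have e0 : x * (r1 ^ i * (r2 ^ j * Y)) = x * b * Y := by rw [hb]; group
    have xr1 : cj x r1 = r1 := by rw [hx, cj_mul_left, D.a1', D.a1]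
    have xr2 : cj x r2 = r2 := by rw [hx, cj_mul_left, D.a2', D.a2]
    have xb : x * b = b * x := by
      rw [← cj_eq_self_iff, hb, cj_mul, cj_zpow, cj_zpow, xr1, xr2]
    have YY : Y * Y = 1 := by
      calc Y * Y = y1 * (y2 * y1) * y2 := by rw [hY]; group
        _ = y1 * (y1 * y2) * y2 := by rw [h.yy]
        _ = (y1 * y1) * (y2 * y2) := by group
        _ = 1 := by rw [h.q1.ys, h.q2.ys, h.q1.z_sq]
    have Yr1 : cj Y (r1 ^ i) = r1 ^ (-i) := by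
      have e3 : cj y2 (r1 ^ i) = r1 ^ i := cj_eq_self
        ((Commute.zpow_right (show Commute y2 r1 from h.ry.symm) i))
      rw [hY, cj_mul_left, e3, h.q1.cj_y_zpow]
    have Yr2 : cj Y (r2 ^ j) = r2 ^ (-j) := by
      have e3 : cj y1 (r2 ^ (-j)) = r2 ^ (-j) := cj_eq_self
        ((Commute.zpow_right (show Commute y1 r2 from h.yr) (-j)))
      rw [hY, cj_mul_left, h.q2.cj_y_zpow, e3]
    have Yb : cj Y b = b⁻¹ := by
      rw [hb, cj_mul, Yr1, Yr2, mul_inv_rev, ← zpow_neg, ← zpow_neg]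
      exact Sd.r_zpow_comm h.toCo _ _
    have Ye1 : cj Y e1 = r1⁻¹ * e1 := by
      have e3 : cj y2 e1 = e1 := cj_comm D.b2
      have e4 : cj y1 e1 = r1⁻¹ * e1 := by
        have h1 := D.b1
        rw [cj_def, mul_inv_eq_iff_eq_mul] at h1
        -- `e1 y1 = r1 y1 e1`
        rw [cj_def, mul_inv_eq_iff_eq_mul, mul_assoc, h1]; group
      rw [hY, cj_mul_left, e3, e4]
    have Ye2 : cj Y e2 = r2⁻¹ * e2 := by
      have e3 : cj y1 e2 = e2 := cj_comm D.b1'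
      have e5 : cj y1 r2 = r2 := cj_eq_self h.yr
      have e4 : cj y2 e2 = r2⁻¹ * e2 := by
        have h1 := D.b2'
        rw [cj_def, mul_inv_eq_iff_eq_mul] at h1
        rw [cj_def, mul_inv_eq_iff_eq_mul, mul_assoc, h1]; group
      rw [hY, cj_mul_left, e4, cj_mul, cj_inv, e5, e3]
    have er : e1 * r2⁻¹ = r2⁻¹ * e1 := by
      rw [← cj_eq_self_iff, cj_inv, D.a2]
    have Yx : cj Y x = r1⁻¹ * r2⁻¹ * x := by
      rw [hx, cj_mul, Ye1, Ye2]
      calc r1⁻¹ * e1 * (r2⁻¹ * e2) = r1⁻¹ * (e1 * r2⁻¹) * e2 := by group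
        _ = r1⁻¹ * (r2⁻¹ * e1) * e2 := by rw [er]
        _ = _ := by group
    have xx : x * x = z * (r1 * r2) := by
      calc x * x = e1 * (e2 * e1) * e2 := by rw [hx]; group
        _ = e1 * (e1 * e2 * z) * e2 := by rw [hc2, hx]
        _ = (e1 * e1) * (e2 * (z * e2)) := by group
        _ = (e1 * e1) * (e2 * (e2 * z)) := by rw [h.zc D.m2]
        _ = (r1 * z ^ c) * ((r2 * z ^ c) * z) := by rw [← mul_assoc e2, D.q, D.q']
        _ = r1 * (z ^ c * r2) * z ^ c * z := by group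
        _ = r1 * (r2 * z ^ c) * z ^ c * z := by rw [D.zc h.h3]
        _ = (r1 * r2) * (z ^ c * z ^ c) * z := by group
        _ = (r1 * r2) * z := by rw [D.zz, mul_one]
        _ = _ := h.zc (mul_mem h.h1 h.h3)
    have bA : b * (r1⁻¹ * r2⁻¹) = (r1⁻¹ * r2⁻¹) * b := by
      have := Sd.A0_mul h.toCo i j (-1) (-1)
      have h2 := Sd.A0_mul h.toCo (-1) (-1) i j
      rw [zpow_neg_one, zpow_neg_one] at this h2
      rw [hb, this, h2]
      congr 2 <;> ring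
    have bb : b * x * b⁻¹ = x := by rw [← xb, mul_inv_cancel_right]
    rw [e0]
    calc x * b * Y * (x * b * Y) = x * b * (cj Y x * cj Y b) * (Y * Y) := by
          simp only [cj]; group
      _ = x * b * (r1⁻¹ * r2⁻¹ * x * b⁻¹) := by rw [Yx, Yb, YY, mul_one]
      _ = x * (b * (r1⁻¹ * r2⁻¹)) * x * b⁻¹ := by group
      _ = x * ((r1⁻¹ * r2⁻¹) * b) * x * b⁻¹ := by rw [bA]
      _ = x * (r1⁻¹ * r2⁻¹) * (b * x * b⁻¹) := by group
      _ = cj x (r1⁻¹ * r2⁻¹) * (x * x) := by rw [bb]; simp only [cj]; group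
      _ = (r1⁻¹ * r2⁻¹) * (z * (r1 * r2)) := by
          rw [xx, cj_mul, cj_inv, cj_inv, xr1, xr2]
      _ = (r1⁻¹ * r2⁻¹) * ((r1 * r2) * z) := by rw [h.zc (mul_mem h.h1 h.h3)]
      _ = r1⁻¹ * r2⁻¹ * (r2 * r1) * z := by rw [h.rr]; group
      _ = z := by group
  rcases hor with e | e
  · rw [e, sq] at hvv
    exact h.q1.z_ne hvv
  · rw [e] at hvv
    have : e1 * e2 * (r1 ^ i * (r2 ^ j * (y1 * y2))) * z *
        (e1 * e2 * (r1 ^ i * (r2 ^ j * (y1 * y2))) * z) = z := by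
      set m := e1 * e2 * (r1 ^ i * (r2 ^ j * (y1 * y2))) with hm
      calc m * z * (m * z) = m * (z * m) * z := by group
        _ = m * (m * z) * z := by rw [h.zc mx]
        _ = (m * m) * (z * z) := by group
        _ = z := by rw [sq, h.q1.z_sq, mul_one]
    rw [this] at hvv
    exact h.q1.z_ne hvv

/-- case `[e1, e2] = z` -/
theorem false_z (D : DE S z r1 y1 r2 y2 e1 e2 c) (F : Fu S z r1 y1 r2 y2)
    (a : Al S z (r1 * r2) k) (hc : e1 * e2 = e2 * e1 * z) : False := by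
  have h := D.sd
  -- `s1 = y1 e1 r2 ^ (1 + c)`
  have N1 := h.ns_y1.mul (D.ns1.mul (h.ns_r2 (1 + c)))
  set s1 := y1 * (e1 * r2 ^ (1 + c)) with hs1
  have m1 : s1 ∈ S := mul_mem h.h2 (mul_mem D.m1 (Subgroup.zpow_mem _ h.h3 _))
  have hmix : ¬ (Even (-1 * (1 * 0 + 1) + 0 : ℤ) ↔ Even (1 * (1 * (2 * (1 + c)) + 0) + 0 : ℤ)) := by
    have e1 : ¬ Even (-1 * (1 * 0 + 1) + 0 : ℤ) := by decide
    have e2 : Even (1 * (1 * (2 * (1 + c)) + 0) + 0 : ℤ) := ⟨1 + c, by ring⟩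
    tauto
  have hmix' : ¬ Even ((-1 * (1 * 0 + 1) + 0) + (1 * (1 * (2 * (1 + c)) + 0) + 0) : ℤ) := by
    rw [Int.even_add]
    exact hmix
  have er : e1 * r2 ^ (1 + c) = r2 ^ (1 + c) * e1 := by
    rw [← cj_eq_self_iff, cj_zpow, D.a2]
  have yr : y1 * r2 ^ (1 + c) = r2 ^ (1 + c) * y1 :=
    (Commute.zpow_right (show Commute y1 r2 from h.yr) _)
  have e1y1 : e1 * y1 = r1 * y1 * e1 := by
    have h1 := D.b1
    rwa [cj_def, mul_inv_eq_iff_eq_mul] at h1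
  have y1r1 : y1 * r1 = r1⁻¹ * y1 := by rw [mul_cj, h.q1.inv]
  have ye2 : (y1 * e1) * (y1 * e1) = z * z ^ c := by
    calc (y1 * e1) * (y1 * e1) = y1 * (e1 * y1) * e1 := by group
      _ = y1 * (r1 * y1 * e1) * e1 := by rw [e1y1]
      _ = (y1 * r1) * y1 * (e1 * e1) := by group
      _ = r1⁻¹ * (y1 * y1) * (r1 * z ^ c) := by rw [y1r1, D.q]; group
      _ = r1⁻¹ * (z * r1) * z ^ c := by rw [h.q1.ys]; group
      _ = r1⁻¹ * (r1 * z) * z ^ c := by rw [h.q1.zr]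
      _ = _ := by group
  have r22 : r2 ^ (1 + c) * r2 ^ (1 + c) = z * z ^ c := by
    rw [← zpow_add, ← two_mul, zpow_mul, zpow_two, h.q2.rr0, zpow_add, zpow_one]
  have s11 : s1 * s1 = 1 := by
    calc s1 * s1 = y1 * (e1 * r2 ^ (1 + c)) * y1 * (e1 * r2 ^ (1 + c)) := by rw [hs1]; group
      _ = y1 * (r2 ^ (1 + c) * e1) * y1 * (e1 * r2 ^ (1 + c)) := by rw [er]
      _ = (y1 * r2 ^ (1 + c)) * (e1 * y1 * e1) * r2 ^ (1 + c) := by group
      _ = (r2 ^ (1 + c) * y1) * (e1 * y1 * e1) * r2 ^ (1 + c) := by rw [yr]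
      _ = r2 ^ (1 + c) * ((y1 * e1) * (y1 * e1)) * r2 ^ (1 + c) := by group
      _ = r2 ^ (1 + c) * (z * z ^ c) * r2 ^ (1 + c) := by rw [ye2]
      _ = r2 ^ (1 + c) * ((z * z ^ c) * r2 ^ (1 + c)) := by group
      _ = r2 ^ (1 + c) * (r2 ^ (1 + c) * (z * z ^ c)) := by
          have e3 : z * z ^ c = z ^ (1 + c) := by rw [zpow_add, zpow_one]
          rw [e3, D.zc (Subgroup.zpow_mem _ h.h3 _)]
      _ = (r2 ^ (1 + c) * r2 ^ (1 + c)) * (z * z ^ c) := by group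
      _ = (z * z ^ c) * (z * z ^ c) := by rw [r22]
      _ = 1 := by
          have e3 : z * z ^ c = z ^ (1 + c) := by rw [zpow_add, zpow_one]
          rw [e3, D.zz]
  -- `w = e2 r1` of order 8
  have wc : (e2 * r1) * s1 = s1 * (e2 * r1) := by
    rw [← cj_eq_self_iff, cj_mul_left, hs1, cj_mul, cj_mul, cj_mul, cj_mul]
    have g1 : cj r1 y1 = z * y1 := by
      rw [h.q1.cj_r_y, zpow_two, h.q1.rr0]
    have g2 : cj r1 e1 = e1 := cj_comm D.a1
    have g3 : cj r1 (r2 ^ (1 + c)) = r2 ^ (1 + c) := cj_eq_self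
      ((Commute.zpow_right (show Commute r1 r2 from h.rr) _))
    have g4 : cj e2 e1 = e1 * z := by
      rw [cj_def, mul_inv_eq_iff_eq_mul]
      have hc2 : e2 * e1 = e1 * e2 * z := by rw [hc, mul_assoc, h.q1.z_sq, mul_one]
      rw [hc2, mul_assoc, mul_assoc, h.zc D.m2]
    have g5 : cj e2 (r2 ^ (1 + c)) = r2 ^ (1 + c) := by rw [cj_zpow, D.a2']
    have g6 : cj e2 z = z := h.cj_z D.m2
    rw [g1, g2, g3, g4, g5, cj_mul, g6, D.b1']
    calc z * y1 * (e1 * z * r2 ^ (1 + c)) = z * (y1 * e1) * z * r2 ^ (1 + c) := by group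
      _ = ((y1 * e1) * z) * z * r2 ^ (1 + c) := by rw [h.zc (mul_mem h.h2 D.m1)]
      _ = (y1 * e1) * (z * z) * r2 ^ (1 + c) := by group
      _ = _ := by rw [h.q1.z_sq, mul_one, mul_assoc]
  have mw : e2 * r1 ∈ S := mul_mem D.m2 h.h1
  have ww : (e2 * r1) * (e2 * r1) = r2 * z ^ c * z := by
    have g : r1 * e2 = e2 * r1 := by rw [← cj_eq_self_iff]; exact cj_comm D.a1'
    calc (e2 * r1) * (e2 * r1) = e2 * (r1 * e2) * r1 := by group
      _ = e2 * (e2 * r1) * r1 := by rw [g]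
      _ = (e2 * e2) * (r1 * r1) := by group
      _ = _ := by rw [D.q', h.q1.rr0]
  have w4 : ((e2 * r1) * (e2 * r1)) * ((e2 * r1) * (e2 * r1)) = z := by
    rw [ww]
    have e3 : r2 * z ^ c * z = r2 * z ^ (c + 1) := by rw [zpow_add, zpow_one, mul_assoc]
    rw [e3]
    calc r2 * z ^ (c + 1) * (r2 * z ^ (c + 1)) = r2 * (z ^ (c + 1) * r2) * z ^ (c + 1) := by group
      _ = r2 * (r2 * z ^ (c + 1)) * z ^ (c + 1) := by rw [D.zc h.h3]
      _ = (r2 * r2) * (z ^ (c + 1) * z ^ (c + 1)) := by group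
      _ = z := by rw [h.q2.rr0, D.zz, mul_one]
  -- transfer
  obtain ⟨g, hg, hgw⟩ := F.t1 (MM h) (MM_le h) (MM_index h m1 (Or.inl ⟨_, _, N1⟩) hmix') s1 m1
    (notin_MM h (Or.inl ⟨_, _, N1⟩) hmix') s11
  have vv : cj g s1 * cj g s1 = 1 := by rw [← cj_mul, s11, cj_one]
  have notz : ∀ g' : G, cj g' z ≠ s1 := by
    intro g' hg'
    have h1 := h.no_mixed F (g := g') (by rw [hg']; exact m1) (by rw [hg']; exact N1)
    exact hmix h1
  have s1ne : s1 ≠ 1 := by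
    intro e
    have h1 : Ns r1 y1 r2 y2 s1 1 0 1 0 := by rw [e]; exact Ns.one
    have p1 := N1.parity1 h1 h.toCo
    have p2 := N1.parity2 h1 h.toCo
    tauto
  have vne : cj g s1 ≠ 1 := cj_ne_one s1ne
  obtain ⟨hgS, j1, j2, T, hev⟩ := hg
  rcases T with ⟨u1, u2, N⟩ | ⟨u1, u2, N⟩
  · by_cases o1 : Even j1
    · have o2 : Even j2 := by
        rw [Int.even_add] at hev
        tauto
      have hR := h.inR _ hgS _ _ _ _ N o1 o2
      by_cases hz : cj g s1 = z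
      · exact notz g⁻¹ (by rw [← hz, cj_inv_cj])
      · have mt : r1 * r2 ∈ RR r1 y1 r2 y2 := mul_mem h.m1 h.m3
        obtain ⟨d, hd1, hd2⟩ := F.f1 _ hR _ mt vv vne hz h.t_sq (by
          rw [← a.hz]; exact cj_ne_one h.q1.z_ne) h.t_ne_z
        apply notz (g⁻¹ * (d⁻¹ * k))
        rw [cj_mul_left, cj_mul_left, a.hz, ← hd2, cj_inv_cj, cj_inv_cj]
    · have o2 : ¬ Even j2 := by
        rw [Int.even_add] at hev
        tauto
      exact D.no_inv11 hc hgS N (Int.not_even_iff_odd.1 o1) (Int.not_even_iff_odd.1 o2) vv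
  · have h1 := hgw _ mw wc
    have h2 : cj g s1 * cj g (e2 * r1) = cj g (e2 * r1) * cj g s1 := by
      rw [← cj_mul, ← cj_mul, wc]
    have h3 := h.exp_four h1 hgS vv N h2
    rw [← cj_mul, ← cj_mul, w4] at h3
    exact cj_ne_one h.q1.z_ne h3

theorem false_of (D : DE S z r1 y1 r2 y2 e1 e2 c) (F : Fu S z r1 y1 r2 y2)
    (a : Al S z (r1 * r2) k) : False := by
  rcases D.comm_or with hc | hc
  · exact D.false_comm a hc
  · exact D.false_z F a hc

end DE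

/-- **Section (4.4).**  `n = 0`, `z ~ t`: there is no element of type `(1, 0)` together with a swap. -/
theorem four_d8 {S : Subgroup G} {z r1 y1 r2 y2 k e w : G} {u1 j1 u2 j2 v1 k1 v2 k2 : ℤ}
    (h : Sd S z r1 y1 r2 y2 0 0) (F : Fu S z r1 y1 r2 y2) (a : Al S z (r1 * r2) k)
    (he : e ∈ S) (N : Ns r1 y1 r2 y2 e u1 j1 u2 j2) (o1 : Odd j1) (o2 : Even j2)
    (hw : w ∈ S) (W : Sw r1 y1 r2 y2 w v1 k1 v2 k2) : False := by
  obtain ⟨e1, m1, -, b, c, hb, -, E, ⟨w1, w2, N1⟩, hb1⟩ := h.nf_e he N o1 o2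
  have hb0 : b = 0 := by
    rcases hb with hb | hb
    · exact hb
    · exact absurd (hb1 hb) (by omega)
  subst hb0
  have ea2 : cj e1 r2 = r2 := by rw [E.a2, zpow_zero, mul_one]
  -- a swap with square in `R`
  obtain ⟨w', hw', v1', k1', v2', k2', W', hW'⟩ : ∃ w' ∈ S, ∃ v1' k1' v2' k2' : ℤ,
      Sw r1 y1 r2 y2 w' v1' k1' v2' k2' ∧ w' * w' ∈ RR r1 y1 r2 y2 := by
    by_cases hev : Even (k1 + k2)
    · refine ⟨w, hw, _, _, _, _, W, ?_⟩
      have o3 := W.odd1 h.toCo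
      have o4 := W.odd2 h.toCo
      refine h.inR _ (mul_mem hw hw) _ _ _ _ (W.mul W) ?_ ?_ <;>
      · rw [← Int.not_even_iff_odd] at o3 o4
        simp only [Int.even_add, Int.even_mul, o3, o4, false_or] at hev ⊢
        tauto
    · have P := W.mul_ns N1
      have o3 := W.odd1 h.toCo
      have o4 := W.odd2 h.toCo
      have o5 := P.odd1 h.toCo
      have o6 := P.odd2 h.toCo
      refine ⟨w * e1, mul_mem hw m1, _, _, _, _, P, ?_⟩
      have e1' : ¬ Even (1 : ℤ) := by decide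
      have e0' : Even (0 : ℤ) := by decide
      refine h.inR _ (mul_mem (mul_mem hw m1) (mul_mem hw m1)) _ _ _ _ (P.mul P) ?_ ?_ <;>
      · rw [← Int.not_even_iff_odd] at o3 o4 o5 o6
        rw [Int.even_add, Int.even_mul]
        simp only [o5, o6, false_or]
        simp only [Int.even_add, Int.even_mul, o3, o4, e1', e0', false_or] at hev ⊢
        tauto
  obtain ⟨t, ht, -, htt, hS, hRR, x1, l1, x2, l2, V⟩ := h.nf_t hw' W' hW'
  have F' : Fu S z r1 y1 (cj t r1) (cj t y1) :=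
    ⟨F.iso, by rw [hRR]; exact F.f1, by rw [hRR]; exact F.f2, F.ext, F.t1, F.t2⟩
  have T := hS.sw_self htt
  -- `t`
  obtain ⟨k', a'⟩ : ∃ k', Al S z (r1 * cj t r1) k' := by
    have o := V.odd1 h.toCo
    rw [V.a1]
    have c4 : (4 : ℤ) ∣ x1 - 1 ∨ (4 : ℤ) ∣ x1 + 1 := by
      obtain ⟨m, hm⟩ := o
      omega
    rcases c4 with c4 | c4
    · have : r2 ^ x1 = r2 := by
        conv_rhs => rw [← zpow_one r2]
        rw [h.q2.zpow_eq]
        exact c4
      rw [this]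
      exact ⟨k, a⟩
    · have : r2 ^ x1 = r2⁻¹ := by
        rw [← zpow_neg_one, h.q2.zpow_eq, sub_neg_eq_add]
        exact c4
      have h2 : cj y2 (r1 * r2) = r1 * r2 ^ x1 := by
        rw [this, cj_mul, h.q2.inv]
        congr 1
        exact cj_eq_self h.ry.symm
      rw [← h2]
      exact ⟨cj y2 k, a.conj h.h4 (h.cj_z h.h4)⟩
  -- `e1` centralizes `Q2`
  have hcent : ∀ x ∈ closure ({r2, y2} : Set G), cj e1 x = x := by
    intro x hx
    have hle : closure ({r2, y2} : Set G) ≤ centralizer ({e1} : Set G) := by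
      rw [closure_le]
      rintro x (rfl | rfl)
      · rw [SetLike.mem_coe, mem_centralizer_singleton_iff]
        exact (cj_eq_self_iff.1 ea2).symm
      · rw [SetLike.mem_coe, mem_centralizer_singleton_iff]
        exact (cj_eq_self_iff.1 E.b2).symm
    exact cj_eq_self (mem_centralizer_singleton_iff.1 (hle hx)).symm
  have c1 : cj e1 (cj t r1) = cj t r1 := hcent _ (V.cj_mem1 (subset_closure (by simp)))
  have c2 : cj e1 (cj t y1) = cj t y1 := hcent _ (V.cj_mem1 (subset_closure (by simp)))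
  have t1 : cj t (cj t r1) = r1 := by have := T.a2; rwa [zpow_one] at this
  have t2 : cj t (cj t y1) = y1 := by have := T.b2; rwa [zpow_zero, one_mul] at this
  have D : DE S z r1 y1 (cj t r1) (cj t y1) e1 (cj t e1) c :=
    { sd := hS
      m1 := m1
      m2 := mul_mem (mul_mem ht m1) (inv_mem ht)
      a1 := E.a1
      b1 := E.b1
      a2 := c1
      b2 := c2
      q := E.ee
      a1' := by
        have := cj_cj t e1 (cj t r1)
        rwa [c1, t1] at this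
      b1' := by
        have := cj_cj t e1 (cj t y1)
        rwa [c2, t2] at this
      a2' := by rw [cj_cj, E.a1]
      b2' := by rw [cj_cj, E.b1, cj_mul]
      q' := by rw [← cj_mul, E.ee, cj_mul, cj_zpow, h.cj_z ht] }
  exact D.false_of F' a'

end Cfsg.Agent.GH.Q2
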