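import Cfsg.Agent.GH.Q2.FourV

/-!
# GH-Q, case (II), section 4: `S / R` a four-group, first two contradictions
-/

set_option autoImplicit false

namespace Cfsg.Agent.GH.Q2.Four

open Subgroup

variable {G : Type*} [Group G]

section

variable {S : Subgroup G} {z r1 y1 r2 y2 x τ k w q : G}

theorem A0_z_ne (h : Co z r1 y1 r2 y2 0 0) {i j : ℤ} (hij : (4 : ℤ) ∣ i - j ∨ (4 : ℤ) ∣ i + j) :
    r1 ^ i * r2 ^ j ≠ z := by
  intro e
  have e2 : r1 ^ i * r2 ^ j = r1 ^ (2 : ℤ) * r2 ^ (0 : ℤ) := by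
    have := zp2 h.q1 1
    rw [mul_one, zpow_one] at this
    rw [this, zpow_zero, mul_one, e]
  rcases Sd.A0_eq h e2 with ⟨h1, h2⟩ | ⟨h1, h2⟩
  · rw [zeq1 h.q1] at h1
    rw [zeq1 h.q2] at h2
    omega
  · have h3 : r1 ^ (i - 2) = r1 ^ (2 * 1 : ℤ) := by rw [zp2 h.q1, zpow_one, h1]
    have h4 : r2 ^ (j - 0) = r2 ^ (2 * 1 : ℤ) := by rw [zp2 h.q2, zpow_one, h2]
    rw [zeq h.q1] at h3
    rw [zeq h.q2] at h4
    omega

/-- squares in `A0 y` -/
theorem A0y_sq (h : Co z r1 y1 r2 y2 0 0) (i j i' j' : ℤ) :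
    (r1 ^ i * r2 ^ j * (y1 * y2)) * (r1 ^ i' * r2 ^ j' * (y1 * y2)) =
      r1 ^ (i - i') * r2 ^ (j - j') := by
  calc (r1 ^ i * r2 ^ j * (y1 * y2)) * (r1 ^ i' * r2 ^ j' * (y1 * y2))
      = r1 ^ i * r2 ^ j * cj (y1 * y2) (r1 ^ i' * r2 ^ j') * ((y1 * y2) * (y1 * y2)) := by
        simp only [cj]; group
    _ = r1 ^ i * r2 ^ j * (r1 ^ (-i') * r2 ^ (-j')) := by rw [cj_yy h, yy_sq h, mul_one]
    _ = _ := by rw [Sd.A0_mul h, sub_eq_add_neg, sub_eq_add_neg]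

namespace VX

theorem xA0 (v : VX S z r1 y1 r2 y2 x τ) (i j : ℤ) : cj x (r1 ^ i * r2 ^ j) = r1 ^ i * r2 ^ j := by
  rw [cj_mul, cj_zpow, cj_zpow, v.x1, v.x2]

theorem xA0y (v : VX S z r1 y1 r2 y2 x τ) (i j : ℤ) :
    cj x (r1 ^ i * r2 ^ j * (y1 * y2)) = r1 ^ (i + 1) * r2 ^ (j + 1) * (y1 * y2) := by
  rw [cj_mul, v.xA0, v.x_yy, ← mul_assoc, ← zpow_one r1, ← zpow_one r2, ← zpow_mul, ← zpow_mul,
    Sd.A0_mul v.toCo]
  simp

theorem tA0 (v : VX S z r1 y1 r2 y2 x τ) (i j : ℤ) : cj τ (r1 ^ i * r2 ^ j) = r1 ^ j * r2 ^ i := by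
  rw [cj_mul, cj_zpow, cj_zpow, v.t1, v.t2, Sd.r_zpow_comm v.toCo]

theorem tA0y (v : VX S z r1 y1 r2 y2 x τ) (i j : ℤ) :
    cj τ (r1 ^ i * r2 ^ j * (y1 * y2)) = r1 ^ j * r2 ^ i * (y1 * y2) := by
  rw [cj_mul, v.tA0, v.t_yy]

theorem yx (v : VX S z r1 y1 r2 y2 x τ) : cj (y1 * y2) x = r1 * r2 * x := by
  have h1 := v.x_yy
  have h2 : x * (y1 * y2) = r1 * r2 * (y1 * y2) * x := by rw [mul_cj, h1]
  have h3 : r1 * r2 * (x * (y1 * y2)) = (y1 * y2) * x := by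
    rw [h2]
    calc r1 * r2 * (r1 * r2 * (y1 * y2) * x) = (r1 * r2) * (r1 * r2) * ((y1 * y2) * x) := by group
      _ = _ := by rw [t_sq v.toCo, one_mul]
  rw [cj_def, ← h3]
  group

/-- images of `x` under `Al` -/
theorem kx (v : VX S z r1 y1 r2 y2 x τ) (a : Al S z (r1 * r2) k) (xt : cj τ x = x) {m : G}
    (hm : m ∈ S) (hmt : m * (r1 * r2) = r1 * r2 * m) :
    cj (cj k x) m = m ∨ cj (cj k x) m = m * z := by
  have key : ∀ m ∈ S, m * (r1 * r2) = r1 * r2 * m → cj x m = m ∨ cj x m = m * (r1 * r2) := by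
    intro m hm hmt
    have inv1 : cj x⁻¹ (r1 * r2) = r1 * r2 := by
      conv_lhs => rw [← v.x_t]
      exact cj_inv_cj _ _
    have inv2 : cj τ⁻¹ (r1 * r2) = r1 * r2 := by
      conv_lhs => rw [← v.t_t]
      exact cj_inv_cj _ _
    have hm' : cj m (r1 * r2) = r1 * r2 := cj_eq_self hmt
    -- elements of `R`
    have hR : ∀ q ∈ RR r1 y1 r2 y2, cj q (r1 * r2) = r1 * r2 →
        cj x q = q ∨ cj x q = q * (r1 * r2) := by
      intro q hq hqt
      obtain ⟨i, j, e | e⟩ := R_t v.toCo hq (cj_eq_self_iff.1 hqt)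
      · left; rw [e, v.xA0]
      · right
        rw [e, v.xA0y, mul_assoc _ (y1 * y2) (r1 * r2), y_t v.toCo, ← mul_assoc _ (r1 * r2)]
        congr 1
        have := Sd.A0_mul v.toCo i j 1 1
        rw [zpow_one, zpow_one] at this
        exact this.symm
    have hxx : cj x x = x := cj_self x
    rcases v.cov m hm with h | h | h | h
    · exact hR m h hm'
    · rcases hR _ h (by rw [cj_mul_left, hm', inv1]) with e | e
      · left
        rw [cj_mul, cj_inv, hxx] at e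
        exact mul_left_cancel e
      · right
        rw [cj_mul, cj_inv, hxx, mul_assoc] at e
        exact mul_left_cancel e
    · have hxτ : cj x τ = τ := cj_comm xt
      rcases hR _ h (by rw [cj_mul_left, hm', inv2]) with e | e
      · left
        rw [cj_mul, cj_inv, hxτ] at e
        exact mul_left_cancel e
      · right
        rw [cj_mul, cj_inv, hxτ, mul_assoc] at e
        exact mul_left_cancel e
    · have hxτ : cj x τ = τ := cj_comm xt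
      have inv3 : cj (τ * x)⁻¹ (r1 * r2) = r1 * r2 := by
        rw [mul_inv_rev, cj_mul_left, inv2, inv1]
      rcases hR _ h (by rw [cj_mul_left, hm', inv3]) with e | e
      · left
        rw [cj_mul, cj_inv, cj_mul, hxx, hxτ] at e
        exact mul_left_cancel e
      · right
        rw [cj_mul, cj_inv, cj_mul, hxx, hxτ, mul_assoc] at e
        exact mul_left_cancel e
  -- transport
  have ai := a.inv
  have hz := v.zc hm
  have h1 : cj k⁻¹ m ∈ S := ai.nor m hm hmt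
  have h2 : cj k⁻¹ m * (r1 * r2) = r1 * r2 * cj k⁻¹ m := ai.comm hz
  have h3 : cj (cj k x) m = cj k (cj x (cj k⁻¹ m)) := by
    have := cj_cj k x (cj k⁻¹ m)
    rw [cj_cj_inv] at this
    exact this
  rcases key _ h1 h2 with e | e
  · left; rw [h3, e, cj_cj_inv]
  · right; rw [h3, e, cj_mul, cj_cj_inv, a.ht]

end VX

theorem kill0 (v : VX S z r1 y1 r2 y2 x τ) (a : Al S z (r1 * r2) k)
    (xx : x * x = r1 * r2 ∨ x * x = r1 * r2 * z) (xt : cj τ x = x) : False := by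
  have kx := @VX.kx G _ S z r1 y1 r2 y2 x τ k v a xt
  have hxt : x * (r1 * r2) = r1 * r2 * x := cj_eq_self_iff.1 v.x_t
  have hw : cj k x ∈ S := a.nor x v.xS hxt
  have hwt : cj k x * (r1 * r2) = r1 * r2 * cj k x := a.comm (v.zc v.xS)
  -- the square of `cj k x`
  have sq : cj k x * cj k x ≠ 1 := by
    rw [← cj_mul]
    apply cj_ne_one
    rcases xx with e | e <;> rw [e]
    · exact t_ne_one v.toCo
    · exact t_z_ne v.toCo
  generalize cj k x = w at kx hw hwt sq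
  have w1 := kx v.h1 (t_r1 v.toCo)
  have w2 := kx (mul_mem v.h2 v.h4) (y_t v.toCo)
  have w3 := kx v.xS hxt
  have w4 := kx v.tS (cj_eq_self_iff.1 v.t_t)
  -- not a swap
  have nsw : ∀ u1 j1 u2 j2 : ℤ, ¬ Sw r1 y1 r2 y2 w u1 j1 u2 j2 := by
    intro u1 j1 u2 j2 N
    have ho := N.odd1 v.toCo
    rw [N.a1] at w1
    rcases w1 with e | e
    · have := v.symm.toCo.ind_zpow (i := u1) (j := 1) (by rw [zpow_one]; exact e)
      exact v.q2.odd_ne ho this
    · have := v.symm.toCo.ind_zpow (i := u1) (j := -1) (by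
        rw [e, zpow_neg_one, rinv v.q1])
      exact v.q2.odd_ne ho this
  have wi : ∀ s ∈ S, s⁻¹ * w ∈ S := fun s hs => mul_mem (inv_mem hs) hw
  have hRR : w ∈ RR r1 y1 r2 y2 := by
    rcases v.cov w hw with h | h | h | h
    · exact h
    · exfalso
      obtain ⟨i, j, hc⟩ := v.ns_of_mem h
      have hM : ∃ u v' : ℤ, Ns r1 y1 r2 y2 (x⁻¹ * w) u (2 * i) v' (2 * j) := by
        rcases hc with ⟨_, M⟩ | ⟨_, M⟩ | ⟨_, M⟩ | ⟨_, M⟩ <;> exact ⟨_, _, M⟩
      obtain ⟨u, v', M⟩ := hM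
      have P := v.nsx.mul M
      rw [mul_inv_cancel_left, one_mul, one_mul, one_mul, one_mul] at P
      have hc : y1 * r2 ^ (2 * j + 1) = r2 ^ (2 * j + 1) * y1 :=
        (Commute.zpow_right (show Commute y1 r2 from v.yr) _)
      have e0 : cj w (y1 * y2) = r1 ^ (2 * i + 1) * r2 ^ (2 * j + 1) * (y1 * y2) := by
        rw [cj_mul, P.b1, P.b2]
        calc r1 ^ (2 * i + 1) * y1 * (r2 ^ (2 * j + 1) * y2)
            = r1 ^ (2 * i + 1) * (y1 * r2 ^ (2 * j + 1)) * y2 := by group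
          _ = _ := by rw [hc]; group
      rw [e0] at w2
      have hA := A0_ne v.toCo (i := 2 * i + 1) (j := 2 * j + 1) ⟨i, by ring⟩
      rcases w2 with e | e
      · exact hA.1 (mul_eq_right.1 e)
      · have : (y1 * y2) * z = z * (y1 * y2) := v.zc (mul_mem v.h2 v.h4)
        rw [this] at e
        exact hA.2 (mul_right_cancel e)
    · exfalso
      obtain ⟨i, j, hc⟩ := v.ns_of_mem h
      have hM : ∃ u v' : ℤ, Ns r1 y1 r2 y2 (τ⁻¹ * w) u (2 * i) v' (2 * j) := by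
        rcases hc with ⟨_, M⟩ | ⟨_, M⟩ | ⟨_, M⟩ | ⟨_, M⟩ <;> exact ⟨_, _, M⟩
      obtain ⟨u, v', M⟩ := hM
      have P := v.swt.mul_ns M
      rw [mul_inv_cancel_left] at P
      exact nsw _ _ _ _ P
    · exfalso
      obtain ⟨i, j, hc⟩ := v.ns_of_mem h
      have hM : ∃ u v' : ℤ, Ns r1 y1 r2 y2 ((τ * x)⁻¹ * w) u (2 * i) v' (2 * j) := by
        rcases hc with ⟨_, M⟩ | ⟨_, M⟩ | ⟨_, M⟩ | ⟨_, M⟩ <;> exact ⟨_, _, M⟩
      obtain ⟨u, v', M⟩ := hM
      have P := (v.swt.mul_ns v.nsx).mul_ns M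
      rw [mul_inv_cancel_left] at P
      exact nsw _ _ _ _ P
  obtain ⟨i, j, e | e⟩ := R_t v.toCo hRR hwt
  · -- `w ∈ A0`
    have hτw : cj τ w = r1 ^ j * r2 ^ i := by rw [e, v.tA0]
    have hwτ : cj w τ * τ⁻¹ = r1 ^ (i - j) * r2 ^ (j - i) := by
      have h1 : cj w τ * τ⁻¹ = w * (cj τ w)⁻¹ := by simp only [cj]; group
      rw [h1, hτw, mul_inv_rev, ← zpow_neg, ← zpow_neg, ← Sd.r_zpow_comm v.toCo, e,
        Sd.A0_mul v.toCo, ← sub_eq_add_neg, ← sub_eq_add_neg]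
    have hev : Even (i - j) := by
      by_contra hodd
      rw [Int.not_even_iff_odd] at hodd
      have hA := A0_ne v.toCo (i := i - j) (j := j - i) hodd
      rw [← hwτ] at hA
      rcases w4 with e' | e'
      · apply hA.1; rw [e', mul_inv_cancel]
      · apply hA.2
        rw [e', v.zc v.tS, mul_inv_cancel_right]
    apply sq
    rw [e, A0_sq v.toCo]
    apply z_even v.q1
    rw [Int.even_sub] at hev
    rw [Int.even_add]
    exact hev
  · -- `w ∈ A0 y`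
    have e1 : cj (r1 ^ i * r2 ^ j) x = x := cj_comm (v.xA0 i j)
    have hAt : cj (r1 ^ i * r2 ^ j) (r1 * r2) = r1 * r2 := by
      have h1 := Sd.A0_mul v.toCo i j 1 1
      have h2 := Sd.A0_mul v.toCo 1 1 i j
      rw [zpow_one, zpow_one] at h1 h2
      rw [cj_eq_self_iff, h1, h2, add_comm, add_comm j 1]
    have e2 : cj w x = r1 * r2 * x := by
      rw [e, cj_mul_left, v.yx, cj_mul, hAt, e1]
    rw [e2] at w3
    rcases w3 with e' | e'
    · exact t_ne_one v.toCo (mul_eq_right.1 e')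
    · rw [v.zc v.xS] at e'
      exact t_ne_z v.toCo (mul_right_cancel e')

/-- `r1 ^ i * r2 ^ j = 1` in terms of exponents -/
theorem A0_one4 (h : Co z r1 y1 r2 y2 0 0) {i j : ℤ} (e : r1 ^ i * r2 ^ j = 1) :
    ((4 : ℤ) ∣ i ∧ (4 : ℤ) ∣ j) ∨ ((4 : ℤ) ∣ i - 2 ∧ (4 : ℤ) ∣ j - 2) := by
  rcases Sd.A0_one h e with ⟨h1, h2⟩ | ⟨h1, h2⟩
  · rw [zeq1 h.q1] at h1
    rw [zeq1 h.q2] at h2
    exact Or.inl ⟨h1, h2⟩
  · have h3 : r1 ^ i = r1 ^ (2 * 1 : ℤ) := by rw [zp2 h.q1, zpow_one, h1]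
    have h4 : r2 ^ j = r2 ^ (2 * 1 : ℤ) := by rw [zp2 h.q2, zpow_one, h2]
    rw [zeq h.q1] at h3
    rw [zeq h.q2] at h4
    right
    omega

theorem kill1 (v : VX S z r1 y1 r2 y2 x τ) (a : Al S z (r1 * r2) k)
    (xx : x * x = r1 * r2 * z) (tt : τ * τ = z) (xt : cj τ x = x * z) : False := by
  have z2 : z = r1 ^ (2 : ℤ) * r2 ^ (0 : ℤ) := by
    have := zp2 v.q1 1
    rw [mul_one, zpow_one] at this
    rw [this, zpow_zero, mul_one]
  have xx' : x * x = r1 ^ (3 : ℤ) * r2 ^ (1 : ℤ) := by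
    have h1 := Sd.A0_mul v.toCo 1 1 2 0
    rw [← z2, zpow_one, zpow_one] at h1
    rw [xx, h1]
    norm_num
  -- involutions
  have inv : ∀ w ∈ S, w * (r1 * r2) = r1 * r2 * w → w * w = 1 → ∃ i j : ℤ,
      w = r1 ^ i * r2 ^ j ∨ w = r1 ^ i * r2 ^ j * (y1 * y2) := by
    intro w hw hwt hww
    have hw' : cj w (r1 * r2) = r1 * r2 := cj_eq_self hwt
    have inv1 : cj x⁻¹ (r1 * r2) = r1 * r2 := by
      conv_lhs => rw [← v.x_t]
      exact cj_inv_cj _ _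
    have inv2 : cj τ⁻¹ (r1 * r2) = r1 * r2 := by
      conv_lhs => rw [← v.t_t]
      exact cj_inv_cj _ _
    have gen : ∀ g : G, cj g⁻¹ (r1 * r2) = r1 * r2 → g⁻¹ * w ∈ RR r1 y1 r2 y2 →
        ∃ q : G, (∃ i j : ℤ, q = r1 ^ i * r2 ^ j ∨ q = r1 ^ i * r2 ^ j * (y1 * y2)) ∧
          cj g q * (g * g) * q = 1 := by
      intro g hg hq
      refine ⟨g⁻¹ * w, R_t v.toCo hq (cj_eq_self_iff.1 (by rw [cj_mul_left, hw', hg])), ?_⟩
      rw [← hww]
      simp only [cj]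
      group
    -- products
    have P1 : ∀ i j a b i' j' : ℤ, r1 ^ i * r2 ^ j * (r1 ^ a * r2 ^ b) * (r1 ^ i' * r2 ^ j') =
        r1 ^ (i + a + i') * r2 ^ (j + b + j') := by
      intro i j a b i' j'
      rw [Sd.A0_mul v.toCo, Sd.A0_mul v.toCo]
    have P2 : ∀ i j a b i' j' : ℤ, r1 ^ i * r2 ^ j * (y1 * y2) * (r1 ^ a * r2 ^ b) *
        (r1 ^ i' * r2 ^ j' * (y1 * y2)) = r1 ^ (i - (a + i')) * r2 ^ (j - (b + j')) := by
      intro i j a b i' j'
      rw [← A0y_sq v.toCo, ← Sd.A0_mul v.toCo]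
      group
    rcases v.cov w hw with h | h | h | h
    · exact R_t v.toCo h hwt
    · exfalso
      obtain ⟨q, ⟨i, j, e | e⟩, h1⟩ := gen x inv1 h
      · rw [e, v.xA0, xx', P1] at h1
        have := A0_one4 v.toCo h1
        omega
      · rw [e, v.xA0y, xx', P2] at h1
        have := A0_one4 v.toCo h1
        omega
    · exfalso
      obtain ⟨q, ⟨i, j, e | e⟩, h1⟩ := gen τ inv2 h
      · rw [e, v.tA0, tt, z2, P1] at h1
        have := A0_one4 v.toCo h1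
        omega
      · rw [e, v.tA0y, tt, z2, P2] at h1
        have := A0_one4 v.toCo h1
        omega
    · exfalso
      have sq : τ * x * (τ * x) = r1 ^ (3 : ℤ) * r2 ^ (1 : ℤ) := by
        calc τ * x * (τ * x) = cj τ x * (τ * τ) * x := by simp only [cj]; group
          _ = x * (z * z) * x := by rw [xt, tt]; group
          _ = r1 ^ (3 : ℤ) * r2 ^ (1 : ℤ) := by rw [v.q1.z_sq, mul_one, xx']
      obtain ⟨q, ⟨i, j, e | e⟩, h1⟩ := gen (τ * x) (by rw [mul_inv_rev, cj_mul_left, inv2, inv1]) h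
      · rw [e, cj_mul_left, v.xA0, v.tA0, sq, P1] at h1
        have := A0_one4 v.toCo h1
        omega
      · rw [e, cj_mul_left, v.xA0y, v.tA0y, sq, P2] at h1
        have := A0_one4 v.toCo h1
        omega
  have nor : ∀ m ∈ S, m * (r1 * r2) = r1 * r2 * m → m * m = 1 → ∃ i j : ℤ,
      cj k m = r1 ^ i * r2 ^ j ∨ cj k m = r1 ^ i * r2 ^ j * (y1 * y2) := by
    intro m hm hmt hmm
    exact inv _ (a.nor m hm hmt) (a.comm (v.zc hm)) (by rw [← cj_mul, hmm, cj_one])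
  have hyt := y_t v.toCo
  have hyS : y1 * y2 ∈ S := mul_mem v.h2 v.h4
  have hr : (r1 * (y1 * y2)) * (r1 * (y1 * y2)) = 1 := by
    have := A0y_sq v.toCo 1 0 1 0
    simpa using this
  obtain ⟨i, j, ha⟩ := nor _ hyS hyt (yy_sq v.toCo)
  obtain ⟨i', j', hb⟩ := nor (r1 * (y1 * y2)) (mul_mem v.h1 hyS) (by
    rw [mul_assoc, hyt, ← mul_assoc, t_r1 v.toCo, mul_assoc]) hr
  -- `cj k r1`
  have e1 : cj k r1 = cj k (r1 * (y1 * y2)) * cj k (y1 * y2) := by
    rw [← cj_mul, mul_assoc, yy_sq v.toCo, mul_one]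
  have e2 : cj k r1 * cj k r1 = r1 * r2 := by rw [← cj_mul, rr_sq v.q1, a.hz]
  have hK : ∃ i j : ℤ, cj k r1 = r1 ^ i * r2 ^ j ∨ cj k r1 = r1 ^ i * r2 ^ j * (y1 * y2) := by
    rw [e1]
    rcases ha with ha | ha <;> rcases hb with hb | hb <;> rw [ha, hb]
    · exact ⟨_, _, Or.inl (Sd.A0_mul v.toCo _ _ _ _)⟩
    · refine ⟨i' - i, j' - j, Or.inr ?_⟩
      have h1 := A0y_sq v.toCo i' j' i j
      calc r1 ^ i' * r2 ^ j' * (y1 * y2) * (r1 ^ i * r2 ^ j)
          = (r1 ^ i' * r2 ^ j' * (y1 * y2) * (r1 ^ i * r2 ^ j * (y1 * y2))) * (y1 * y2)⁻¹ := by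
            group
        _ = _ := by rw [h1, inv_eq_of_mul_eq_one_right (yy_sq v.toCo)]
    · refine ⟨i' + i, j' + j, Or.inr ?_⟩
      rw [← mul_assoc, Sd.A0_mul v.toCo]
    · exact ⟨_, _, Or.inl (A0y_sq v.toCo _ _ _ _)⟩
  obtain ⟨i, j, e | e⟩ := hK
  · rw [e, A0_sq v.toCo] at e2
    rcases v.q1.zpow_one_or (i + j) with e3 | e3 <;> rw [e3] at e2
    · exact t_ne_one v.toCo e2.symm
    · exact t_ne_z v.toCo e2.symm
  · rw [e, A0y_sq v.toCo, sub_self, sub_self] at e2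
    simp only [zpow_zero, mul_one] at e2
    exact t_ne_one v.toCo e2.symm

end

end Cfsg.Agent.GH.Q2.Four
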