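import Cfsg.Agent.GH.Q2.FourV

/-!
# GH-Q, case (II), section 4.5: the elementary abelian group `W = C_S(τ)` of order 16

`S = R ⟨x, τ⟩`, `x² = t`, `τ² = 1`, `τ.x = x z`.
-/

set_option autoImplicit false

namespace Cfsg.Agent.GH.Q2.Four

open Subgroup

variable {G : Type*} [Group G] {S : Subgroup G} {z r1 y1 r2 y2 x τ s q w w' b : G}
  {u1 j1 u2 j2 : ℤ}

theorem sq_mul {a b : G} (h : Commute a b) (ha : a * a = 1) (hb : b * b = 1) :
    a * b * (a * b) = 1 := by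
  rw [h.symm.mul_mul_mul_comm, ha, hb, mul_one]

theorem sq_zpow {a : G} (ha : a * a = 1) (n : ℤ) : a ^ n * a ^ n = 1 := by
  rw [← (Commute.refl a).mul_zpow, ha, one_zpow]

/-- `r1 ^ i * r2 ^ j` with `i ≡ j` modulo two. -/
theorem A0_W (h : Co z r1 y1 r2 y2 0 0) {i j : ℤ} (hij : Even i ↔ Even j) :
    ∃ a b : ℤ, r1 ^ i * r2 ^ j = z ^ a * (r1 * r2) ^ b := by
  rcases Int.even_or_odd i with hi | hi
  · rcases A0_even h hi (hij.1 hi) with e | e
    · exact ⟨0, 0, by rw [e]; simp⟩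
    · exact ⟨1, 0, by rw [e]; simp⟩
  · have hj : Odd j := by
      rw [← Int.not_even_iff_odd] at hi ⊢
      tauto
    rcases A0_form h hi hj with e | e
    · exact ⟨0, 1, by rw [e]; simp⟩
    · refine ⟨1, 1, ?_⟩
      rw [e, zpow_one, zpow_one]
      calc r1 * r2 * z = r1 * (z * r2) := by rw [h.q2.zr]; group
        _ = r1 * z * r2 := by group
        _ = z * (r1 * r2) := by rw [← h.q1.zr]; group

theorem A0_swap (h : Co z r1 y1 r2 y2 0 0) {i j : ℤ}
    (e : r1 ^ j * r2 ^ i = r1 ^ i * r2 ^ j ∨ r1 ^ j * r2 ^ i = r1 ^ i * r2 ^ j * z) :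
    r1 ^ j * r2 ^ i = r1 ^ i * r2 ^ j ∧ (Even i ↔ Even j) := by
  rcases e with e | e
  · exact ⟨e, ((Sd.A0_parity h e).1).symm⟩
  · exfalso
    have h1 : r1 ^ j * r2 ^ i = r1 ^ i * r2 ^ (j + 2) := by
      rw [e, zpow_add, mul_assoc]
      congr 2
      have := rr_sq h.q2
      rw [zpow_two, this]
    have h2 := Sd.A0_eq h h1
    have h3 : ∀ {r y : G} (_ : Qn z r y 0) {k : ℤ}, r ^ k = z → (4 : ℤ) ∣ k - 2 := by
      intro r y hq k hk
      rw [← zeq hq, hk, zpow_two, rr_sq hq]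
    rcases h2 with ⟨h4, h5⟩ | ⟨h4, h5⟩
    · rw [zeq1 h.q1] at h4
      rw [zeq1 h.q2] at h5
      omega
    · have h4 := h3 h.q1 h4
      have h5 := h3 h.q2 h5
      omega

namespace VX

theorem zcR (v : VX S z r1 y1 r2 y2 x τ) (hs : s ∈ S) : Commute z s := (v.zc hs).symm

/-- elements of `R` which `τ` fixes modulo `⟨z⟩`. -/
theorem R_tau (v : VX S z r1 y1 r2 y2 x τ) (hq : q ∈ RR r1 y1 r2 y2)
    (e : cj τ q = q ∨ cj τ q = q * z) :
    cj τ q = q ∧ ∃ a b c : ℤ, q = z ^ a * (r1 * r2) ^ b * (y1 * y2) ^ c := by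
  obtain ⟨i, j, hc⟩ := v.ns_of_mem hq
  have m1 : ∀ i : ℤ, r1 ^ i ∈ closure ({r1, y1} : Set G) := fun i =>
    Subgroup.zpow_mem _ (subset_closure (by simp)) _
  have m2 : ∀ i : ℤ, r2 ^ i ∈ closure ({r2, y2} : Set G) := fun i =>
    Subgroup.zpow_mem _ (subset_closure (by simp)) _
  have n1 : y1 ∈ closure ({r1, y1} : Set G) := subset_closure (by simp)
  have n2 : y2 ∈ closure ({r2, y2} : Set G) := subset_closure (by simp)
  have k1 : z ∈ closure ({r1, y1} : Set G) := by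
    have := v.q1.rzp
    rw [← this]; exact m1 _
  have k2 : z ∈ closure ({r2, y2} : Set G) := by
    have := v.q2.rzp
    rw [← this]; exact m2 _
  have A : ∀ i j : ℤ, cj τ (r1 ^ i * r2 ^ j) = r1 ^ j * r2 ^ i := by
    intro i j
    rw [cj_mul, cj_zpow, cj_zpow, v.t1, v.t2, Sd.r_zpow_comm v.toCo]
  rcases hc with ⟨e1, -⟩ | ⟨e1, -⟩ | ⟨e1, -⟩ | ⟨e1, -⟩
  · rw [e1, A] at e
    obtain ⟨h1, h2⟩ := A0_swap v.toCo e
    obtain ⟨a, b, h3⟩ := A0_W v.toCo h2
    refine ⟨by rw [e1, A, h1], a, b, 0, ?_⟩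
    rw [e1, h3, zpow_zero, mul_one]
  · exfalso
    have h1 : cj τ q = r1 ^ j * (r2 ^ i * y2) := by
      rw [e1, cj_mul, cj_mul, cj_zpow, cj_zpow, v.t1, v.t2, v.t3]
      exact (v.comm (m1 j) (mul_mem (m2 i) n2)).symm
    rw [h1, e1] at e
    have h2 : r1 ^ j = r1 ^ i * y1 ∨ r1 ^ j = r1 ^ i * y1 * z := by
      rcases e with e | e
      · rcases v.mul_eq_mul (m1 j) (mul_mem (m2 i) n2) (mul_mem (m1 i) n1) (m2 j) e with h | h
        · exact Or.inl h.1
        · exact Or.inr h.1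
      · rw [mul_assoc (r1 ^ i * y1)] at e
        rcases v.mul_eq_mul (m1 j) (mul_mem (m2 i) n2) (mul_mem (m1 i) n1)
          (mul_mem (m2 j) k2) e with h | h
        · exact Or.inl h.1
        · exact Or.inr h.1
    rcases h2 with h2 | h2
    · apply v.q1.y_notin (-i + j)
      rw [zpow_add, h2]; group
    · apply v.q1.y_notin (-i + j + 2)
      rw [zpow_add, zpow_add, h2, zpow_two, rr_sq v.q1]
      calc r1 ^ (-i) * (r1 ^ i * y1 * z) * z = y1 * (z * z) := by group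
        _ = y1 := by rw [v.q1.z_sq, mul_one]
  · exfalso
    have h1 : cj τ q = (r1 ^ j * y1) * r2 ^ i := by
      rw [e1, cj_mul, cj_mul, cj_zpow, cj_zpow, v.t1, v.t2, v.t4]
      exact (v.comm (mul_mem (m1 j) n1) (m2 i)).symm
    rw [h1, e1] at e
    have h2 : r2 ^ i = r2 ^ j * y2 ∨ r2 ^ i = r2 ^ j * y2 * z := by
      rcases e with e | e
      · rcases v.mul_eq_mul (mul_mem (m1 j) n1) (m2 i) (m1 i) (mul_mem (m2 j) n2) e with h | h
        · exact Or.inl h.2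
        · exact Or.inr h.2
      · rw [mul_assoc (r1 ^ i)] at e
        rcases v.mul_eq_mul (mul_mem (m1 j) n1) (m2 i) (m1 i)
          (mul_mem (mul_mem (m2 j) n2) k2) e with h | h
        · exact Or.inr h.2
        · left
          rw [h.2, mul_assoc, v.q1.z_sq, mul_one]
    rcases h2 with h2 | h2
    · apply v.q2.y_notin (-j + i)
      rw [zpow_add, h2]; group
    · apply v.q2.y_notin (-j + i + 2)
      rw [zpow_add, zpow_add, h2, zpow_two, rr_sq v.q2]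
      calc r2 ^ (-j) * (r2 ^ j * y2 * z) * z = y2 * (z * z) := by group
        _ = y2 := by rw [v.q1.z_sq, mul_one]
  · have hc : y1 * r2 ^ j = r2 ^ j * y1 := (v.comm n1 (m2 j))
    have h0 : q = r1 ^ i * r2 ^ j * (y1 * y2) := by
      rw [e1]
      calc r1 ^ i * y1 * (r2 ^ j * y2) = r1 ^ i * (y1 * r2 ^ j) * y2 := by group
        _ = _ := by rw [hc]; group
    have hyz : (y1 * y2) * z = z * (y1 * y2) := v.zc (mul_mem v.h2 v.h4)
    have h1 : cj τ q = r1 ^ j * r2 ^ i * (y1 * y2) := by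
      rw [h0, cj_mul, A, v.t_yy]
    have h2 : r1 ^ j * r2 ^ i = r1 ^ i * r2 ^ j ∨ r1 ^ j * r2 ^ i = r1 ^ i * r2 ^ j * z := by
      rw [h1, h0] at e
      rcases e with e | e
      · exact Or.inl (mul_right_cancel e)
      · right
        have e' : r1 ^ j * r2 ^ i * (y1 * y2) = r1 ^ i * r2 ^ j * z * (y1 * y2) := by
          rw [e, mul_assoc (r1 ^ i * r2 ^ j), hyz, mul_assoc (r1 ^ i * r2 ^ j)]
        exact mul_right_cancel e'
    obtain ⟨h3, h4⟩ := A0_swap v.toCo h2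
    obtain ⟨a, b, h5⟩ := A0_W v.toCo h4
    refine ⟨by rw [h1, h3, ← h0], a, b, 1, ?_⟩
    rw [h0, h5, zpow_one]

end VX

theorem W_form (v : VX S z r1 y1 r2 y2 x τ) (_xx : x * x = r1 * r2) (_tt : τ * τ = 1)
    (xt : cj τ x = x * z) (hw : w ∈ WW S τ) :
    ∃ a b c d : ℤ, w = z ^ a * (r1 * r2) ^ b * (y1 * y2) ^ c * τ ^ d := by
  obtain ⟨hS, hc⟩ := mem_WW.1 hw
  have hcj : cj τ w = w := cj_eq_self hc.symm
  -- nothing in `x R`
  have hx : ∀ g, cj τ g = g → x⁻¹ * g ∈ RR r1 y1 r2 y2 → False := by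
    intro g hg hm
    set q := x⁻¹ * g with hq
    have e1 : g = x * q := by rw [hq]; group
    have hqS : q ∈ S := v.R_le hm
    have e2 : x * z * cj τ q = x * q := by
      rw [← xt, ← cj_mul, ← e1, hg]
    have e3 : cj τ q = q * z := by
      have h1 : z * cj τ q = q := mul_left_cancel (by rw [← mul_assoc]; exact e2)
      have h2 : cj τ q = z * q := by
        rw [← h1, ← mul_assoc, v.q1.z_sq, one_mul]
        rw [h1]
      rw [h2, v.zc hqS]
    have e4 := (v.R_tau hm (Or.inr e3)).1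
    rw [e4] at e3
    exact v.q1.z_ne (mul_eq_left.1 e3.symm)
  rcases v.cov w hS with h | h | h | h
  · obtain ⟨-, a, b, c, e⟩ := v.R_tau h (Or.inl hcj)
    exact ⟨a, b, c, 0, by rw [zpow_zero, mul_one]; exact e⟩
  · exact (hx w hcj h).elim
  · have h1 : cj τ (τ⁻¹ * w) = τ⁻¹ * w := by rw [cj_mul, cj_inv, cj_self, hcj]
    obtain ⟨-, a, b, c, e⟩ := v.R_tau h (Or.inl h1)
    refine ⟨a, b, c, 1, ?_⟩
    have h2 : τ * (τ⁻¹ * w) = (τ⁻¹ * w) * τ := cj_eq_self_iff.1 h1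
    rw [zpow_one, ← e, ← h2]; group
  · exfalso
    apply hx (τ⁻¹ * w)
    · rw [cj_mul, cj_inv, cj_self, hcj]
    · have : x⁻¹ * (τ⁻¹ * w) = (τ * x)⁻¹ * w := by group
      rw [this]; exact h

theorem W_gen (v : VX S z r1 y1 r2 y2 x τ) :
    Commute z (r1 * r2) ∧ Commute z (y1 * y2) ∧ Commute z τ ∧
      Commute (r1 * r2) (y1 * y2) ∧ Commute (r1 * r2) τ ∧ Commute (y1 * y2) τ :=
  ⟨v.zcR (mul_mem v.h1 v.h3), v.zcR (mul_mem v.h2 v.h4), v.zcR v.tS,
    (show (r1 * r2) * (y1 * y2) = (y1 * y2) * (r1 * r2) from (y_t v.toCo).symm),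
    (show (r1 * r2) * τ = τ * (r1 * r2) from (cj_eq_self_iff.1 v.t_t).symm),
    (show (y1 * y2) * τ = τ * (y1 * y2) from (cj_eq_self_iff.1 v.t_yy).symm)⟩

theorem W_sq (v : VX S z r1 y1 r2 y2 x τ) (xx : x * x = r1 * r2) (tt : τ * τ = 1)
    (xt : cj τ x = x * z) (hw : w ∈ WW S τ) : w * w = 1 := by
  obtain ⟨a, b, c, d, rfl⟩ := W_form v xx tt xt hw
  obtain ⟨c1, c2, c3, c4, c5, c6⟩ := W_gen v
  refine sq_mul ?_ (sq_mul ?_ (sq_mul ?_ (sq_zpow v.q1.z_sq a) (sq_zpow (t_sq v.toCo) b))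
    (sq_zpow (yy_sq v.toCo) c)) (sq_zpow tt d)
  · exact ((c3.zpow_zpow a d).mul_left (c5.zpow_zpow b d)).mul_left (c6.zpow_zpow c d)
  · exact (c2.zpow_zpow a c).mul_left (c4.zpow_zpow b c)
  · exact c1.zpow_zpow a b

theorem W_comm (v : VX S z r1 y1 r2 y2 x τ) (xx : x * x = r1 * r2) (tt : τ * τ = 1)
    (xt : cj τ x = x * z) (hw : w ∈ WW S τ) (hw' : w' ∈ WW S τ) : w * w' = w' * w := by
  have h1 := W_sq v xx tt xt (mul_mem hw hw')
  have h2 := W_sq v xx tt xt hw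
  have h3 := W_sq v xx tt xt hw'
  calc w * w' = w * (w * w' * (w * w')) * w' := by rw [h1, mul_one]
    _ = (w * w) * (w' * w) * (w' * w') := by group
    _ = w' * w := by rw [h2, h3, one_mul, mul_one]

/-- to normalize `W` it suffices to map the generators into `W`. -/
theorem W_nor_of (v : VX S z r1 y1 r2 y2 x τ) (xx : x * x = r1 * r2) (tt : τ * τ = 1)
    (xt : cj τ x = x * z) (h1 : cj b z ∈ WW S τ) (h2 : cj b (r1 * r2) ∈ WW S τ)
    (h3 : cj b (y1 * y2) ∈ WW S τ) (h4 : cj b τ ∈ WW S τ) (hw : w ∈ WW S τ) :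
    cj b w ∈ WW S τ := by
  obtain ⟨a, b', c, d, rfl⟩ := W_form v xx tt xt hw
  rw [cj_mul, cj_mul, cj_mul, cj_zpow, cj_zpow, cj_zpow, cj_zpow]
  exact mul_mem (mul_mem (mul_mem (Subgroup.zpow_mem _ h1 _) (Subgroup.zpow_mem _ h2 _))
    (Subgroup.zpow_mem _ h3 _)) (Subgroup.zpow_mem _ h4 _)

theorem W_nor_z (v : VX S z r1 y1 r2 y2 x τ) (hw : w ∈ WW S τ) : cj z w ∈ WW S τ := by
  rw [cj_eq_self (v.zc (mem_WW.1 hw).1).symm]
  exact hw

theorem W_nor_r2 (v : VX S z r1 y1 r2 y2 x τ) (xx : x * x = r1 * r2) (tt : τ * τ = 1)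
    (xt : cj τ x = x * z) (hw : w ∈ WW S τ) : cj r2 w ∈ WW S τ := by
  refine W_nor_of v xx tt xt ?_ ?_ ?_ ?_ hw
  · rw [v.cj_z v.h3]; exact v.zW
  · rw [cj_eq_self (t_r2 v.toCo)]; exact v.rW
  · have h1 : cj r2 y1 = y1 := cj_eq_self v.yr.symm
    have h2 : cj r2 y2 = z * y2 := by
      have := v.q2.cj_r_y
      rw [zpow_two, rr_sq v.q2] at this
      exact this
    have h3 : cj r2 (y1 * y2) = z * (y1 * y2) := by
      rw [cj_mul, h1, h2, ← mul_assoc, ← v.q1.zy, mul_assoc]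
    rw [h3]; exact mul_mem v.zW v.yW
  · have h1 : cj r2 τ = r2 * r1⁻¹ * τ := by
      have h2 : cj τ r2⁻¹ = r1⁻¹ := by rw [cj_inv, v.t2]
      rw [← h2]; simp [cj, mul_assoc]
    rw [h1, rinv v.q1]
    have h3 : r2 * (r1 * z) = r1 * r2 * z := by rw [← mul_assoc, ← v.rr]
    rw [h3]
    exact mul_mem (mul_mem v.rW v.zW) v.tW

theorem W_nor_y2 (v : VX S z r1 y1 r2 y2 x τ) (xx : x * x = r1 * r2) (tt : τ * τ = 1)
    (xt : cj τ x = x * z) (hw : w ∈ WW S τ) : cj y2 w ∈ WW S τ := by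
  have hyi : ∀ {r y : G}, Qn z r y 0 → y⁻¹ = y * z := by
    intro r y hq
    rw [inv_eq_iff_mul_eq_one, ← mul_assoc, hq.ys, hq.z_sq]
  refine W_nor_of v xx tt xt ?_ ?_ ?_ ?_ hw
  · rw [v.cj_z v.h4]; exact v.zW
  · have h1 : cj y2 r1 = r1 := cj_eq_self v.ry.symm
    have h2 : cj y2 r2 = r2 * z := by rw [v.q2.inv, rinv v.q2]
    rw [cj_mul, h1, h2, ← mul_assoc]
    exact mul_mem v.rW v.zW
  · have h1 : cj y2 y1 = y1 := cj_eq_self v.yy.symm
    rw [cj_mul, h1, cj_self]; exact v.yW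
  · have h1 : cj y2 τ = y2 * y1⁻¹ * τ := by
      have h2 : cj τ y2⁻¹ = y1⁻¹ := by rw [cj_inv, v.t4]
      rw [← h2]; simp [cj, mul_assoc]
    rw [h1, hyi v.q1]
    have h3 : y2 * (y1 * z) = y1 * y2 * z := by rw [← mul_assoc, ← v.yy]
    rw [h3]
    exact mul_mem (mul_mem v.yW v.zW) v.tW

/-- `Q₂` normalizes `W`. -/
theorem W_nor (v : VX S z r1 y1 r2 y2 x τ) (xx : x * x = r1 * r2) (tt : τ * τ = 1)
    (xt : cj τ x = x * z) (hb : b ∈ closure ({r2, y2} : Set G)) (hw : w ∈ WW S τ) :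
    cj b w ∈ WW S τ := by
  have hp : ∀ (j : ℤ) {w : G}, w ∈ WW S τ → cj (r2 ^ j) w ∈ WW S τ := by
    intro j w hw
    rcases Int.even_or_odd j with hj | hj
    · rcases even_zpow v.q2 hj with e | e <;> rw [e]
      · rw [cj_one_left]; exact hw
      · exact W_nor_z v hw
    · rcases odd_zpow v.q2 hj with e | e <;> rw [e]
      · exact W_nor_r2 v xx tt xt hw
      · rw [cj_mul_left]; exact W_nor_r2 v xx tt xt (W_nor_z v hw)
  obtain ⟨j, rfl | rfl⟩ := v.q2.mem_iff.1 hb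
  · exact hp j hw
  · rw [cj_mul_left]
    exact hp j (W_nor_y2 v xx tt xt hw)

/-- swap involutions are in `W` and have centralizer `W`. -/
theorem W_swap (v : VX S z r1 y1 r2 y2 x τ) (xx : x * x = r1 * r2) (tt : τ * τ = 1)
    (xt : cj τ x = x * z) (hs : s ∈ S) (N : Sw r1 y1 r2 y2 s u1 j1 u2 j2) (ss : s * s = 1) :
    s ∈ WW S τ ∧ ∀ w ∈ S, w * s = s * w → w ∈ WW S τ := by
  have key : ∃ b ∈ closure ({r2, y2} : Set G), s = cj b⁻¹ τ ∨ s = cj b⁻¹ τ * z := by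
    rcases v.cov s hs with h | h | h | h
    · exact (Sd.not_sw_of_mem v.toCo h N).elim
    · exfalso
      obtain ⟨i, j, hc⟩ := v.ns_of_mem h
      have hN : ∃ a b c d : ℤ, Ns r1 y1 r2 y2 s a b c d := by
        rcases hc with ⟨_, M⟩ | ⟨_, M⟩ | ⟨_, M⟩ | ⟨_, M⟩ <;>
        · have := v.nsx.mul M
          rw [mul_inv_cancel_left] at this
          exact ⟨_, _, _, _, this⟩
      obtain ⟨_, _, _, _, M⟩ := hN
      exact M.not_sw N v.toCo
    · obtain ⟨-, b, hb, h1⟩ := v.toSd.sw_coset v.tS v.swt (Or.inl tt) h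
        (by rw [mul_inv_cancel_left]; exact ss)
      rw [mul_inv_cancel_left] at h1
      refine ⟨b, hb, ?_⟩
      rw [cj_def, inv_inv]
      exact h1
    · exfalso
      have hxr : x * r2 = r2 * x := cj_eq_self_iff.1 v.x2
      have hzx : x * z = z * x := v.zc v.xS
      have sq : (τ * (x * r1)) * (τ * (x * r1)) = z := by
        have h1 : τ * (x * r1) * (τ * (x * r1)) = cj τ (x * r1) * (τ * τ) * (x * r1) := by
          simp [cj]; group
        rw [h1, cj_mul, xt, v.t1, tt, mul_one]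
        calc x * z * r2 * (x * r1) = (x * z) * (r2 * x) * r1 := by group
          _ = z * (x * x) * (r2 * r1) := by rw [hzx, ← hxr]; group
          _ = z * ((r1 * r2) * (r1 * r2)) := by rw [xx, ← v.rr]; group
          _ = z := by rw [t_sq v.toCo, mul_one]
      have m : τ * (x * r1) ∈ S := mul_mem v.tS (mul_mem v.xS v.h1)
      have hr : r1⁻¹ * ((τ * x)⁻¹ * s) ∈ RR r1 y1 r2 y2 := mul_mem (inv_mem v.m1) h
      have e1 : τ * (x * r1) * (r1⁻¹ * ((τ * x)⁻¹ * s)) = s := by group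
      have M := v.swt.mul_ns (v.nsx.mul (v.toCo.ns_r1 1))
      rw [zpow_one] at M
      have h2 := v.toSd.sw_coset m M (Or.inr sq) hr (by rw [e1]; exact ss)
      rw [sq] at h2
      exact v.q1.z_ne h2.1
  obtain ⟨b, hb, h1⟩ := key
  have hbi : b⁻¹ ∈ closure ({r2, y2} : Set G) := inv_mem hb
  have hbS : b ∈ S := by
    have : closure ({r2, y2} : Set G) ≤ S := by
      rw [closure_le]
      rintro g (rfl | rfl)
      · exact v.h3
      · exact v.h4
    exact this hb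
  constructor
  · rcases h1 with h1 | h1 <;> rw [h1]
    · exact W_nor v xx tt xt hbi v.tW
    · exact mul_mem (W_nor v xx tt xt hbi v.tW) v.zW
  · intro w hw hws
    have h2 : w * cj b⁻¹ τ = cj b⁻¹ τ * w := by
      rcases h1 with h1 | h1
      · rw [← h1]; exact hws
      · rw [h1] at hws
        have hc : w * cj b⁻¹ τ * z = cj b⁻¹ τ * w * z := by
          calc w * cj b⁻¹ τ * z = w * (cj b⁻¹ τ * z) := by group
            _ = cj b⁻¹ τ * (z * w) := by rw [hws]; group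
            _ = _ := by rw [← v.zc hw]; group
        exact mul_right_cancel hc
    have h3 : cj b w * τ = τ * cj b w := by
      have := congrArg (cj b) h2
      rw [cj_mul, cj_mul, cj_cj_inv] at this
      exact this
    have h4 : cj b w ∈ WW S τ :=
      mem_WW.2 ⟨mul_mem (mul_mem hbS hw) (inv_mem hbS), h3⟩
    have h5 := W_nor v xx tt xt hbi h4
    rwa [cj_inv_cj] at h5

end Cfsg.Agent.GH.Q2.Four
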