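import Cfsg.Agent.GH.Q2.FourV

/-!
# GH-Q, case (II), section 4: `S / R` a four-group, a conjugate of `C_S(τ)` contains a swap
-/

set_option autoImplicit false

namespace Cfsg.Agent.GH.Q2.Four

open Subgroup

variable {G : Type*} [Group G]

section count

theorem card_two_mul_le {K H : Subgroup G} [Finite H] (h : K < H) :
    2 * Nat.card K ≤ Nat.card H := by
  have hd := Subgroup.card_dvd_of_le h.le
  obtain ⟨c, hc⟩ := hd
  have hpos : 0 < Nat.card H := Nat.card_pos
  have hc0 : c ≠ 0 := by rintro rfl; omega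
  have hc1 : c ≠ 1 := by
    rintro rfl
    rw [mul_one] at hc
    exact h.ne (Subgroup.eq_of_le_of_card_ge h.le hc.le)
  have : 2 ≤ c := by omega
  rw [hc, mul_comm]
  exact Nat.mul_le_mul_left _ this

theorem card_le_two_mul {K H : Subgroup G} [Finite H] (hK : K ≤ H)
    (h : ∀ a ∈ H, ∀ b ∈ H, a ∉ K → b ∉ K → a * b ∈ K) :
    Nat.card H ≤ 2 * Nat.card K := by
  by_cases hh : H ≤ K
  · have : H = K := le_antisymm hh hK
    rw [this]; omega
  · obtain ⟨a, haH, haK⟩ := SetLike.not_le_iff_exists.1 hh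
    have h2 : K.relIndex H = 2 := by
      rw [Subgroup.relIndex, Subgroup.index_eq_two_iff]
      refine ⟨⟨a, haH⟩, ?_⟩
      rintro ⟨b, hb⟩
      rw [mem_subgroupOf, mem_subgroupOf]
      change Xor (b * a ∈ K) (b ∈ K)
      by_cases hbK : b ∈ K
      · right
        exact ⟨hbK, fun hba => haK ((mul_mem_cancel_left hbK).1 hba)⟩
      · left
        exact ⟨h b hb a haH hbK haK, hbK⟩
    have h3 := relIndex_mul_relIndex ⊥ K H bot_le hK
    rw [h2, relIndex_bot_left, relIndex_bot_left] at h3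
    omega

end count

section

variable {S : Subgroup G} {z r1 y1 r2 y2 x τ k w q : G}

theorem W_card [Finite S] (v : VX S z r1 y1 r2 y2 x τ) : 16 ≤ Nat.card (WW S τ) := by
  have hWS : WW S τ ≤ S := inf_le_left
  have : Finite (WW S τ) := Finite.Set.subset (S : Set G) hWS
  -- the chain
  set K3 : Subgroup G := WW S τ ⊓ RR r1 y1 r2 y2 with hK3
  set K2 : Subgroup G := K3 ⊓ centralizer ({r1} : Set G) with hK2
  set K1 : Subgroup G := zpowers z with hK1
  have : Finite K3 := Finite.Set.subset (WW S τ : Set G) inf_le_left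
  have : Finite K2 := Finite.Set.subset (K3 : Set G) inf_le_left
  have c3 : K3 < WW S τ := by
    refine lt_of_le_of_ne inf_le_left ?_
    intro e
    have h1 : τ ∈ K3 := e.symm ▸ v.tW
    obtain ⟨i, j, hc⟩ := v.ns_of_mem h1.2
    have hM : ∃ a b c d : ℤ, Ns r1 y1 r2 y2 τ a b c d := by
      rcases hc with ⟨_, M⟩ | ⟨_, M⟩ | ⟨_, M⟩ | ⟨_, M⟩ <;> exact ⟨_, _, _, _, M⟩
    obtain ⟨_, _, _, _, M⟩ := hM
    exact M.not_sw v.swt v.toCo
  have c2 : K2 < K3 := by
    refine lt_of_le_of_ne inf_le_left ?_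
    intro e
    have h1 : y1 * y2 ∈ K3 := ⟨v.yW, mul_mem v.m2 v.m4⟩
    rw [← e] at h1
    have h2 := mem_centralizer_singleton_iff.1 h1.2
    have h3 : cj (y1 * y2) r1 = r1⁻¹ := by
      have := cj_yy v.toCo 1 0
      simpa using this
    rw [cj_eq_self h2] at h3
    exact v.q1.r_ne_inv h3
  have tK2 : r1 * r2 ∈ K2 :=
    ⟨⟨v.rW, mul_mem v.m1 v.m3⟩, mem_centralizer_singleton_iff.2 (t_r1 v.toCo).symm⟩
  have zK2 : z ∈ K2 :=
    ⟨⟨v.zW, v.mz⟩, mem_centralizer_singleton_iff.2 v.q1.zr⟩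
  have c1 : K1 < K2 := by
    refine lt_of_le_of_ne ?_ ?_
    · rw [hK1, zpowers_le]
      exact zK2
    · intro e
      rw [← e, hK1, mem_zpowers_iff] at tK2
      obtain ⟨n, hn⟩ := tK2
      rcases v.q1.zpow_one_or n with h1 | h1 <;> rw [h1] at hn
      · exact t_ne_one v.toCo hn.symm
      · exact t_ne_z v.toCo hn.symm
  have : Finite K1 := Finite.Set.subset (K2 : Set G) c1.le
  have c0 : (⊥ : Subgroup G) < K1 := by
    rw [bot_lt_iff_ne_bot, hK1, Ne, zpowers_eq_bot]
    exact v.q1.z_ne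
  have e0 := card_two_mul_le c0
  have e1 := card_two_mul_le c1
  have e2 := card_two_mul_le c2
  have e3 := card_two_mul_le c3
  rw [Subgroup.card_bot] at e0
  omega

/-- If the conjugate `E = W ^ g ≤ S` contained no swap, it would have at most eight elements. -/
theorem W_count [Finite S] (v : VX S z r1 y1 r2 y2 x τ)
    (hsq : ∀ w ∈ WW S τ, w * w = 1) (hcomm : ∀ w ∈ WW S τ, ∀ w' ∈ WW S τ, w * w' = w' * w)
    (g : G) (hg : ∀ w ∈ WW S τ, cj g w ∈ S) :
    ∃ w ∈ WW S τ, ∃ u1 j1 u2 j2 : ℤ, Sw r1 y1 r2 y2 (cj g w) u1 j1 u2 j2 := by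
  by_contra hno
  push Not at hno
  have h := v.toSd
  -- `E`
  set E : Subgroup G := (WW S τ).map (MulAut.conj g).toMonoidHom with hE
  have hEm : ∀ e ∈ E, ∃ w ∈ WW S τ, cj g w = e := by
    intro e he
    obtain ⟨w, hw, hwe⟩ := mem_map.1 he
    exact ⟨w, hw, by rw [← hwe]; simp [cj]⟩
  have hES : ∀ e ∈ E, e ∈ S := by
    intro e he
    obtain ⟨w, hw, rfl⟩ := hEm e he
    exact hg w hw
  have hEsq : ∀ e ∈ E, e * e = 1 := by
    intro e he
    obtain ⟨w, hw, rfl⟩ := hEm e he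
    rw [← cj_mul, hsq w hw, cj_one]
  have hEc : ∀ e ∈ E, ∀ f ∈ E, e * f = f * e := by
    intro e he f hf
    obtain ⟨w, hw, rfl⟩ := hEm e he
    obtain ⟨w', hw', rfl⟩ := hEm f hf
    rw [← cj_mul, ← cj_mul, hcomm w hw w' hw']
  have hEN : ∀ e ∈ E, ∃ u1 j1 u2 j2 : ℤ, Ns r1 y1 r2 y2 e u1 j1 u2 j2 := by
    intro e he
    obtain ⟨w, hw, rfl⟩ := hEm e he
    rcases h.act _ (hg w hw) with h1 | ⟨_, u1, j1, u2, j2, N⟩
    · exact h1
    · exact (hno w hw _ _ _ _ N).elim
  have hEcard : 16 ≤ Nat.card E := by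
    have : Nat.card E = Nat.card (WW S τ) := by
      rw [hE]
      exact (Nat.card_congr ((WW S τ).equivMapOfInjective _
        (MulAut.conj g).injective).toEquiv).symm
    rw [this]
    exact W_card v
  have : Finite E := Finite.Set.subset (S : Set G) hES
  set E1 : Subgroup G := E ⊓ centralizer ({r1} : Set G) with hE1
  set E2 : Subgroup G := E1 ⊓ centralizer ({r2} : Set G) with hE2
  have : Finite E1 := Finite.Set.subset (E : Set G) inf_le_left
  have : Finite E2 := Finite.Set.subset (E1 : Set G) inf_le_left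
  have two1 : ∀ e ∈ E, ∀ f ∈ E, cj e r1 ≠ r1 → cj f r1 ≠ r1 → cj (e * f) r1 = r1 := by
    intro e he f hf h1 h2
    obtain ⟨u1, j1, u2, j2, N⟩ := hEN e he
    obtain ⟨v1, k1, v2, k2, M⟩ := hEN f hf
    rw [N.a1] at h1
    rw [M.a1] at h2
    rw [(N.mul M).a1]
    apply zpow_plus h.q1
    have p1 := odd_mod (N.odd1 h.toCo)
    have p2 := odd_mod (M.odd1 h.toCo)
    rcases p1 with p1 | p1
    · exact absurd (zpow_plus h.q1 p1) h1
    rcases p2 with p2 | p2
    · exact absurd (zpow_plus h.q1 p2) h2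
    obtain ⟨a, ha⟩ := p1
    obtain ⟨b, hb⟩ := p2
    have e1 : u1 = 4 * a - 1 := by linarith
    have e2 : v1 = 4 * b - 1 := by linarith
    exact ⟨4 * a * b - a - b, by rw [e1, e2]; ring⟩
  have two2 : ∀ e ∈ E, ∀ f ∈ E, cj e r2 ≠ r2 → cj f r2 ≠ r2 → cj (e * f) r2 = r2 := by
    intro e he f hf h1 h2
    obtain ⟨u1, j1, u2, j2, N⟩ := hEN e he
    obtain ⟨v1, k1, v2, k2, M⟩ := hEN f hf
    rw [N.a2] at h1
    rw [M.a2] at h2
    rw [(N.mul M).a2]
    apply zpow_plus h.q2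
    have p1 := odd_mod (N.odd2 h.toCo)
    have p2 := odd_mod (M.odd2 h.toCo)
    rcases p1 with p1 | p1
    · exact absurd (zpow_plus h.q2 p1) h1
    rcases p2 with p2 | p2
    · exact absurd (zpow_plus h.q2 p2) h2
    obtain ⟨a, ha⟩ := p1
    obtain ⟨b, hb⟩ := p2
    have e1 : u2 = 4 * a - 1 := by linarith
    have e2 : v2 = 4 * b - 1 := by linarith
    exact ⟨4 * a * b - a - b, by rw [e1, e2]; ring⟩
  have memc : ∀ {e r : G}, e ∈ centralizer ({r} : Set G) ↔ cj e r = r := by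
    intro e r
    rw [mem_centralizer_singleton_iff, cj_eq_self_iff]
  have c1 : Nat.card E ≤ 2 * Nat.card E1 := by
    apply card_le_two_mul inf_le_left
    intro a ha b hb h1 h2
    refine ⟨mul_mem ha hb, memc.2 (two1 a ha b hb ?_ ?_)⟩
    · exact fun h3 => h1 ⟨ha, memc.2 h3⟩
    · exact fun h3 => h2 ⟨hb, memc.2 h3⟩
  have c2 : Nat.card E1 ≤ 2 * Nat.card E2 := by
    apply card_le_two_mul inf_le_left
    intro a ha b hb h1 h2
    refine ⟨mul_mem ha hb, memc.2 (two2 a ha.1 b hb.1 ?_ ?_)⟩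
    · exact fun h3 => h1 ⟨ha, memc.2 h3⟩
    · exact fun h3 => h2 ⟨hb, memc.2 h3⟩
  -- `E2 ≤ U`
  have hU : ∀ e ∈ E2, e = 1 ∨ e = z ∨ e = r1 * r2 ∨ e = r1 * r2 * z := by
    intro e he
    have heE : e ∈ E := he.1.1
    have a1 := memc.1 he.1.2
    have a2 := memc.1 he.2
    obtain ⟨u1, j1, u2, j2, N⟩ := hEN e heE
    obtain ⟨i, j, hij, p1, p2⟩ := ns_sq h (hES e heE) N
    rw [hEsq e heE] at hij
    have hi := A0_ne h.toCo (i := i) (j := j)
    have ei : ¬ Odd i := fun ho => (hi ho).1 hij.symm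
    have ej : ¬ Odd j := by
      intro ho
      have := Sd.A0_parity h.toCo (i := 0) (j := 0) (k := i) (l := j) (by simpa using hij)
      rw [← Int.not_even_iff_odd] at ho
      exact ho (this.2.1 Even.zero)
    have s1 : (4 : ℤ) ∣ u1 - 1 := by
      have : r1 ^ u1 = r1 ^ (1 : ℤ) := by rw [zpow_one, ← N.a1, a1]
      exact (zeq h.q1).1 this
    have s2 : (4 : ℤ) ∣ u2 - 1 := by
      have : r2 ^ u2 = r2 ^ (1 : ℤ) := by rw [zpow_one, ← N.a2, a2]
      exact (zeq h.q2).1 this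
    have hR : e ∈ RR r1 y1 r2 y2 := by
      apply h.inR e (hES e heE) _ _ _ _ N
      · rw [← Int.not_odd_iff_even]; tauto
      · rw [← Int.not_odd_iff_even]; tauto
    obtain ⟨i, j, hh⟩ := R_cen h.toCo hR a1 a2
    have h2 := hEsq e heE
    rw [hh, A0_sq h.toCo] at h2
    have hev : Even (i + j) := by
      rcases h.q1.z_cases (i + j) with ⟨_, h3⟩ | ⟨h3, _⟩
      · exact h3
      · exact absurd (h3.symm.trans h2) h.q1.z_ne
    rw [Int.even_add] at hev
    rw [hh]
    rcases Int.even_or_odd i with h3 | h3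
    · rcases A0_even h.toCo h3 (hev.1 h3) with h4 | h4
      · exact Or.inl h4
      · exact Or.inr (Or.inl h4)
    · have h5 : Odd j := by
        rw [← Int.not_even_iff_odd] at h3 ⊢
        tauto
      rcases A0_form h.toCo h3 h5 with h4 | h4
      · exact Or.inr (Or.inr (Or.inl h4))
      · exact Or.inr (Or.inr (Or.inr h4))
  have hE2card : Nat.card E2 ≤ 4 := by
    have h1 : (E2 : Set G) ⊆ ({1, z, r1 * r2, r1 * r2 * z} : Set G) := by
      intro e he
      have := hU e he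
      simpa using this
    have h2 := Set.ncard_le_ncard h1 (Set.toFinite _)
    have h3 : ({1, z, r1 * r2, r1 * r2 * z} : Set G).ncard ≤ 4 := by
      refine (Set.ncard_insert_le _ _).trans ?_
      refine Nat.succ_le_succ ((Set.ncard_insert_le _ _).trans ?_)
      exact Nat.succ_le_succ ((Set.ncard_insert_le _ _).trans (by rw [Set.ncard_singleton]))
    have h4 : Nat.card E2 = (E2 : Set G).ncard := rfl
    omega
  have htE : r1 * r2 ∈ E := by
    by_contra htE
    have h1 : (E2 : Set G) ⊆ ({1, z, r1 * r2 * z} : Set G) := by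
      intro e he
      rcases hU e he with h1 | h1 | h1 | h1
      · simp [h1]
      · simp [h1]
      · exact absurd (h1 ▸ he.1.1) htE
      · simp [h1]
    have h2 := Set.ncard_le_ncard h1 (Set.toFinite _)
    have h3 : ({1, z, r1 * r2 * z} : Set G).ncard ≤ 3 := by
      refine (Set.ncard_insert_le _ _).trans ?_
      exact Nat.succ_le_succ ((Set.ncard_insert_le _ _).trans (by rw [Set.ncard_singleton]))
    have h4 : Nat.card E2 = (E2 : Set G).ncard := rfl
    omega
  -- signs are equal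
  have hle : E1 ≤ E2 := by
    intro e he
    refine ⟨he, memc.2 ?_⟩
    obtain ⟨u1, j1, u2, j2, N⟩ := hEN e he.1
    have hs := comm_t h.toCo N (hEc e he.1 _ htE)
    have a1 := memc.1 he.2
    have s1 : (4 : ℤ) ∣ u1 - 1 := by
      have : r1 ^ u1 = r1 ^ (1 : ℤ) := by rw [zpow_one, ← N.a1, a1]
      exact (zeq h.q1).1 this
    rw [N.a2]
    apply zpow_plus h.q2
    omega
  have hE12 : E1 = E2 := le_antisymm hle inf_le_left
  have : Nat.card E1 = Nat.card E2 := by rw [← hE12]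
  omega

end

end Cfsg.Agent.GH.Q2.Four
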