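import Cfsg.Agent.GH.Q2.FourX
import Cfsg.Agent.GH.Q2.FourD8
import Cfsg.Agent.GH.Q2.FourV1
import Cfsg.Agent.GH.Q2.FourV2
import Cfsg.Agent.GH.Q2.FourV3

/-!
# GH-Q, case (II), section 4: two quaternion groups of order eight, `t = r₁ r₂` conjugate to `z`
-/

set_option autoImplicit false

namespace Cfsg.Agent.GH.Q2.Four

open Subgroup

variable {G : Type*} [Group G]

/-- **Section 4.** -/
theorem four {S : Subgroup G} [Finite S] {z r1 y1 r2 y2 : G} (h : Sd S z r1 y1 r2 y2 0 0)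
    (F : Fu S z r1 y1 r2 y2) {k : G} (a : Al S z (r1 * r2) k)
    (hx : ∀ a ∈ RR r1 y1 r2 y2, a * a = 1 → a ≠ 1 → a ≠ z → ∃ c : G, cj c z = z ∧
      cj c a = r1 * r2 ∧ ∀ w ∈ S, w * a = a * w → cj c w ∈ S) : Tg S z := by
  refine four_aux ?_ ?_ ?_ ?_ h F a hx
  · intro r1 y1 r2 y2 x τ k v a xx xt
    exact kill0 v a xx xt
  · intro r1 y1 r2 y2 x τ k v a xx tt xt
    exact kill1 v a xx tt xt
  · intro r1 y1 r2 y2 x τ k v F a H xx tt xt
    exact kill2_aux v F a H xx tt xt (fun w hw => W_form v xx tt xt hw)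
      (fun w hw => W_sq v xx tt xt hw) (fun w hw w' hw' => W_comm v xx tt xt hw hw')
      (fun s hs u1 j1 u2 j2 N ss => W_swap v xx tt xt hs N ss)
      (fun g hg => W_count v (fun w hw => W_sq v xx tt xt hw)
        (fun w hw w' hw' => W_comm v xx tt xt hw hw') g hg)
  · intro r1 y1 r2 y2 k h F a e he u1 j1 u2 j2 N o1 o2 w hw v1 k1 v2 k2 W
    exact four_d8 h F a he N o1 o2 hw W

end Cfsg.Agent.GH.Q2.Four
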