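import Cfsg.Agent.GH.Q2.NF

/-!
# GH-Q, case (II), section 3: `z ~ t`, `n₁ ≥ 1`  (blueprints/GH-Q2-helper113.md)
-/

set_option autoImplicit false

namespace Cfsg.Agent.GH.Q2.Three

open Subgroup Cfsg.Agent.GH.Q2

variable {G : Type*} [Group G]

/-! ### arithmetic -/

theorem four_of_eight {m : ℤ} (h : (8 : ℤ) ∣ m * m) : (4 : ℤ) ∣ m := by
  obtain ⟨c, hc⟩ := h
  have h1 : Even m := by
    have : Even (m * m) := ⟨4 * c, by rw [hc]; ring⟩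
    rcases Int.even_mul.1 this with h | h <;> exact h
  obtain ⟨k, rfl⟩ := h1
  have h2 : k * k = 2 * c := by linarith
  have h3 : Even k := by
    have : Even (k * k) := ⟨c, by rw [h2]; ring⟩
    rcases Int.even_mul.1 this with h | h <;> exact h
  obtain ⟨l, rfl⟩ := h3
  exact ⟨l, by ring⟩

theorem cj_eq_one_or {s w z : G} (h : cj s w = w ∨ cj s w = w * z) : s * w = w * s ∨
    s * w = w * z * s := by
  rcases h with h | h
  · left; exact cj_eq_self_iff.1 h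
  · right; rw [← h]; simp [cj]

/-! ### `A₀` -/

/-- Membership in `A₀ = ⟨r₁, r₂⟩`. -/
def InA (r1 r2 w : G) : Prop := ∃ i j : ℤ, w = r1 ^ i * r2 ^ j

section A

variable {S : Subgroup G} {z r1 y1 r2 y2 : G} {n1 n2 : ℕ} (h : Co z r1 y1 r2 y2 n1 n2)

include h

theorem A_comm {w w' : G} (h1 : InA r1 r2 w) (h2 : InA r1 r2 w') : w * w' = w' * w := by
  obtain ⟨i, j, rfl⟩ := h1
  obtain ⟨k, l, rfl⟩ := h2
  rw [Sd.A0_mul h, Sd.A0_mul h, add_comm i, add_comm j]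

theorem A_mul {w w' : G} (h1 : InA r1 r2 w) (h2 : InA r1 r2 w') : InA r1 r2 (w * w') := by
  obtain ⟨i, j, rfl⟩ := h1
  obtain ⟨k, l, rfl⟩ := h2
  exact ⟨_, _, Sd.A0_mul h _ _ _ _⟩

theorem A_inv {w : G} (h1 : InA r1 r2 w) : InA r1 r2 w⁻¹ := by
  obtain ⟨i, j, rfl⟩ := h1
  refine ⟨-i, -j, ?_⟩
  rw [inv_eq_iff_mul_eq_one, Sd.A0_mul h]
  simp

theorem A_zpow (i j k : ℤ) : (r1 ^ i * r2 ^ j) ^ k = r1 ^ (i * k) * r2 ^ (j * k) := by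
  have : Commute (r1 ^ i) (r2 ^ j) := (show Commute r1 r2 from h.rr).zpow_zpow i j
  rw [this.mul_zpow, zpow_mul, zpow_mul]

theorem A_npow (i j : ℤ) (k : ℕ) : (r1 ^ i * r2 ^ j) ^ k = r1 ^ (i * k) * r2 ^ (j * k) := by
  rw [← zpow_natCast, A_zpow h]

omit h in
theorem A_r1 (r1 r2 : G) (i : ℤ) : InA r1 r2 (r1 ^ i) := ⟨i, 0, by simp⟩

omit h in
theorem A_r2 (r1 r2 : G) (i : ℤ) : InA r1 r2 (r2 ^ i) := ⟨0, i, by simp⟩

end A

theorem A_cj {S : Subgroup G} {z r1 y1 r2 y2 : G} {n1 n2 : ℕ} (h : Sd S z r1 y1 r2 y2 n1 n2)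
    {s w : G} (hs : s ∈ S) (hw : InA r1 r2 w) : InA r1 r2 (cj s w) := by
  obtain ⟨i, j, rfl⟩ := hw
  rcases h.act s hs with ⟨u1, j1, u2, j2, N⟩ | ⟨_, u1, j1, u2, j2, N⟩
  · exact ⟨u1 * i, u2 * j, by rw [cj_mul, cj_zpow, cj_zpow, N.a1, N.a2, zpow_mul, zpow_mul]⟩
  · refine ⟨u2 * j, u1 * i, ?_⟩
    rw [cj_mul, cj_zpow, cj_zpow, N.a1, N.a2, ← zpow_mul, ← zpow_mul]
    exact (Sd.r_zpow_comm h.toCo _ _).symm

theorem A_S {S : Subgroup G} {z r1 y1 r2 y2 : G} {n1 n2 : ℕ} (h : Sd S z r1 y1 r2 y2 n1 n2)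
    {w : G} (hw : InA r1 r2 w) : w ∈ S := by
  obtain ⟨i, j, rfl⟩ := hw
  exact mul_mem (S.zpow_mem h.h1 i) (S.zpow_mem h.h3 j)

/-! ### the element `t` -/

section t

variable {S : Subgroup G} {z r1 y1 r2 y2 : G} {n1 n2 : ℕ} (h : Sd S z r1 y1 r2 y2 n1 n2)

include h

omit h in
theorem t_A : InA r1 r2 (r1 ^ (2 ^ n1) * r2 ^ (2 ^ n2)) :=
  ⟨2 ^ n1, 2 ^ n2, by rw [← zpow_natCast, ← zpow_natCast]; push_cast; rfl⟩

theorem a1_ne : r1 ^ (2 ^ n1) ≠ 1 ∧ r1 ^ (2 ^ n1) ≠ z := by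
  have hd : ∀ e : ℤ, e = 2 ^ n1 → ¬ (r1 ^ e = 1 ∨ r1 ^ e = z) := by
    rintro e rfl hc
    rw [h.q1.zpow_mem] at hc
    have := Int.le_of_dvd (by positivity) hc
    rw [pow_succ] at this
    have h2 : (0 : ℤ) < 2 ^ n1 := by positivity
    linarith
  have e1 : r1 ^ (2 ^ n1) = r1 ^ ((2 : ℤ) ^ n1) := by rw [← zpow_natCast]; push_cast; rfl
  rw [e1]
  exact ⟨fun hc => hd _ rfl (Or.inl hc), fun hc => hd _ rfl (Or.inr hc)⟩

theorem t_ne_one : r1 ^ (2 ^ n1) * r2 ^ (2 ^ n2) ≠ 1 := by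
  intro hc
  rcases h.toCo.mul_eq_one (pow_mem (subset_closure (by simp)) _)
    (pow_mem (subset_closure (by simp)) _) hc with ⟨h1, _⟩ | ⟨h1, _⟩
  · exact (a1_ne h).1 h1
  · exact (a1_ne h).2 h1

theorem t_ne_z : r1 ^ (2 ^ n1) * r2 ^ (2 ^ n2) ≠ z := by
  intro hc
  rcases h.toCo.mul_eq_z (pow_mem (subset_closure (by simp)) _)
    (pow_mem (subset_closure (by simp)) _) hc with ⟨h1, _⟩ | ⟨h1, _⟩
  · exact (a1_ne h).1 h1
  · exact (a1_ne h).2 h1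

theorem four_fix {s : G} {u : ℤ} (e : cj s r1 = r1 ^ u) (h4 : (4 : ℤ) ∣ u - 1) :
    cj s (r1 ^ (2 ^ n1)) = r1 ^ (2 ^ n1) := by
  obtain ⟨k, hk⟩ := h4
  rw [cj_pow, e, ← zpow_natCast, ← zpow_mul, ← zpow_natCast, h.q1.zpow_eq]
  refine ⟨k, ?_⟩
  have : u = 1 + 4 * k := by linarith
  rw [this]; push_cast; ring

end t

/-! ### the group `M₀` and `B₀ = h A₀ h⁻¹` -/

/-- Membership in `M₀ = C_S(t)`. -/
def InM (S : Subgroup G) (t w : G) : Prop := w ∈ S ∧ w * t = t * w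

section M

variable {S : Subgroup G} {z t k : G} (a : Al S z t k)

include a

theorem M_cj (hz : ∀ w ∈ S, w * z = z * w) {w : G} (hw : InM S t w) : InM S t (cj k w) :=
  ⟨a.nor w hw.1 hw.2, a.comm (hz w hw.1)⟩

theorem M_cj' (hz : ∀ w ∈ S, w * z = z * w) {w : G} (hw : InM S t w) : InM S t (cj k⁻¹ w) :=
  M_cj a.inv hz hw

end M

section B

variable {S : Subgroup G} {z r1 y1 r2 y2 k : G} {n1 n2 : ℕ} (h : Sd S z r1 y1 r2 y2 n1 n2)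
  (a : Al S z (r1 ^ (2 ^ n1) * r2 ^ (2 ^ n2)) k)

include h

theorem A_M {w : G} (hw : InA r1 r2 w) : InM S (r1 ^ (2 ^ n1) * r2 ^ (2 ^ n2)) w :=
  ⟨A_S h hw, A_comm h.toCo hw t_A⟩

include a

theorem B_M {w : G} (hw : InA r1 r2 (cj k⁻¹ w)) : InM S (r1 ^ (2 ^ n1) * r2 ^ (2 ^ n2)) w := by
  have := M_cj a (fun w hw => h.zc hw) (A_M h hw)
  rwa [cj_cj_inv] at this

theorem B_cj {m w : G} (hm : InM S (r1 ^ (2 ^ n1) * r2 ^ (2 ^ n2)) m)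
    (hw : InA r1 r2 (cj k⁻¹ w)) : InA r1 r2 (cj k⁻¹ (cj m w)) := by
  rw [← cj_cj]
  exact A_cj h (M_cj' a (fun w hw => h.zc hw) hm).1 hw

omit a in
theorem B_comm {w w' : G} (hw : InA r1 r2 (cj k⁻¹ w)) (hw' : InA r1 r2 (cj k⁻¹ w')) :
    w * w' = w' * w := by
  have := A_comm h.toCo hw hw'
  rw [← cj_mul, ← cj_mul] at this
  exact cj_inj this

omit a in
theorem B_mul {w w' : G} (hw : InA r1 r2 (cj k⁻¹ w)) (hw' : InA r1 r2 (cj k⁻¹ w')) :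
    InA r1 r2 (cj k⁻¹ (w * w')) := by
  rw [cj_mul]; exact A_mul h.toCo hw hw'

omit a in
theorem B_inv {w : G} (hw : InA r1 r2 (cj k⁻¹ w)) : InA r1 r2 (cj k⁻¹ w⁻¹) := by
  rw [cj_inv]; exact A_inv h.toCo hw

/-- `h⁻¹ A₀ h ⊆ B₀`. -/
theorem A_B {w : G} (hw : InA r1 r2 w) : InA r1 r2 (cj k⁻¹ (cj k⁻¹ w)) := by
  rw [← cj_mul_left]
  refine A_cj h ?_ hw
  rw [← mul_inv_rev]
  exact inv_mem a.hh

/-- (3.1) first half. -/
theorem step1 (hn : 1 ≤ n1) {s : G} (hs : InA r1 r2 (cj k⁻¹ s)) :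
    ∃ u1 j1 u2 j2 : ℤ, Ns r1 y1 r2 y2 s u1 j1 u2 j2 ∧ (4 : ℤ) ∣ u1 - 1 ∧ (4 : ℤ) ∣ u2 - 1 := by
  obtain ⟨hsS, hst⟩ := B_M h a hs
  -- the commutator with `r1`
  have hcB : InA r1 r2 (cj k⁻¹ (cj s r1 * r1⁻¹)) := by
    have e : cj s r1 * r1⁻¹ = s * cj r1 s⁻¹ := by simp [cj, mul_assoc]
    rw [e]
    refine B_mul h hs (B_cj h a (A_M h ?_) (B_inv h hs))
    simpa using A_r1 r1 r2 1
  have hcc : cj s (cj s r1 * r1⁻¹) = cj s r1 * r1⁻¹ := cj_eq_self (B_comm h hs hcB)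
  rcases h.act s hsS with ⟨u1, j1, u2, j2, N⟩ | ⟨e, u1, j1, u2, j2, N⟩
  · have hu := N.odd1 h.toCo
    have h1 : r1 ^ (u1 * (u1 - 1)) = r1 ^ (u1 - 1) := by
      have e1 : cj s r1 * r1⁻¹ = r1 ^ (u1 - 1) := by rw [N.a1, zpow_sub_one]
      rw [e1, cj_zpow, N.a1, ← zpow_mul] at hcc
      exact hcc
    rw [h.q1.zpow_eq] at h1
    have h2 : (8 : ℤ) ∣ (u1 - 1) * (u1 - 1) := by
      have e2 : u1 * (u1 - 1) - (u1 - 1) = (u1 - 1) * (u1 - 1) := by ring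
      rw [e2] at h1
      refine dvd_trans ?_ h1
      rw [show (8 : ℤ) = 2 ^ 3 by norm_num]
      exact pow_dvd_pow 2 (by omega)
    have h4 := four_of_eight h2
    refine ⟨u1, j1, u2, j2, N, h4, ?_⟩
    have h5 := four_fix h N.a1 h4
    have h6 : cj s (r2 ^ (2 ^ n2)) = r2 ^ (2 ^ n2) := by
      have h7 := cj_eq_self hst
      rw [cj_mul, h5] at h7
      exact mul_left_cancel h7
    exact h.q2.four_dvd N.a2 h6
  · exfalso
    subst e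
    have hu := N.odd1 h.toCo
    have e1 : cj s r1 * r1⁻¹ = r1 ^ (-1 : ℤ) * r2 ^ u1 := by
      rw [N.a1, ← zpow_neg_one, Sd.r_zpow_comm h.toCo]
    rw [e1, cj_mul, cj_zpow, cj_zpow, N.a1, N.a2, ← zpow_mul, ← zpow_mul,
      ← Sd.r_zpow_comm h.toCo] at hcc
    have h3 := Sd.A0_eq h.toCo hcc
    have h4 : r2 ^ (u1 * -1 - u1) = 1 ∨ r2 ^ (u1 * -1 - u1) = z := by
      rcases h3 with h3 | h3
      · exact Or.inl h3.2
      · exact Or.inr h3.2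
    rw [h.q2.zpow_mem] at h4
    have h5 : (4 : ℤ) ∣ u1 * -1 - u1 := by
      refine dvd_trans ?_ h4
      rw [show (4 : ℤ) = 2 ^ 2 by norm_num]
      exact pow_dvd_pow 2 (by omega)
    obtain ⟨m, rfl⟩ := hu
    omega

omit a in
/-- an element with `cj s rᵢ = rᵢ z^fᵢ` on `A₀`. -/
theorem cj_A0_z {s : G} {f1 f2 : ℤ} (e1 : cj s r1 = r1 * z ^ f1) (e2 : cj s r2 = r2 * z ^ f2)
    {w : G} (hw : InA r1 r2 w) : cj s w = w ∨ cj s w = w * z := by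
  obtain ⟨i, j, rfl⟩ := hw
  have z1 : Commute r1 (z ^ f1) := (Commute.zpow_right (show Commute r1 z from h.q1.zr.symm) _)
  have z2 : Commute r2 (z ^ f2) := (Commute.zpow_right (show Commute r2 z from h.q2.zr.symm) _)
  have z3 : Commute (z ^ (f1 * i)) (r2 ^ j) :=
    (Commute.zpow_zpow (show Commute z r2 from h.q2.zr) _ _)
  have e : cj s (r1 ^ i * r2 ^ j) = r1 ^ i * r2 ^ j * z ^ (f1 * i + f2 * j) := by
    rw [cj_mul, cj_zpow, cj_zpow, e1, e2, z1.mul_zpow, z2.mul_zpow, ← zpow_mul, ← zpow_mul,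
      zpow_add]
    calc r1 ^ i * z ^ (f1 * i) * (r2 ^ j * z ^ (f2 * j)) =
        r1 ^ i * (z ^ (f1 * i) * r2 ^ j) * z ^ (f2 * j) := by group
      _ = r1 ^ i * (r2 ^ j * z ^ (f1 * i)) * z ^ (f2 * j) := by rw [z3.eq]
      _ = _ := by group
  rcases h.q1.zpow_one_or (f1 * i + f2 * j) with h1 | h1
  · left; rw [e, h1, mul_one]
  · right; rw [e, h1]

/-- (3.1): `B₀` centralizes `A₀`. -/
theorem step2 (hn : 1 ≤ n1) {s w : G} (hs : InA r1 r2 (cj k⁻¹ s)) (hw : InA r1 r2 w) :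
    s * w = w * s := by
  have key : ∀ s w : G, InA r1 r2 (cj k⁻¹ s) → InA r1 r2 w → cj s w = w ∨ cj s w = w * z := by
    intro s w hs hw
    obtain ⟨u1, j1, u2, j2, N, h1, h2⟩ := step1 h a hn hs
    obtain ⟨f1, f2, i, j, e1, e2, -⟩ := h.sq_form (B_M h a hs).1 N h1 h2
    exact cj_A0_z h e1 e2 hw
  rcases key s w hs hw with h1 | h1
  · exact cj_eq_self_iff.1 h1
  exfalso
  -- the other side
  have h2 := key (cj k⁻¹ w) (cj k⁻¹ s) (A_B h a hw) hs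
  rw [cj_cj] at h2
  have hzt : cj k⁻¹ (s * (r1 ^ (2 ^ n1) * r2 ^ (2 ^ n2))) = cj k⁻¹ s * z := by
    rw [cj_mul, a.inv.ht]
  have h3 : cj w s = s ∨ cj w s = s * (r1 ^ (2 ^ n1) * r2 ^ (2 ^ n2)) := by
    rcases h2 with h2 | h2
    · exact Or.inl (cj_inj h2)
    · rw [← hzt] at h2
      exact Or.inr (cj_inj h2)
  have hws : w * z = z * w := h.zc (A_S h hw)
  have h4 : cj w s = s * z := by
    have h5 : s * w = w * z * s := by rw [← h1]; simp [cj]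
    have h6 : s * z = z * s := h.zc (B_M h a hs).1
    have h7 : w * s = s * w * z := by
      rw [h5]
      calc w * s = w * (z * z) * s := by rw [h.q1.z_sq, mul_one]
        _ = w * z * (z * s) := by group
        _ = w * z * s * z := by rw [← h6]; group
    have h8 : w * s = s * z * w := by rw [h7, mul_assoc, hws, mul_assoc]
    rw [cj_def, h8]; group
  rcases h3 with h3 | h3
  · rw [h3] at h4
    exact h.q1.z_ne (mul_eq_left.1 h4.symm)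
  · rw [h3] at h4
    exact t_ne_z h (mul_left_cancel h4)

/-- (3.2). -/
theorem step3 (hn : 1 ≤ n1) (hle : n2 ≤ n1) {s : G} (hs : InA r1 r2 (cj k⁻¹ s))
    (hp : s ^ (2 ^ (n1 + 1)) = r1 ^ (2 ^ n1) * r2 ^ (2 ^ n2)) :
    n1 = n2 ∧ ∃ j1 j2 i j : ℤ, Ns r1 y1 r2 y2 s 1 j1 1 j2 ∧ Odd j1 ∧ Odd j2 ∧
      s * s = r1 ^ i * r2 ^ j ∧ Odd i ∧ Odd j := by
  obtain ⟨u1, j1, u2, j2, N, h1, h2⟩ := step1 h a hn hs
  obtain ⟨f1, f2, i, j, e1, e2, e3, p1, p2, -⟩ := h.sq_form (B_M h a hs).1 N h1 h2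
  have c1 : cj s r1 = r1 := cj_eq_self (step2 h a hn hs (by simpa using A_r1 r1 r2 1))
  have c2 : cj s r2 = r2 := cj_eq_self (step2 h a hn hs (by simpa using A_r2 r1 r2 1))
  have hN : Ns r1 y1 r2 y2 s 1 j1 1 j2 :=
    ⟨by rw [c1, zpow_one], N.b1, by rw [c2, zpow_one], N.b2⟩
  have h3 : r1 ^ (i * (2 ^ n1 : ℕ)) * r2 ^ (j * (2 ^ n1 : ℕ)) =
      r1 ^ ((2 ^ n1 : ℕ) : ℤ) * r2 ^ ((2 ^ n2 : ℕ) : ℤ) := by
    rw [← A_npow h.toCo, ← e3, zpow_natCast, zpow_natCast, ← hp, ← pow_two, ← pow_mul, pow_succ']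
  have h4 := Sd.A0_eq h.toCo h3
  have h5 : (2 : ℤ) ^ (n1 + 1) ∣ i * (2 ^ n1 : ℕ) - (2 ^ n1 : ℕ) := by
    rw [← h.q1.zpow_mem]
    rcases h4 with h4 | h4
    · exact Or.inl h4.1
    · exact Or.inr h4.1
  have h6 : (2 : ℤ) ^ (n2 + 1) ∣ j * (2 ^ n1 : ℕ) - (2 ^ n2 : ℕ) := by
    rw [← h.q2.zpow_mem]
    rcases h4 with h4 | h4
    · exact Or.inl h4.2
    · exact Or.inr h4.2
  push_cast at h5 h6
  have oi : Odd i := by
    rw [show i * 2 ^ n1 - 2 ^ n1 = 2 ^ n1 * (i - 1) by ring, pow_succ] at h5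
    have h7 := Int.dvd_of_mul_dvd_mul_left (by positivity) h5
    obtain ⟨m, hm⟩ := h7
    exact ⟨m, by linarith⟩
  obtain ⟨d, rfl⟩ := Nat.exists_eq_add_of_le hle
  rw [show j * 2 ^ (n2 + d) - 2 ^ n2 = 2 ^ n2 * (j * 2 ^ d - 1) by ring, pow_succ] at h6
  obtain ⟨m, hm⟩ := Int.dvd_of_mul_dvd_mul_left (by positivity) h6
  have hd : d = 0 := by
    by_contra hd
    obtain ⟨e, rfl⟩ := Nat.exists_eq_succ_of_ne_zero hd
    have : j * 2 ^ (e + 1) = 2 * (j * 2 ^ e) := by ring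
    rw [this] at hm
    omega
  subst hd
  have oj : Odd j := ⟨m, by rw [pow_zero, mul_one] at hm; linarith⟩
  refine ⟨rfl, j1, j2, i, j, hN, ?_, ?_, e3, oi, oj⟩
  · rw [← Int.not_even_iff_odd, ← p1, Int.not_even_iff_odd]; exact oi
  · rw [← Int.not_even_iff_odd, ← p2, Int.not_even_iff_odd]; exact oj

end B

/-! ### powers and commutation in `S` -/

theorem Qn_exp {z r y : G} {n : ℕ} (h : Qn z r y n) {w : G} (hw : w ∈ closure ({r, y} : Set G)) :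
    w ^ (2 ^ (n + 1)) = 1 ∨ w ^ (2 ^ (n + 1)) = z := by
  obtain ⟨i, rfl | rfl⟩ := h.mem_iff.1 hw
  · have e : (r ^ i) ^ (2 ^ (n + 1)) = (r ^ (2 ^ (n + 1))) ^ i := by
      rw [← zpow_natCast, ← zpow_mul, ← zpow_natCast r (2 ^ (n + 1)), ← zpow_mul, mul_comm]
    rw [e, h.rp]
    exact h.zpow_one_or i
  · rw [pow_succ', pow_mul, pow_two, h.ry_sq, ← zpow_natCast]
    exact h.zpow_one_or _

theorem R_exp {z r1 y1 r2 y2 : G} {n : ℕ} (h : Co z r1 y1 r2 y2 n n) {w : G}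
    (hw : w ∈ RR r1 y1 r2 y2) : w ^ (2 ^ (n + 1)) = 1 ∨ w ^ (2 ^ (n + 1)) = z := by
  obtain ⟨a, ha, b, hb, rfl⟩ := h.mem_R'.1 hw
  have hc : Commute a b := h.comm ha hb
  rw [hc.mul_pow]
  rcases Qn_exp h.q1 ha with e1 | e1 <;> rcases Qn_exp h.q2 hb with e2 | e2 <;> rw [e1, e2]
  · simp
  · simp
  · simp
  · left; exact h.q1.z_sq

theorem comm_or {S : Subgroup G} {z r1 y1 r2 y2 : G} {n1 n2 : ℕ} (h : Sd S z r1 y1 r2 y2 n1 n2)
    {s s' : G} (hs : s ∈ S) (hs' : s' ∈ S) {j1 j2 k1 k2 : ℤ} (N : Ns r1 y1 r2 y2 s 1 j1 1 j2)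
    (N' : Ns r1 y1 r2 y2 s' 1 k1 1 k2) : s * s' = s' * s ∨ s * s' = s' * s * z := by
  have P := N.mul N'
  have P' := N'.mul N
  refine h.eq_or (mul_mem hs hs') (mul_mem hs' hs) ?_ ?_ ?_ ?_
  · rw [P.a1, P'.a1]
  · rw [P.b1, P'.b1]; congr 2; ring
  · rw [P.a2, P'.a2]
  · rw [P.b2, P'.b2]; congr 2; ring

section C

variable {S : Subgroup G} {z r1 y1 r2 y2 k : G} {n : ℕ} (h : Sd S z r1 y1 r2 y2 n n)
  (a : Al S z (r1 ^ (2 ^ n) * r2 ^ (2 ^ n)) k) (hn : 1 ≤ n)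

include h a hn

omit h a hn in
theorem two_n1 : ((2 ^ n : ℕ) : ℤ) = 2 ^ n := by push_cast; rfl

/-- an element of `B₀` whose `2 ^ (n + 1)`-th power is `t`. -/
theorem step3' {s : G} (hs : InA r1 r2 (cj k⁻¹ s))
    (hp : s ^ (2 ^ (n + 1)) = r1 ^ (2 ^ n) * r2 ^ (2 ^ n)) :
    s ∈ S ∧ ∃ j1 j2 i j : ℤ, Ns r1 y1 r2 y2 s 1 j1 1 j2 ∧ Odd j1 ∧ Odd j2 ∧
      s * s = r1 ^ i * r2 ^ j ∧ Odd i ∧ Odd j :=
  ⟨(B_M h a hs).1, (step3 h a hn le_rfl hs hp).2⟩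

theorem xx : cj k r1 ∈ S ∧ ∃ j1 j2 i j : ℤ, Ns r1 y1 r2 y2 (cj k r1) 1 j1 1 j2 ∧ Odd j1 ∧ Odd j2 ∧
      cj k r1 * cj k r1 = r1 ^ i * r2 ^ j ∧ Odd i ∧ Odd j :=
  step3' h a hn (by simpa using A_r1 r1 r2 1) (by rw [← cj_pow, h.q1.rp, a.hz])

theorem bb : cj k⁻¹ r1 ∈ S ∧ ∃ j1 j2 i j : ℤ, Ns r1 y1 r2 y2 (cj k⁻¹ r1) 1 j1 1 j2 ∧ Odd j1 ∧
      Odd j2 ∧ cj k⁻¹ r1 * cj k⁻¹ r1 = r1 ^ i * r2 ^ j ∧ Odd i ∧ Odd j :=
  step3' h a hn (A_B h a (by simpa using A_r1 r1 r2 1)) (by rw [← cj_pow, h.q1.rp, a.inv.hz])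

theorem no10' {e : G} (he : e ∈ S) {u1 p u2 q : ℤ} (N : Ns r1 y1 r2 y2 e u1 p u2 q)
    (c1 : (4 : ℤ) ∣ u1 - 1) (c2 : (4 : ℤ) ∣ u2 - 1) (op : Odd p) (eq : Even q) : False := by
  obtain ⟨hxS, j1, j2, i0, j0, X, oj1, oj2, hxx, oi0, oj0⟩ := xx h a hn
  obtain ⟨hbS, k1, k2, i1, j3, B, ok1, ok2, hbb, oi1, oj3⟩ := bb h a hn
  obtain ⟨f1, f2, i, j, e1, e2, e3, p1, p2, p3, -⟩ := h.sq_form he N c1 c2
  obtain ⟨f1', f2', i', j', e1', e2', e3', p1', p2', p3', -⟩ :=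
    h.sq_form (mul_mem hxS he) (X.mul N) (by rwa [one_mul]) (by rwa [one_mul])
  have oi : Odd i := by rw [← Int.not_even_iff_odd, p1, Int.not_even_iff_odd]; exact op
  have ej : Even j := p2.2 eq
  have ei' : Even i' := by
    rw [p1', one_mul]
    exact op.add_odd oj1
  have oj' : Odd j' := by
    rw [← Int.not_even_iff_odd, p2', one_mul, Int.not_even_iff_odd]
    exact eq.add_odd oj2
  have hf1 : Even f1 := by
    rw [Int.even_add, Int.even_mul, Int.even_mul] at p3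
    rw [← Int.not_even_iff_odd] at oi
    tauto
  have hf2 : Even f2' := by
    rw [Int.even_add, Int.even_mul, Int.even_mul] at p3'
    rw [← Int.not_even_iff_odd] at oj'
    tauto
  have z1 : z ^ f1 = 1 := by
    have := h.q1.zpow_congr (a := f1) (b := 0) (by rwa [sub_zero])
    rwa [zpow_zero] at this
  have z2' : z ^ f2' = 1 := by
    have := h.q1.zpow_congr (a := f2') (b := 0) (by rwa [sub_zero])
    rwa [zpow_zero] at this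
  have E1 : cj e r1 = r1 := by rw [e1, z1, mul_one]
  have E2 : cj e r2 = r2 := by
    have h1 : cj (cj k r1 * e) r2 = r2 := by rw [e2', z2', mul_one]
    have h2 : cj (cj k r1) (cj e r2) = cj (cj k r1) r2 := by
      rw [← cj_mul_left, h1, X.a2, zpow_one]
    exact cj_inj h2
  have NE : Ns r1 y1 r2 y2 e 1 p 1 q := ⟨by rw [E1, zpow_one], N.b1, by rw [E2, zpow_one], N.b2⟩
  have eM : InM S (r1 ^ (2 ^ n) * r2 ^ (2 ^ n)) e := by
    refine ⟨he, ?_⟩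
    rw [← cj_eq_self_iff, cj_mul, cj_pow, cj_pow, E1, E2]
  have hzc : ∀ w ∈ S, w * z = z * w := fun w hw => h.zc hw
  obtain ⟨sS, st⟩ := M_cj a hzc eM
  have spow : cj k e ^ (2 ^ (n + 2)) = r1 ^ (2 ^ n) * r2 ^ (2 ^ n) := by
    rw [← cj_pow, ← a.hz]
    congr 1
    have e4 : e ^ (2 ^ (n + 2)) = (e * e) ^ (2 ^ (n + 1)) := by
      rw [← pow_two, ← pow_mul, pow_succ' 2 (n + 1)]
    rw [e4, e3, A_npow h.toCo]
    have e5 : ((2 ^ (n + 1) : ℕ) : ℤ) = 2 ^ (n + 1) := by push_cast; rfl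
    rw [e5, mul_comm i, mul_comm j, zpow_mul, zpow_mul, h.q1.rzp, h.q2.rzp]
    rcases h.q1.z_cases i with ⟨_, h2⟩ | ⟨h1, _⟩
    · exact absurd h2 (Int.not_even_iff_odd.2 oi)
    · rcases h.q1.z_cases j with ⟨h2, _⟩ | ⟨_, h2⟩
      · rw [h1, h2, mul_one]
      · exact absurd ej (Int.not_even_iff_odd.2 h2)
  rcases h.act _ sS with ⟨v1, l1, v2, l2, M⟩ | ⟨_, v1, l1, v2, l2, M⟩
  · have hR := R_exp h.toCo (h.sq_mem sS M)
    have e4 : (cj k e * cj k e) ^ (2 ^ (n + 1)) = cj k e ^ (2 ^ (n + 2)) := by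
      rw [← pow_two, ← pow_mul, pow_succ' 2 (n + 1)]
    rw [e4, spow] at hR
    rcases hR with hR | hR
    · exact t_ne_one h hR
    · exact t_ne_z h hR
  · have hc := comm_or h he hbS NE B
    have hc' : cj k e * r1 = r1 * cj k e ∨
        cj k e * r1 = r1 * cj k e * (r1 ^ (2 ^ n) * r2 ^ (2 ^ n)) := by
      rcases hc with hc | hc
      · left
        have := congrArg (cj k) hc
        rw [cj_mul, cj_mul, cj_cj_inv] at this
        exact this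
      · right
        have := congrArg (cj k) hc
        rw [cj_mul, cj_mul, cj_mul, cj_cj_inv, a.hz] at this
        exact this
    rcases hc' with hc' | hc'
    · have h1 := cj_eq_self hc'
      rw [M.a1] at h1
      have h2 := h.toCo.ind_zpow (i := 1) (j := v1) (by rw [zpow_one, h1])
      exact h.q1.odd_ne odd_one h2
    · have h1 : cj (cj k e) r1 = r1 ^ ((1 : ℤ) + 2 ^ n) * r2 ^ ((2 : ℤ) ^ n) := by
        rw [cj_def, hc', mul_assoc r1, st]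
        rw [zpow_add, zpow_one, ← two_n1, zpow_natCast, zpow_natCast]
        group
      rw [M.a1] at h1
      have h2 : r1 ^ (0 : ℤ) * r2 ^ v1 = r1 ^ ((1 : ℤ) + 2 ^ n) * r2 ^ ((2 : ℤ) ^ n) := by
        rw [zpow_zero, one_mul, h1]
      have h3 := (Sd.A0_parity h.toCo h2).1
      have h4 : Odd ((1 : ℤ) + 2 ^ n) := by
        obtain ⟨m, rfl⟩ := Nat.exists_eq_add_of_le' hn
        exact ⟨2 ^ m, by ring⟩
      exact (Int.not_even_iff_odd.2 h4) (h3.1 (by simp))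

theorem no10 {e : G} (he : e ∈ S) {u1 p u2 q : ℤ} (N : Ns r1 y1 r2 y2 e u1 p u2 q)
    (op : Odd p) (eq : Even q) : False := by
  obtain ⟨x, hx, _, w1, w2, M, d1, d2⟩ := h.norm he N (l1 := 1) (l2 := 0)
    (op.sub_odd odd_one) (by rwa [sub_zero])
  exact no10' h a hn hx M d1 d2 odd_one Even.zero

omit hn in
theorem symm_al : Al S z (r2 ^ (2 ^ n) * r1 ^ (2 ^ n)) k := by
  have e : r1 ^ (2 ^ n) * r2 ^ (2 ^ n) = r2 ^ (2 ^ n) * r1 ^ (2 ^ n) :=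
    (show Commute r1 r2 from h.rr).pow_pow _ _
  rw [← e]; exact a

/-- (3.3): all non-swapping elements have type `(0, 0)` or `(1, 1)`. -/
theorem type_eq {s : G} (hs : s ∈ S) {u1 p u2 q : ℤ} (N : Ns r1 y1 r2 y2 s u1 p u2 q) :
    Even p ↔ Even q := by
  by_cases hp : Even p
  · by_cases hq : Even q
    · tauto
    · exact (no10 h.symm (symm_al h a) hn hs N.symm (Int.not_even_iff_odd.1 hq) hp).elim
  · by_cases hq : Even q
    · exact (no10 h a hn hs N (Int.not_even_iff_odd.1 hp) hq).elim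
    · tauto

theorem cos {s : G} (hs : s ∈ S) {u1 p u2 q : ℤ} (N : Ns r1 y1 r2 y2 s u1 p u2 q) :
    s ∈ RR r1 y1 r2 y2 ∨ (cj k r1)⁻¹ * s ∈ RR r1 y1 r2 y2 := by
  have ht := type_eq h a hn hs N
  by_cases hp : Even p
  · left; exact h.inR s hs _ _ _ _ N hp (ht.1 hp)
  · right
    obtain ⟨hxS, j1, j2, _, _, X, oj1, oj2, -⟩ := xx h a hn
    rw [← Int.not_even_iff_odd] at oj1 oj2
    refine h.ns_ns hxS hs X N ?_ ?_ <;> tauto

omit h a hn in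
theorem RR_sign (h : Co z r1 y1 r2 y2 n n) {w : G} (hw : w ∈ RR r1 y1 r2 y2) :
    (cj w r1 = r1 ∨ cj w r1 = r1⁻¹) ∧ (cj w r2 = r2 ∨ cj w r2 = r2⁻¹) := by
  obtain ⟨i, j, hc⟩ := h.ns_of_mem hw
  rcases hc with ⟨_, M⟩ | ⟨_, M⟩ | ⟨_, M⟩ | ⟨_, M⟩
  all_goals
    have m1 := M.a1
    have m2 := M.a2
    simp only [zpow_one, zpow_neg] at m1 m2
    tauto

omit h a hn in
theorem RR_A (h : Co z r1 y1 r2 y2 n n) {w : G} (hw : w ∈ RR r1 y1 r2 y2)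
    (c1 : cj w r1 = r1) (c2 : cj w r2 = r2) : InA r1 r2 w := by
  obtain ⟨i, j, hc⟩ := h.ns_of_mem hw
  rcases hc with ⟨e, M⟩ | ⟨_, M⟩ | ⟨_, M⟩ | ⟨_, M⟩
  · exact ⟨i, j, e⟩
  · have h1 := M.a1.symm.trans c1
    rw [zpow_neg_one] at h1
    exact absurd h1.symm h.q1.r_ne_inv
  · have h1 := M.a2.symm.trans c2
    rw [zpow_neg_one] at h1
    exact absurd h1.symm h.q2.r_ne_inv
  · have h1 := M.a1.symm.trans c1
    rw [zpow_neg_one] at h1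
    exact absurd h1.symm h.q1.r_ne_inv

theorem sign {s : G} (hs : s ∈ S) {u1 p u2 q : ℤ} (N : Ns r1 y1 r2 y2 s u1 p u2 q) :
    (cj s r1 = r1 ∨ cj s r1 = r1⁻¹) ∧ (cj s r2 = r2 ∨ cj s r2 = r2⁻¹) := by
  rcases cos h a hn hs N with hR | hR
  · exact RR_sign h.toCo hR
  · obtain ⟨hxS, j1, j2, _, _, X, -⟩ := xx h a hn
    have e : ∀ w, cj s w = cj (cj k r1) (cj ((cj k r1)⁻¹ * s) w) := by
      intro w
      rw [← cj_mul_left, mul_inv_cancel_left]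
    have x1 : cj (cj k r1) r1 = r1 := by rw [X.a1, zpow_one]
    have x2 : cj (cj k r1) r2 = r2 := by rw [X.a2, zpow_one]
    obtain ⟨h1, h2⟩ := RR_sign h.toCo hR
    constructor
    · rw [e]
      rcases h1 with h1 | h1
      · left; rw [h1, x1]
      · right; rw [h1, cj_inv, x1]
    · rw [e]
      rcases h2 with h2 | h2
      · left; rw [h2, x2]
      · right; rw [h2, cj_inv, x2]

omit h a hn in
theorem inv_half {z r y : G} {n : ℕ} (h : Qn z r y n) : (r⁻¹) ^ (2 ^ n) = r ^ (2 ^ n) * z := by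
  rw [inv_pow, inv_eq_iff_mul_eq_one, ← mul_assoc, ← pow_add, ← two_mul, ← pow_succ', h.rp, h.z_sq]

/-- elements of `M₀` act on `A₀` as `± 1`. -/
theorem signM {s : G} (hs : InM S (r1 ^ (2 ^ n) * r2 ^ (2 ^ n)) s) {u1 p u2 q : ℤ}
    (N : Ns r1 y1 r2 y2 s u1 p u2 q) :
    (cj s r1 = r1 ∧ cj s r2 = r2) ∨ (cj s r1 = r1⁻¹ ∧ cj s r2 = r2⁻¹) := by
  obtain ⟨h1, h2⟩ := sign h a hn hs.1 N
  have h3 := cj_eq_self hs.2
  rw [cj_mul, cj_pow, cj_pow] at h3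
  have zc2 : z * r2 ^ (2 ^ n) = r2 ^ (2 ^ n) * z :=
    (Commute.pow_right (show Commute z r2 from h.q2.zr) _)
  rcases h1 with h1 | h1 <;> rcases h2 with h2 | h2
  · exact Or.inl ⟨h1, h2⟩
  · exfalso
    rw [h1, h2, inv_half h.q2, ← mul_assoc, mul_eq_left] at h3
    exact h.q1.z_ne h3
  · exfalso
    rw [h1, h2, inv_half h.q1, mul_assoc, zc2, ← mul_assoc, mul_eq_left] at h3
    exact h.q1.z_ne h3
  · exact Or.inr ⟨h1, h2⟩

omit h a hn in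
theorem even_two_pow (hn : 1 ≤ n) : Even ((2 : ℤ) ^ n) := by
  obtain ⟨m, rfl⟩ := Nat.exists_eq_add_of_le' hn
  exact ⟨2 ^ m, by ring⟩

/-- the end of (3.4). -/
theorem fin {τ : G} (hτ : InM S (r1 ^ (2 ^ n) * r2 ^ (2 ^ n)) τ) {u1 j1 u2 j2 : ℤ}
    (T : Sw r1 y1 r2 y2 τ u1 j1 u2 j2) {c : ℤ} (hc : Even c)
    (hx : cj τ (cj k r1 * r1 ^ c) = cj k r1 * r1 ^ c ∨
      cj τ (cj k r1 * r1 ^ c) = cj k r1 * r1 ^ c * z) : False := by
  obtain ⟨hbS, k1, k2, i, j, B, ok1, ok2, hbb, oi, oj⟩ := bb h a hn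
  have hzc : ∀ w ∈ S, w * z = z * w := fun w hw => h.zc hw
  have hs := M_cj' a hzc hτ
  obtain ⟨m, rfl⟩ := hc
  have e1 : cj k⁻¹ (cj k r1 * r1 ^ (m + m)) = r1 ^ (1 + i * m) * r2 ^ (j * m) := by
    rw [cj_mul, cj_inv_cj, cj_zpow, zpow_add, ← (show Commute (cj k⁻¹ r1) (cj k⁻¹ r1) from rfl).mul_zpow,
      hbb, A_zpow h.toCo, zpow_add, zpow_one, mul_assoc]
  have e2 : cj (cj k⁻¹ τ) (r1 ^ (1 + i * m) * r2 ^ (j * m)) = r1 ^ (1 + i * m) * r2 ^ (j * m) ∨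
      cj (cj k⁻¹ τ) (r1 ^ (1 + i * m) * r2 ^ (j * m)) =
        r1 ^ (1 + i * m + 2 ^ n) * r2 ^ (j * m + 2 ^ n) := by
    rw [← e1, cj_cj]
    rcases hx with hx | hx
    · left; rw [hx]
    · right
      rw [hx, cj_mul, a.inv.hz, e1]
      have e3 : r1 ^ (2 ^ n) * r2 ^ (2 ^ n) = r1 ^ ((2 : ℤ) ^ n) * r2 ^ ((2 : ℤ) ^ n) := by
        rw [← two_n1, zpow_natCast, zpow_natCast]
      rw [e3, Sd.A0_mul h.toCo]
  have he := even_two_pow hn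
  rcases h.act _ hs.1 with ⟨v1, l1, v2, l2, M⟩ | ⟨_, v1, l1, v2, l2, M⟩
  · have h1 : cj (cj k⁻¹ τ) (cj k⁻¹ r1 * cj k⁻¹ r1) = cj k⁻¹ r1 * cj k⁻¹ r1 ∨
        cj (cj k⁻¹ τ) (cj k⁻¹ r1 * cj k⁻¹ r1) = (cj k⁻¹ r1 * cj k⁻¹ r1)⁻¹ := by
      rw [hbb]
      rcases signM h a hn hs M with ⟨h1, h2⟩ | ⟨h1, h2⟩
      · left; rw [cj_mul, cj_zpow, cj_zpow, h1, h2]
      · right
        rw [cj_mul, cj_zpow, cj_zpow, h1, h2, inv_zpow, inv_zpow, mul_inv_rev, ← zpow_neg,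
          ← zpow_neg, ← Sd.r_zpow_comm h.toCo]
    have h2 : cj τ (r1 * r1) = r1 * r1 ∨ cj τ (r1 * r1) = (r1 * r1)⁻¹ := by
      rw [← cj_mul, cj_cj, ← cj_inv] at h1
      rcases h1 with h1 | h1
      · exact Or.inl (cj_inj h1)
      · exact Or.inr (cj_inj h1)
    rw [cj_mul, T.a1, ← zpow_add] at h2
    have h3 : r1 ^ (2 : ℤ) = r2 ^ (u1 + u1) ∨ r1 ^ (-2 : ℤ) = r2 ^ (u1 + u1) := by
      rcases h2 with h2 | h2
      · left; rw [h2, zpow_two]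
      · right; rw [h2, zpow_neg, zpow_two]
    have h4 : (2 : ℤ) ^ 2 ∣ 2 ∨ (2 : ℤ) ^ 2 ∣ -2 := by
      rcases h3 with h3 | h3
      · left
        have := h.toCo.ind_zpow h3
        rw [h.q1.zpow_mem] at this
        exact (pow_dvd_pow _ (by omega)).trans this
      · right
        have := h.toCo.ind_zpow h3
        rw [h.q1.zpow_mem] at this
        exact (pow_dvd_pow _ (by omega)).trans this
    norm_num at h4
  · have o1 := M.odd1 h.toCo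
    have o2 := M.odd2 h.toCo
    have e4 : cj (cj k⁻¹ τ) (r1 ^ (1 + i * m) * r2 ^ (j * m)) =
        r1 ^ (v2 * (j * m)) * r2 ^ (v1 * (1 + i * m)) := by
      rw [cj_mul, cj_zpow, cj_zpow, M.a1, M.a2, ← zpow_mul, ← zpow_mul, ← Sd.r_zpow_comm h.toCo]
    rw [e4] at e2
    have h1 : Even (v2 * (j * m)) ↔ Even (1 + i * m) := by
      rcases e2 with e2 | e2
      · exact (Sd.A0_parity h.toCo e2).1
      · have := (Sd.A0_parity h.toCo e2).1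
        rw [this, Int.even_add]
        tauto
    rw [Int.even_mul, Int.even_mul, Int.even_add, Int.even_mul] at h1
    rw [← Int.not_even_iff_odd] at o1 o2 oi oj
    have h2 : ¬ Even (1 : ℤ) := by decide
    tauto

omit a hn in
theorem y1_t : cj y1 (r1 ^ (2 ^ n) * r2 ^ (2 ^ n)) = r1 ^ (2 ^ n) * r2 ^ (2 ^ n) * z := by
  have zc2 : z * r2 ^ (2 ^ n) = r2 ^ (2 ^ n) * z :=
    (Commute.pow_right (show Commute z r2 from h.q2.zr) _)
  rw [cj_mul, cj_pow, cj_pow, h.q1.inv, cj_eq_self h.yr, inv_half h.q1, mul_assoc, zc2, mul_assoc]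

omit a hn in
/-- a swap `τ` maps `t` to `t` or `t z`. -/
theorem sw_t {τ : G} {u1 j1 u2 j2 : ℤ} (T : Sw r1 y1 r2 y2 τ u1 j1 u2 j2) :
    cj τ (r1 ^ (2 ^ n) * r2 ^ (2 ^ n)) = r1 ^ (2 ^ n) * r2 ^ (2 ^ n) ∨
      cj τ (r1 ^ (2 ^ n) * r2 ^ (2 ^ n)) = r1 ^ (2 ^ n) * r2 ^ (2 ^ n) * z := by
  have key : ∀ (r y : G), Qn z r y n → ∀ u : ℤ, Odd u → ∃ c : ℤ, (r ^ u) ^ (2 ^ n) = r ^ (2 ^ n) * z ^ c := by
    rintro r y q u ⟨c, rfl⟩
    refine ⟨c, ?_⟩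
    rw [← zpow_natCast, ← zpow_mul, two_n1, ← zpow_natCast r (2 ^ n), two_n1, ← q.rzp, ← zpow_mul,
      ← zpow_add]
    congr 1
    ring
  obtain ⟨c1, h1⟩ := key r2 y2 h.q2 u1 (T.odd1 h.toCo)
  obtain ⟨c2, h2⟩ := key r1 y1 h.q1 u2 (T.odd2 h.toCo)
  have e : cj τ (r1 ^ (2 ^ n) * r2 ^ (2 ^ n)) = r1 ^ (2 ^ n) * r2 ^ (2 ^ n) * z ^ (c1 + c2) := by
    have k1 : Commute (z ^ c1) (r1 ^ (2 ^ n)) :=
      (Commute.pow_right (Commute.zpow_left (show Commute z r1 from h.q1.zr) _) _)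
    have k2 : Commute (r2 ^ (2 ^ n)) (r1 ^ (2 ^ n)) :=
      (Commute.pow_pow (show Commute r2 r1 from h.rr.symm) _ _)
    rw [cj_mul, cj_pow, cj_pow, T.a1, T.a2, h1, h2, zpow_add]
    calc r2 ^ 2 ^ n * z ^ c1 * (r1 ^ 2 ^ n * z ^ c2) =
        r2 ^ 2 ^ n * (z ^ c1 * r1 ^ 2 ^ n) * z ^ c2 := by group
      _ = r2 ^ 2 ^ n * r1 ^ 2 ^ n * z ^ c1 * z ^ c2 := by rw [k1.eq]; group
      _ = _ := by rw [k2.eq]; group
  rw [e]
  rcases h.q1.zpow_one_or (c1 + c2) with h3 | h3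
  · left; rw [h3, mul_one]
  · right; rw [h3]

omit a hn in
/-- a swap in `M₀`. -/
theorem sw_M {τ : G} (hτ : τ ∈ S) {u1 j1 u2 j2 : ℤ} (T : Sw r1 y1 r2 y2 τ u1 j1 u2 j2) :
    ∃ σ, InM S (r1 ^ (2 ^ n) * r2 ^ (2 ^ n)) σ ∧
      ∃ v1 k1 v2 k2 : ℤ, Sw r1 y1 r2 y2 σ v1 k1 v2 k2 := by
  rcases sw_t h T with h1 | h1
  · exact ⟨τ, ⟨hτ, cj_eq_self_iff.1 h1⟩, _, _, _, _, T⟩
  · refine ⟨τ * y1, ⟨mul_mem hτ h.h2, ?_⟩, _, _, _, _, T.mul_ns h.ns_y1⟩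
    rw [← cj_eq_self_iff, cj_mul_left, y1_t h, cj_mul, h1, h.cj_z hτ, mul_assoc, h.q1.z_sq,
      mul_one]

/-- (3.4): no swap, for `τ ∈ M₀`. -/
theorem no_swap' {τ : G} (hτ : InM S (r1 ^ (2 ^ n) * r2 ^ (2 ^ n)) τ) {u p v q : ℤ}
    (T : Sw r1 y1 r2 y2 τ u p v q) : False := by
  obtain ⟨hxS, j1, j2, i, j, X, oj1, oj2, hxx, oi, oj⟩ := xx h a hn
  have ou := T.odd1 h.toCo
  have ov := T.odd2 h.toCo
  have TT := T.mul T
  -- `u v ≡ 1`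
  have huv : (2 : ℤ) ^ (n + 2) ∣ v * u - 1 := by
    have h1 := cj_eq_self hτ.2
    have e0 : r1 ^ (2 ^ n) * r2 ^ (2 ^ n) = r1 ^ ((2 : ℤ) ^ n) * r2 ^ ((2 : ℤ) ^ n) := by
      rw [← two_n1, zpow_natCast, zpow_natCast]
    rw [e0, cj_mul, cj_zpow, cj_zpow, T.a1, T.a2, ← zpow_mul, ← zpow_mul,
      ← Sd.r_zpow_comm h.toCo] at h1
    have h4 : (4 : ℤ) ∣ v * u - 1 := by
      have dv : ∀ w c : ℤ, (2 : ℤ) ^ (n + 2) ∣ (w * 2 ^ n - 2 ^ n) - c * 2 ^ (n + 1) →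
          (4 : ℤ) ∣ w - 1 - 2 * c := by
        intro w c hd
        have e1 : (w * 2 ^ n - 2 ^ n) - c * 2 ^ (n + 1) = 2 ^ n * (w - 1 - 2 * c) := by ring
        rw [e1, pow_add] at hd
        have := Int.dvd_of_mul_dvd_mul_left (by positivity) hd
        norm_num at this
        exact this
      have h2 : ∃ c : ℤ, (4 : ℤ) ∣ v - 1 - 2 * c ∧ (4 : ℤ) ∣ u - 1 - 2 * c := by
        rcases Sd.A0_eq h.toCo h1 with ⟨h2, h3⟩ | ⟨h2, h3⟩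
        · rw [h.q1.zpow_eq_one] at h2
          rw [h.q2.zpow_eq_one] at h3
          exact ⟨0, dv _ _ (by simpa using h2), dv _ _ (by simpa using h3)⟩
        · rw [← h.q1.rzp, h.q1.zpow_eq] at h2
          rw [← h.q2.rzp, h.q2.zpow_eq] at h3
          exact ⟨1, dv _ _ (by simpa using h2), dv _ _ (by simpa using h3)⟩
      obtain ⟨c, ⟨m1, hm1⟩, ⟨m2, hm2⟩⟩ := h2
      have e1 : v = 4 * m1 + 1 + 2 * c := by linarith
      have e2 : u = 4 * m2 + 1 + 2 * c := by linarith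
      refine ⟨4 * m1 * m2 + m1 * (1 + 2 * c) + m2 * (1 + 2 * c) + c + c * c, ?_⟩
      rw [e1, e2]; ring
    rcases (sign h a hn (mul_mem hτ.1 hτ.1) TT).1 with h5 | h5
    · rw [TT.a1] at h5
      rw [← h.q1.zpow_eq, h5, zpow_one]
    · exfalso
      rw [TT.a1, ← zpow_neg_one, h.q1.zpow_eq] at h5
      have h6 : (4 : ℤ) ∣ v * u - -1 := dvd_trans ⟨2 ^ n, by ring⟩ h5
      omega
  -- `cj τ x = x * w`
  have hB : InA r1 r2 (cj k⁻¹ (cj k r1)) := by simpa using A_r1 r1 r2 1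
  have hB' := B_cj h a hτ hB
  obtain ⟨hxS', j1', j2', -, -, X', oj1', oj2', -⟩ := step3' h a hn hB'
    (by rw [← cj_pow, ← cj_pow, h.q1.rp, a.hz, cj_eq_self hτ.2])
  have hwR : (cj k r1)⁻¹ * cj τ (cj k r1) ∈ RR r1 y1 r2 y2 := by
    rw [← Int.not_even_iff_odd] at oj1 oj2 oj1' oj2'
    refine h.ns_ns hxS hxS' X X' ?_ ?_ <;> tauto
  obtain ⟨α, β, hw⟩ : InA r1 r2 ((cj k r1)⁻¹ * cj τ (cj k r1)) := by
    have x1 : cj (cj k r1) r1 = r1 := by rw [X.a1, zpow_one]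
    have x2 : cj (cj k r1) r2 = r2 := by rw [X.a2, zpow_one]
    refine RR_A h.toCo hwR ?_ ?_
    · rw [cj_mul_left, X'.a1, zpow_one]
      exact (cj_eq_iff.1 x1).symm
    · rw [cj_mul_left, X'.a2, zpow_one]
      exact (cj_eq_iff.1 x2).symm
  have hτx : cj τ (cj k r1) = cj k r1 * (r1 ^ α * r2 ^ β) := by rw [← hw]; group
  have xA : ∀ w, InA r1 r2 w → cj k r1 * w = w * cj k r1 := fun w hw => step2 h a hn hB hw
  -- compare the squares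
  have hsq : r1 ^ (v * j) * r2 ^ (u * i) = r1 ^ (i + (α + α)) * r2 ^ (j + (β + β)) := by
    have e1 : cj τ (cj k r1 * cj k r1) = r1 ^ (v * j) * r2 ^ (u * i) := by
      rw [hxx, cj_mul, cj_zpow, cj_zpow, T.a1, T.a2, ← zpow_mul, ← zpow_mul,
        ← Sd.r_zpow_comm h.toCo]
    rw [← e1, cj_mul, hτx]
    calc cj k r1 * (r1 ^ α * r2 ^ β) * (cj k r1 * (r1 ^ α * r2 ^ β)) =
        cj k r1 * ((r1 ^ α * r2 ^ β) * cj k r1) * (r1 ^ α * r2 ^ β) := by group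
      _ = (cj k r1 * cj k r1) * ((r1 ^ α * r2 ^ β) * (r1 ^ α * r2 ^ β)) := by
          rw [← xA _ ⟨α, β, rfl⟩]; group
      _ = _ := by rw [hxx, Sd.A0_mul h.toCo, Sd.A0_mul h.toCo]
  have hd : (2 : ℤ) ^ (n + 1) ∣ β + u * α := by
    have h2 : ∃ c : ℤ, (2 : ℤ) ^ (n + 2) ∣ (v * j - (i + (α + α))) - c * 2 ^ (n + 1) ∧
        (2 : ℤ) ^ (n + 2) ∣ (u * i - (j + (β + β))) - c * 2 ^ (n + 1) := by
      rcases Sd.A0_eq h.toCo hsq with ⟨h2, h3⟩ | ⟨h2, h3⟩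
      · rw [h.q1.zpow_eq_one] at h2
        rw [h.q2.zpow_eq_one] at h3
        exact ⟨0, by simpa using h2, by simpa using h3⟩
      · rw [← h.q1.rzp, h.q1.zpow_eq] at h2
        rw [← h.q2.rzp, h.q2.zpow_eq] at h3
        exact ⟨1, by simpa using h2, by simpa using h3⟩
    obtain ⟨c, hc1, hc2⟩ := h2
    obtain ⟨m, hm⟩ := ou
    have h3 : (2 : ℤ) ^ (n + 2) ∣ c * (u + 1) * 2 ^ (n + 1) := by
      refine ⟨c * (m + 1), ?_⟩
      rw [hm]; ring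
    have h4 : (2 : ℤ) ^ (n + 2) ∣ 2 * (β + u * α) := by
      have h5 := dvd_sub (dvd_sub (Dvd.dvd.mul_left huv j) (dvd_add (Dvd.dvd.mul_left hc1 u) hc2)) h3
      have e : j * (v * u - 1) - (u * (v * j - (i + (α + α)) - c * 2 ^ (n + 1)) +
          (u * i - (j + (β + β)) - c * 2 ^ (n + 1))) - c * (u + 1) * 2 ^ (n + 1) =
          2 * (β + u * α) := by ring
      rwa [e] at h5
    rw [show (2 : ℤ) ^ (n + 2) = 2 * 2 ^ (n + 1) by ring] at h4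
    exact Int.dvd_of_mul_dvd_mul_left (by norm_num) h4
  -- `x' = x * r1 ^ α`
  have hx' : cj τ (cj k r1 * r1 ^ α) = cj k r1 * r1 ^ α ∨
      cj τ (cj k r1 * r1 ^ α) = cj k r1 * r1 ^ α * z := by
    have e : cj τ (cj k r1 * r1 ^ α) = cj k r1 * r1 ^ α * r2 ^ (β + u * α) := by
      rw [cj_mul, hτx, cj_zpow, T.a1, ← zpow_mul, zpow_add]
      group
    rcases h.q2.zpow_mem.2 hd with h1 | h1
    · left; rw [e, h1, mul_one]
    · right; rw [e, h1]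
  by_cases hα : Even α
  · exact fin h a hn hτ T hα hx'
  · -- conjugate by `y1`
    have T' := (h.ns_y1.mul_sw T).mul_ns h.ns_y1
    have M' : InM S (r1 ^ (2 ^ n) * r2 ^ (2 ^ n)) (y1 * τ * y1) := by
      refine ⟨mul_mem (mul_mem h.h2 hτ.1) h.h2, ?_⟩
      rw [← cj_eq_self_iff, cj_mul_left, y1_t h, cj_mul_left, cj_mul, cj_eq_self hτ.2,
        h.cj_z hτ.1, cj_mul, y1_t h, h.q1.cj_y_z, mul_assoc, h.q1.z_sq, mul_one]
    have hyx : cj y1 (cj k r1) = cj k r1 * r1 ^ (-j1) := by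
      have h1 : cj k r1 * y1 = r1 ^ j1 * y1 * cj k r1 := by
        have := mul_cj (cj k r1) y1
        rwa [X.b1] at this
      have h2 : y1 * cj k r1 = cj k r1 * r1 ^ (-j1) * y1 := by
        rw [xA _ (A_r1 r1 r2 _), mul_assoc, h1]
        group
      rw [cj_def, h2]; group
    have e1 : cj y1 (cj k r1 * r1 ^ α) = cj k r1 * r1 ^ (-j1 - α) := by
      rw [cj_mul, hyx, h.q1.cj_y_zpow, mul_assoc, ← zpow_add, sub_eq_add_neg]
    have e2 : cj (y1 * τ * y1) (cj k r1 * r1 ^ (-j1 - α)) = cj y1 (cj τ (cj k r1 * r1 ^ α)) := by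
      have hzx : cj z (cj k r1 * r1 ^ α) = cj k r1 * r1 ^ α :=
        cj_eq_self (h.zc (mul_mem hxS (S.zpow_mem h.h1 _))).symm
      rw [← e1, cj_mul_left, ← cj_mul_left y1 y1, h.q1.ys, hzx, cj_mul_left]
    refine fin h a hn M' T' (c := -j1 - α) ?_ ?_
    · rw [Int.not_even_iff_odd] at hα
      exact (oj1.neg).sub_odd hα
    · rw [e2]
      rcases hx' with hx' | hx'
      · left; rw [hx', e1]
      · right; rw [hx', cj_mul, e1, h.q1.cj_y_z]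

theorem no_swap {τ : G} (hτ : τ ∈ S) {u p v q : ℤ} (T : Sw r1 y1 r2 y2 τ u p v q) : False := by
  obtain ⟨σ, hσ, _, _, _, _, T'⟩ := sw_M h hτ T
  exact no_swap' h a hn hσ T'

/-- `S = R ∪ x R`. -/
theorem all {s : G} (hs : s ∈ S) : s ∈ RR r1 y1 r2 y2 ∨ (cj k r1)⁻¹ * s ∈ RR r1 y1 r2 y2 := by
  rcases h.act s hs with ⟨_, _, _, _, N⟩ | ⟨_, _, _, _, _, N⟩
  · exact cos h a hn hs N
  · exact (no_swap h a hn hs N).elim

/-! ### (3.5): the square of `x` -/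

omit a hn in
theorem YY : y1 * y2 * (y1 * y2) = 1 := by
  calc y1 * y2 * (y1 * y2) = y1 * (y2 * y1) * y2 := by group
    _ = (y1 * y1) * (y2 * y2) := by rw [← h.yy]; group
    _ = 1 := by rw [h.q1.ys, h.q2.ys, h.q1.z_sq]

omit a hn in
theorem cjY_A {w : G} (hw : InA r1 r2 w) : cj (y1 * y2) w = w⁻¹ := by
  obtain ⟨i, j, rfl⟩ := hw
  rw [cj_mul_left, cj_mul, cj_zpow y2 r1, cj_eq_self h.ry.symm, h.q2.cj_y_zpow, cj_mul,
    h.q1.cj_y_zpow, cj_zpow, cj_eq_self h.yr, mul_inv_rev, ← zpow_neg, ← zpow_neg,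
    Sd.r_zpow_comm h.toCo]

omit a hn in
/-- `C_S(A₀)`-type element: conjugation by `y1 y2`. -/
theorem cjY_x {x : G} {j1 j2 : ℤ} (X : Ns r1 y1 r2 y2 x 1 j1 1 j2) :
    cj (y1 * y2) x = x * (r1 ^ (-j1) * r2 ^ (-j2)) := by
  have c1 : ∀ i : ℤ, x * r1 ^ i = r1 ^ i * x := by
    intro i
    have := mul_cj x (r1 ^ i)
    rwa [cj_zpow, X.a1, zpow_one] at this
  have c2 : ∀ i : ℤ, x * r2 ^ i = r2 ^ i * x := by
    intro i
    have := mul_cj x (r2 ^ i)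
    rwa [cj_zpow, X.a2, zpow_one] at this
  have h1 : cj y1 x = x * r1 ^ (-j1) := by
    have h1 : x * y1 = r1 ^ j1 * y1 * x := by
      have := mul_cj x y1
      rwa [X.b1] at this
    have h2 : y1 * x = x * r1 ^ (-j1) * y1 := by
      rw [c1, mul_assoc, h1]
      group
    rw [cj_def, h2]; group
  have h2 : cj y2 x = x * r2 ^ (-j2) := by
    have h1 : x * y2 = r2 ^ j2 * y2 * x := by
      have := mul_cj x y2
      rwa [X.b2] at this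
    have h2 : y2 * x = x * r2 ^ (-j2) * y2 := by
      rw [c2, mul_assoc, h1]
      group
    rw [cj_def, h2]; group
  rw [cj_mul_left, h2, cj_mul, h1, cj_zpow, cj_eq_self h.yr, mul_assoc]

omit a hn in
theorem sq1 {w : G} (hw : InA r1 r2 w) : w * (y1 * y2) * (w * (y1 * y2)) = 1 := by
  have e : w * (y1 * y2) * (w * (y1 * y2)) = w * cj (y1 * y2) w * (y1 * y2 * (y1 * y2)) := by
    simp only [cj_def]; group
  rw [e, cjY_A h hw, YY h, mul_inv_cancel, mul_one]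

omit a hn in
theorem sq2 {x : G} {j1 j2 : ℤ} (X : Ns r1 y1 r2 y2 x 1 j1 1 j2) {w : G} (hw : InA r1 r2 w)
    (hxw : x * w = w * x) :
    x * w * (y1 * y2) * (x * w * (y1 * y2)) = x * x * (r1 ^ (-j1) * r2 ^ (-j2)) := by
  have e : x * w * (y1 * y2) * (x * w * (y1 * y2)) =
      x * w * (cj (y1 * y2) x * cj (y1 * y2) w) * (y1 * y2 * (y1 * y2)) := by
    simp only [cj_def]; group
  rw [e, cjY_A h hw, YY h, cjY_x h X, mul_one]
  have c : r1 ^ (-j1) * r2 ^ (-j2) * w⁻¹ = w⁻¹ * (r1 ^ (-j1) * r2 ^ (-j2)) :=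
    A_comm h.toCo ⟨_, _, rfl⟩ (A_inv h.toCo hw)
  calc x * w * (x * (r1 ^ (-j1) * r2 ^ (-j2)) * w⁻¹) =
      x * (w * x) * (r1 ^ (-j1) * r2 ^ (-j2) * w⁻¹) := by group
    _ = x * x * (w * w⁻¹) * (r1 ^ (-j1) * r2 ^ (-j2)) := by rw [c, ← hxw]; group
    _ = _ := by rw [mul_inv_cancel, mul_one]

/-- the four kinds of elements of `M₀`. -/
theorem M_four {m : G} (hm : InM S (r1 ^ (2 ^ n) * r2 ^ (2 ^ n)) m) :
    ∃ w, InA r1 r2 w ∧ (m = w ∨ m = cj k r1 * w ∨ m = w * (y1 * y2) ∨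
      m = cj k r1 * w * (y1 * y2)) := by
  obtain ⟨hxS, j1, j2, _, _, X, -⟩ := xx h a hn
  have x1 : cj (cj k r1)⁻¹ r1 = r1 := (cj_eq_iff.1 (by rw [X.a1, zpow_one])).symm
  have x2 : cj (cj k r1)⁻¹ r2 = r2 := (cj_eq_iff.1 (by rw [X.a2, zpow_one])).symm
  have YR : y1 * y2 ∈ RR r1 y1 r2 y2 := mul_mem h.m2 h.m4
  have Y1 : cj (y1 * y2) r1 = r1⁻¹ := cjY_A h (by simpa using A_r1 r1 r2 1)
  have Y2 : cj (y1 * y2) r2 = r2⁻¹ := cjY_A h (by simpa using A_r2 r1 r2 1)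
  have hs : (cj m r1 = r1 ∧ cj m r2 = r2) ∨ (cj m r1 = r1⁻¹ ∧ cj m r2 = r2⁻¹) := by
    rcases h.act m hm.1 with ⟨_, _, _, _, N⟩ | ⟨_, _, _, _, _, N⟩
    · exact signM h a hn hm N
    · exact (no_swap h a hn hm.1 N).elim
  rcases all h a hn hm.1 with hR | hR <;> rcases hs with ⟨s1, s2⟩ | ⟨s1, s2⟩
  · exact ⟨m, RR_A h.toCo hR s1 s2, Or.inl rfl⟩
  · refine ⟨m * (y1 * y2), RR_A h.toCo (mul_mem hR YR) ?_ ?_, Or.inr (Or.inr (Or.inl ?_))⟩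
    · rw [cj_mul_left, Y1, cj_inv, s1, inv_inv]
    · rw [cj_mul_left, Y2, cj_inv, s2, inv_inv]
    · rw [mul_assoc, YY h, mul_one]
  · refine ⟨(cj k r1)⁻¹ * m, RR_A h.toCo hR ?_ ?_, Or.inr (Or.inl ?_)⟩
    · rw [cj_mul_left, s1, x1]
    · rw [cj_mul_left, s2, x2]
    · group
  · refine ⟨(cj k r1)⁻¹ * m * (y1 * y2), RR_A h.toCo (mul_mem hR YR) ?_ ?_,
      Or.inr (Or.inr (Or.inr ?_))⟩
    · rw [cj_mul_left, Y1, cj_mul_left, cj_inv, s1, inv_inv, x1]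
    · rw [cj_mul_left, Y2, cj_mul_left, cj_inv, s2, inv_inv, x2]
    · rw [mul_assoc (cj k r1), mul_assoc ((cj k r1)⁻¹ * m), YY h]
      group

theorem xsq {j1 j2 : ℤ} (X : Ns r1 y1 r2 y2 (cj k r1) 1 j1 1 j2) :
    cj k r1 * cj k r1 = r1 ^ j1 * r2 ^ j2 := by
  obtain ⟨hxS, -, -, i, j, -, -, -, hxx, -, -⟩ := xx h a hn
  have hB : InA r1 r2 (cj k⁻¹ (cj k r1)) := by simpa using A_r1 r1 r2 1
  have xA : ∀ w, InA r1 r2 w → cj k r1 * w = w * cj k r1 := fun w hw => step2 h a hn hB hw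
  have key : ∀ (r y : G), Qn z r y n → ∀ i j1 : ℤ, r ^ (1 * j1 + j1) * y = r ^ (2 * i) * y →
      ∃ c : ℤ, r ^ i = r ^ j1 * z ^ c := by
    intro r y q i j1 he
    have he := mul_right_cancel he
    rw [q.zpow_eq, show (1 * j1 + j1) - 2 * i = 2 * (j1 - i) by ring,
      show (2 : ℤ) ^ (n + 2) = 2 * 2 ^ (n + 1) by ring] at he
    obtain ⟨c, hc⟩ := Int.dvd_of_mul_dvd_mul_left (by norm_num) he
    refine ⟨-c, ?_⟩
    rw [← q.rzp, ← zpow_mul, ← zpow_add]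
    congr 1
    linear_combination -hc
  have XX := X.mul X
  have hR := h.ns_r1 i
  have hcj1 : cj (cj k r1 * cj k r1) y1 = r1 ^ (2 * i) * y1 := by
    rw [hxx, cj_mul_left, (h.ns_r2 j).b1, zpow_zero, one_mul, hR.b1]
  have hcj2 : cj (cj k r1 * cj k r1) y2 = r2 ^ (2 * j) * y2 := by
    rw [hxx, cj_mul_left, (h.ns_r2 j).b2, cj_mul, cj_zpow, hR.a2, hR.b2, zpow_one, zpow_zero,
      one_mul]
  obtain ⟨c1, hc1⟩ := key r1 y1 h.q1 i j1 (XX.b1.symm.trans hcj1)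
  obtain ⟨c2, hc2⟩ := key r2 y2 h.q2 j j2 (XX.b2.symm.trans hcj2)
  have hx2 : cj k r1 * cj k r1 = r1 ^ j1 * r2 ^ j2 * z ^ (c1 + c2) := by
    have z3 : Commute (z ^ c1) (r2 ^ j2) :=
      (Commute.zpow_zpow (show Commute z r2 from h.q2.zr) _ _)
    rw [hxx, hc1, hc2, zpow_add]
    calc r1 ^ j1 * z ^ c1 * (r2 ^ j2 * z ^ c2) = r1 ^ j1 * (z ^ c1 * r2 ^ j2) * z ^ c2 := by group
      _ = _ := by rw [z3.eq]; group
  rcases h.q1.zpow_one_or (c1 + c2) with hc | hc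
  · rw [hx2, hc, mul_one]
  exfalso
  rw [hc] at hx2
  -- elements `x w y1 y2` have square `z`
  have sqz : ∀ w, InA r1 r2 w → cj k r1 * w * (y1 * y2) * (cj k r1 * w * (y1 * y2)) = z := by
    intro w hw
    rw [sq2 h X hw (xA w hw), hx2]
    have hzA : r1 ^ (-j1) * r2 ^ (-j2) * z = z * (r1 ^ (-j1) * r2 ^ (-j2)) :=
      h.zc (A_S h ⟨_, _, rfl⟩)
    rw [mul_assoc, ← hzA, ← mul_assoc, Sd.A0_mul h.toCo]
    simp
  have Mm : ∀ w, InA r1 r2 w → InM S (r1 ^ (2 ^ n) * r2 ^ (2 ^ n)) (cj k r1 * w * (y1 * y2)) := by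
    intro w hw
    refine ⟨mul_mem (mul_mem hxS (A_S h hw)) (mul_mem h.h2 h.h4), ?_⟩
    have tA : InA r1 r2 (r1 ^ (2 ^ n) * r2 ^ (2 ^ n)) := t_A
    have tt : (r1 ^ (2 ^ n) * r2 ^ (2 ^ n))⁻¹ = r1 ^ (2 ^ n) * r2 ^ (2 ^ n) := by
      have : (r1 ^ (2 ^ n) * r2 ^ (2 ^ n)) * (r1 ^ (2 ^ n) * r2 ^ (2 ^ n)) = 1 := by
        rw [← a.hz, ← cj_mul, h.q1.z_sq, cj_one]
      exact inv_eq_of_mul_eq_one_left this
    rw [← cj_eq_self_iff, cj_mul_left, cj_mul_left, cjY_A h tA, tt,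
      cj_eq_self (A_comm h.toCo hw tA), cj_eq_self (xA _ tA)]
  have hzc : ∀ w ∈ S, w * z = z * w := fun w hw => h.zc hw
  have cases2 : ∀ w, InA r1 r2 w → ∃ w', InA r1 r2 w' ∧
      (cj k (cj k r1 * w * (y1 * y2)) = w' ∨ cj k (cj k r1 * w * (y1 * y2)) = cj k r1 * w') := by
    intro w hw
    have hm := M_cj a hzc (Mm w hw)
    have hmm : cj k (cj k r1 * w * (y1 * y2)) * cj k (cj k r1 * w * (y1 * y2)) =
        r1 ^ (2 ^ n) * r2 ^ (2 ^ n) := by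
      rw [← cj_mul, sqz w hw, a.hz]
    obtain ⟨w', hw', hc⟩ := M_four h a hn hm
    rcases hc with hc | hc | hc | hc
    · exact ⟨w', hw', Or.inl hc⟩
    · exact ⟨w', hw', Or.inr hc⟩
    · rw [hc, sq1 h hw'] at hmm
      exact (t_ne_one h hmm.symm).elim
    · rw [hc, sqz w' hw'] at hmm
      exact (t_ne_z h hmm.symm).elim
  have hA1 : InA r1 r2 1 := by simpa using A_r1 r1 r2 0
  have hAr : InA r1 r2 r1 := by simpa using A_r1 r1 r2 1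
  obtain ⟨w1, hw1, hc1⟩ := cases2 1 hA1
  obtain ⟨w2, hw2, hc2⟩ := cases2 r1 hAr
  have hcomm : cj k (cj k r1 * 1 * (y1 * y2)) * cj k (cj k r1 * r1 * (y1 * y2)) =
      cj k (cj k r1 * r1 * (y1 * y2)) * cj k (cj k r1 * 1 * (y1 * y2)) := by
    have e12 := A_comm h.toCo hw1 hw2
    have x1 := xA w1 hw1
    have x2 := xA w2 hw2
    generalize cj k r1 = x at *
    rcases hc1 with hc1 | hc1 <;> rcases hc2 with hc2 | hc2 <;> rw [hc1, hc2]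
    · exact e12
    · rw [← mul_assoc, ← x1, mul_assoc, e12, ← mul_assoc]
    · rw [mul_assoc, e12, ← mul_assoc, x2, mul_assoc]
    · calc x * w1 * (x * w2) = x * (w1 * x) * w2 := by group
        _ = x * x * (w1 * w2) := by rw [← x1]; group
        _ = x * (x * w2) * w1 := by rw [e12]; group
        _ = x * (w2 * x) * w1 := by rw [x2]
        _ = _ := by group
  rw [← cj_mul, ← cj_mul] at hcomm
  have hcomm := cj_inj hcomm
  have h1 : y1 * y2 * (cj k r1 * r1) = r1 * (y1 * y2 * cj k r1) := by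
    have h2 : cj k r1 * (y1 * y2 * (cj k r1 * r1)) * (y1 * y2) =
        cj k r1 * (r1 * (y1 * y2 * cj k r1)) * (y1 * y2) := by
      calc cj k r1 * (y1 * y2 * (cj k r1 * r1)) * (y1 * y2) =
          cj k r1 * 1 * (y1 * y2) * (cj k r1 * r1 * (y1 * y2)) := by group
        _ = _ := by rw [hcomm]; group
    exact mul_left_cancel (mul_right_cancel h2)
  rw [mul_cj (y1 * y2) (cj k r1 * r1), mul_cj (y1 * y2) (cj k r1), ← mul_assoc r1] at h1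
  have h1 := mul_right_cancel h1
  rw [cj_mul, cjY_A h hAr, cjY_x h X] at h1
  have h2 : r1 * (cj k r1 * (r1 ^ (-j1) * r2 ^ (-j2))) = cj k r1 * (r1 ^ (-j1) * r2 ^ (-j2)) * r1 := by
    rw [← mul_assoc, ← xA r1 hAr, mul_assoc, A_comm h.toCo hAr ⟨_, _, rfl⟩, mul_assoc, mul_assoc,
      mul_assoc]
  rw [h2] at h1
  exact h.q1.r_ne_inv (mul_left_cancel h1).symm

/-- section 3, `n1 = n2`. -/
theorem three' : Tg S z := by
  obtain ⟨hxS, j1, j2, _, _, X, oj1, oj2, -⟩ := xx h a hn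
  have h1 := ((h.change (u := j2) (j := 0) oj2).symm.change (u := j1) (j := 0) oj1).symm
  rw [zpow_zero, zpow_zero, one_mul, one_mul] at h1
  have hRR : RR (r1 ^ j1) y1 (r2 ^ j2) y2 = RR r1 y1 r2 y2 := by
    have e1 := (h.toCo.RR_change (u := j2) (j := 0) oj2)
    have e2 := ((h.toCo.change (u := j2) (j := 0) oj2).symm.RR_change (u := j1) (j := 0) oj1)
    rw [zpow_zero, one_mul] at e1
    rw [zpow_zero, one_mul, zpow_zero, one_mul, Co.RR_symm, Co.RR_symm (r2 ^ j2)] at e2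
    rw [e2, e1]
  refine ⟨r1 ^ j1, y1, r2 ^ j2, y2, n, h1, Or.inl ⟨cj k r1, hxS, ⟨xsq h a hn X, ?_, ?_, X.b1,
    X.b2⟩, ?_⟩⟩
  · rw [cj_zpow, X.a1, zpow_one]
  · rw [cj_zpow, X.a2, zpow_one]
  · intro s hs
    rw [hRR]
    exact all h a hn hs

end C

/-- Section 3: `z ~ t`, `n₁ ≥ 1`. -/
theorem three {S : Subgroup G} {z r1 y1 r2 y2 k : G} {n1 n2 : ℕ} (h : Sd S z r1 y1 r2 y2 n1 n2)
    (hn : 1 ≤ n1) (hn' : n2 ≤ n1) (a : Al S z (r1 ^ (2 ^ n1) * r2 ^ (2 ^ n2)) k) : Tg S z := by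
  have h1 := (step3 h a hn hn' (s := cj k r1) (by simpa using A_r1 r1 r2 1)
    (by rw [← cj_pow, h.q1.rp, a.hz])).1
  subst h1
  exact three' h a hn

end Cfsg.Agent.GH.Q2.Three
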