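import Cfsg.Agent.GH.Q2.FusionT
import Cfsg.Agent.GH.Q2.Three
import Cfsg.Agent.GH.Q2.Five
import Cfsg.Agent.GH.Q2.Four

/-!
# GH-Q, case (II): the main theorem on the 2-group
-/

set_option autoImplicit false

namespace Cfsg.Agent.GH.Q2

open Subgroup

variable {G : Type*} [Group G]

/-- **Case (II)**: the Sylow 2-subgroup has one of the four target presentations. -/
theorem tg_of_fu [Finite G] (S : Sylow 2 G) {z r1 y1 r2 y2 : G} {n1 n2 : ℕ}
    (h : Sd (S : Subgroup G) z r1 y1 r2 y2 n1 n2) (F : Fu (S : Subgroup G) z r1 y1 r2 y2) :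
    Tg (S : Subgroup G) z := by
  by_cases hc : ∃ g : G, cj g z = r1 ^ (2 ^ n1) * r2 ^ (2 ^ n2)
  · obtain ⟨g, hg⟩ := hc
    by_cases h0 : n1 = 0 ∧ n2 = 0
    · obtain ⟨rfl, rfl⟩ := h0
      obtain ⟨k, a⟩ := alpha S h hg
      have hx := fus_hx S h F.f1
      simp only [pow_zero, pow_one] at a hx
      exact Four.four h F a hx
    · rcases le_total n2 n1 with hle | hle
      · obtain ⟨k, a⟩ := alpha S h hg
        exact Three.three h (by omega) hle a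
      · obtain ⟨k, a⟩ := alpha S h.symm (g := g) (by rw [← Sd.t_comm h.toCo]; exact hg)
        exact Three.three h.symm (by omega) hle a
  · refine five h F ?_
    intro g hgR
    by_contra hne
    have hz1 : cj g z * cj g z = 1 := by rw [← cj_mul, h.q1.z_sq, cj_one]
    obtain ⟨c, hc1, hc2⟩ := F.f1 (cj g z) hgR _ (Sd.t_mem_R h.toCo) hz1 (cj_ne_one h.q1.z_ne) hne
      (Sd.t_sq h.toCo) (Sd.t_ne_one h.toCo) (Sd.t_ne_z h.toCo)
    exact hc ⟨c * g, by rw [cj_mul_left, hc2]⟩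

theorem tg_main [Finite G] (S : Sylow 2 G) (hidx : ∀ N : Subgroup G, N.index ≠ 2)
    {z r1 y1 r2 y2 : G} {n1 n2 : ℕ} (h : Sd (S : Subgroup G) z r1 y1 r2 y2 n1 n2)
    (iso : ∃ g : G, cj g z ∈ (S : Subgroup G) ∧ cj g z ≠ z)
    (f1 : ∀ a ∈ RR r1 y1 r2 y2, ∀ b ∈ RR r1 y1 r2 y2, a * a = 1 → a ≠ 1 → a ≠ z → b * b = 1 →
      b ≠ 1 → b ≠ z → ∃ c : G, cj c z = z ∧ cj c a = b)
    (f2 : ∀ c s : G, cj c z = z → s ∈ (S : Subgroup G) → cj c s ∈ (S : Subgroup G) →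
      ∃ t ∈ (S : Subgroup G), cj c s * (cj t s)⁻¹ ∈ RR r1 y1 r2 y2) :
    Tg (S : Subgroup G) z :=
  tg_of_fu S h (fu S hidx h iso f1 f2)

end Cfsg.Agent.GH.Q2
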