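import Mathlib
import Cfsg.Agent.GH.Defs

/-!
# GH-Q, case (II): the relations of the model 2-groups

`RelR n z r₁ y₁ r₂ y₂`: the relations of the central product of two generalized quaternion groups of order `2 ^ (n + 3)`.
`RelX`, `RelT`: an element of type `(1, 1)`, a swap.  `card_le*`: bounds for the orders of the groups generated by such
elements.  `equiv_of_card`: two groups generated by elements satisfying the same relations and having the maximal order are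
isomorphic.
-/

set_option autoImplicit false

namespace Cfsg.Agent.GH.Q2.Rel

open Subgroup Cfsg.Agent.GH.Defs

variable {G : Type*} [Group G]

/-! ### general lemmas -/

/-- The elements of `Δ⟨σ⟩`. -/
theorem mem_sup {Δ : Subgroup G} {σ : G} (hn : ∀ d ∈ Δ, σ * d * σ⁻¹ ∈ Δ) (hn' : ∀ d ∈ Δ, σ⁻¹ * d * σ ∈ Δ) {g : G}
    (hg : g ∈ Δ ⊔ closure {σ}) : ∃ d ∈ Δ, ∃ i : ℤ, g = d * σ ^ i := by
  have hσ : σ ∈ normalizer (Δ : Set G) := by
    rw [mem_normalizer_iff]
    intro d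
    refine ⟨fun h => hn d h, fun h => ?_⟩
    have h2 := hn' _ h
    have e : σ⁻¹ * (σ * d * σ⁻¹) * σ = d := by group
    rwa [e] at h2
  have hpow : ∀ (i : ℤ) (d : G), d ∈ Δ → σ ^ i * d * (σ ^ i)⁻¹ ∈ Δ := by
    intro i d hd
    exact (mem_normalizer_iff.1 ((normalizer (Δ : Set G)).zpow_mem hσ i) d).1 hd
  let K : Subgroup G :=
    { carrier := {g | ∃ d ∈ Δ, ∃ i : ℤ, g = d * σ ^ i}
      mul_mem' := by
        rintro _ _ ⟨d, hd, i, rfl⟩ ⟨e, he, j, rfl⟩
        refine ⟨d * (σ ^ i * e * (σ ^ i)⁻¹), Δ.mul_mem hd (hpow i e he), i + j, ?_⟩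
        rw [zpow_add]
        group
      one_mem' := ⟨1, Δ.one_mem, 0, by simp⟩
      inv_mem' := by
        rintro _ ⟨d, hd, i, rfl⟩
        refine ⟨σ ^ (-i) * d⁻¹ * (σ ^ (-i))⁻¹, hpow _ _ (Δ.inv_mem hd), -i, ?_⟩
        group }
  have hle : Δ ⊔ closure {σ} ≤ K := by
    refine sup_le (fun d hd => ⟨d, hd, 0, by simp⟩) ?_
    rw [closure_le, Set.singleton_subset_iff]
    exact ⟨1, Δ.one_mem, 1, by simp⟩
  exact hle hg

theorem card_sup_le {Δ : Subgroup G} {σ : G} {m c : ℕ} (hm : 0 < m) (hΔ : Finite Δ ∧ Nat.card Δ ≤ c)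
    (hn : ∀ d ∈ Δ, σ * d * σ⁻¹ ∈ Δ) (hn' : ∀ d ∈ Δ, σ⁻¹ * d * σ ∈ Δ) (hσ : σ ^ m ∈ Δ) :
    Finite ↥(Δ ⊔ closure {σ}) ∧ Nat.card ↥(Δ ⊔ closure {σ}) ≤ m * c := by
  obtain ⟨hfin, hc⟩ := hΔ
  let f : Δ × Fin m → ↥(Δ ⊔ closure {σ}) := fun p =>
    ⟨(p.1 : G) * σ ^ (p.2 : ℕ), mul_mem (le_sup_left (a := Δ) p.1.2)
      (pow_mem (le_sup_right (a := Δ) (subset_closure (Set.mem_singleton σ))) _)⟩
  have hf : Function.Surjective f := by
    rintro ⟨g, hg⟩
    obtain ⟨d, hd, i, rfl⟩ := mem_sup hn hn' hg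
    have hpos : (0 : ℤ) < m := by exact_mod_cast hm
    have h1 : 0 ≤ i % m := Int.emod_nonneg _ hpos.ne'
    have h2 : i % m < m := Int.emod_lt_of_pos _ hpos
    obtain ⟨j, hj⟩ := Int.eq_ofNat_of_zero_le h1
    have hjm : j < m := by rw [hj] at h2; exact_mod_cast h2
    refine ⟨(⟨d * (σ ^ m) ^ (i / m), Δ.mul_mem hd (Δ.zpow_mem hσ _)⟩, ⟨j, hjm⟩), Subtype.ext ?_⟩
    change d * (σ ^ m) ^ (i / m) * σ ^ j = d * σ ^ i
    rw [mul_assoc]
    congr 1
    rw [← zpow_natCast σ j, ← zpow_natCast σ m, ← zpow_mul, ← zpow_add]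
    congr 1
    have := Int.mul_ediv_add_emod i m
    rw [hj] at this
    exact this
  have : Finite ↥(Δ ⊔ closure {σ}) := Finite.of_surjective f hf
  refine ⟨this, ?_⟩
  have h3 := Nat.card_le_card_of_surjective f hf
  rw [Nat.card_prod, Nat.card_fin, mul_comm] at h3
  exact h3.trans (Nat.mul_le_mul_left _ hc)

theorem conj_closure {X : Set G} {σ : G} (h : ∀ g ∈ X, σ * g * σ⁻¹ ∈ closure X) : ∀ d ∈ closure X, σ * d * σ⁻¹ ∈ closure X := by
  have hle : closure X ≤ (closure X).comap (MulAut.conj σ).toMonoidHom := by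
    rw [closure_le]
    intro g hg
    exact h g hg
  intro d hd
  exact hle hd

theorem conj_closure' {X : Set G} {σ : G} (h : ∀ g ∈ X, σ⁻¹ * g * σ ∈ closure X) :
    ∀ d ∈ closure X, σ⁻¹ * d * σ ∈ closure X := by
  have h2 := conj_closure (X := X) (σ := σ⁻¹) (by simpa using h)
  simpa using h2

/-- Adding one generator. -/
theorem card_insert_le {X : Set G} {σ : G} {m c : ℕ} (hm : 0 < m) (hX : Finite (closure X) ∧ Nat.card (closure X) ≤ c)
    (hn : ∀ g ∈ X, σ * g * σ⁻¹ ∈ closure X) (hn' : ∀ g ∈ X, σ⁻¹ * g * σ ∈ closure X) (hσ : σ ^ m ∈ closure X) :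
    Finite (closure (insert σ X)) ∧ Nat.card (closure (insert σ X)) ≤ m * c := by
  have e : closure (insert σ X) = closure X ⊔ closure {σ} := by
    rw [Set.insert_eq, Subgroup.closure_union, sup_comm]
  rw [e]
  exact card_sup_le hm hX (conj_closure hn) (conj_closure' hn') hσ

/-- Two groups with the same kind of generators and the same order are isomorphic if the pairs of generators generate a
group of at most this order. -/
theorem equiv_of_card {ι G' : Type*} [Group G'] {g : ι → G} {g' : ι → G'} {N : ℕ}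
    (hG : Nat.card (closure (Set.range g)) = N) (hG' : Nat.card (closure (Set.range g')) = N)
    (hP : Finite (closure (Set.range fun i => (g i, g' i))) ∧ Nat.card (closure (Set.range fun i => (g i, g' i))) ≤ N) :
    ∃ e : closure (Set.range g) ≃* closure (Set.range g'), ∀ i, (e ⟨g i, subset_closure ⟨i, rfl⟩⟩ : G') = g' i := by
  obtain ⟨hfin, hle⟩ := hP
  set Δ := closure (Set.range fun i => (g i, g' i)) with hΔ
  have h1 : Δ.map (MonoidHom.fst G G') = closure (Set.range g) := by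
    rw [hΔ, MonoidHom.map_closure, ← Set.range_comp]
    rfl
  have h2 : Δ.map (MonoidHom.snd G G') = closure (Set.range g') := by
    rw [hΔ, MonoidHom.map_closure, ← Set.range_comp]
    rfl
  have m1 : ∀ d : Δ, (d : G × G').1 ∈ closure (Set.range g) := fun d => by
    rw [← h1]; exact ⟨_, d.2, rfl⟩
  have m2 : ∀ d : Δ, (d : G × G').2 ∈ closure (Set.range g') := fun d => by
    rw [← h2]; exact ⟨_, d.2, rfl⟩
  let f1 : Δ →* closure (Set.range g) := ((MonoidHom.fst G G').comp Δ.subtype).codRestrict _ m1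
  let f2 : Δ →* closure (Set.range g') := ((MonoidHom.snd G G').comp Δ.subtype).codRestrict _ m2
  have s1 : Function.Surjective f1 := by
    rintro ⟨x, hx⟩
    rw [← h1] at hx
    obtain ⟨d, hd, rfl⟩ := hx
    exact ⟨⟨d, hd⟩, rfl⟩
  have s2 : Function.Surjective f2 := by
    rintro ⟨x, hx⟩
    rw [← h2] at hx
    obtain ⟨d, hd, rfl⟩ := hx
    exact ⟨⟨d, hd⟩, rfl⟩
  have b1 : Function.Bijective f1 := s1.bijective_of_nat_card_le (by rw [hG]; exact hle)
  have b2 : Function.Bijective f2 := s2.bijective_of_nat_card_le (by rw [hG']; exact hle)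
  refine ⟨(MulEquiv.ofBijective f1 b1).symm.trans (MulEquiv.ofBijective f2 b2), fun i => ?_⟩
  have hi : (g i, g' i) ∈ Δ := subset_closure ⟨i, rfl⟩
  have e1 : (MulEquiv.ofBijective f1 b1).symm ⟨g i, subset_closure ⟨i, rfl⟩⟩ = ⟨(g i, g' i), hi⟩ := by
    rw [MulEquiv.symm_apply_eq]
    rfl
  rw [MulEquiv.trans_apply, e1]
  rfl

/-! ### the relations -/

/-- The relations of the central product of two generalized quaternion groups of order `2 ^ (n + 3)`. -/
structure RelR (n : ℕ) (z r₁ y₁ r₂ y₂ : G) : Prop where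
  zz : z * z = 1
  r₁n : r₁ ^ 2 ^ (n + 1) = z
  r₂n : r₂ ^ 2 ^ (n + 1) = z
  y₁y : y₁ * y₁ = z
  y₂y : y₂ * y₂ = z
  yr₁ : y₁ * r₁ = r₁⁻¹ * y₁
  yr₂ : y₂ * r₂ = r₂⁻¹ * y₂
  rr : r₁ * r₂ = r₂ * r₁
  ry : r₁ * y₂ = y₂ * r₁
  yr : y₁ * r₂ = r₂ * y₁
  yy : y₁ * y₂ = y₂ * y₁

/-- An element of type `(1, 1)` with square `c`. -/
structure RelX (c r₁ y₁ r₂ y₂ x : G) : Prop where
  xx : x * x = c
  xr₁ : x * r₁ = r₁ * x
  xr₂ : x * r₂ = r₂ * x
  xy₁ : x * y₁ = r₁ * y₁ * x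
  xy₂ : x * y₂ = r₂ * y₂ * x

/-- A swap. -/
structure RelT (r₁ y₁ r₂ y₂ t : G) : Prop where
  tt : t * t = 1
  tr : t * r₁ = r₂ * t
  ty : t * y₁ = y₂ * t

section Lemmas

variable {n : ℕ} {z r₁ y₁ r₂ y₂ x t c : G}

theorem RelR.pair {G' : Type*} [Group G'] {z' r₁' y₁' r₂' y₂' : G'} (h : RelR n z r₁ y₁ r₂ y₂)
    (h' : RelR n z' r₁' y₁' r₂' y₂') : RelR n (z, z') (r₁, r₁') (y₁, y₁') (r₂, r₂') (y₂, y₂') where
  zz := Prod.ext h.zz h'.zz
  r₁n := Prod.ext h.r₁n h'.r₁n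
  r₂n := Prod.ext h.r₂n h'.r₂n
  y₁y := Prod.ext h.y₁y h'.y₁y
  y₂y := Prod.ext h.y₂y h'.y₂y
  yr₁ := Prod.ext h.yr₁ h'.yr₁
  yr₂ := Prod.ext h.yr₂ h'.yr₂
  rr := Prod.ext h.rr h'.rr
  ry := Prod.ext h.ry h'.ry
  yr := Prod.ext h.yr h'.yr
  yy := Prod.ext h.yy h'.yy

theorem RelX.pair {G' : Type*} [Group G'] {c' r₁' y₁' r₂' y₂' x' : G'} (h : RelX c r₁ y₁ r₂ y₂ x)
    (h' : RelX c' r₁' y₁' r₂' y₂' x') : RelX (c, c') (r₁, r₁') (y₁, y₁') (r₂, r₂') (y₂, y₂') (x, x') where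
  xx := Prod.ext h.xx h'.xx
  xr₁ := Prod.ext h.xr₁ h'.xr₁
  xr₂ := Prod.ext h.xr₂ h'.xr₂
  xy₁ := Prod.ext h.xy₁ h'.xy₁
  xy₂ := Prod.ext h.xy₂ h'.xy₂

theorem RelT.pair {G' : Type*} [Group G'] {r₁' y₁' r₂' y₂' t' : G'} (h : RelT r₁ y₁ r₂ y₂ t)
    (h' : RelT r₁' y₁' r₂' y₂' t') : RelT (r₁, r₁') (y₁, y₁') (r₂, r₂') (y₂, y₂') (t, t') where
  tt := Prod.ext h.tt h'.tt
  tr := Prod.ext h.tr h'.tr
  ty := Prod.ext h.ty h'.ty

theorem RelR.map {G' : Type*} [Group G'] (h : RelR n z r₁ y₁ r₂ y₂) (f : G →* G') :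
    RelR n (f z) (f r₁) (f y₁) (f r₂) (f y₂) where
  zz := by rw [← map_mul, h.zz, map_one]
  r₁n := by rw [← map_pow, h.r₁n]
  r₂n := by rw [← map_pow, h.r₂n]
  y₁y := by rw [← map_mul, h.y₁y]
  y₂y := by rw [← map_mul, h.y₂y]
  yr₁ := by rw [← map_mul, h.yr₁, map_mul, map_inv]
  yr₂ := by rw [← map_mul, h.yr₂, map_mul, map_inv]
  rr := by rw [← map_mul, h.rr, map_mul]
  ry := by rw [← map_mul, h.ry, map_mul]
  yr := by rw [← map_mul, h.yr, map_mul]
  yy := by rw [← map_mul, h.yy, map_mul]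

theorem RelX.map {G' : Type*} [Group G'] (h : RelX c r₁ y₁ r₂ y₂ x) (f : G →* G') :
    RelX (f c) (f r₁) (f y₁) (f r₂) (f y₂) (f x) where
  xx := by rw [← map_mul, h.xx]
  xr₁ := by rw [← map_mul, h.xr₁, map_mul]
  xr₂ := by rw [← map_mul, h.xr₂, map_mul]
  xy₁ := by rw [← map_mul, h.xy₁, map_mul, map_mul]
  xy₂ := by rw [← map_mul, h.xy₂, map_mul, map_mul]

theorem RelT.map {G' : Type*} [Group G'] (h : RelT r₁ y₁ r₂ y₂ t) (f : G →* G') :
    RelT (f r₁) (f y₁) (f r₂) (f y₂) (f t) where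
  tt := by rw [← map_mul, h.tt, map_one]
  tr := by rw [← map_mul, h.tr, map_mul]
  ty := by rw [← map_mul, h.ty, map_mul]

theorem RelT.inv (h : RelT r₁ y₁ r₂ y₂ t) : t⁻¹ = t := inv_eq_of_mul_eq_one_left h.tt

theorem RelT.tr' (h : RelT r₁ y₁ r₂ y₂ t) : t * r₂ = r₁ * t := by
  have h1 : t * (t * r₁) = t * (r₂ * t) := by rw [h.tr]
  rw [← mul_assoc, h.tt, one_mul, ← mul_assoc] at h1
  rw [h1, mul_assoc, h.tt, mul_one]

theorem RelT.ty' (h : RelT r₁ y₁ r₂ y₂ t) : t * y₂ = y₁ * t := by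
  have h1 : t * (t * y₁) = t * (y₂ * t) := by rw [h.ty]
  rw [← mul_assoc, h.tt, one_mul, ← mul_assoc] at h1
  rw [h1, mul_assoc, h.tt, mul_one]

theorem conj_eq {a b c : G} (h : a * b = c * a) : a * b * a⁻¹ = c := by rw [h, mul_inv_cancel_right]

theorem conj_eq' {a b c : G} (h : a * b = c * a) : a⁻¹ * c * a = b := by rw [mul_assoc, ← h, inv_mul_cancel_left]

/-- The subgroup generated by the five elements has order at most `2 ^ (2 n + 5)`. -/
theorem RelR.card_le (h : RelR n z r₁ y₁ r₂ y₂) :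
    Finite (closure {y₂, y₁, r₂, r₁}) ∧ Nat.card (closure {y₂, y₁, r₂, r₁}) ≤ 2 ^ (2 * n + 5) := by
  -- ⟨r₁⟩
  have hr1 : r₁ ^ 2 ^ (n + 2) = 1 := by
    rw [pow_succ 2 (n + 1), pow_mul, h.r₁n, pow_two, h.zz]
  have h1 : Finite (closure {r₁}) ∧ Nat.card (closure {r₁}) ≤ 2 ^ (n + 2) := by
    rw [← zpowers_eq_closure]
    have hfo : IsOfFinOrder r₁ := isOfFinOrder_iff_pow_eq_one.2 ⟨_, by positivity, hr1⟩
    refine ⟨?_, ?_⟩
    · exact finite_zpowers.2 hfo
    · rw [Nat.card_zpowers]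
      exact orderOf_le_of_pow_eq_one (by positivity) hr1
  have c1 : r₁ ∈ closure ({r₁} : Set G) := subset_closure (Set.mem_singleton _)
  -- ⟨r₁, r₂⟩
  have h2 := card_insert_le (σ := r₂) (m := 2 ^ (n + 1)) (by positivity) h1
    (by
      rintro g hg
      rw [Set.mem_singleton_iff] at hg
      subst hg
      rw [conj_eq h.rr.symm]
      exact c1)
    (by
      rintro g hg
      rw [Set.mem_singleton_iff] at hg
      subst hg
      rw [conj_eq' h.rr.symm]
      exact c1)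
    (by
      rw [h.r₂n, ← h.r₁n]
      exact pow_mem c1 _)
  have c21 : r₁ ∈ closure ({r₂, r₁} : Set G) := subset_closure (by simp)
  have c22 : r₂ ∈ closure ({r₂, r₁} : Set G) := subset_closure (by simp)
  have hyr₁ : y₁ * r₁⁻¹ = r₁ * y₁ := by
    have := h.yr₁
    rw [← mul_left_inj r₁, mul_assoc, inv_mul_cancel, mul_one]
    rw [mul_assoc, this, mul_inv_cancel_left]
  have hyr₂ : y₂ * r₂⁻¹ = r₂ * y₂ := by
    have := h.yr₂
    rw [← mul_left_inj r₂, mul_assoc, inv_mul_cancel, mul_one]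
    rw [mul_assoc, this, mul_inv_cancel_left]
  have h3 := card_insert_le (σ := y₁) (m := 2) (by norm_num) h2
    (by
      rintro g (rfl | hg)
      · rw [conj_eq h.yr]; exact c22
      · rw [Set.mem_singleton_iff] at hg
        subst hg
        rw [conj_eq h.yr₁]; exact inv_mem c21)
    (by
      rintro g (rfl | hg)
      · rw [conj_eq' h.yr]; exact c22
      · rw [Set.mem_singleton_iff] at hg
        subst hg
        rw [conj_eq' hyr₁]; exact inv_mem c21)
    (by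
      rw [pow_two, h.y₁y, ← h.r₁n]
      exact pow_mem c21 _)
  have c31 : r₁ ∈ closure ({y₁, r₂, r₁} : Set G) := subset_closure (by simp)
  have c32 : r₂ ∈ closure ({y₁, r₂, r₁} : Set G) := subset_closure (by simp)
  have c33 : y₁ ∈ closure ({y₁, r₂, r₁} : Set G) := subset_closure (by simp)
  have h4 := card_insert_le (σ := y₂) (m := 2) (by norm_num) h3
    (by
      rintro g (rfl | rfl | hg)
      · rw [conj_eq h.yy.symm]; exact c33
      · rw [conj_eq h.yr₂]; exact inv_mem c32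
      · rw [Set.mem_singleton_iff] at hg
        subst hg
        rw [conj_eq h.ry.symm]; exact c31)
    (by
      rintro g (rfl | rfl | hg)
      · rw [conj_eq' h.yy.symm]; exact c33
      · rw [conj_eq' hyr₂]; exact inv_mem c32
      · rw [Set.mem_singleton_iff] at hg
        subst hg
        rw [conj_eq' h.ry.symm]; exact c31)
    (by
      rw [pow_two, h.y₂y, ← h.r₁n]
      exact pow_mem c31 _)
  refine ⟨h4.1, h4.2.trans (le_of_eq ?_)⟩
  ring

/-- Adding an element of type `(1, 1)`. -/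
theorem card_le_x (h : RelR n z r₁ y₁ r₂ y₂) (hx : RelX c r₁ y₁ r₂ y₂ x) (hc : c ∈ closure {y₂, y₁, r₂, r₁}) :
    Finite (closure {x, y₂, y₁, r₂, r₁}) ∧ Nat.card (closure {x, y₂, y₁, r₂, r₁}) ≤ 2 ^ (2 * n + 6) := by
  have c1 : r₁ ∈ closure ({y₂, y₁, r₂, r₁} : Set G) := subset_closure (by simp)
  have c2 : r₂ ∈ closure ({y₂, y₁, r₂, r₁} : Set G) := subset_closure (by simp)
  have c3 : y₁ ∈ closure ({y₂, y₁, r₂, r₁} : Set G) := subset_closure (by simp)
  have c4 : y₂ ∈ closure ({y₂, y₁, r₂, r₁} : Set G) := subset_closure (by simp)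
  have e1 : x * (r₁⁻¹ * y₁) = y₁ * x := by
    rw [← mul_assoc, ← mul_right_inj r₁, ← mul_assoc, ← mul_assoc]
    rw [← hx.xr₁, mul_assoc x r₁, mul_inv_cancel, mul_one, hx.xy₁, mul_assoc]
  have e2 : x * (r₂⁻¹ * y₂) = y₂ * x := by
    rw [← mul_assoc, ← mul_right_inj r₂, ← mul_assoc, ← mul_assoc]
    rw [← hx.xr₂, mul_assoc x r₂, mul_inv_cancel, mul_one, hx.xy₂, mul_assoc]
  have h4 := card_insert_le (σ := x) (m := 2) (by norm_num) h.card_le
    (by
      rintro g (rfl | rfl | rfl | hg)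
      · rw [conj_eq hx.xy₂]; exact mul_mem c2 c4
      · rw [conj_eq hx.xy₁]; exact mul_mem c1 c3
      · rw [conj_eq hx.xr₂]; exact c2
      · rw [Set.mem_singleton_iff] at hg
        subst hg
        rw [conj_eq hx.xr₁]; exact c1)
    (by
      rintro g (rfl | rfl | rfl | hg)
      · rw [conj_eq' e2]; exact mul_mem (inv_mem c2) c4
      · rw [conj_eq' e1]; exact mul_mem (inv_mem c1) c3
      · rw [conj_eq' hx.xr₂]; exact c2
      · rw [Set.mem_singleton_iff] at hg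
        subst hg
        rw [conj_eq' hx.xr₁]; exact c1)
    (by rw [pow_two, hx.xx]; exact hc)
  refine ⟨h4.1, h4.2.trans (le_of_eq ?_)⟩
  ring

/-- Adding a swap. -/
theorem card_le_t (h : RelR n z r₁ y₁ r₂ y₂) (ht : RelT r₁ y₁ r₂ y₂ t) :
    Finite (closure {t, y₂, y₁, r₂, r₁}) ∧ Nat.card (closure {t, y₂, y₁, r₂, r₁}) ≤ 2 ^ (2 * n + 6) := by
  have c1 : r₁ ∈ closure ({y₂, y₁, r₂, r₁} : Set G) := subset_closure (by simp)
  have c2 : r₂ ∈ closure ({y₂, y₁, r₂, r₁} : Set G) := subset_closure (by simp)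
  have c3 : y₁ ∈ closure ({y₂, y₁, r₂, r₁} : Set G) := subset_closure (by simp)
  have c4 : y₂ ∈ closure ({y₂, y₁, r₂, r₁} : Set G) := subset_closure (by simp)
  have h4 := card_insert_le (σ := t) (m := 2) (by norm_num) h.card_le
    (by
      rintro g (rfl | rfl | rfl | hg)
      · rw [conj_eq ht.ty']; exact c3
      · rw [conj_eq ht.ty]; exact c4
      · rw [conj_eq ht.tr']; exact c1
      · rw [Set.mem_singleton_iff] at hg
        subst hg
        rw [conj_eq ht.tr]; exact c2)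
    (by
      rintro g (rfl | rfl | rfl | hg)
      · rw [conj_eq' ht.ty]; exact c3
      · rw [conj_eq' ht.ty']; exact c4
      · rw [conj_eq' ht.tr]; exact c1
      · rw [Set.mem_singleton_iff] at hg
        subst hg
        rw [conj_eq' ht.tr']; exact c2)
    (by rw [pow_two, ht.tt]; exact one_mem _)
  refine ⟨h4.1, h4.2.trans (le_of_eq ?_)⟩
  ring

/-- Adding both; `t x t⁻¹ = x w` with `w` in the base. -/
theorem card_le_xt {w : G} (h : RelR n z r₁ y₁ r₂ y₂) (hx : RelX c r₁ y₁ r₂ y₂ x) (hc : c ∈ closure {y₂, y₁, r₂, r₁})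
    (ht : RelT r₁ y₁ r₂ y₂ t) (hw : w ∈ closure {y₂, y₁, r₂, r₁}) (htx : t * x = x * w * t) :
    Finite (closure {t, x, y₂, y₁, r₂, r₁}) ∧ Nat.card (closure {t, x, y₂, y₁, r₂, r₁}) ≤ 2 ^ (2 * n + 7) := by
  have hle : closure ({y₂, y₁, r₂, r₁} : Set G) ≤ closure {x, y₂, y₁, r₂, r₁} :=
    closure_mono (Set.subset_insert _ _)
  have c1 : r₁ ∈ closure ({x, y₂, y₁, r₂, r₁} : Set G) := subset_closure (by simp)
  have c2 : r₂ ∈ closure ({x, y₂, y₁, r₂, r₁} : Set G) := subset_closure (by simp)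
  have c3 : y₁ ∈ closure ({x, y₂, y₁, r₂, r₁} : Set G) := subset_closure (by simp)
  have c4 : y₂ ∈ closure ({x, y₂, y₁, r₂, r₁} : Set G) := subset_closure (by simp)
  have c5 : x ∈ closure ({x, y₂, y₁, r₂, r₁} : Set G) := subset_closure (by simp)
  have key : t * x * t⁻¹ ∈ closure ({x, y₂, y₁, r₂, r₁} : Set G) := by
    rw [conj_eq htx]; exact mul_mem c5 (hle hw)
  have h4 := card_insert_le (σ := t) (m := 2) (by norm_num) (card_le_x h hx hc)
    (by
      rintro g (rfl | rfl | rfl | rfl | hg)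
      · exact key
      · rw [conj_eq ht.ty']; exact c3
      · rw [conj_eq ht.ty]; exact c4
      · rw [conj_eq ht.tr']; exact c1
      · rw [Set.mem_singleton_iff] at hg
        subst hg
        rw [conj_eq ht.tr]; exact c2)
    (by
      rintro g (rfl | rfl | rfl | rfl | hg)
      · rw [ht.inv]
        rw [ht.inv] at key
        exact key
      · rw [conj_eq' ht.ty]; exact c3
      · rw [conj_eq' ht.ty']; exact c4
      · rw [conj_eq' ht.tr]; exact c1
      · rw [Set.mem_singleton_iff] at hg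
        subst hg
        rw [conj_eq' ht.tr']; exact c2)
    (by rw [pow_two, ht.tt]; exact one_mem _)
  refine ⟨h4.1, h4.2.trans (le_of_eq ?_)⟩
  ring

end Lemmas

/-! ### isomorphisms -/

section Equiv

variable {G' : Type*} [Group G'] {n : ℕ}
variable {z r₁ y₁ r₂ y₂ x t : G} {z' r₁' y₁' r₂' y₂' x' t' : G'}

theorem range_five {α : Type*} (a b c d e : α) : Set.range ![a, b, c, d, e] = {a, b, c, d, e} := by
  ext g
  simp only [Matrix.range_cons, Matrix.range_empty, Set.union_empty, Set.mem_union, Set.mem_singleton_iff,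
    Set.mem_insert_iff]

theorem range_six {α : Type*} (a b c d e f : α) : Set.range ![a, b, c, d, e, f] = {a, b, c, d, e, f} := by
  ext g
  simp only [Matrix.range_cons, Matrix.range_empty, Set.union_empty, Set.mem_union, Set.mem_singleton_iff,
    Set.mem_insert_iff]

theorem nonempty_five {a b c d e : G} {a' b' c' d' e' : G'} {N : ℕ} (hG : Nat.card (closure {a, b, c, d, e}) = N)
    (hG' : Nat.card (closure {a', b', c', d', e'}) = N)
    (hP : Finite (closure ({(a, a'), (b, b'), (c, c'), (d, d'), (e, e')} : Set (G × G'))) ∧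
      Nat.card (closure ({(a, a'), (b, b'), (c, c'), (d, d'), (e, e')} : Set (G × G'))) ≤ N) :
    Nonempty (closure {a, b, c, d, e} ≃* closure {a', b', c', d', e'}) := by
  have hr : (fun i => ((![a, b, c, d, e] i, ![a', b', c', d', e'] i) : G × G')) =
      ![(a, a'), (b, b'), (c, c'), (d, d'), (e, e')] := by
    funext i
    fin_cases i <;> rfl
  rw [← range_five] at hG hG' hP
  rw [← range_five, ← range_five]
  rw [← hr] at hP
  obtain ⟨e, -⟩ := equiv_of_card hG hG' hP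
  exact ⟨e⟩

theorem nonempty_six {a b c d e f : G} {a' b' c' d' e' f' : G'} {N : ℕ}
    (hG : Nat.card (closure {a, b, c, d, e, f}) = N)
    (hG' : Nat.card (closure {a', b', c', d', e', f'}) = N)
    (hP : Finite (closure ({(a, a'), (b, b'), (c, c'), (d, d'), (e, e'), (f, f')} : Set (G × G'))) ∧
      Nat.card (closure ({(a, a'), (b, b'), (c, c'), (d, d'), (e, e'), (f, f')} : Set (G × G'))) ≤ N) :
    Nonempty (closure {a, b, c, d, e, f} ≃* closure {a', b', c', d', e', f'}) := by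
  have hr : (fun i => ((![a, b, c, d, e, f] i, ![a', b', c', d', e', f'] i) : G × G')) =
      ![(a, a'), (b, b'), (c, c'), (d, d'), (e, e'), (f, f')] := by
    funext i
    fin_cases i <;> rfl
  rw [← range_six] at hG hG' hP
  rw [← range_six, ← range_six]
  rw [← hr] at hP
  obtain ⟨e, -⟩ := equiv_of_card hG hG' hP
  exact ⟨e⟩

/-- (M1): the two groups `R⟨x⟩`, `x² = r₁ r₂`. -/
theorem equiv_x (h : RelR n z r₁ y₁ r₂ y₂) (hx : RelX (r₁ * r₂) r₁ y₁ r₂ y₂ x)
    (hc : Nat.card (closure {x, y₂, y₁, r₂, r₁}) = 2 ^ (2 * n + 6))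
    (h' : RelR n z' r₁' y₁' r₂' y₂') (hx' : RelX (r₁' * r₂') r₁' y₁' r₂' y₂' x')
    (hc' : Nat.card (closure {x', y₂', y₁', r₂', r₁'}) = 2 ^ (2 * n + 6)) :
    Nonempty (closure {x, y₂, y₁, r₂, r₁} ≃* closure {x', y₂', y₁', r₂', r₁'}) := by
  refine nonempty_five hc hc' ?_
  refine card_le_x (h.pair h') (hx.pair hx') ?_
  exact mul_mem (subset_closure (by simp) : (r₁, r₁') ∈ Subgroup.closure _) (subset_closure (by simp) : (r₂, r₂') ∈ Subgroup.closure _)

/-- (M2): the two groups `R⟨t⟩`. -/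
theorem equiv_t (h : RelR n z r₁ y₁ r₂ y₂) (ht : RelT r₁ y₁ r₂ y₂ t)
    (hc : Nat.card (closure {t, y₂, y₁, r₂, r₁}) = 2 ^ (2 * n + 6))
    (h' : RelR n z' r₁' y₁' r₂' y₂') (ht' : RelT r₁' y₁' r₂' y₂' t')
    (hc' : Nat.card (closure {t', y₂', y₁', r₂', r₁'}) = 2 ^ (2 * n + 6)) :
    Nonempty (closure {t, y₂, y₁, r₂, r₁} ≃* closure {t', y₂', y₁', r₂', r₁'}) := by
  refine nonempty_five hc hc' ?_
  exact card_le_t (h.pair h') (ht.pair ht')

/-- (M3): the two groups `R⟨x, t⟩`, `x² = r₁ r₂`, `[x, t] = 1`. -/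
theorem equiv_xt (h : RelR n z r₁ y₁ r₂ y₂) (hx : RelX (r₁ * r₂) r₁ y₁ r₂ y₂ x) (ht : RelT r₁ y₁ r₂ y₂ t)
    (htx : t * x = x * t)
    (hc : Nat.card (closure {t, x, y₂, y₁, r₂, r₁}) = 2 ^ (2 * n + 7))
    (h' : RelR n z' r₁' y₁' r₂' y₂') (hx' : RelX (r₁' * r₂') r₁' y₁' r₂' y₂' x') (ht' : RelT r₁' y₁' r₂' y₂' t')
    (htx' : t' * x' = x' * t')
    (hc' : Nat.card (closure {t', x', y₂', y₁', r₂', r₁'}) = 2 ^ (2 * n + 7)) :
    Nonempty (closure {t, x, y₂, y₁, r₂, r₁} ≃* closure {t', x', y₂', y₁', r₂', r₁'}) := by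
  refine nonempty_six hc hc' ?_
  refine card_le_xt (h.pair h') (hx.pair hx') ?_ (ht.pair ht') (one_mem _) ?_
  · exact mul_mem (subset_closure (by simp) : (r₁, r₁') ∈ Subgroup.closure _) (subset_closure (by simp) : (r₂, r₂') ∈ Subgroup.closure _)
  · rw [mul_one]
    exact Prod.ext htx htx'

/-- (M4): the two groups `R⟨x, t⟩`, `x² = r₁ r₂ z`, `[x, t] = z`. -/
theorem equiv_xtz (h : RelR n z r₁ y₁ r₂ y₂) (hx : RelX (r₁ * r₂ * z) r₁ y₁ r₂ y₂ x) (ht : RelT r₁ y₁ r₂ y₂ t)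
    (htx : t * x = x * z * t)
    (hc : Nat.card (closure {t, x, y₂, y₁, r₂, r₁}) = 2 ^ (2 * n + 7))
    (h' : RelR n z' r₁' y₁' r₂' y₂') (hx' : RelX (r₁' * r₂' * z') r₁' y₁' r₂' y₂' x') (ht' : RelT r₁' y₁' r₂' y₂' t')
    (htx' : t' * x' = x' * z' * t')
    (hc' : Nat.card (closure {t', x', y₂', y₁', r₂', r₁'}) = 2 ^ (2 * n + 7)) :
    Nonempty (closure {t, x, y₂, y₁, r₂, r₁} ≃* closure {t', x', y₂', y₁', r₂', r₁'}) := by
  have hz : (z, z') ∈ closure ({(y₂, y₂'), (y₁, y₁'), (r₂, r₂'), (r₁, r₁')} : Set (G × G')) := by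
    rw [← (h.pair h').r₁n]
    exact pow_mem (subset_closure (by simp)) _
  refine nonempty_six hc hc' ?_
  refine card_le_xt (w := (z, z')) (h.pair h') (hx.pair hx') ?_ (ht.pair ht') hz ?_
  · exact mul_mem (mul_mem (subset_closure (by simp) : (r₁, r₁') ∈ Subgroup.closure _)
      (subset_closure (by simp) : (r₂, r₂') ∈ Subgroup.closure _)) hz
  · exact Prod.ext htx htx'

end Equiv

/-! ### from a model inside a group to the Sylow type -/

/-- A finite group generated by the first set, and a subgroup of `Y` whose order is the 2-part of the order of `Y`. -/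
theorem sylOf {S Y : Type*} [Group S] [Group Y] [Finite Y] {X : Set S} (hX : closure X = ⊤) {K : Subgroup Y} {m : ℕ}
    (hK : Nat.card K = 2 ^ m) (hY : ¬ 2 ^ (m + 1) ∣ Nat.card Y) (e : Nonempty (closure X ≃* K)) : SylOf S Y := by
  obtain ⟨e⟩ := e
  obtain ⟨P, hP⟩ := (IsPGroup.of_card hK : IsPGroup 2 K).exists_le_sylow
  have h1 : Nat.card (P : Subgroup Y) ≤ Nat.card K := by
    obtain ⟨k, hk⟩ := P.2.exists_card_eq
    have hd : 2 ^ k ∣ Nat.card Y := hk ▸ Subgroup.card_subgroup_dvd_card _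
    have hkm : k ≤ m := by
      by_contra hlt
      exact hY ((pow_dvd_pow 2 (by omega)).trans hd)
    rw [hk, hK]
    exact Nat.pow_le_pow_right (by norm_num) hkm
  have h2 : K = (P : Subgroup Y) := Subgroup.eq_of_le_of_card_ge hP h1
  refine ⟨P, ⟨?_⟩⟩
  rw [← h2]
  exact (topEquiv.symm.trans (MulEquiv.subgroupCongr hX.symm)).trans e

end Cfsg.Agent.GH.Q2.Rel
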