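import Cfsg.Agent.GH.Q2.Rel
import Cfsg.Agent.SylowSp4.Recog
import Cfsg.Agent.SylowSp4.Base

/-!
# GH-Q, case (II), model (M2): `R⟨t⟩` is of type `PSp₄(q)`, `q = 3 ^ (2 ^ n)`
-/

set_option autoImplicit false

namespace Cfsg.Agent.GH.Q2.ModelSp4

open Subgroup Cfsg.Agent.GH.Defs Cfsg.Agent.GH.Q2.Rel
open Cfsg.Agent.SylowSp4.Coord Cfsg.Agent.SylowSp4.Base Cfsg.Agent.SylowSp4.Recog
open QuaternionGroup

theorem three_pow (n : ℕ) : ∃ m, Odd m ∧ 3 ^ 2 ^ (n + 1) = 2 ^ (n + 3) * m + 1 := by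
  induction n with
  | zero => exact ⟨1, odd_one, by norm_num⟩
  | succ n ih =>
    obtain ⟨m, hm, h⟩ := ih
    refine ⟨m + 2 * (2 ^ (n + 1) * m ^ 2), hm.add_even (even_two_mul _), ?_⟩
    rw [pow_succ 2 (n + 1), pow_mul, h]
    ring

/-- The field. -/
theorem exists_field (n : ℕ) : ∃ (F : Type) (_ : Field F) (_ : Fintype F), Odd (Fintype.card F) ∧
    ∃ m, Odd m ∧ Fintype.card F ^ 2 = 2 ^ (n + 3) * m + 1 := by
  classical
  have : Fact (Nat.Prime 3) := ⟨Nat.prime_three⟩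
  have hc : Nat.card (GaloisField 3 (2 ^ n)) = 3 ^ 2 ^ n := GaloisField.card 3 (2 ^ n) (by positivity)
  have : Finite (GaloisField 3 (2 ^ n)) := Nat.finite_of_card_ne_zero (by rw [hc]; positivity)
  let _ : Fintype (GaloisField 3 (2 ^ n)) := Fintype.ofFinite _
  rw [Nat.card_eq_fintype_card] at hc
  refine ⟨GaloisField 3 (2 ^ n), inferInstance, inferInstance, ?_, ?_⟩
  · rw [hc]
    exact Odd.pow (by decide)
  · obtain ⟨m, hm, h⟩ := three_pow n
    refine ⟨m, hm, ?_⟩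
    rw [hc, ← h, ← pow_mul, ← pow_succ]

theorem two_pow_eq {a b x y : ℕ} (hx : Odd x) (hy : Odd y) (h : 2 ^ a * x = 2 ^ b * y) : a = b := by
  wlog hab : a ≤ b generalizing a b x y
  · exact (this hy hx h.symm (by omega)).symm
  obtain ⟨c, rfl⟩ := Nat.exists_eq_add_of_le hab
  rcases Nat.eq_zero_or_pos c with rfl | hc
  · rfl
  · exfalso
    rw [pow_add, mul_assoc] at h
    have h2 := Nat.eq_of_mul_eq_mul_left (by positivity) h
    rw [h2] at hx
    obtain ⟨d, rfl⟩ := Nat.exists_eq_succ_of_ne_zero hc.ne'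
    have h3 : Even (2 ^ (d + 1) * y) := by
      rw [pow_succ, mul_assoc, mul_left_comm]
      exact even_two_mul _
    exact Nat.not_even_iff_odd.2 hx h3

section TSp

variable {G : Type*} [Group G] {S : Subgroup G} {n : ℕ} {f : Q (n + 1) → Q (n + 1) → G} {s : G}

theorem a_pow (k i : ℕ) : (a 1 : Q k) ^ i = a (i : ZMod (2 * 2 ^ k)) := QuaternionGroup.a_one_pow i

theorem a_pow_half (n : ℕ) : (a 1 : Q (n + 1)) ^ 2 ^ (n + 1) = z (n + 1) := by
  rw [a_pow]
  rfl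

theorem f_pow_left (h : TSp S (n + 1) f s) (g : Q (n + 1)) (i : ℕ) : f g 1 ^ i = f (g ^ i) 1 := by
  induction i with
  | zero => rw [pow_zero, pow_zero, h.f_one]
  | succ i ih => rw [pow_succ, ih, h.f_mul, mul_one, ← pow_succ]

theorem f_pow_right (h : TSp S (n + 1) f s) (g : Q (n + 1)) (i : ℕ) : f 1 g ^ i = f 1 (g ^ i) := by
  induction i with
  | zero => rw [pow_zero, pow_zero, h.f_one]
  | succ i ih => rw [pow_succ, ih, h.f_mul, mul_one, ← pow_succ]

theorem xa_mul_a_one (k : ℕ) : (xa 0 : Q k) * a 1 = (a 1)⁻¹ * xa 0 := by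
  rw [xa_mul_a, show ((a 1 : Q k))⁻¹ = a (-1) from rfl, a_mul_xa]
  congr 1
  ring

theorem relR (h : TSp S (n + 1) f s) :
    RelR n (f (z (n + 1)) 1) (f (a 1) 1) (f (xa 0) 1) (f 1 (a 1)) (f 1 (xa 0)) where
  zz := h.t_sq
  r₁n := by rw [f_pow_left h, a_pow_half]
  r₂n := by rw [f_pow_right h, a_pow_half, h.f_one_z]
  y₁y := by rw [h.f_mul, Cfsg.Agent.SylowSp4.Coord.xa_sq, mul_one]
  y₂y := by rw [h.f_mul, Cfsg.Agent.SylowSp4.Coord.xa_sq, mul_one, h.f_one_z]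
  yr₁ := by rw [h.f_mul, h.f_inv, h.f_mul, xa_mul_a_one, inv_one]
  yr₂ := by rw [h.f_mul, h.f_inv, h.f_mul, xa_mul_a_one, inv_one]
  rr := by simp only [h.f_mul, one_mul, mul_one]
  ry := by simp only [h.f_mul, one_mul, mul_one]
  yr := by simp only [h.f_mul, one_mul, mul_one]
  yy := by simp only [h.f_mul, one_mul, mul_one]

theorem relT (h : TSp S (n + 1) f s) : RelT (f (a 1) 1) (f (xa 0) 1) (f 1 (a 1)) (f 1 (xa 0)) s where
  tt := h.s_s
  tr := h.s_f _ _
  ty := h.s_f _ _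

theorem closure_eq (h : TSp S (n + 1) f s) :
    closure {s, f 1 (xa 0), f (xa 0) 1, f 1 (a 1), f (a 1) 1} = S := by
  apply le_antisymm
  · rw [closure_le]
    rintro g (rfl | rfl | rfl | rfl | hg)
    · exact h.s_mem
    · exact h.f_mem _ _
    · exact h.f_mem _ _
    · exact h.f_mem _ _
    · rw [Set.mem_singleton_iff] at hg
      subst hg
      exact h.f_mem _ _
  · set T := closure {s, f 1 (xa 0), f (xa 0) 1, f 1 (a 1), f (a 1) 1} with hT
    have hs : s ∈ T := subset_closure (by simp)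
    have h1 : f (a 1) 1 ∈ T := subset_closure (by simp)
    have h2 : f 1 (a 1) ∈ T := subset_closure (by simp)
    have h3 : f (xa 0) 1 ∈ T := subset_closure (by simp)
    have h4 : f 1 (xa 0) ∈ T := subset_closure (by simp)
    have : NeZero (2 * 2 ^ (n + 1)) := ⟨by positivity⟩
    have ha : ∀ i : ZMod (2 * 2 ^ (n + 1)), (a i : Q (n + 1)) = (a 1) ^ i.val := by
      intro i
      rw [a_pow, ZMod.natCast_zmod_val]
    have hxa : ∀ i : ZMod (2 * 2 ^ (n + 1)), (xa i : Q (n + 1)) = xa 0 * (a 1) ^ i.val := by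
      intro i
      rw [← ha, xa_mul_a, zero_add]
    have k1 : ∀ g : Q (n + 1), f g 1 ∈ T := by
      rintro (i | i)
      · rw [ha, ← f_pow_left h]
        exact pow_mem h1 _
      · rw [hxa, ← mul_one (1 : Q (n + 1)), ← h.f_mul, ← f_pow_left h]
        exact mul_mem h3 (pow_mem h1 _)
    have k2 : ∀ g : Q (n + 1), f 1 g ∈ T := by
      rintro (i | i)
      · rw [ha, ← f_pow_right h]
        exact pow_mem h2 _
      · rw [hxa, ← mul_one (1 : Q (n + 1)), ← h.f_mul, ← f_pow_right h]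
        exact mul_mem h4 (pow_mem h2 _)
    have k3 : ∀ b c : Q (n + 1), f b c ∈ T := by
      intro b c
      have : f b c = f b 1 * f 1 c := by rw [h.f_mul, mul_one, one_mul]
      rw [this]
      exact mul_mem (k1 b) (k2 c)
    intro g hg
    rcases (h.mem_iff g).1 hg with ⟨b, c, rfl⟩ | ⟨b, c, rfl⟩
    · exact k3 b c
    · exact mul_mem (k3 b c) hs

end TSp

/-- (M2) -/
theorem typeSp4 {S : Type*} [Group S] {n : ℕ} {z r₁ y₁ r₂ y₂ t : S} (h : RelR n z r₁ y₁ r₂ y₂)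
    (ht : RelT r₁ y₁ r₂ y₂ t) (hgen : closure {t, y₂, y₁, r₂, r₁} = ⊤) (hcard : Nat.card S = 2 ^ (2 * n + 6)) :
    TypeSp4 S := by
  classical
  obtain ⟨F, _, _, hF, m, hm, hq⟩ := exists_field n
  refine ⟨F, inferInstance, inferInstance, hF, ?_⟩
  have P2 : Sylow 2 (Matrix.SpecialLinearGroup (Fin 2) F) := default
  obtain ⟨k, hk, ⟨e⟩⟩ := S0261.result hF P2
  have hk' : k = n + 1 := by
    have h1 : Nat.card (P2 : Subgroup (Matrix.SpecialLinearGroup (Fin 2) F)) = 2 ^ (k + 2) := by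
      rw [Nat.card_congr e.toEquiv, card_Q]
    have h2 := (P2 : Subgroup (Matrix.SpecialLinearGroup (Fin 2) F)).card_mul_index
    rw [h1, ClassicalGeometry.PSL2Basic.card_SL2, hq, Nat.add_sub_cancel] at h2
    have h3 : Odd (P2 : Subgroup (Matrix.SpecialLinearGroup (Fin 2) F)).index := by
      rw [← Nat.not_even_iff_odd, even_iff_two_dvd]
      exact P2.not_dvd_index
    have h4 := two_pow_eq h3 (hF.mul hm) (h2.trans (by ring : _ = 2 ^ (n + 3) * (Fintype.card F * m)))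
    omega
  subst hk'
  obtain ⟨P', f, s, hT⟩ := exists_sylow hF P2 hk e
  have hcl := closure_eq hT
  have hc' : Nat.card (closure {s, f 1 (xa 0), f (xa 0) 1, f 1 (a 1), f (a 1) 1}) = 2 ^ (2 * n + 6) := by
    rw [hcl, card_eq hT]
    congr 1
  have hc : Nat.card (closure ({t, y₂, y₁, r₂, r₁} : Set S)) = 2 ^ (2 * n + 6) := by
    rw [hgen, Nat.card_congr topEquiv.toEquiv, hcard]
  obtain ⟨e1⟩ := equiv_t h ht hc (relR hT) (relT hT) hc'
  exact ⟨P', ⟨(topEquiv.symm.trans (MulEquiv.subgroupCongr hgen.symm)).trans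
    (e1.trans (MulEquiv.subgroupCongr hcl))⟩⟩

end Cfsg.Agent.GH.Q2.ModelSp4
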