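import Cfsg.Agent.GH.Q2.CoordSd
import Cfsg.Agent.GH.Q2.InF2

/-!
# GH-Q (II), input: the interface, from two quaternion 2-components of `C(z)` containing `z`

`QC z K` : `K` is a 2-component of `C(z)`, `z ∈ K` is its only involution.
-/

set_option autoImplicit false
set_option maxHeartbeats 400000

open Cfsg Subgroup
open Cfsg.Agent.Intrinsic.Basic Cfsg.Agent.GH.Defs
open Cfsg.Agent.GH.Q2.InPair

namespace Cfsg.Agent.GH.Q2.InMain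

variable {G : Type*} [Group G] [Finite G] {z : G} {K₁ K₂ S : Subgroup G}

/-- **(IN)** -/
theorem exists_data (hr : SectionalPRankLE 2 4 G) (h1 : QC z K₁) (h2 : QC z K₂)
    (hne : K₁ ≠ K₂) (hS : Cit.Syl S (centralizer {z})) :
    ∃ (r1 y1 r2 y2 : G) (n1 n2 : ℕ), Sd S z r1 y1 r2 y2 n1 n2 ∧
      (∀ a ∈ RR r1 y1 r2 y2, ∀ b ∈ RR r1 y1 r2 y2, a * a = 1 → a ≠ 1 → a ≠ z → b * b = 1 →
        b ≠ 1 → b ≠ z → ∃ c : G, cj c z = z ∧ cj c a = b) ∧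
      (∀ c s : G, cj c z = z → s ∈ S → cj c s ∈ S →
        ∃ t ∈ S, cj c s * (cj t s)⁻¹ ∈ RR r1 y1 r2 y2) := by
  obtain ⟨c₁, v₁, n₁, g1⟩ := h1.exists_gq hS
  obtain ⟨c₂, v₂, n₂, g2⟩ := h2.exists_gq hS
  have hmap : ∀ (s : G) (A B : Subgroup G), s ∈ S → A.map (MulAut.conj s).toMonoidHom = B →
      ∀ g ∈ S ⊓ A, s * g * s⁻¹ ∈ S ⊓ B := by
    rintro s A B hs rfl g ⟨hg, hgA⟩
    exact ⟨S.mul_mem (S.mul_mem hs hg) (S.inv_mem hs), ⟨g, hgA, rfl⟩⟩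
  obtain ⟨r1, y1, r2, y2, h, c1, c2, -⟩ := Coord.exists_sd hr hS.2.1 g1 g2 inf_le_left inf_le_left
    (comm h1 h2 hne hS) (fun g hg1 hg2 => inf_eq h1 h2 hne hS hg1 hg2) (by
      intro s hs
      rcases perm hr h1 h2 hne hS (hS.1 hs) with ⟨e1, e2⟩ | ⟨e1, e2⟩
      · exact Or.inl ⟨hmap s _ _ hs e1, hmap s _ _ hs e2⟩
      · exact Or.inr ⟨hmap s _ _ hs e1, hmap s _ _ hs e2⟩)
  exact ⟨r1, y1, r2, y2, n₁, n₂, h, InF2.f1 h1 h2 hne hS c1 c2, InF2.f2 hr h1 h2 hne hS h c1 c2⟩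

/-- Two different 2-components of `C(z)` containing `z` in which commuting involutions are equal. -/
theorem exists_data' (h : Hyp G) (hc1 : Comp2 z K₁) (hc2 : Comp2 z K₂) (hz1 : z ∈ K₁) (hz2 : z ∈ K₂)
    (hne : K₁ ≠ K₂)
    (u1 : ∀ x ∈ K₁, ∀ y ∈ K₁, x * x = 1 → y * y = 1 → x ≠ 1 → y ≠ 1 → x * y = y * x → x = y)
    (u2 : ∀ x ∈ K₂, ∀ y ∈ K₂, x * x = 1 → y * y = 1 → x ≠ 1 → y ≠ 1 → x * y = y * x → x = y)
    (hS : Cit.Syl S (centralizer {z})) :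
    ∃ (r1 y1 r2 y2 : G) (n1 n2 : ℕ), Sd S z r1 y1 r2 y2 n1 n2 ∧
      (∀ a ∈ RR r1 y1 r2 y2, ∀ b ∈ RR r1 y1 r2 y2, a * a = 1 → a ≠ 1 → a ≠ z → b * b = 1 →
        b ≠ 1 → b ≠ z → ∃ c : G, cj c z = z ∧ cj c a = b) ∧
      (∀ c s : G, cj c z = z → s ∈ S → cj c s ∈ S →
        ∃ t ∈ S, cj c s * (cj t s)⁻¹ ∈ RR r1 y1 r2 y2) :=
  exists_data h.rank4 (QC.of_comm hc1 hz1 u1) (QC.of_comm hc2 hz2 u2) hne hS

end Cfsg.Agent.GH.Q2.InMain
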