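import Cfsg.Agent.GH.Q2.FusionT
import Cfsg.Agent.GH.Q2.InMain
import Cfsg.Agent.GH.Comp
import Cfsg.Agent.GH.QADefs
import Cfsg.Agent.S0215

/-!
# GH-Q, case (II): preparations for the assembly

`exists_sylow`, `exists_fusion` (Z*), `index_ne_two`; the final data `exists_fu`.
-/

set_option autoImplicit false

namespace Cfsg.Agent.GH.Q2

open Subgroup Cfsg.Agent.GH.Defs

variable {G : Type*} [Group G]

theorem index_ne_two [Finite G] (h : Hyp G) (N : Subgroup G) : N.index ≠ 2 := by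
  intro hN
  have := h.simple
  have hn : N.Normal := normal_of_index_eq_two hN
  rcases hn.eq_bot_or_eq_top with h1 | h1
  · apply h.nonComm
    rw [h1, index_bot] at hN
    have h2 : IsCyclic G := isCyclic_of_prime_card (p := 2) (hp := ⟨Nat.prime_two⟩) hN
    exact h2.isMulCommutative
  · rw [h1, index_top] at hN
    exact absurd hN (by norm_num)

/-- (Z*) -/
theorem exists_fusion [Finite G] (h : Hyp G) (S : Sylow 2 G) {z : G} (hz : orderOf z = 2)
    (hzS : z ∈ (S : Subgroup G)) : ∃ g : G, cj g z ∈ (S : Subgroup G) ∧ cj g z ≠ z := by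
  by_contra hcon
  push Not at hcon
  obtain ⟨N, hN, hodd, hc⟩ := Cfsg.Agent.S0215.result S z hz hzS hcon
  have := h.simple
  rcases hN.eq_bot_or_eq_top with h1 | h1
  · subst h1
    have h2 : z ∈ center G := by
      rw [mem_center_iff]
      intro g
      have h3 := hc g
      rw [mem_bot] at h3
      have h4 : z * g = g * z := by
        calc z * g = (z * g * z⁻¹ * g⁻¹) * (g * z) := by group
          _ = g * z := by rw [h3, one_mul]
      exact h4.symm
    rw [h.center_eq_bot, mem_bot] at h2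
    rw [h2, orderOf_one] at hz
    exact absurd hz (by norm_num)
  · subst h1
    have h2 : (2 : ℕ) ∣ Nat.card (⊤ : Subgroup G) := by
      rw [card_top, ← hz]
      exact orderOf_dvd_natCard z
    exact (Nat.not_even_iff_odd.2 hodd) (even_iff_two_dvd.2 h2)

/-- A Sylow 2-subgroup of `C(z)` with centre `⟨z⟩` is a Sylow 2-subgroup. -/
theorem exists_sylow [Finite G] {S : Subgroup G} {z : G} (hS : Cit.Syl S (centralizer {z}))
    (hz : z ∈ S) (hzz : z ≠ 1)
    (hZ : ∀ s ∈ S, (∀ w ∈ S, w * s = s * w) → s = 1 ∨ s = z) :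
    ∃ P : Sylow 2 G, (P : Subgroup G) = S := by
  have hp : Fact (Nat.Prime 2) := ⟨Nat.prime_two⟩
  obtain ⟨P, hP⟩ := hS.2.1.exists_le_sylow
  by_cases hne : S = (P : Subgroup G)
  · exact ⟨P, hne.symm⟩
  exfalso
  obtain ⟨k, hk, hkS, hkn⟩ := exists_normalizing' P.2 hP hne
  have hkz : cj k z = z := by
    have h1 : cj k z ∈ S := (hkn z (hP hz)).1 hz
    have hc : ∀ w ∈ S, w * cj k z = cj k z * w := by
      intro w hw
      have h3 : cj k⁻¹ w ∈ (P : Subgroup G) :=
        mul_mem (mul_mem (inv_mem hk) (hP hw)) (inv_mem (inv_mem hk))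
      have h4 : cj k⁻¹ w ∈ S := by
        rw [hkn _ h3, cj_cj_inv]; exact hw
      have h5 := mem_cz.1 (hS.1 h4)
      have h6 := congrArg (cj k) h5
      rwa [cj_mul, cj_mul, cj_cj_inv] at h6
    rcases hZ _ h1 hc with h2 | h2
    · exact absurd h2 (cj_ne_one hzz)
    · exact h2
  have hkT : k ∈ (P : Subgroup G) ⊓ centralizer {z} := ⟨hk, mem_cz.2 (cj_eq_self_iff.1 hkz)⟩
  have hST : S ≤ (P : Subgroup G) ⊓ centralizer {z} := le_inf hP hS.1
  have hT : IsPGroup 2 ↥((P : Subgroup G) ⊓ centralizer {z}) := isPGroup_inf P.2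
  have h1 : ¬ 2 ∣ S.relIndex ((P : Subgroup G) ⊓ centralizer {z}) := by
    intro h2
    apply hS.2.2
    exact h2.trans ⟨_, (relIndex_mul_relIndex S _ _ hST inf_le_right).symm⟩
  obtain ⟨m, hm⟩ := (IsPGroup.iff_card.1 hT)
  have h2 : S.relIndex ((P : Subgroup G) ⊓ centralizer {z}) ∣ 2 ^ m := by
    rw [← hm]
    exact relIndex_dvd_card _ _
  obtain ⟨l, -, hl⟩ := (Nat.dvd_prime_pow Nat.prime_two).1 h2
  rcases Nat.eq_zero_or_pos l with rfl | hl0
  · rw [pow_zero, relIndex_eq_one] at hl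
    exact hkS (hl hkT)
  · apply h1
    rw [hl]
    exact dvd_pow_self _ hl0.ne'

/-- The final data. -/
theorem exists_fu [Finite G] (h : Hyp G) (hqt : ∀ (x : G) (K : Subgroup G), Comp2 x K →
    EvenCenter K → QA.QT K) {z : G} {K L : Subgroup G} (c : Comp2 z K) (c' : Comp2 z L)
    (hne : K ≠ L) (hzK : z ∈ K) (hzL : z ∈ L) :
    ∃ (S : Sylow 2 G) (r1 y1 r2 y2 : G) (n1 n2 : ℕ),
      Sd (S : Subgroup G) z r1 y1 r2 y2 n1 n2 ∧ Fu (S : Subgroup G) z r1 y1 r2 y2 := by
  obtain ⟨S, hS⟩ := Cit.Hyp.exists_syl (centralizer ({z} : Set G))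
  obtain ⟨r1, y1, r2, y2, n1, n2, hSd, f1, f2⟩ := InMain.exists_data' h c c' hzK hzL hne
    (hqt z K c (Comp.evenCenter_of_mem c hzK)) (hqt z L c' (Comp.evenCenter_of_mem c' hzL)) hS
  obtain ⟨P, rfl⟩ := exists_sylow hS hSd.hz hSd.q1.z_ne hSd.cen_z
  exact ⟨P, r1, y1, r2, y2, n1, n2, hSd, fu P (index_ne_two h) hSd
    (exists_fusion h P c.inv hSd.hz) f1 f2⟩

end Cfsg.Agent.GH.Q2
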