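import Cfsg.Agent.GH.Q2.ModelSp4
import Cfsg.Agent.ClassificationK.GTwoSylow
import Cfsg.Agent.ClassificationK.GTwoModelConf
import Cfsg.Agent.S1059

/-!
# GH-Q, case (II), model (M1): `R⟨x⟩`, `x² = r₁ r₂`, is of type `G₂(q)`, `q = 3 ^ (2 ^ n)`
-/

set_option autoImplicit false

namespace Cfsg.Agent.GH.Q2.ModelG2

open Subgroup Cfsg.Agent.GH.Defs Cfsg.Agent.GH.Q2.Rel
open Cfsg.Agent.ClassificationK.GTwoModel Cfsg.Agent.ClassificationK.GTwoModelConf
open Cfsg.Agent.ClassificationK.GTwoQuat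
open QuaternionGroup (a xa)

section model

variable (n : ℕ)

theorem phi_psi_comm (l : ℕ) (g h : QuaternionGroup l) : phiT l g * psiT l h = psiT l h * phiT l g := by
  apply comm_of_mem
  · rw [← phiT_range]; exact ⟨g, rfl⟩
  · rw [← psiT_range]; exact ⟨h, rfl⟩

theorem a_pow (k i : ℕ) : (a 1 : QuaternionGroup k) ^ i = a (i : ZMod (2 * k)) := QuaternionGroup.a_one_pow i

theorem xa_mul_a_one (k : ℕ) : (xa 0 : QuaternionGroup k) * a 1 = (a 1)⁻¹ * xa 0 := by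
  rw [QuaternionGroup.xa_mul_a, show ((a 1 : QuaternionGroup k))⁻¹ = a (-1) from rfl, QuaternionGroup.a_mul_xa]
  congr 1
  ring

theorem xa_sq (k : ℕ) : (xa 0 : QuaternionGroup k) * xa 0 = a (k : ZMod (2 * k)) := by
  rw [QuaternionGroup.xa_mul_xa]
  congr 1
  ring

theorem relR : RelR n (T.z (2 ^ (n + 1))) (phiT (2 ^ (n + 1)) (a 1)) (phiT (2 ^ (n + 1)) (xa 0))
    (psiT (2 ^ (n + 1)) (a 1)) (psiT (2 ^ (n + 1)) (xa 0)) where
  zz := by
    rw [← phiT_z, ← map_mul, QuaternionGroup.a_mul_a, half_add_half, ← QuaternionGroup.one_def, map_one]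
  r₁n := by rw [← map_pow, a_pow, phiT_z]
  r₂n := by rw [← map_pow, a_pow, psiT_z]
  y₁y := by rw [← map_mul, xa_sq, phiT_z]
  y₂y := by rw [← map_mul, xa_sq, psiT_z]
  yr₁ := by rw [← map_mul, xa_mul_a_one, map_mul, map_inv]
  yr₂ := by rw [← map_mul, xa_mul_a_one, map_mul, map_inv]
  rr := phi_psi_comm _ _ _
  ry := phi_psi_comm _ _ _
  yr := phi_psi_comm _ _ _
  yy := phi_psi_comm _ _ _

theorem mul_eq_of_conj {G : Type*} [Group G] {x y w : G} (h : x * y * x⁻¹ = w) : x * y = w * x := by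
  rw [← h, inv_mul_cancel_right]

theorem relX (l : ℕ) : RelX (phiT l (a 1) * psiT l (a 1)) (phiT l (a 1)) (phiT l (xa 0)) (psiT l (a 1))
    (psiT l (xa 0)) (sT l) where
  xx := by
    rw [phiT_a, psiT_a, sT, T.mul_mk, T.mul_mk]
    simp only [sg_false, cond_false, one_mul, Bool.xor_false]
    congr 1 <;> ring
  xr₁ := mul_eq_of_conj (s_phiT_a _)
  xr₂ := mul_eq_of_conj (s_psiT_a _)
  xy₁ := by
    rw [← map_mul, QuaternionGroup.a_mul_xa]
    exact mul_eq_of_conj (s_phiT_xa _)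
  xy₂ := by
    rw [← map_mul, QuaternionGroup.a_mul_xa]
    exact mul_eq_of_conj (s_psiT_xa _)

theorem closure_eq : closure {sT (2 ^ (n + 1)), psiT (2 ^ (n + 1)) (xa 0), phiT (2 ^ (n + 1)) (xa 0),
    psiT (2 ^ (n + 1)) (a 1), phiT (2 ^ (n + 1)) (a 1)} = ⊤ := by
  rw [eq_top_iff]
  set K := closure {sT (2 ^ (n + 1)), psiT (2 ^ (n + 1)) (xa 0), phiT (2 ^ (n + 1)) (xa 0),
    psiT (2 ^ (n + 1)) (a 1), phiT (2 ^ (n + 1)) (a 1)} with hK
  have hs : sT (2 ^ (n + 1)) ∈ K := subset_closure (by simp)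
  have h1 : phiT (2 ^ (n + 1)) (a 1) ∈ K := subset_closure (by simp)
  have h2 : psiT (2 ^ (n + 1)) (a 1) ∈ K := subset_closure (by simp)
  have h3 : phiT (2 ^ (n + 1)) (xa 0) ∈ K := subset_closure (by simp)
  have h4 : psiT (2 ^ (n + 1)) (xa 0) ∈ K := subset_closure (by simp)
  have : NeZero (2 * 2 ^ (n + 1)) := ⟨by positivity⟩
  have : NeZero (2 ^ (n + 1)) := ⟨by positivity⟩
  have ha : ∀ i : ZMod (2 * 2 ^ (n + 1)), (a i : QuaternionGroup (2 ^ (n + 1))) = (a 1) ^ i.val := by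
    intro i
    rw [a_pow, ZMod.natCast_zmod_val]
  have hxa : ∀ i : ZMod (2 * 2 ^ (n + 1)), (xa i : QuaternionGroup (2 ^ (n + 1))) = xa 0 * (a 1) ^ i.val := by
    intro i
    rw [← ha, QuaternionGroup.xa_mul_a, zero_add]
  have k1 : ∀ g : QuaternionGroup (2 ^ (n + 1)), phiT (2 ^ (n + 1)) g ∈ K := by
    rintro (i | i)
    · rw [ha, map_pow]
      exact pow_mem h1 _
    · rw [hxa, map_mul, map_pow]
      exact mul_mem h3 (pow_mem h1 _)
  have k2 : ∀ g : QuaternionGroup (2 ^ (n + 1)), psiT (2 ^ (n + 1)) g ∈ K := by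
    rintro (i | i)
    · rw [ha, map_pow]
      exact pow_mem h2 _
    · rw [hxa, map_mul, map_pow]
      exact mul_mem h4 (pow_mem h2 _)
  intro g _
  obtain ⟨x, y, h | h⟩ := cases_all (l := 2 ^ (n + 1)) (dvd_pow_self 2 (by omega)) g
  · rw [h]
    exact mul_mem (k1 x) (k2 y)
  · rw [h]
    exact mul_mem (mul_mem (k1 x) (k2 y)) hs

end model

/-- (M1) -/
theorem typeG2 {S : Type*} [Group S] {n : ℕ} {z r₁ y₁ r₂ y₂ x : S} (h : RelR n z r₁ y₁ r₂ y₂)
    (hx : RelX (r₁ * r₂) r₁ y₁ r₂ y₂ x) (hgen : closure {x, y₂, y₁, r₂, r₁} = ⊤) (hcard : Nat.card S = 2 ^ (2 * n + 6)) :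
    TypeG2 S := by
  classical
  obtain ⟨F, _, _, hF, m, hm, hq⟩ := ModelSp4.exists_field n
  refine ⟨F, inferInstance, inferInstance, hF, ?_⟩
  have hcG := S1059.result (F := F) rfl
  have P : Sylow 2 ↥(Cfsg.Lie.chevG2.group F) := default
  obtain ⟨k, hk, ⟨e⟩⟩ := Cfsg.Agent.ClassificationK.GTwoSylow.exists_equiv hF hcG P
  have hk' : k = n + 1 := by
    have : Fact (Nat.Prime 2) := ⟨Nat.prime_two⟩
    have h1 := P.card_eq_multiplicity
    have hm' : Fintype.card F ^ 2 - 1 = 4 * 2 ^ (n + 1) * m := by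
      rw [hq, Nat.add_sub_cancel]
      ring
    rw [hcG, Cfsg.Agent.ClassificationK.GTwoSylow.factorization_card _ (n + 1) m hF Fintype.one_lt_card hm hm',
      ← Nat.card_congr e.toEquiv, T.card_T] at h1
    have h2 : 4 * (2 * 2 ^ k) ^ 2 = 2 ^ (2 * (k + 2)) := by ring
    rw [h2] at h1
    have := Nat.pow_right_injective le_rfl h1
    omega
  subst hk'
  have hc' : Nat.card (closure {sT (2 ^ (n + 1)), psiT (2 ^ (n + 1)) (xa 0), phiT (2 ^ (n + 1)) (xa 0),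
      psiT (2 ^ (n + 1)) (a 1), phiT (2 ^ (n + 1)) (a 1)}) = 2 ^ (2 * n + 6) := by
    rw [closure_eq, Nat.card_congr topEquiv.toEquiv, T.card_T]
    ring
  have hc : Nat.card (closure ({x, y₂, y₁, r₂, r₁} : Set S)) = 2 ^ (2 * n + 6) := by
    rw [hgen, Nat.card_congr topEquiv.toEquiv, hcard]
  obtain ⟨e1⟩ := equiv_x h hx hc (relR n) (relX _) hc'
  exact ⟨P, ⟨(topEquiv.symm.trans (MulEquiv.subgroupCongr hgen.symm)).trans
    (e1.trans ((MulEquiv.subgroupCongr (closure_eq n)).trans (topEquiv.trans e)))⟩⟩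

end Cfsg.Agent.GH.Q2.ModelG2
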