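import Cfsg.Agent.GH.Q2.Rel
import Cfsg.Agent.GH.Models.PSL45

/-!
# GH-Q, case (II), model (M4): `R⟨x, t⟩` with `n = 0`, `x² = r₁ r₂ z`, `[x, t] = z` is of type `PSL₄(5)`
-/

set_option autoImplicit false

namespace Cfsg.Agent.GH.Q2.ModelL4z

open Subgroup Cfsg.Agent.GH.Defs Cfsg.Agent.GH.Q2.Rel
open Cfsg.Agent.GH.Pc Cfsg.Agent.GH.PcTypes Cfsg.Agent.GH.Models.Proj Matrix

/-- `t x y₁ y₂ r₁ r₂ z` -/
def L45 : Pres 7 where
  sq i := match i.val with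
    | 1 => [4, 5, 6]
    | 2 => [6]
    | 3 => [6]
    | 4 => [6]
    | 5 => [6]
    | _ => []
  cj := cjOf fun i j => match i, j with
    | 0, 1 => some [1, 6]
    | 0, 2 => some [3]
    | 0, 3 => some [2]
    | 0, 4 => some [5]
    | 0, 5 => some [4]
    | 1, 2 => some [4, 2]
    | 1, 3 => some [5, 3]
    | 2, 4 => some [4, 6]
    | 3, 5 => some [5, 6]
    | _, _ => none

theorem L45_ok : L45.Ok := by decide

abbrev F := ZMod 5

/-- `t x y₁ y₂ r₁ r₂ z` -/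
def A : Fin 7 → Matrix (Fin 4) (Fin 4) F := ![
  !![0,0,1,0; 0,0,0,1; 1,0,0,0; 0,1,0,0],
  !![2,0,0,0; 0,1,0,0; 0,0,4,0; 0,0,0,2],
  !![0,1,0,0; 4,0,0,0; 0,0,1,0; 0,0,0,1],
  !![1,0,0,0; 0,1,0,0; 0,0,0,1; 0,0,4,0],
  !![2,0,0,0; 0,3,0,0; 0,0,1,0; 0,0,0,1],
  !![1,0,0,0; 0,1,0,0; 0,0,2,0; 0,0,0,3],
  !![4,0,0,0; 0,4,0,0; 0,0,1,0; 0,0,0,1]]

theorem det_A : ∀ i, (A i).det = 1 := by decide +kernel

theorem sq_A : ∀ i, ∃ c : F, A i * A i = c • wd A (L45.sq i) := by decide +kernel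

theorem cj_A : ∀ i j, i < j → ∃ c : F, A i * A j = c • (wd A (L45.cj i j) * A i) := by
  decide +kernel

theorem nf_A : allB 7 (chk A) = true := by decide +kernel

section

variable {S : Type*} [Group S] {z r₁ y₁ r₂ y₂ x t : S}

theorem sat (h : RelR 0 z r₁ y₁ r₂ y₂) (hx : RelX (r₁ * r₂ * z) r₁ y₁ r₂ y₂ x) (ht : RelT r₁ y₁ r₂ y₂ t)
    (htx : t * x = x * z * t) : Sat L45 ![t, x, y₁, y₂, r₁, r₂, z] := by
  have e1 : r₁ * r₁ = z := by
    have := h.r₁n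
    rwa [zero_add, pow_one, pow_two] at this
  have e2 : r₂ * r₂ = z := by
    have := h.r₂n
    rwa [zero_add, pow_one, pow_two] at this
  have i1 : r₁⁻¹ = r₁ * z := by
    apply inv_eq_of_mul_eq_one_right
    rw [← mul_assoc, e1, h.zz]
  have i2 : r₂⁻¹ = r₂ * z := by
    apply inv_eq_of_mul_eq_one_right
    rw [← mul_assoc, e2, h.zz]
  have zr1 : r₁ * z = z * r₁ := by rw [← e1, mul_assoc]
  have zr2 : r₂ * z = z * r₂ := by rw [← e2, mul_assoc]
  have zy1 : y₁ * z = z * y₁ := by rw [← h.y₁y, mul_assoc]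
  have zy2 : y₂ * z = z * y₂ := by rw [← h.y₂y, mul_assoc]
  have zx : x * z = z * x := by rw [← e1, ← mul_assoc, hx.xr₁, mul_assoc, hx.xr₁, mul_assoc]
  have zt : t * z = z * t := by
    rw [← e1, ← mul_assoc, ht.tr, mul_assoc, ht.tr, ← mul_assoc, e2, e1]
  constructor
  · intro i
    fin_cases i
    · simpa [L45] using ht.tt
    · simpa [L45, mul_assoc] using hx.xx
    · simpa [L45] using h.y₁y
    · simpa [L45] using h.y₂y
    · simpa [L45] using e1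
    · simpa [L45] using e2
    · simpa [L45] using h.zz
  · intro i j hij
    fin_cases i <;> fin_cases j <;> first
      | exact absurd hij (by decide)
      | skip
    all_goals simp [L45, cjOf]
    · rw [htx]
    · exact ht.ty
    · exact ht.ty'
    · exact ht.tr
    · exact ht.tr'
    · exact zt
    · exact hx.xy₁
    · exact hx.xy₂
    · exact hx.xr₁
    · exact hx.xr₂
    · exact zx
    · exact h.yy
    · rw [h.yr₁, i1]
    · exact h.yr
    · exact zy1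
    · exact h.ry.symm
    · rw [h.yr₂, i2]
    · exact zy2
    · exact h.rr
    · exact zr1
    · exact zr2

/-- (M4) -/
theorem typeL4 (h : RelR 0 z r₁ y₁ r₂ y₂) (hx : RelX (r₁ * r₂ * z) r₁ y₁ r₂ y₂ x) (ht : RelT r₁ y₁ r₂ y₂ t)
    (htx : t * x = x * z * t) (hgen : closure {t, x, y₂, y₁, r₂, r₁} = ⊤) (hcard : Nat.card S = 2 ^ 7) : TypeL4 S := by
  refine ⟨F, inferInstance, inferInstance, by rw [ZMod.card]; decide, ?_⟩
  refine sylOf_psl L45_ok (sat h hx ht htx) ?_ hcard A det_A sq_A cj_A nf_A Cfsg.Agent.GH.Models.PSL45.not_dvd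
  rw [eq_top_iff, ← hgen]
  apply Subgroup.closure_mono
  rintro g (rfl | rfl | rfl | rfl | rfl | hg)
  · exact ⟨0, rfl⟩
  · exact ⟨1, rfl⟩
  · exact ⟨3, rfl⟩
  · exact ⟨2, rfl⟩
  · exact ⟨5, rfl⟩
  · rw [Set.mem_singleton_iff] at hg
    subst hg
    exact ⟨4, rfl⟩

end

end Cfsg.Agent.GH.Q2.ModelL4z
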