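import Cfsg.Agent.GH.Q2.Card
import Cfsg.Agent.GH.Q2.Rel
import Cfsg.Agent.GH.Q2.ModelG2
import Cfsg.Agent.GH.Q2.ModelSp4
import Cfsg.Agent.GH.Q2.ModelL4z
import Cfsg.Agent.GHTypes.LFourRel

/-!
# GH-Q, case (II): from the target presentations to the types
-/

set_option autoImplicit false

namespace Cfsg.Agent.GH.Q2

open Subgroup Cfsg.Agent.GH.Defs

variable {G : Type*} [Group G] {S : Subgroup G} {z r1 y1 r2 y2 x t c : G} {n n1 n2 : ℕ}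

theorem Sd.relR (h : Sd S z r1 y1 r2 y2 n n) : Rel.RelR (G := ↥S) n ⟨z, h.hz⟩ ⟨r1, h.h1⟩ ⟨y1, h.h2⟩
    ⟨r2, h.h3⟩ ⟨y2, h.h4⟩ where
  zz := Subtype.ext h.q1.z_sq
  r₁n := Subtype.ext h.q1.rp
  r₂n := Subtype.ext h.q2.rp
  y₁y := Subtype.ext h.q1.ys
  y₂y := Subtype.ext h.q2.ys
  yr₁ := Subtype.ext (by
    change y1 * r1 = r1⁻¹ * y1
    rw [mul_cj, h.q1.inv])
  yr₂ := Subtype.ext (by
    change y2 * r2 = r2⁻¹ * y2
    rw [mul_cj, h.q2.inv])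
  rr := Subtype.ext h.rr
  ry := Subtype.ext h.ry
  yr := Subtype.ext h.yr
  yy := Subtype.ext h.yy

theorem TX.relX (T : TX c r1 y1 r2 y2 x) (h1 : r1 ∈ S) (h2 : y1 ∈ S) (h3 : r2 ∈ S) (h4 : y2 ∈ S)
    (hx : x ∈ S) (hc : c ∈ S) : Rel.RelX (G := ↥S) ⟨c, hc⟩ ⟨r1, h1⟩ ⟨y1, h2⟩ ⟨r2, h3⟩ ⟨y2, h4⟩
    ⟨x, hx⟩ where
  xx := Subtype.ext T.xx
  xr₁ := Subtype.ext (by
    change x * r1 = r1 * x
    rw [mul_cj, T.a1])
  xr₂ := Subtype.ext (by
    change x * r2 = r2 * x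
    rw [mul_cj, T.a2])
  xy₁ := Subtype.ext (by
    change x * y1 = r1 * y1 * x
    rw [mul_cj, T.b1])
  xy₂ := Subtype.ext (by
    change x * y2 = r2 * y2 * x
    rw [mul_cj, T.b2])

theorem TT.relT (T : TT r1 y1 r2 y2 t) (h1 : r1 ∈ S) (h2 : y1 ∈ S) (h3 : r2 ∈ S) (h4 : y2 ∈ S)
    (ht : t ∈ S) : Rel.RelT (G := ↥S) ⟨r1, h1⟩ ⟨y1, h2⟩ ⟨r2, h3⟩ ⟨y2, h4⟩ ⟨t, ht⟩ where
  tt := Subtype.ext T.tt
  tr := Subtype.ext (by
    change t * r1 = r2 * t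
    rw [mul_cj, T.a])
  ty := Subtype.ext (by
    change t * y1 = y2 * t
    rw [mul_cj, T.b])

/-- elements of `R` are generated. -/
theorem Sd.mem_cl (h : Sd S z r1 y1 r2 y2 n1 n2) {X : Subgroup ↥S} (m1 : (⟨r1, h.h1⟩ : S) ∈ X)
    (m2 : (⟨y1, h.h2⟩ : S) ∈ X) (m3 : (⟨r2, h.h3⟩ : S) ∈ X) (m4 : (⟨y2, h.h4⟩ : S) ∈ X)
    (s : ↥S) (hs : (s : G) ∈ RR r1 y1 r2 y2) : s ∈ X := by
  obtain ⟨i, j, hc⟩ := h.mem_R.1 hs
  have k1 := Subgroup.zpow_mem X m1 i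
  have k3 := Subgroup.zpow_mem X m3 j
  rcases hc with e | e | e | e
  · have e' : s = (⟨r1, h.h1⟩ : S) ^ i * (⟨r2, h.h3⟩ : S) ^ j := Subtype.ext (by simpa using e)
    rw [e']; exact mul_mem k1 k3
  · have e' : s = (⟨r1, h.h1⟩ : S) ^ i * (⟨y1, h.h2⟩ : S) * (⟨r2, h.h3⟩ : S) ^ j :=
      Subtype.ext (by simpa using e)
    rw [e']; exact mul_mem (mul_mem k1 m2) k3
  · have e' : s = (⟨r1, h.h1⟩ : S) ^ i * ((⟨r2, h.h3⟩ : S) ^ j * (⟨y2, h.h4⟩ : S)) :=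
      Subtype.ext (by simpa using e)
    rw [e']; exact mul_mem k1 (mul_mem k3 m4)
  · have e' : s = (⟨r1, h.h1⟩ : S) ^ i * (⟨y1, h.h2⟩ : S) *
        ((⟨r2, h.h3⟩ : S) ^ j * (⟨y2, h.h4⟩ : S)) := Subtype.ext (by simpa using e)
    rw [e']; exact mul_mem (mul_mem k1 m2) (mul_mem k3 m4)

theorem TX.ns (T : TX c r1 y1 r2 y2 x) : Ns r1 y1 r2 y2 x 1 1 1 1 :=
  ⟨by rw [T.a1, zpow_one], by rw [T.b1, zpow_one], by rw [T.a2, zpow_one], by rw [T.b2, zpow_one]⟩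

theorem TX.not_mem (T : TX c r1 y1 r2 y2 x) (h : Sd S z r1 y1 r2 y2 n1 n2) :
    x ∉ RR r1 y1 r2 y2 := by
  intro hx
  have := (T.ns.even_of_mem h.toCo hx).1
  exact absurd this (by decide)

theorem TT.cj2 (T : TT r1 y1 r2 y2 t) : cj t r2 = r1 ∧ cj t y2 = y1 := by
  have key : ∀ a b : G, cj t a = b → cj t b = a := by
    intro a b e
    rw [← e, ← cj_mul_left, T.tt, cj_one_left]
  exact ⟨key _ _ T.a, key _ _ T.b⟩

theorem TT.sw_tgt (T : TT r1 y1 r2 y2 t) : Sw r1 y1 r2 y2 t 1 0 1 0 :=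
  ⟨by rw [T.a, zpow_one], by rw [T.b, zpow_zero, one_mul], by rw [T.cj2.1, zpow_one],
    by rw [T.cj2.2, zpow_zero, one_mul]⟩

theorem TT.not_mem (T : TT r1 y1 r2 y2 t) (h : Sd S z r1 y1 r2 y2 n1 n2) :
    t ∉ RR r1 y1 r2 y2 := fun ht => Sd.not_sw_of_mem h.toCo ht T.sw_tgt

/-- the types. -/
theorem types_of_tg [Finite G] (h : Tg S z) : TypeG2 ↥S ∨ TypeSp4 ↥S ∨ TypeL4 ↥S := by
  obtain ⟨r1, y1, r2, y2, n, h, hc⟩ := h
  rcases hc with ⟨x, hx, T, hc⟩ | ⟨t, ht, T, hc⟩ | ⟨x, hx, t, ht, T, T', htx, hc⟩ |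
    ⟨rfl, x, hx, t, ht, T, T', htx, hc⟩
  · left
    have hcard := h.card_two hx (T.not_mem h) hc
    refine ModelG2.typeG2 h.relR (T.relX h.h1 h.h2 h.h3 h.h4 hx (mul_mem h.h1 h.h3)) ?_
      (by rw [hcard]; congr 1; ring)
    rw [eq_top_iff]
    intro s _
    have key := h.mem_cl (X := closure {⟨x, hx⟩, ⟨y2, h.h4⟩, ⟨y1, h.h2⟩, ⟨r2, h.h3⟩, ⟨r1, h.h1⟩})
      (subset_closure (by simp)) (subset_closure (by simp)) (subset_closure (by simp))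
      (subset_closure (by simp))
    rcases hc s s.2 with h1 | h1
    · exact key s h1
    · have h2 := key ((⟨x, hx⟩ : S)⁻¹ * s) h1
      exact (Subgroup.mul_mem_cancel_left _ (inv_mem (subset_closure (by simp)))).1 h2
  · right; left
    have hcard := h.card_two ht (T.not_mem h) hc
    refine ModelSp4.typeSp4 h.relR (T.relT h.h1 h.h2 h.h3 h.h4 ht) ?_
      (by rw [hcard]; congr 1; ring)
    rw [eq_top_iff]
    intro s _
    have key := h.mem_cl (X := closure {⟨t, ht⟩, ⟨y2, h.h4⟩, ⟨y1, h.h2⟩, ⟨r2, h.h3⟩, ⟨r1, h.h1⟩})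
      (subset_closure (by simp)) (subset_closure (by simp)) (subset_closure (by simp))
      (subset_closure (by simp))
    rcases hc s s.2 with h1 | h1
    · exact key s h1
    · have h2 := key ((⟨t, ht⟩ : S)⁻¹ * s) h1
      exact (Subgroup.mul_mem_cancel_left _ (inv_mem (subset_closure (by simp)))).1 h2
  · right; right
    have hcard := h.card_four (T.not_mem h) (h.mem_N0_of_ns hx T.ns) ht
      (h.not_mem_N0_of_sw rfl T'.sw_tgt) hc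
    refine GHTypes.LFourRel.typeL4 h.relR (T.relX h.h1 h.h2 h.h3 h.h4 hx (mul_mem h.h1 h.h3))
      (T'.relT h.h1 h.h2 h.h3 h.h4 ht) (Subtype.ext (cj_eq_self_iff.1 htx)) ?_
      (by rw [hcard]; congr 1; ring)
    rw [eq_top_iff]
    intro s _
    have key := h.mem_cl (X := closure {⟨t, ht⟩, ⟨x, hx⟩, ⟨y2, h.h4⟩, ⟨y1, h.h2⟩, ⟨r2, h.h3⟩,
      ⟨r1, h.h1⟩}) (subset_closure (by simp)) (subset_closure (by simp)) (subset_closure (by simp))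
      (subset_closure (by simp))
    rcases hc s s.2 with h1 | h1 | h1 | h1
    · exact key s h1
    · have h2 := key ((⟨x, hx⟩ : S)⁻¹ * s) h1
      exact (Subgroup.mul_mem_cancel_left _ (inv_mem (subset_closure (by simp)))).1 h2
    · have h2 := key ((⟨t, ht⟩ : S)⁻¹ * s) h1
      exact (Subgroup.mul_mem_cancel_left _ (inv_mem (subset_closure (by simp)))).1 h2
    · have h2 := key (((⟨t, ht⟩ : S) * (⟨x, hx⟩ : S))⁻¹ * s) h1
      exact (Subgroup.mul_mem_cancel_left _ (inv_mem (mul_mem (subset_closure (by simp))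
        (subset_closure (by simp))))).1 h2
  · right; right
    have hcard := h.card_four (T.not_mem h) (h.mem_N0_of_ns hx T.ns) ht
      (h.not_mem_N0_of_sw rfl T'.sw_tgt) hc
    refine ModelL4z.typeL4 h.relR (T.relX h.h1 h.h2 h.h3 h.h4 hx (mul_mem (mul_mem h.h1 h.h3) h.hz))
      (T'.relT h.h1 h.h2 h.h3 h.h4 ht) (Subtype.ext ?_) ?_
      (by rw [hcard])
    · change t * x = x * z * t
      rw [mul_cj, htx]
    rw [eq_top_iff]
    intro s _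
    have key := h.mem_cl (X := closure {⟨t, ht⟩, ⟨x, hx⟩, ⟨y2, h.h4⟩, ⟨y1, h.h2⟩, ⟨r2, h.h3⟩,
      ⟨r1, h.h1⟩}) (subset_closure (by simp)) (subset_closure (by simp)) (subset_closure (by simp))
      (subset_closure (by simp))
    rcases hc s s.2 with h1 | h1 | h1 | h1
    · exact key s h1
    · have h2 := key ((⟨x, hx⟩ : S)⁻¹ * s) h1
      exact (Subgroup.mul_mem_cancel_left _ (inv_mem (subset_closure (by simp)))).1 h2
    · have h2 := key ((⟨t, ht⟩ : S)⁻¹ * s) h1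
      exact (Subgroup.mul_mem_cancel_left _ (inv_mem (subset_closure (by simp)))).1 h2
    · have h2 := key (((⟨t, ht⟩ : S) * (⟨x, hx⟩ : S))⁻¹ * s) h1
      exact (Subgroup.mul_mem_cancel_left _ (inv_mem (mul_mem (subset_closure (by simp))
        (subset_closure (by simp))))).1 h2

end Cfsg.Agent.GH.Q2
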