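import Cfsg.Agent.GH.Q2.MainTg
import Cfsg.Agent.GH.Q2.MainA
import Cfsg.Agent.GH.Q2.Target

/-!
# GH-Q, case (II): two quaternion 2-components of `C(z)` containing `z`
-/

set_option autoImplicit false

namespace Cfsg.Agent.GH.Q2

open Subgroup Cfsg.Agent.GH.Defs

variable {G : Type*} [Group G]

/-- **Case (II)** of GH-Q. -/
theorem types_main [Finite G] (h : Hyp G) (hqt : ∀ (x : G) (K : Subgroup G), Comp2 x K →
    EvenCenter K → QA.QT K) {z : G} {K L : Subgroup G} (c : Comp2 z K) (c' : Comp2 z L)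
    (hne : K ≠ L) (hzK : z ∈ K) (hzL : z ∈ L) :
    ∃ S : Sylow 2 G, TypeG2 ↥(S : Subgroup G) ∨ TypeSp4 ↥(S : Subgroup G) ∨
      TypeL4 ↥(S : Subgroup G) := by
  obtain ⟨S, r1, y1, r2, y2, n1, n2, hSd, F⟩ := exists_fu h hqt c c' hne hzK hzL
  exact ⟨S, types_of_tg (tg_of_fu S hSd F)⟩

theorem gtype [Finite G] (h : Hyp G) (hqt : ∀ (x : G) (K : Subgroup G), Comp2 x K →
    EvenCenter K → QA.QT K) {z : G} {K L : Subgroup G} (c : Comp2 z K) (c' : Comp2 z L)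
    (hne : K ≠ L) (hzK : z ∈ K) (hzL : z ∈ L) : GType G := by
  obtain ⟨S, h1 | h1 | h1⟩ := types_main h hqt c c' hne hzK hzL
  · exact Or.inl ⟨S, Or.inr (Or.inr (Or.inr (Or.inr (Or.inr (Or.inr (Or.inr (Or.inr h1)))))))⟩
  · exact Or.inl ⟨S, Or.inr (Or.inr (Or.inr (Or.inr (Or.inr (Or.inl h1)))))⟩
  · exact Or.inl ⟨S, Or.inr (Or.inr (Or.inr (Or.inr (Or.inr (Or.inr (Or.inl h1))))))⟩

end Cfsg.Agent.GH.Q2
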