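import Cfsg.Agent.GH.Q2.Sq
import Cfsg.Agent.TwoFusion.SectionalRank

/-!
# GH-Q, case (II): section (1.1), the rank argument
-/

set_option autoImplicit false

namespace Cfsg.Agent.GH.Q2

open Subgroup Cfsg Cfsg.Agent.TwoFusion.SectionalRank

variable {G : Type*} [Group G]

theorem le_normalizer_of [Finite G] {T : Set G} {N : Subgroup G}
    (hN : ∀ t ∈ T, ∀ n ∈ N, cj t n ∈ N) : closure T ≤ normalizer (N : Set G) := by
  rw [closure_le]
  intro t ht
  exact mem_normalizer_fintype (fun n hn => hN t ht n hn)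

/-- Elementary abelian sections from generators. -/
theorem elem_closure [Finite G] {T : Set G} {N : Subgroup G} (hNT : N ≤ closure T)
    (hN : ∀ t ∈ T, ∀ n ∈ N, cj t n ∈ N) (hc : ∀ a ∈ T, ∀ b ∈ T, a * b * a⁻¹ * b⁻¹ ∈ N)
    (hs : ∀ a ∈ T, a * a ∈ N) : ElemSection 2 (closure T) N := by
  have hn := le_normalizer_of hN
  have hcm : ∀ x ∈ normalizer (N : Set G), ∀ n ∈ N, x * n * x⁻¹ ∈ N := fun x hx n hn =>
    (mem_normalizer_iff.1 hx n).1 hn
  have hcm' : ∀ x ∈ normalizer (N : Set G), ∀ n ∈ N, x⁻¹ * n * x ∈ N := fun x hx n hn => by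
    have := hcm x⁻¹ (inv_mem hx) n hn
    rwa [inv_inv] at this
  -- commutators
  let L : G → Subgroup G := fun b =>
    { carrier := {x | x ∈ normalizer (N : Set G) ∧ x * b * x⁻¹ * b⁻¹ ∈ N}
      mul_mem' := by
        rintro x y ⟨hx, hx'⟩ ⟨hy, hy'⟩
        refine ⟨mul_mem hx hy, ?_⟩
        have e : x * y * b * (x * y)⁻¹ * b⁻¹ =
            (x * (y * b * y⁻¹ * b⁻¹) * x⁻¹) * (x * b * x⁻¹ * b⁻¹) := by group
        rw [e]
        exact mul_mem (hcm x hx _ hy') hx'
      one_mem' := ⟨one_mem _, by simp⟩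
      inv_mem' := by
        rintro x ⟨hx, hx'⟩
        refine ⟨inv_mem hx, ?_⟩
        have e : x⁻¹ * b * x⁻¹⁻¹ * b⁻¹ = x⁻¹ * (x * b * x⁻¹ * b⁻¹)⁻¹ * x := by group
        rw [e]
        exact hcm' x hx _ (inv_mem hx') }
  have h1 : ∀ b ∈ T, closure T ≤ L b := by
    intro b hb
    rw [closure_le]
    intro a ha
    exact ⟨hn (subset_closure ha), hc a ha b hb⟩
  have hcomm : ∀ a ∈ closure T, ∀ b ∈ closure T, a * b * a⁻¹ * b⁻¹ ∈ N := by
    intro a ha
    let M : Subgroup G :=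
      { carrier := {b | b ∈ normalizer (N : Set G) ∧ a * b * a⁻¹ * b⁻¹ ∈ N}
        mul_mem' := by
          rintro x y ⟨hx, hx'⟩ ⟨hy, hy'⟩
          refine ⟨mul_mem hx hy, ?_⟩
          have e : a * (x * y) * a⁻¹ * (x * y)⁻¹ =
              (a * x * a⁻¹ * x⁻¹) * (x * (a * y * a⁻¹ * y⁻¹) * x⁻¹) := by group
          rw [e]
          exact mul_mem hx' (hcm x hx _ hy')
        one_mem' := ⟨one_mem _, by simp⟩
        inv_mem' := by
          rintro x ⟨hx, hx'⟩
          refine ⟨inv_mem hx, ?_⟩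
          have e : a * x⁻¹ * a⁻¹ * x⁻¹⁻¹ = x⁻¹ * (a * x * a⁻¹ * x⁻¹)⁻¹ * x := by group
          rw [e]
          exact hcm' x hx _ (inv_mem hx') }
    have h2 : closure T ≤ M := by
      rw [closure_le]
      intro b hb
      exact ⟨hn (subset_closure hb), (h1 b hb ha).2⟩
    intro b hb
    exact (h2 hb).2
  refine ⟨hNT, hcomm, ?_⟩
  intro a ha
  rw [pow_two]
  induction ha using closure_induction with
  | mem x hx => exact hs x hx
  | one => simp
  | mul x y hx hy h3 h4 =>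
    have e : x * y * (x * y) = (x * x) * (x⁻¹ * y * x⁻¹⁻¹ * y⁻¹) * (y * y) := by
      group
    have h5 := hcomm x⁻¹ (inv_mem hx) y hy
    rw [e]
    exact mul_mem (mul_mem h3 h5) h4
  | inv x hx h3 =>
    have : x⁻¹ * x⁻¹ = (x * x)⁻¹ := by group
    rw [this]
    exact inv_mem h3

theorem two_mul_card_le [Finite G] {H K : Subgroup G} (hHK : H ≤ K) {x : G} (hx : x ∈ K)
    (hx' : x ∉ H) : 2 * Nat.card H ≤ Nat.card K := by
  obtain ⟨c, hc⟩ := card_dvd_of_le hHK
  have h1 : c ≠ 0 := by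
    rintro rfl
    have := Nat.card_pos (α := K)
    omega
  have h2 : c ≠ 1 := by
    rintro rfl
    have := eq_of_le_of_card_ge hHK (by omega)
    rw [← this] at hx
    exact hx' hx
  rw [hc, mul_comm]
  exact Nat.mul_le_mul_left _ (by omega)

/-- `{g | cj g r = r, cj g y ∈ ⟨r⁴⟩ y}`. -/
def KK (r y : G) : Subgroup G where
  carrier := {g | cj g r = r ∧ ∃ k : ℤ, cj g y = r ^ (4 * k) * y}
  mul_mem' := by
    rintro a b ⟨ha, k, hk⟩ ⟨hb, l, hl⟩
    refine ⟨by rw [cj_mul_left, hb, ha], l + k, ?_⟩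
    rw [cj_mul_left, hl, cj_mul, cj_zpow, ha, hk, ← mul_assoc, ← zpow_add]
    congr 2
    ring
  one_mem' := ⟨by simp, 0, by simp⟩
  inv_mem' := by
    rintro a ⟨ha, k, hk⟩
    have ha' : cj a⁻¹ r = r := by
      have := cj_inv_cj a r
      rwa [ha] at this
    refine ⟨ha', -k, ?_⟩
    have h1 : y = cj a⁻¹ (r ^ (4 * k) * y) := by rw [← hk, cj_inv_cj]
    rw [cj_mul, cj_zpow, ha'] at h1
    rw [mul_neg, zpow_neg, eq_inv_mul_iff_mul_eq]
    exact h1.symm

theorem Qn.notin_KK {z r y : G} {n : ℕ} (h : Qn z r y n) : r ∉ KK r y := by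
  rintro ⟨_, k, hk⟩
  have h1 := h.cj_rz_y 1
  rw [zpow_one] at h1
  rw [h1] at hk
  have h2 := mul_right_cancel hk
  rw [h.zpow_eq] at h2
  have h3 : (4 : ℤ) ∣ 2 * 1 - 4 * k := dvd_trans ⟨2 ^ n, by ring⟩ h2
  omega

/-- An element `s ∉ R` inducing on `R / Φ(R)` the identity, with square in `Φ(R)`, gives rank 5. -/
theorem rank_five [Finite G] (hr : SectionalPRankLE 2 4 G) {z r1 y1 r2 y2 s : G} {n1 n2 : ℕ}
    (h : Co z r1 y1 r2 y2 n1 n2) {a b c d : ℤ} (N : Ns r1 y1 r2 y2 s (1 + 2 * a) (2 * b) (1 + 2 * c) (2 * d))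
    (hss : s * s = 1 ∨ s * s = z) (hs : s ∉ RR r1 y1 r2 y2) : False := by
  have hr' := sectionalPRankLE_iff.1 hr
  set N0 : Subgroup G := closure {r1 ^ (2 : ℤ), r2 ^ (2 : ℤ)} with hN0
  have g1 : r1 ^ (2 : ℤ) ∈ N0 := subset_closure (by simp)
  have g2 : r2 ^ (2 : ℤ) ∈ N0 := subset_closure (by simp)
  have g1' : ∀ k : ℤ, r1 ^ (2 * k) ∈ N0 := fun k => by
    rw [zpow_mul]; exact Subgroup.zpow_mem _ g1 k
  have g2' : ∀ k : ℤ, r2 ^ (2 * k) ∈ N0 := fun k => by
    rw [zpow_mul]; exact Subgroup.zpow_mem _ g2 k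
  have gz : z ∈ N0 := by
    rw [← h.q1.rzp, show (2 : ℤ) ^ (n1 + 1) = 2 * 2 ^ n1 by ring]
    exact g1' _
  set T : Set G := {s, y2, r2, y1, r1} with hT
  have hN0T : N0 ≤ closure T := by
    rw [hN0, closure_le]
    rintro x (rfl | rfl)
    · exact Subgroup.zpow_mem _ (subset_closure (by simp [hT])) _
    · exact Subgroup.zpow_mem _ (subset_closure (by simp [hT])) _
  have hr1 := h.ns_r1 1
  have hr2 := h.ns_r2 1
  rw [zpow_one] at hr1 hr2
  have hnorm : ∀ t ∈ T, ∀ n ∈ N0, cj t n ∈ N0 := by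
    have key : ∀ t : G, cj t (r1 ^ (2 : ℤ)) ∈ N0 → cj t (r2 ^ (2 : ℤ)) ∈ N0 → ∀ n ∈ N0, cj t n ∈ N0 := by
      intro t h1 h2 n hn
      have : N0 ≤ N0.comap (MulAut.conj t).toMonoidHom := by
        rw [hN0, closure_le]
        rintro x (rfl | rfl)
        · exact h1
        · exact h2
      exact this hn
    rintro t (rfl | rfl | rfl | rfl | rfl)
    · apply key
      · rw [cj_zpow, N.a1, ← zpow_mul, mul_comm]; exact g1' _
      · rw [cj_zpow, N.a2, ← zpow_mul, mul_comm]; exact g2' _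
    · apply key
      · rw [cj_zpow, h.ns_y2.a1, ← zpow_mul, mul_comm]; exact g1' _
      · rw [cj_zpow, h.ns_y2.a2, ← zpow_mul, mul_comm]; exact g2' _
    · apply key
      · rw [cj_zpow, hr2.a1, ← zpow_mul, mul_comm]; exact g1' _
      · rw [cj_zpow, hr2.a2, ← zpow_mul, mul_comm]; exact g2' _
    · apply key
      · rw [cj_zpow, h.ns_y1.a1, ← zpow_mul, mul_comm]; exact g1' _
      · rw [cj_zpow, h.ns_y1.a2, ← zpow_mul, mul_comm]; exact g2' _
    · apply key
      · rw [cj_zpow, hr1.a1, ← zpow_mul, mul_comm]; exact g1' _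
      · rw [cj_zpow, hr1.a2, ← zpow_mul, mul_comm]; exact g2' _
  have hnT : closure T ≤ normalizer (N0 : Set G) := le_normalizer_of hnorm
  have hsec : ElemSection 2 (closure T) N0 := by
    apply elem_closure hN0T hnorm
    · -- commutators with the elements of the list
      have com : ∀ t : G, ∀ a b c d : ℤ, Ns r1 y1 r2 y2 t (1 + 2 * a) (2 * b) (1 + 2 * c) (2 * d) →
          (t * r1 * t⁻¹ * r1⁻¹ ∈ N0 ∧ t * y1 * t⁻¹ * y1⁻¹ ∈ N0 ∧ t * r2 * t⁻¹ * r2⁻¹ ∈ N0 ∧
            t * y2 * t⁻¹ * y2⁻¹ ∈ N0) := by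
        intro t a b c d M
        refine ⟨?_, ?_, ?_, ?_⟩
        · have := M.a1
          rw [cj_def] at this
          rw [this, zpow_add, zpow_one, mul_assoc]
          have e : r1 * (r1 ^ (2 * a) * r1⁻¹) = r1 ^ (2 * a) := by group
          rw [e]; exact g1' _
        · have := M.b1
          rw [cj_def] at this
          rw [this, mul_inv_cancel_right]; exact g1' _
        · have := M.a2
          rw [cj_def] at this
          rw [this, zpow_add, zpow_one, mul_assoc]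
          have e : r2 * (r2 ^ (2 * c) * r2⁻¹) = r2 ^ (2 * c) := by group
          rw [e]; exact g2' _
        · have := M.b2
          rw [cj_def] at this
          rw [this, mul_inv_cancel_right]; exact g2' _
      have inv' : ∀ x y : G, x ∈ closure T → y ∈ closure T → x * y * x⁻¹ * y⁻¹ ∈ N0 →
          y * x * y⁻¹ * x⁻¹ ∈ N0 := by
        intro x y _ _ hxy
        have : y * x * y⁻¹ * x⁻¹ = (x * y * x⁻¹ * y⁻¹)⁻¹ := by group
        rw [this]; exact inv_mem hxy
      have cs := com s a b c d N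
      have cr1 := com r1 0 1 0 0 (by simpa using hr1)
      have cr2 := com r2 0 0 0 1 (by simpa using hr2)
      have cy1 := com y1 (-1) 0 0 0 (by simpa using h.ns_y1)
      have cy2 := com y2 0 0 (-1) 0 (by simpa using h.ns_y2)
      have ms : s ∈ closure T := subset_closure (by simp [hT])
      have mr1 : r1 ∈ closure T := subset_closure (by simp [hT])
      have mr2 : r2 ∈ closure T := subset_closure (by simp [hT])
      have my1 : y1 ∈ closure T := subset_closure (by simp [hT])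
      have my2 : y2 ∈ closure T := subset_closure (by simp [hT])
      rintro p (rfl | rfl | rfl | rfl | rfl) q (rfl | rfl | rfl | rfl | rfl)
      · simp
      · exact cs.2.2.2
      · exact cs.2.2.1
      · exact cs.2.1
      · exact cs.1
      · exact inv' _ _ ms my2 cs.2.2.2
      · exact cy2.2.2.2
      · exact cy2.2.2.1
      · exact cy2.2.1
      · exact cy2.1
      · exact inv' _ _ ms mr2 cs.2.2.1
      · exact cr2.2.2.2
      · exact cr2.2.2.1
      · exact cr2.2.1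
      · exact cr2.1
      · exact inv' _ _ ms my1 cs.2.1
      · exact cy1.2.2.2
      · exact cy1.2.2.1
      · exact cy1.2.1
      · exact cy1.1
      · exact inv' _ _ ms mr1 cs.1
      · exact cr1.2.2.2
      · exact cr1.2.2.1
      · exact cr1.2.1
      · exact cr1.1
    · rintro p (rfl | rfl | rfl | rfl | rfl)
      · rcases hss with e | e <;> rw [e]
        · exact one_mem _
        · exact gz
      · rw [h.q2.ys]; exact gz
      · rw [← zpow_two]; exact g2
      · rw [h.q1.ys]; exact gz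
      · rw [← zpow_two]; exact g1
  have hcard := hr' _ _ hsec
  -- a chain of subgroups
  set N1 : Subgroup G := closure {r1, r2 ^ (2 : ℤ)} with hN1
  set N2 : Subgroup G := closure {y1, r1, r2 ^ (2 : ℤ)} with hN2
  set N3 : Subgroup G := closure {r2, y1, r1} with hN3
  have le01 : N0 ≤ N1 := by
    rw [hN0, closure_le]
    rintro x (rfl | rfl)
    · exact Subgroup.zpow_mem _ (subset_closure (by simp)) _
    · exact subset_closure (by simp)
  have le12 : N1 ≤ N2 := closure_mono (by intro x hx; simp at hx ⊢; tauto)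
  have le23 : N2 ≤ N3 := by
    rw [hN2, closure_le]
    rintro x (rfl | rfl | rfl)
    · exact subset_closure (by simp)
    · exact subset_closure (by simp)
    · exact Subgroup.zpow_mem _ (subset_closure (by simp)) _
  have le34 : N3 ≤ RR r1 y1 r2 y2 := by
    rw [hN3, closure_le]
    rintro x (rfl | rfl | rfl)
    · exact h.m3
    · exact h.m2
    · exact h.m1
  have le45 : RR r1 y1 r2 y2 ≤ closure T := by
    unfold RR
    rw [sup_le_iff, closure_le, closure_le]
    constructor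
    · rintro x (rfl | rfl) <;> exact subset_closure (by simp [hT])
    · rintro x (rfl | rfl) <;> exact subset_closure (by simp [hT])
  have n01 : r1 ∉ N0 := by
    intro hc
    have : N0 ≤ KK r1 y1 := by
      rw [hN0, closure_le]
      rintro x (rfl | rfl)
      · refine ⟨?_, 1, ?_⟩
        · have := (h.ns_r1 2).a1; rwa [zpow_one] at this
        · have := (h.ns_r1 2).b1; norm_num at this ⊢; exact this
      · refine ⟨?_, 0, ?_⟩
        · have := (h.ns_r2 2).a1; rwa [zpow_one] at this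
        · have := (h.ns_r2 2).b1; simpa using this
    exact h.q1.notin_KK (this hc)
  have n12 : y1 ∉ N1 := by
    intro hc
    have : N1 ≤ centralizer {r1} := by
      rw [hN1, closure_le]
      rintro x (rfl | rfl)
      · rw [SetLike.mem_coe, mem_centralizer_singleton_iff]
      · rw [SetLike.mem_coe, mem_centralizer_singleton_iff]
        exact (Commute.zpow_left (show Commute r2 r1 from h.rr.symm) 2)
    have h1 := mem_centralizer_singleton_iff.1 (this hc)
    have h2 := cj_eq_self (s := y1) (x := r1) h1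
    rw [h.q1.inv] at h2
    exact h.q1.r_ne_inv h2.symm
  have n23 : r2 ∉ N2 := by
    intro hc
    have : N2 ≤ KK r2 y2 := by
      rw [hN2, closure_le]
      rintro x (rfl | rfl | rfl)
      · refine ⟨?_, 0, ?_⟩
        · have := h.ns_y1.a2; rwa [zpow_one] at this
        · have := h.ns_y1.b2; simpa using this
      · refine ⟨?_, 0, ?_⟩
        · have := hr1.a2; rwa [zpow_one] at this
        · have := hr1.b2; simpa using this
      · refine ⟨?_, 1, ?_⟩
        · have := (h.ns_r2 2).a2; rwa [zpow_one] at this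
        · have := (h.ns_r2 2).b2; norm_num at this ⊢; exact this
    exact h.q2.notin_KK (this hc)
  have n34 : y2 ∉ N3 := by
    intro hc
    have : N3 ≤ centralizer {r2} := by
      rw [hN3, closure_le]
      rintro x (rfl | rfl | rfl)
      · rw [SetLike.mem_coe, mem_centralizer_singleton_iff]
      · rw [SetLike.mem_coe, mem_centralizer_singleton_iff]; exact h.yr
      · rw [SetLike.mem_coe, mem_centralizer_singleton_iff]; exact h.rr
    have h1 := mem_centralizer_singleton_iff.1 (this hc)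
    have h2 := cj_eq_self (s := y2) (x := r2) h1
    rw [h.q2.inv] at h2
    exact h.q2.r_ne_inv h2.symm
  have c1 := two_mul_card_le le01 (subset_closure (by simp) : r1 ∈ N1) n01
  have c2 := two_mul_card_le le12 (subset_closure (by simp) : y1 ∈ N2) n12
  have c3 := two_mul_card_le le23 (subset_closure (by simp) : r2 ∈ N3) n23
  have c4 := two_mul_card_le le34 h.m4 n34
  have c5 := two_mul_card_le le45 (subset_closure (by simp [hT]) : s ∈ closure T) hs
  have c0 := Nat.card_pos (α := N0)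
  omega

/-- An element of `R` with `j`-exponents zero and signs `+` is `1` or `z`. -/
theorem eq_one_or_z {z r1 y1 r2 y2 s : G} {n1 n2 : ℕ} (h : Co z r1 y1 r2 y2 n1 n2) {u1 u2 : ℤ}
    (N : Ns r1 y1 r2 y2 s u1 0 u2 0) (h1 : (4 : ℤ) ∣ u1 - 1) (h2 : (4 : ℤ) ∣ u2 - 1)
    (hs : s ∈ RR r1 y1 r2 y2) : s = 1 ∨ s = z := by
  obtain ⟨i, j, hc⟩ := h.ns_of_mem hs
  have key : ∀ v1 v2 : ℤ, Ns r1 y1 r2 y2 s v1 (2 * i) v2 (2 * j) →
      v1 ≠ -1 ∧ v2 ≠ -1 ∧ (r1 ^ i = 1 ∨ r1 ^ i = z) ∧ (r2 ^ j = 1 ∨ r2 ^ j = z) := by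
    intro v1 v2 M
    refine ⟨?_, ?_, ?_, ?_⟩
    · rintro rfl
      have := N.a1.symm.trans M.a1
      rw [h.q1.zpow_eq] at this
      have h3 : (4 : ℤ) ∣ u1 - -1 := dvd_trans ⟨2 ^ n1, by ring⟩ this
      omega
    · rintro rfl
      have := N.a2.symm.trans M.a2
      rw [h.q2.zpow_eq] at this
      have h3 : (4 : ℤ) ∣ u2 - -1 := dvd_trans ⟨2 ^ n2, by ring⟩ this
      omega
    · have h1 := mul_right_cancel (M.b1.symm.trans N.b1)
      rw [h.q1.zpow_eq, sub_zero, show (2 : ℤ) ^ (n1 + 2) = 2 * 2 ^ (n1 + 1) by ring] at h1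
      rw [h.q1.zpow_mem]
      exact Int.dvd_of_mul_dvd_mul_left (by norm_num) h1
    · have h1 := mul_right_cancel (M.b2.symm.trans N.b2)
      rw [h.q2.zpow_eq, sub_zero, show (2 : ℤ) ^ (n2 + 2) = 2 * 2 ^ (n2 + 1) by ring] at h1
      rw [h.q2.zpow_mem]
      exact Int.dvd_of_mul_dvd_mul_left (by norm_num) h1
  rcases hc with ⟨e, M⟩ | ⟨_, M⟩ | ⟨_, M⟩ | ⟨_, M⟩
  · obtain ⟨_, _, h5, h6⟩ := key _ _ M
    rw [e]
    rcases h5 with h5 | h5 <;> rcases h6 with h6 | h6 <;> rw [h5, h6]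
    · left; simp
    · right; simp
    · right; simp
    · left; exact h.q1.z_sq
  · exact absurd rfl (key _ _ M).1
  · exact absurd rfl (key _ _ M).2.1
  · exact absurd rfl (key _ _ M).1

/-- Section (1.1). -/
theorem inR_of_rank [Finite G] (hr : SectionalPRankLE 2 4 G) {S : Subgroup G} (hS : IsPGroup 2 S)
    {z r1 y1 r2 y2 : G} {n1 n2 : ℕ} (h : Co z r1 y1 r2 y2 n1 n2) (h1 : r1 ∈ S) (h2 : y1 ∈ S)
    (h3 : r2 ∈ S) (h4 : y2 ∈ S) {s : G} (hs : s ∈ S) {u1 j1 u2 j2 : ℤ}
    (N : Ns r1 y1 r2 y2 s u1 j1 u2 j2) (e1 : Even j1) (e2 : Even j2) : s ∈ RR r1 y1 r2 y2 := by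
  -- the normalized case
  have key : ∀ (k : ℕ) (s : G) (u1 u2 : ℤ), s ∈ S → Ns r1 y1 r2 y2 s u1 0 u2 0 →
      (4 : ℤ) ∣ u1 - 1 → (4 : ℤ) ∣ u2 - 1 → s ^ (2 ^ k) = 1 → s ∈ RR r1 y1 r2 y2 := by
    intro k
    induction k with
    | zero =>
      intro s u1 u2 _ _ _ _ he
      rw [pow_zero, pow_one] at he
      rw [he]; exact one_mem _
    | succ k ih =>
      intro s u1 u2 hs N h4 h4' he
      have NN := N.mul N
      simp only [mul_zero, add_zero] at NN
      have d1 : (4 : ℤ) ∣ u1 * u1 - 1 := by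
        obtain ⟨m, hm⟩ := h4
        refine ⟨m * (4 * m + 2), ?_⟩
        have : u1 = 4 * m + 1 := by linarith
        rw [this]; ring
      have d2 : (4 : ℤ) ∣ u2 * u2 - 1 := by
        obtain ⟨m, hm⟩ := h4'
        refine ⟨m * (4 * m + 2), ?_⟩
        have : u2 = 4 * m + 1 := by linarith
        rw [this]; ring
      have hmem := ih (s * s) _ _ (mul_mem hs hs) NN d1 d2 (by
        rw [← pow_two, ← pow_mul, ← pow_succ']; exact he)
      have hss := eq_one_or_z h NN d1 d2 hmem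
      by_contra hcon
      have o1 : u1 = 1 + 2 * ((u1 - 1) / 2) := by omega
      have o2 : u2 = 1 + 2 * ((u2 - 1) / 2) := by omega
      have N' : Ns r1 y1 r2 y2 s (1 + 2 * ((u1 - 1) / 2)) (2 * 0) (1 + 2 * ((u2 - 1) / 2)) (2 * 0) := by
        rw [← o1, ← o2]; simpa using N
      exact rank_five hr h N' hss hcon
  have hpow : ∀ s ∈ S, ∃ k : ℕ, s ^ (2 ^ k) = 1 := by
    intro s hs
    obtain ⟨k, hk⟩ := hS ⟨s, hs⟩
    exact ⟨k, by simpa using congrArg Subtype.val hk⟩
  -- signs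
  have step2 : ∀ (s : G) (u1 u2 : ℤ), s ∈ S → Ns r1 y1 r2 y2 s u1 0 u2 0 →
      s ∈ RR r1 y1 r2 y2 := by
    intro s u1 u2 hs N
    have o1 := N.odd1 h
    have o2 := N.odd2 h
    have c1 : (4 : ℤ) ∣ u1 - 1 ∨ (4 : ℤ) ∣ -1 * u1 - 1 := by
      obtain ⟨m, hm⟩ := o1
      omega
    have c2 : (4 : ℤ) ∣ u2 - 1 ∨ (4 : ℤ) ∣ -1 * u2 - 1 := by
      obtain ⟨m, hm⟩ := o2
      omega
    have N1 := h.ns_y1.mul N
    have N2 := h.ns_y2.mul N
    have N12 := h.ns_y1.mul (h.ns_y2.mul N)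
    simp only [mul_zero, add_zero, one_mul] at N1 N2 N12
    rcases c1 with c1 | c1 <;> rcases c2 with c2 | c2
    · obtain ⟨k, hk⟩ := hpow s hs
      exact key k s _ _ hs N c1 c2 hk
    · obtain ⟨k, hk⟩ := hpow _ (mul_mem h4 hs)
      have := key k _ _ _ (mul_mem h4 hs) N2 c1 c2 hk
      exact (mul_mem_cancel_left h.m4).1 this
    · obtain ⟨k, hk⟩ := hpow _ (mul_mem h2 hs)
      have := key k _ _ _ (mul_mem h2 hs) N1 c1 c2 hk
      exact (mul_mem_cancel_left h.m2).1 this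
    · obtain ⟨k, hk⟩ := hpow _ (mul_mem h2 (mul_mem h4 hs))
      have := key k _ _ _ (mul_mem h2 (mul_mem h4 hs)) N12 c1 c2 hk
      exact (mul_mem_cancel_left h.m4).1 ((mul_mem_cancel_left h.m2).1 this)
  obtain ⟨k1, rfl⟩ := e1
  obtain ⟨k2, rfl⟩ := e2
  have N' := (h.ns_r1 (-k1)).mul ((h.ns_r2 (-k2)).mul N)
  have z1 : 1 * (1 * (k1 + k1) + 0) + 2 * -k1 = 0 := by ring
  have z2 : 1 * (1 * (k2 + k2) + 2 * -k2) + 0 = 0 := by ring
  rw [z1, z2] at N'
  have := step2 _ _ _ (mul_mem (Subgroup.zpow_mem _ h1 _) (mul_mem (Subgroup.zpow_mem _ h3 _) hs)) N'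
  exact (mul_mem_cancel_left (Subgroup.zpow_mem _ h.m3 _)).1
    ((mul_mem_cancel_left (Subgroup.zpow_mem _ h.m1 _)).1 this)

end Cfsg.Agent.GH.Q2
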