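import Mathlib

/-!
# GH-Q, case (II): two commuting generalized quaternion groups (coordinates)

`cj s x = s x s⁻¹`.  `Qn z r y n` : `⟨r, y⟩` is generalized quaternion of order `2 ^ (n + 3)`.
`Co z r1 y1 r2 y2 n1 n2` : two commuting ones, meeting in `⟨z⟩`.
-/

set_option autoImplicit false

namespace Cfsg.Agent.GH.Q2

open Subgroup

variable {G : Type*} [Group G]

/-- Conjugation `s x s⁻¹`. -/
def cj (s x : G) : G := s * x * s⁻¹

theorem cj_def (s x : G) : cj s x = s * x * s⁻¹ := rfl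
@[simp] theorem cj_one_left (x : G) : cj 1 x = x := by simp [cj]
theorem cj_mul_left (a b x : G) : cj (a * b) x = cj a (cj b x) := by simp [cj, mul_assoc]
@[simp] theorem cj_inv_cj (a x : G) : cj a⁻¹ (cj a x) = x := by simp [cj, mul_assoc]
@[simp] theorem cj_cj_inv (a x : G) : cj a (cj a⁻¹ x) = x := by simp [cj, mul_assoc]
@[simp] theorem cj_one (s : G) : cj s 1 = 1 := by simp [cj]
theorem cj_mul (s x y : G) : cj s (x * y) = cj s x * cj s y := by simp [cj, mul_assoc]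
theorem cj_inv (s x : G) : cj s x⁻¹ = (cj s x)⁻¹ := by simp [cj, mul_assoc]
theorem cj_pow (s x : G) (n : ℕ) : cj s (x ^ n) = cj s x ^ n := by
  exact map_pow (MulAut.conj s) x n
theorem cj_zpow (s x : G) (n : ℤ) : cj s (x ^ n) = cj s x ^ n := by
  exact map_zpow (MulAut.conj s) x n
theorem cj_inj {s x y : G} (h : cj s x = cj s y) : x = y := by
  simpa [cj] using h
theorem cj_eq_iff {s x y : G} : cj s x = y ↔ x = cj s⁻¹ y := by
  constructor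
  · rintro rfl; simp
  · rintro rfl; simp
theorem cj_eq_self {s x : G} (h : s * x = x * s) : cj s x = x := by simp [cj, h]
theorem cj_eq_self_iff {s x : G} : cj s x = x ↔ s * x = x * s := by
  constructor
  · intro h
    have : s * x * s⁻¹ * s = x * s := by rw [← cj_def, h]
    simpa using this
  · exact cj_eq_self
theorem cj_self (s : G) : cj s s = s := by simp [cj]
theorem cj_comm {s x : G} (h : cj s x = x) : cj x s = s := by
  rw [cj_eq_self_iff] at h ⊢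
  exact h.symm
theorem mul_cj (s x : G) : s * x = cj s x * s := by simp [cj]
theorem cj_ne_one {s x : G} (h : x ≠ 1) : cj s x ≠ 1 := by
  intro h'
  apply h
  rw [← cj_one s] at h'
  exact cj_inj h'
theorem cj_cj (a b x : G) : cj (cj a b) (cj a x) = cj a (cj b x) := by
  simp [cj, mul_assoc]

/-- `⟨r, y⟩` is generalized quaternion of order `2 ^ (n + 3)` with involution `z`. -/
structure Qn (z r y : G) (n : ℕ) : Prop where
  z_ne : z ≠ 1
  z_sq : z * z = 1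
  rp : r ^ (2 ^ (n + 1)) = z
  ys : y * y = z
  inv : cj y r = r⁻¹

namespace Qn

variable {z r y : G} {n : ℕ}

theorem rp2 (h : Qn z r y n) : r ^ (2 ^ (n + 2)) = 1 := by
  have : 2 ^ (n + 2) = 2 ^ (n + 1) * 2 := by ring
  rw [this, pow_mul, h.rp, pow_two, h.z_sq]

theorem ord (h : Qn z r y n) : orderOf r = 2 ^ (n + 2) := by
  have h1 : ¬ r ^ (2 ^ (n + 1)) = 1 := by rw [h.rp]; exact h.z_ne
  exact orderOf_eq_prime_pow h1 h.rp2

theorem zpow_eq_one (h : Qn z r y n) {i : ℤ} : r ^ i = 1 ↔ (2 ^ (n + 2) : ℤ) ∣ i := by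
  rw [← orderOf_dvd_iff_zpow_eq_one, h.ord]
  push_cast
  rfl

theorem zpow_eq (h : Qn z r y n) {i j : ℤ} : r ^ i = r ^ j ↔ (2 ^ (n + 2) : ℤ) ∣ i - j := by
  rw [← h.zpow_eq_one, zpow_sub, mul_inv_eq_one]

theorem rzp (h : Qn z r y n) : r ^ ((2 : ℤ) ^ (n + 1)) = z := by
  rw [← h.rp]
  exact_mod_cast rfl

theorem zz (h : Qn z r y n) : z⁻¹ = z := inv_eq_of_mul_eq_one_left h.z_sq

theorem z_cases (h : Qn z r y n) (i : ℤ) : z ^ i = 1 ∧ Even i ∨ z ^ i = z ∧ Odd i := by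
  rcases Int.even_or_odd i with ⟨k, hk⟩ | ⟨k, hk⟩
  · left
    refine ⟨?_, ⟨k, hk⟩⟩
    rw [hk, zpow_add, ← mul_zpow_self_comm h.z_sq k]
  · right
    refine ⟨?_, ⟨k, hk⟩⟩
    rw [hk, zpow_add, zpow_mul, zpow_one]
    have : z ^ (2 : ℤ) = 1 := by
      have := h.z_sq
      rw [← pow_two] at this
      exact_mod_cast this
    rw [this, one_zpow, one_mul]
where
  mul_zpow_self_comm {z : G} (hz : z * z = 1) (k : ℤ) : z ^ k * z ^ k = 1 := by
    rw [← zpow_add, ← two_mul, zpow_mul]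
    have : z ^ (2 : ℤ) = 1 := by
      rw [← pow_two] at hz
      exact_mod_cast hz
    rw [this, one_zpow]

theorem z2 (h : Qn z r y n) : z ^ (2 : ℤ) = 1 := by
  have := h.z_sq
  rw [← pow_two] at this
  exact_mod_cast this

/-- `r ^ i ∈ {1, z}` iff `2 ^ (n + 1) ∣ i`. -/
theorem zpow_mem (h : Qn z r y n) {i : ℤ} :
    (r ^ i = 1 ∨ r ^ i = z) ↔ (2 ^ (n + 1) : ℤ) ∣ i := by
  constructor
  · rintro (h1 | h1)
    · rw [h.zpow_eq_one] at h1
      exact (pow_dvd_pow _ (by omega)).trans h1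
    · rw [← h.rzp, h.zpow_eq] at h1
      have h2 := (pow_dvd_pow (2 : ℤ) (show n + 1 ≤ n + 2 by omega)).trans h1
      exact (dvd_sub_left (dvd_refl _)).1 h2
  · rintro ⟨k, rfl⟩
    rw [zpow_mul, h.rzp]
    rcases h.z_cases k with ⟨h1, _⟩ | ⟨h1, _⟩
    · exact Or.inl h1
    · exact Or.inr h1

theorem zpow_one_or (h : Qn z r y n) (k : ℤ) : z ^ k = 1 ∨ z ^ k = z := by
  rcases h.z_cases k with ⟨h1, _⟩ | ⟨h1, _⟩
  · exact Or.inl h1
  · exact Or.inr h1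

/-- an odd power of `r` is not in `{1, z}`. -/
theorem odd_ne (h : Qn z r y n) {i : ℤ} (hi : Odd i) (h1 : r ^ i = 1 ∨ r ^ i = z) : False := by
  rw [h.zpow_mem] at h1
  have h2 : (2 : ℤ) ∣ i := (dvd_pow_self _ (by omega)).trans h1
  rw [← Int.not_even_iff_odd, even_iff_two_dvd] at hi
  exact hi h2

theorem parity (h : Qn z r y n) {i j : ℤ} (h1 : r ^ i = r ^ j) : Even i ↔ Even j := by
  rw [h.zpow_eq] at h1
  have h2 : (2 : ℤ) ∣ i - j := (dvd_pow_self _ (by omega)).trans h1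
  rw [← even_iff_two_dvd, Int.even_sub] at h2
  exact h2

theorem cj_r_z (h : Qn z r y n) : cj r z = z := by
  rw [← h.rp, cj_pow, cj_self]

theorem cj_y_z (h : Qn z r y n) : cj y z = z := by
  rw [← h.ys, cj_mul, cj_self]

theorem cj_y_zpow (h : Qn z r y n) (i : ℤ) : cj y (r ^ i) = r ^ (-i) := by
  rw [cj_zpow, h.inv, inv_zpow, zpow_neg]

theorem cj_r_y (h : Qn z r y n) : cj r y = r ^ (2 : ℤ) * y := by
  have h1 : y * r = r⁻¹ * y := by rw [mul_cj, h.inv]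
  have h2 : y * r⁻¹ = r * y := by
    rw [mul_cj, cj_inv, h.inv, inv_inv]
  rw [cj_def, mul_assoc, h2, zpow_two, mul_assoc]

theorem y_zpow (h : Qn z r y n) (i : ℤ) : y * r ^ i = r ^ (-i) * y := by
  rw [mul_cj, h.cj_y_zpow]

theorem cj_rz_y (h : Qn z r y n) (i : ℤ) : cj (r ^ i) y = r ^ (2 * i) * y := by
  rw [cj_def, mul_assoc, ← zpow_neg, h.y_zpow, neg_neg, ← mul_assoc, ← zpow_add, two_mul]

theorem cj_rz_r (i j : ℤ) : cj (r ^ i) (r ^ j) = r ^ j := by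
  rw [cj_def, ← zpow_neg, ← zpow_add, ← zpow_add]
  congr 1
  ring

theorem zy (h : Qn z r y n) : z * y = y * z := cj_eq_self_iff.1 h.cj_y_z |>.symm
theorem zr (h : Qn z r y n) : z * r = r * z := cj_eq_self_iff.1 h.cj_r_z |>.symm

theorem ry_sq (h : Qn z r y n) (i : ℤ) : (r ^ i * y) * (r ^ i * y) = z := by
  calc (r ^ i * y) * (r ^ i * y) = r ^ i * (y * r ^ i) * y := by group
    _ = z := by rw [h.y_zpow, ← mul_assoc, ← zpow_add, add_neg_cancel, zpow_zero, one_mul, h.ys]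

theorem r_ne_inv (h : Qn z r y n) : r ≠ r⁻¹ := by
  intro h1
  have h2 : r ^ (1 : ℤ) = r ^ (-1 : ℤ) := by rw [zpow_one, zpow_neg_one]; exact h1
  rw [h.zpow_eq] at h2
  have h3 : (2 : ℤ) ^ 2 ∣ 1 - -1 := (pow_dvd_pow _ (by omega)).trans h2
  norm_num at h3

theorem y_notin (h : Qn z r y n) (i : ℤ) : r ^ i ≠ y := by
  intro h1
  apply h.r_ne_inv
  rw [← h.inv, ← h1]
  have := cj_rz_r (r := r) i 1
  rw [zpow_one] at this
  exact this.symm

theorem mem_iff (h : Qn z r y n) {g : G} :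
    g ∈ closure ({r, y} : Set G) ↔ ∃ i : ℤ, g = r ^ i ∨ g = r ^ i * y := by
  constructor
  · intro hg
    induction hg using Subgroup.closure_induction with
    | mem x hx =>
      rcases hx with rfl | rfl
      · exact ⟨1, Or.inl (by simp)⟩
      · exact ⟨0, Or.inr (by simp)⟩
    | one => exact ⟨0, Or.inl (by simp)⟩
    | mul a b _ _ ha hb =>
      obtain ⟨i, rfl | rfl⟩ := ha <;> obtain ⟨j, rfl | rfl⟩ := hb
      · exact ⟨i + j, Or.inl (by rw [zpow_add])⟩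
      · exact ⟨i + j, Or.inr (by rw [zpow_add]; group)⟩
      · refine ⟨i - j, Or.inr ?_⟩
        rw [mul_assoc, h.y_zpow, ← mul_assoc, ← zpow_add, sub_eq_add_neg]
      · refine ⟨i - j + 2 ^ (n + 1), Or.inl ?_⟩
        calc r ^ i * y * (r ^ j * y) = r ^ i * (y * r ^ j) * y := by group
          _ = r ^ (i - j) * (y * y) := by
              rw [h.y_zpow, ← mul_assoc, ← zpow_add, ← sub_eq_add_neg, mul_assoc]
          _ = _ := by rw [h.ys, zpow_add, h.rzp]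
    | inv a _ ha =>
      obtain ⟨i, rfl | rfl⟩ := ha
      · exact ⟨-i, Or.inl (by rw [zpow_neg])⟩
      · refine ⟨i + 2 ^ (n + 1), Or.inr ?_⟩
        rw [zpow_add, h.rzp]
        apply inv_eq_of_mul_eq_one_left
        have := h.ry_sq i
        calc r ^ i * z * y * (r ^ i * y) = r ^ i * (z * y) * (r ^ i * y) := by group
          _ = (r ^ i * y) * (z * (r ^ i * y)) := by rw [h.zy]; group
          _ = (r ^ i * y) * ((r ^ i * y) * z) := by
              congr 1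
              have e1 : z * r ^ i = r ^ i * z := (Commute.zpow_right (show Commute z r from h.zr) i)
              rw [← mul_assoc, e1, mul_assoc, h.zy, mul_assoc]
          _ = 1 := by rw [← mul_assoc, this, h.z_sq]
  · rintro ⟨i, rfl | rfl⟩
    · exact Subgroup.zpow_mem _ (subset_closure (by simp)) i
    · exact mul_mem (Subgroup.zpow_mem _ (subset_closure (by simp)) i) (subset_closure (by simp))

end Qn

/-- Two commuting generalized quaternion groups meeting in `⟨z⟩`. -/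
structure Co (z r1 y1 r2 y2 : G) (n1 n2 : ℕ) : Prop where
  q1 : Qn z r1 y1 n1
  q2 : Qn z r2 y2 n2
  rr : r1 * r2 = r2 * r1
  ry : r1 * y2 = y2 * r1
  yr : y1 * r2 = r2 * y1
  yy : y1 * y2 = y2 * y1
  ind : ∀ g, g ∈ closure ({r1, y1} : Set G) → g ∈ closure ({r2, y2} : Set G) → g = 1 ∨ g = z

/-- `R = Q₁ * Q₂`. -/
def RR (r1 y1 r2 y2 : G) : Subgroup G := closure ({r1, y1} : Set G) ⊔ closure ({r2, y2} : Set G)

/-- `s` normalizes both factors, with exponents `u1 j1 u2 j2`. -/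
structure Ns (r1 y1 r2 y2 s : G) (u1 j1 u2 j2 : ℤ) : Prop where
  a1 : cj s r1 = r1 ^ u1
  b1 : cj s y1 = r1 ^ j1 * y1
  a2 : cj s r2 = r2 ^ u2
  b2 : cj s y2 = r2 ^ j2 * y2

/-- `s` swaps the factors, with exponents `u1 j1 u2 j2`. -/
structure Sw (r1 y1 r2 y2 s : G) (u1 j1 u2 j2 : ℤ) : Prop where
  a1 : cj s r1 = r2 ^ u1
  b1 : cj s y1 = r2 ^ j1 * y2
  a2 : cj s r2 = r1 ^ u2
  b2 : cj s y2 = r1 ^ j2 * y1

namespace Co

variable {z r1 y1 r2 y2 : G} {n1 n2 : ℕ}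

theorem symm (h : Co z r1 y1 r2 y2 n1 n2) : Co z r2 y2 r1 y1 n2 n1 where
  q1 := h.q2
  q2 := h.q1
  rr := h.rr.symm
  ry := h.yr.symm
  yr := h.ry.symm
  yy := h.yy.symm
  ind g h1 h2 := h.ind g h2 h1

theorem comm (h : Co z r1 y1 r2 y2 n1 n2) {a b : G} (ha : a ∈ closure ({r1, y1} : Set G))
    (hb : b ∈ closure ({r2, y2} : Set G)) : a * b = b * a := by
  have h1 : closure ({r1, y1} : Set G) ≤ centralizer ({r2, y2} : Set G) := by
    rw [closure_le]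
    rintro x (rfl | rfl)
    · rw [SetLike.mem_coe, mem_centralizer_iff]
      rintro w (rfl | rfl)
      · exact h.rr.symm
      · exact h.ry.symm
    · rw [SetLike.mem_coe, mem_centralizer_iff]
      rintro w (rfl | rfl)
      · exact h.yr.symm
      · exact h.yy.symm
  have h2 : closure ({r2, y2} : Set G) ≤ centralizer (closure ({r1, y1} : Set G) : Set G) := by
    rw [closure_le]
    intro x hx
    rw [SetLike.mem_coe, mem_centralizer_iff]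
    intro w hw
    exact ((mem_centralizer_iff.1 (h1 hw)) x hx).symm
  exact (mem_centralizer_iff.1 (h2 hb)) a ha

theorem mem_R' (h : Co z r1 y1 r2 y2 n1 n2) {g : G} : g ∈ RR r1 y1 r2 y2 ↔
    ∃ a ∈ closure ({r1, y1} : Set G), ∃ b ∈ closure ({r2, y2} : Set G), g = a * b := by
  have hle : closure ({r1, y1} : Set G) ≤ normalizer (closure ({r2, y2} : Set G) : Set G) := by
    intro a ha
    have h1 : ∀ a ∈ closure ({r1, y1} : Set G), ∀ x ∈ closure ({r2, y2} : Set G),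
        a * x * a⁻¹ = x := by
      intro a ha x hx
      rw [h.comm ha hx]
      simp
    rw [mem_normalizer_iff]
    intro x
    constructor
    · intro hx
      rw [h1 a ha x hx]
      exact hx
    · intro hx
      have := h1 a⁻¹ (inv_mem ha) _ hx
      have e : a⁻¹ * (a * x * a⁻¹) * a⁻¹⁻¹ = x := by group
      rw [e] at this
      rw [this]; exact hx
  have := coe_mul_of_left_le_normalizer_right _ _ hle
  constructor
  · intro hg
    have hg' : g ∈ ((RR r1 y1 r2 y2 : Subgroup G) : Set G) := hg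
    rw [RR, this] at hg'
    obtain ⟨a, ha, b, hb, rfl⟩ := hg'
    exact ⟨a, ha, b, hb, rfl⟩
  · rintro ⟨a, ha, b, hb, rfl⟩
    exact mul_mem (mem_sup_left ha) (mem_sup_right hb)

theorem mem_R (h : Co z r1 y1 r2 y2 n1 n2) {g : G} : g ∈ RR r1 y1 r2 y2 ↔
    ∃ i j : ℤ, g = r1 ^ i * r2 ^ j ∨ g = r1 ^ i * y1 * r2 ^ j ∨ g = r1 ^ i * (r2 ^ j * y2) ∨
      g = r1 ^ i * y1 * (r2 ^ j * y2) := by
  rw [h.mem_R']
  constructor
  · rintro ⟨a, ha, b, hb, rfl⟩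
    obtain ⟨i, rfl | rfl⟩ := h.q1.mem_iff.1 ha <;> obtain ⟨j, rfl | rfl⟩ := h.q2.mem_iff.1 hb
    · exact ⟨i, j, Or.inl rfl⟩
    · exact ⟨i, j, Or.inr (Or.inr (Or.inl rfl))⟩
    · exact ⟨i, j, Or.inr (Or.inl rfl)⟩
    · exact ⟨i, j, Or.inr (Or.inr (Or.inr rfl))⟩
  · rintro ⟨i, j, rfl | rfl | rfl | rfl⟩
    · exact ⟨_, h.q1.mem_iff.2 ⟨i, Or.inl rfl⟩, _, h.q2.mem_iff.2 ⟨j, Or.inl rfl⟩, rfl⟩
    · exact ⟨_, h.q1.mem_iff.2 ⟨i, Or.inr rfl⟩, _, h.q2.mem_iff.2 ⟨j, Or.inl rfl⟩, rfl⟩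
    · exact ⟨_, h.q1.mem_iff.2 ⟨i, Or.inl rfl⟩, _, h.q2.mem_iff.2 ⟨j, Or.inr rfl⟩, rfl⟩
    · exact ⟨_, h.q1.mem_iff.2 ⟨i, Or.inr rfl⟩, _, h.q2.mem_iff.2 ⟨j, Or.inr rfl⟩, rfl⟩

theorem RR_symm (r1 y1 r2 y2 : G) : RR r1 y1 r2 y2 = RR r2 y2 r1 y1 := sup_comm _ _

theorem m1 (_ : Co z r1 y1 r2 y2 n1 n2) : r1 ∈ RR r1 y1 r2 y2 :=
  mem_sup_left (subset_closure (by simp))
theorem m2 (_ : Co z r1 y1 r2 y2 n1 n2) : y1 ∈ RR r1 y1 r2 y2 :=
  mem_sup_left (subset_closure (by simp))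
theorem m3 (_ : Co z r1 y1 r2 y2 n1 n2) : r2 ∈ RR r1 y1 r2 y2 :=
  mem_sup_right (subset_closure (by simp))
theorem m4 (_ : Co z r1 y1 r2 y2 n1 n2) : y2 ∈ RR r1 y1 r2 y2 :=
  mem_sup_right (subset_closure (by simp))
theorem mz (h : Co z r1 y1 r2 y2 n1 n2) : z ∈ RR r1 y1 r2 y2 := by
  rw [← h.q1.ys]; exact mul_mem h.m2 h.m2

/-- `r1 ^ i = r2 ^ j` forces both in `{1, z}`. -/
theorem ind_zpow (h : Co z r1 y1 r2 y2 n1 n2) {i j : ℤ} (e : r1 ^ i = r2 ^ j) :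
    r1 ^ i = 1 ∨ r1 ^ i = z :=
  h.ind _ (h.q1.mem_iff.2 ⟨i, Or.inl rfl⟩) (h.q2.mem_iff.2 ⟨j, Or.inl e⟩)

theorem mul_eq_one (h : Co z r1 y1 r2 y2 n1 n2) {a b : G}
    (ha : a ∈ closure ({r1, y1} : Set G)) (hb : b ∈ closure ({r2, y2} : Set G))
    (e : a * b = 1) : (a = 1 ∧ b = 1) ∨ (a = z ∧ b = z) := by
  have h1 : b = a⁻¹ := (inv_eq_of_mul_eq_one_right e).symm
  rcases h.ind a ha (by rw [← inv_inv a, ← h1]; exact inv_mem hb) with h2 | h2
  · left; rw [h1, h2]; simp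
  · right; rw [h1, h2]; exact ⟨rfl, h.q1.zz⟩

theorem mul_eq_z (h : Co z r1 y1 r2 y2 n1 n2) {a b : G}
    (ha : a ∈ closure ({r1, y1} : Set G)) (hb : b ∈ closure ({r2, y2} : Set G))
    (e : a * b = z) : (a = 1 ∧ b = z) ∨ (a = z ∧ b = 1) := by
  have hz : z ∈ closure ({r2, y2} : Set G) := by
    rw [← h.q2.ys]; exact mul_mem (subset_closure (by simp)) (subset_closure (by simp))
  have hbz : b * z = z * b := by
    obtain ⟨j, rfl | rfl⟩ := h.q2.mem_iff.1 hb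
    · exact ((Commute.zpow_right (show Commute z r2 from h.q2.zr) j)).symm
    · have e1 : z * r2 ^ j = r2 ^ j * z := (Commute.zpow_right (show Commute z r2 from h.q2.zr) j)
      rw [← mul_assoc, e1, mul_assoc, ← h.q2.zy, mul_assoc]
  rcases h.mul_eq_one ha (mul_mem hb hz) (by rw [← mul_assoc, e, h.q1.z_sq]) with ⟨h1, h2⟩ | ⟨h1, h2⟩
  · left
    refine ⟨h1, ?_⟩
    have : b = z⁻¹ := (inv_eq_of_mul_eq_one_left h2).symm
    rw [this, h.q1.zz]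
  · right
    refine ⟨h1, ?_⟩
    simpa using h2

end Co

section NsSw

variable {z r1 y1 r2 y2 s s' : G} {n1 n2 : ℕ} {u1 j1 u2 j2 v1 k1 v2 k2 : ℤ}

theorem Ns.symm (h : Ns r1 y1 r2 y2 s u1 j1 u2 j2) : Ns r2 y2 r1 y1 s u2 j2 u1 j1 :=
  ⟨h.a2, h.b2, h.a1, h.b1⟩

theorem Sw.symm (h : Sw r1 y1 r2 y2 s u1 j1 u2 j2) : Sw r2 y2 r1 y1 s u2 j2 u1 j1 :=
  ⟨h.a2, h.b2, h.a1, h.b1⟩

theorem Ns.mul (h : Ns r1 y1 r2 y2 s u1 j1 u2 j2) (h' : Ns r1 y1 r2 y2 s' v1 k1 v2 k2) :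
    Ns r1 y1 r2 y2 (s * s') (u1 * v1) (u1 * k1 + j1) (u2 * v2) (u2 * k2 + j2) where
  a1 := by rw [cj_mul_left, h'.a1, cj_zpow, h.a1, zpow_mul]
  b1 := by rw [cj_mul_left, h'.b1, cj_mul, cj_zpow, h.a1, h.b1, zpow_add, zpow_mul, mul_assoc]
  a2 := by rw [cj_mul_left, h'.a2, cj_zpow, h.a2, zpow_mul]
  b2 := by rw [cj_mul_left, h'.b2, cj_mul, cj_zpow, h.a2, h.b2, zpow_add, zpow_mul, mul_assoc]

theorem Ns.mul_sw (h : Ns r1 y1 r2 y2 s u1 j1 u2 j2) (h' : Sw r1 y1 r2 y2 s' v1 k1 v2 k2) :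
    Sw r1 y1 r2 y2 (s * s') (u2 * v1) (u2 * k1 + j2) (u1 * v2) (u1 * k2 + j1) where
  a1 := by rw [cj_mul_left, h'.a1, cj_zpow, h.a2, zpow_mul]
  b1 := by rw [cj_mul_left, h'.b1, cj_mul, cj_zpow, h.a2, h.b2, zpow_add, zpow_mul, mul_assoc]
  a2 := by rw [cj_mul_left, h'.a2, cj_zpow, h.a1, zpow_mul]
  b2 := by rw [cj_mul_left, h'.b2, cj_mul, cj_zpow, h.a1, h.b1, zpow_add, zpow_mul, mul_assoc]

theorem Sw.mul_ns (h : Sw r1 y1 r2 y2 s u1 j1 u2 j2) (h' : Ns r1 y1 r2 y2 s' v1 k1 v2 k2) :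
    Sw r1 y1 r2 y2 (s * s') (u1 * v1) (u1 * k1 + j1) (u2 * v2) (u2 * k2 + j2) where
  a1 := by rw [cj_mul_left, h'.a1, cj_zpow, h.a1, zpow_mul]
  b1 := by rw [cj_mul_left, h'.b1, cj_mul, cj_zpow, h.a1, h.b1, zpow_add, zpow_mul, mul_assoc]
  a2 := by rw [cj_mul_left, h'.a2, cj_zpow, h.a2, zpow_mul]
  b2 := by rw [cj_mul_left, h'.b2, cj_mul, cj_zpow, h.a2, h.b2, zpow_add, zpow_mul, mul_assoc]

theorem Sw.mul (h : Sw r1 y1 r2 y2 s u1 j1 u2 j2) (h' : Sw r1 y1 r2 y2 s' v1 k1 v2 k2) :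
    Ns r1 y1 r2 y2 (s * s') (u2 * v1) (u2 * k1 + j2) (u1 * v2) (u1 * k2 + j1) where
  a1 := by rw [cj_mul_left, h'.a1, cj_zpow, h.a2, zpow_mul]
  b1 := by rw [cj_mul_left, h'.b1, cj_mul, cj_zpow, h.a2, h.b2, zpow_add, zpow_mul, mul_assoc]
  a2 := by rw [cj_mul_left, h'.a2, cj_zpow, h.a1, zpow_mul]
  b2 := by rw [cj_mul_left, h'.b2, cj_mul, cj_zpow, h.a1, h.b1, zpow_add, zpow_mul, mul_assoc]

theorem Ns.one : Ns r1 y1 r2 y2 1 1 0 1 0 := ⟨by simp, by simp, by simp, by simp⟩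

theorem Co.ns_r1 (h : Co z r1 y1 r2 y2 n1 n2) (i : ℤ) : Ns r1 y1 r2 y2 (r1 ^ i) 1 (2 * i) 1 0 where
  a1 := by have := Qn.cj_rz_r (r := r1) i 1; simpa using this
  b1 := h.q1.cj_rz_y i
  a2 := by
    rw [zpow_one]
    exact cj_eq_self (h.comm (Subgroup.zpow_mem _ (subset_closure (by simp)) i)
      (subset_closure (by simp)))
  b2 := by
    rw [zpow_zero, one_mul]
    exact cj_eq_self (h.comm (Subgroup.zpow_mem _ (subset_closure (by simp)) i)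
      (subset_closure (by simp)))

theorem Co.ns_y1 (h : Co z r1 y1 r2 y2 n1 n2) : Ns r1 y1 r2 y2 y1 (-1) 0 1 0 where
  a1 := by rw [h.q1.inv, zpow_neg_one]
  b1 := by rw [cj_self, zpow_zero, one_mul]
  a2 := by rw [zpow_one]; exact cj_eq_self h.yr
  b2 := by rw [zpow_zero, one_mul]; exact cj_eq_self h.yy

theorem Co.ns_r2 (h : Co z r1 y1 r2 y2 n1 n2) (i : ℤ) : Ns r1 y1 r2 y2 (r2 ^ i) 1 0 1 (2 * i) :=
  (h.symm.ns_r1 i).symm

theorem Co.ns_y2 (h : Co z r1 y1 r2 y2 n1 n2) : Ns r1 y1 r2 y2 y2 1 0 (-1) 0 :=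
  h.symm.ns_y1.symm

end NsSw

end Cfsg.Agent.GH.Q2
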