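import Cfsg.Agent.GH.Q2.Fus
import Cfsg.Agent.GH.Q2.Coord
import Cfsg.Agent.Cit.OneQuat
import Cfsg.Agent.ZN.Block

/-!
# GH-Q, case (II): orders
-/

set_option autoImplicit false

namespace Cfsg.Agent.GH.Q2

open Subgroup

variable {G : Type*} [Group G]

theorem Co.card_RR [Finite G] {z r1 y1 r2 y2 : G} {n1 n2 : ℕ} (h : Co z r1 y1 r2 y2 n1 n2) :
    Nat.card (RR r1 y1 r2 y2) = 2 ^ (n1 + n2 + 5) := by
  have c1 := Cit.GQ.card (Coord.gq_of_qn h.q1)
  have c2 := Cit.GQ.card (Coord.gq_of_qn h.q2)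
  have hn : closure ({r1, y1} : Set G) ≤ normalizer ((closure ({r2, y2} : Set G) : Subgroup G) : Set G) := by
    rw [le_normalizer_iff]
    intro a ha b hb
    rw [h.comm ha hb, mul_inv_cancel_right]
    exact hb
  have h1 := ZN.Block.card_sup_mul_card_inf hn
  have h2 : closure ({r1, y1} : Set G) ⊓ closure ({r2, y2} : Set G) = zpowers z := by
    apply le_antisymm
    · rintro g ⟨hg1, hg2⟩
      rcases h.ind g hg1 hg2 with rfl | rfl
      · exact one_mem _
      · exact mem_zpowers _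
    · rw [zpowers_le]
      constructor
      · rw [← h.q1.rp]; exact pow_mem (subset_closure (by simp)) _
      · rw [← h.q2.rp]; exact pow_mem (subset_closure (by simp)) _
  have h3 : Nat.card (zpowers z) = 2 := by
    rw [Nat.card_zpowers]
    exact orderOf_eq_prime (by rw [sq, h.q1.z_sq]) h.q1.z_ne
  rw [h2, h3, c1, c2] at h1
  have h4 : Nat.card (RR r1 y1 r2 y2) * 2 = 2 ^ (n1 + n2 + 5) * 2 := by
    rw [RR, h1]
    ring
  exact Nat.eq_of_mul_eq_mul_right (by norm_num) h4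

namespace Sd

variable {S : Subgroup G} {z r1 y1 r2 y2 : G} {n1 n2 : ℕ}

theorem card_mul_rel' {W S : Subgroup G} (h : W ≤ S) :
    Nat.card W * W.relIndex S = Nat.card S := by
  have h1 := (W.subgroupOf S).card_mul_index
  rw [Nat.card_congr (subgroupOfEquivOfLe h).toEquiv] at h1
  exact h1

/-- one coset representative outside `R`. -/
theorem card_two [Finite G] (h : Sd S z r1 y1 r2 y2 n1 n2) {x : G} (hx : x ∈ S)
    (hxR : x ∉ RR r1 y1 r2 y2)
    (hc : ∀ s ∈ S, s ∈ RR r1 y1 r2 y2 ∨ x⁻¹ * s ∈ RR r1 y1 r2 y2) :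
    Nat.card S = 2 ^ (n1 + n2 + 6) := by
  have h1 : (RR r1 y1 r2 y2).relIndex S = 2 := by
    rw [relIndex_eq_two_iff_exists_notMem_and']
    exact ⟨x⁻¹, inv_mem hx, fun h => hxR (by simpa using h), fun b hb => (hc b hb).symm⟩
  rw [← card_mul_rel' h.R_le, h1, h.toCo.card_RR]
  ring

/-- the elements of `S` normalizing the factors -/
def N0 (S : Subgroup G) (r1 y1 : G) : Subgroup G :=
  S ⊓ normalizer ((closure ({r1, y1} : Set G) : Subgroup G) : Set G)

theorem mem_N0_of_ns [Finite G] (h : Sd S z r1 y1 r2 y2 n1 n2) {s : G} {u1 j1 u2 j2 : ℤ} (hs : s ∈ S)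
    (N : Ns r1 y1 r2 y2 s u1 j1 u2 j2) : s ∈ N0 S r1 y1 := by
  refine ⟨hs, ?_⟩
  have h1 : ∀ g ∈ closure ({r1, y1} : Set G), cj s g ∈ closure ({r1, y1} : Set G) := by
    intro g hg
    obtain ⟨i, rfl | rfl⟩ := h.q1.mem_iff.1 hg
    · rw [cj_zpow, N.a1]
      exact Subgroup.zpow_mem _ (Subgroup.zpow_mem _ (subset_closure (by simp)) _) _
    · rw [cj_mul, cj_zpow, N.a1, N.b1]
      exact mul_mem (Subgroup.zpow_mem _ (Subgroup.zpow_mem _ (subset_closure (by simp)) _) _)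
        (mul_mem (Subgroup.zpow_mem _ (subset_closure (by simp)) _) (subset_closure (by simp)))
  have h2 : (closure ({r1, y1} : Set G)).map (MulAut.conj s).toMonoidHom =
      closure ({r1, y1} : Set G) := by
    apply eq_of_le_of_card_ge
    · rintro _ ⟨g, hg, rfl⟩
      exact h1 g hg
    · rw [card_map_of_injective (MulAut.conj s).injective]
  refine mem_normalizer_iff.2 fun g => ?_
  constructor
  · intro hg
    exact h1 g hg
  · intro hg
    change s * g * s⁻¹ ∈ closure ({r1, y1} : Set G) at hg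
    rw [← h2] at hg
    obtain ⟨g', hg', e⟩ := hg
    have e' : cj s g' = cj s g := e
    rw [← cj_inj e']
    exact hg'

theorem not_mem_N0_of_sw (h : Sd S z r1 y1 r2 y2 n1 n2) (hn : n1 = n2) {s : G} {u1 j1 u2 j2 : ℤ}
    (N : Sw r1 y1 r2 y2 s u1 j1 u2 j2) : s ∉ N0 S r1 y1 := by
  subst hn
  intro hs
  have h1 : cj s r1 ∈ closure ({r1, y1} : Set G) :=
    (mem_normalizer_iff.1 hs.2 r1).1 (subset_closure (by simp))
  rw [N.a1] at h1
  have h2 := h.ind _ h1 (Subgroup.zpow_mem _ (subset_closure (by simp)) _)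
  exact h.q2.odd_ne (N.odd1 h.toCo) h2

theorem R_le_N0 [Finite G] (h : Sd S z r1 y1 r2 y2 n1 n2) : RR r1 y1 r2 y2 ≤ N0 S r1 y1 := by
  intro s hs
  obtain ⟨i, j, hc⟩ := h.ns_of_mem hs
  rcases hc with ⟨_, M⟩ | ⟨_, M⟩ | ⟨_, M⟩ | ⟨_, M⟩ <;> exact h.mem_N0_of_ns (h.R_le hs) M

/-- four cosets. -/
theorem card_four [Finite G] (h : Sd S z r1 y1 r2 y2 n1 n2) {x t : G}
    (hxR : x ∉ RR r1 y1 r2 y2) (hxN : x ∈ N0 S r1 y1) (ht : t ∈ S) (htN : t ∉ N0 S r1 y1)
    (hc : ∀ s ∈ S, s ∈ RR r1 y1 r2 y2 ∨ x⁻¹ * s ∈ RR r1 y1 r2 y2 ∨ t⁻¹ * s ∈ RR r1 y1 r2 y2 ∨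
      (t * x)⁻¹ * s ∈ RR r1 y1 r2 y2) :
    Nat.card S = 2 ^ (n1 + n2 + 7) := by
  have hR := h.R_le_N0
  have h1 : (RR r1 y1 r2 y2).relIndex (N0 S r1 y1) = 2 := by
    rw [relIndex_eq_two_iff_exists_notMem_and']
    refine ⟨x⁻¹, inv_mem hxN, fun h => hxR (by simpa using h), fun b hb => ?_⟩
    rcases hc b hb.1 with h1 | h1 | h1 | h1
    · exact Or.inr h1
    · exact Or.inl h1
    · exfalso
      apply htN
      have h2 := mul_mem hb (inv_mem (hR h1))
      have e : b * (t⁻¹ * b)⁻¹ = t := by group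
      rwa [e] at h2
    · exfalso
      apply htN
      have h2 := mul_mem hb (inv_mem (hR h1))
      have e : b * ((t * x)⁻¹ * b)⁻¹ = t * x := by group
      rw [e] at h2
      exact (Subgroup.mul_mem_cancel_right _ hxN).1 h2
  have h2 : (N0 S r1 y1).relIndex S = 2 := by
    rw [relIndex_eq_two_iff_exists_notMem_and']
    refine ⟨t⁻¹, inv_mem ht, fun h => htN (by simpa using h), fun b hb => ?_⟩
    rcases hc b hb with h1 | h1 | h1 | h1
    · exact Or.inr (hR h1)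
    · right
      have h2 := mul_mem hxN (hR h1)
      rwa [mul_inv_cancel_left] at h2
    · exact Or.inl (hR h1)
    · left
      have h2 := mul_mem hxN (hR h1)
      rwa [mul_inv_rev, mul_assoc, mul_inv_cancel_left] at h2
  have h3 : (N0 S r1 y1) ≤ S := inf_le_left
  rw [← card_mul_rel' h3, h2, ← card_mul_rel' hR, h1, h.toCo.card_RR]
  ring

end Sd

end Cfsg.Agent.GH.Q2
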