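import Cfsg.Agent.GH.Q2.Coord
import Cfsg.Agent.GH.Q2.Rank

/-!
# GH-Q, case (II): coordinates and the structure `Sd`
-/

set_option autoImplicit false

namespace Cfsg.Agent.GH.Q2.Coord

open Subgroup Cfsg Cfsg.Agent.Cit

variable {G : Type*} [Group G]

/-- **Coordinates, with (1.1).** -/
theorem exists_sd [Finite G] (hr : SectionalPRankLE 2 4 G) {S Q1 Q2 : Subgroup G}
    {z c1 v1 c2 v2 : G} {n1 n2 : ℕ} (hS : IsPGroup 2 S) (g1 : GQ Q1 c1 v1 z n1)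
    (g2 : GQ Q2 c2 v2 z n2) (h1 : Q1 ≤ S) (h2 : Q2 ≤ S) (hc : ∀ a ∈ Q1, ∀ b ∈ Q2, a * b = b * a)
    (hi : ∀ g, g ∈ Q1 → g ∈ Q2 → g = 1 ∨ g = z)
    (hp : ∀ s ∈ S, ((∀ g ∈ Q1, s * g * s⁻¹ ∈ Q1) ∧ (∀ g ∈ Q2, s * g * s⁻¹ ∈ Q2)) ∨
      ((∀ g ∈ Q1, s * g * s⁻¹ ∈ Q2) ∧ (∀ g ∈ Q2, s * g * s⁻¹ ∈ Q1))) :
    ∃ r1 y1 r2 y2 : G, Sd S z r1 y1 r2 y2 n1 n2 ∧
      closure ({r1, y1} : Set G) = Q1 ∧ closure ({r2, y2} : Set G) = Q2 ∧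
      RR r1 y1 r2 y2 = Q1 ⊔ Q2 := by
  obtain ⟨r1, y1, r2, y2, k1, k2, hco, e1, e2, hact⟩ := exists_coord hS g1 g2 hc hi hp
  have m1 := h1 k1.c_mem
  have m2 := h1 k1.v_mem
  have m3 := h2 k2.c_mem
  have m4 := h2 k2.v_mem
  refine ⟨r1, y1, r2, y2, ⟨hco, m1, m2, m3, m4, hact, ?_⟩, e1, e2, ?_⟩
  · intro s hs u1 j1 u2 j2 N h5 h6
    exact inR_of_rank hr hS hco m1 m2 m3 m4 hs N h5 h6
  · rw [RR, e1, e2]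

end Cfsg.Agent.GH.Q2.Coord
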