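import Cfsg.Agent.GH.Q2.FivePar

/-!
# GH-Q, case (II), section 5: no element of type `(1, 0)`
-/

set_option autoImplicit false

namespace Cfsg.Agent.GH.Q2

open Subgroup

variable {G : Type*} [Group G]

section

variable {S : Subgroup G} {z r1 y1 r2 y2 s s' : G} {n1 n2 : ℕ} {u1 j1 u2 j2 v1 k1 v2 k2 : ℤ}

theorem four_or {u : ℤ} (hu : Odd u) : (4 : ℤ) ∣ u - 1 ∨ (4 : ℤ) ∣ -1 * u - 1 := by
  obtain ⟨k, rfl⟩ := hu
  rcases Int.even_or_odd k with ⟨m, rfl⟩ | ⟨m, rfl⟩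
  · left; exact ⟨m, by ring⟩
  · right; exact ⟨-m - 1, by ring⟩

/-- normalisation of an element of type `(1, 0)`: action. -/
theorem norm10 (h : Sd S z r1 y1 r2 y2 n1 n2) (hs : s ∈ S) (N : Ns r1 y1 r2 y2 s u1 j1 u2 j2) (o : Odd j1)
    (ev : Even j2) : ∃ e ∈ S, ∃ v1 k1 v2 : ℤ, Ns r1 y1 r2 y2 e v1 k1 v2 0 ∧ Odd k1 ∧ (4 : ℤ) ∣ v1 - 1 ∧
      (4 : ℤ) ∣ v2 - 1 := by
  obtain ⟨m, hm⟩ := ev
  have N1 := (h.ns_r2 (-m)).mul N
  have e1 : 1 * j2 + 2 * (-m) = 0 := by rw [hm]; ring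
  rw [e1] at N1
  have hs1 : r2 ^ (-m) * s ∈ S := mul_mem (S.zpow_mem h.h3 _) hs
  obtain ⟨a, ha, w1, l1, w2, N2, o2, h4⟩ : ∃ a ∈ S, ∃ v1 k1 v2 : ℤ, Ns r1 y1 r2 y2 a v1 k1 v2 0 ∧ Odd k1 ∧
      (4 : ℤ) ∣ v2 - 1 := by
    rcases four_or (N1.odd2 h.toCo) with h4 | h4
    · exact ⟨_, hs1, _, _, _, N1, by rwa [one_mul, add_zero], h4⟩
    · have N2 := h.ns_y2.mul N1
      have e2 : -1 * (0 : ℤ) + 0 = 0 := by ring
      rw [e2] at N2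
      exact ⟨_, mul_mem h.h4 hs1, _, _, _, N2, by simpa using o, h4⟩
  rcases four_or (N2.odd1 h.toCo) with h5 | h5
  · exact ⟨a, ha, _, _, _, N2, o2, h5, h4⟩
  · have N3 := h.ns_y1.mul N2
    have e3 : 1 * (0 : ℤ) + 0 = 0 := by ring
    have e4 : 1 * w2 = w2 := one_mul _
    rw [e3, e4] at N3
    refine ⟨_, mul_mem h.h2 ha, _, _, _, N3, ?_, h5, h4⟩
    rw [add_zero]
    exact (by decide : Odd (-1 : ℤ)).mul o2

/-- `e` of type `(1, 0)` in normal form. -/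
structure EE (S : Subgroup G) (z r1 y1 r2 y2 e : G) (j f : ℤ) (ζ : G) : Prop where
  mem : e ∈ S
  oj : Odd j
  a1 : cj e r1 = r1
  b1 : cj e y1 = r1 ^ j * y1
  a2 : cj e r2 = r2 * z ^ f
  b2 : cj e y2 = y2
  hζ : ζ = 1 ∨ ζ = z
  sq : e * e = r1 ^ j * ζ

theorem zζ (h : Co z r1 y1 r2 y2 n1 n2) {ζ : G} (hζ : ζ = 1 ∨ ζ = z) : ζ * ζ = 1 := by
  rcases hζ with rfl | rfl
  · simp
  · exact h.q1.z_sq

theorem exists_EE (h : Sd S z r1 y1 r2 y2 n1 n2) (hs : s ∈ S) (N : Ns r1 y1 r2 y2 s u1 j1 u2 j2) (o : Odd j1)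
    (ev : Even j2) : ∃ e ζ : G, ∃ j f : ℤ, EE S z r1 y1 r2 y2 e j f ζ ∧ (n2 = 0 → Even f) := by
  obtain ⟨e, he, v1, k1, v2, N, o, h4, h4'⟩ := norm10 h hs N o ev
  obtain ⟨f1, f2, i, j, c1, c2, hsq, p1, p2, p3, p4, p5⟩ := h.sq_form he N h4 h4'
  have oi : Odd i := by
    rw [← Int.not_even_iff_odd, p1, Int.not_even_iff_odd]; exact o
  have ej : Even j := p2.2 Even.zero
  have ef1 : Even f1 := by
    rw [Int.even_add] at p3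
    have h1 := p3.2 (ej.mul_left _)
    rw [Int.even_mul] at h1
    rcases h1 with h1 | h1
    · exact h1
    · exact absurd h1 (Int.not_even_iff_odd.2 oi)
  have c1' : cj e r1 = r1 := by
    rw [c1]
    rcases h.q1.z_cases f1 with ⟨h1, _⟩ | ⟨_, h1⟩
    · rw [h1, mul_one]
    · exact absurd ef1 (Int.not_even_iff_odd.2 h1)
  have b2 : cj e y2 = y2 := by rw [N.b2, zpow_zero, one_mul]
  have M := (h.ns_r1 i).mul (h.ns_r2 j)
  rw [← hsq] at M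
  -- the second component of the square
  have hj : r2 ^ j = 1 ∨ r2 ^ j = z := by
    have h1 := M.b2
    rw [cj_mul_left, b2, b2, one_mul, add_zero] at h1
    have h2 : r2 ^ (2 * j) = 1 := by
      have h3 : 1 * y2 = r2 ^ (2 * j) * y2 := by rw [one_mul]; exact h1
      exact (mul_right_cancel h3).symm
    rw [h.q2.zpow_eq_one, show (2 : ℤ) ^ (n2 + 2) = 2 * 2 ^ (n2 + 1) by ring] at h2
    exact h.q2.zpow_mem.2 (Int.dvd_of_mul_dvd_mul_left (by norm_num) h2)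
  -- the first component
  have hi : ∃ ζ : G, (ζ = 1 ∨ ζ = z) ∧ r1 ^ i = r1 ^ k1 * ζ := by
    have h1 := M.b1
    rw [cj_mul_left, N.b1, cj_mul, cj_zpow, c1', N.b1, ← mul_assoc, ← zpow_add, mul_zero, zero_add] at h1
    have h2 := mul_right_cancel h1
    rw [h.q1.zpow_eq, show (2 : ℤ) ^ (n1 + 2) = 2 * 2 ^ (n1 + 1) by ring,
      show k1 + k1 - 2 * i = 2 * (k1 - i) by ring] at h2
    have h3 := Int.dvd_of_mul_dvd_mul_left (by norm_num) h2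
    rw [dvd_sub_comm] at h3
    refine ⟨r1 ^ (i - k1), h.q1.zpow_mem.2 h3, ?_⟩
    rw [← zpow_add]
    congr 1
    ring
  obtain ⟨ζ, hζ, hi⟩ := hi
  refine ⟨e, ζ * r2 ^ j, k1, f2, ⟨he, o, c1', N.b1, c2, b2, ?_, ?_⟩, p5⟩
  · rcases hζ with rfl | rfl <;> rcases hj with hj | hj <;> rw [hj]
    · left; simp
    · right; simp
    · right; simp
    · left; exact h.q1.z_sq
  · rw [hsq, hi, mul_assoc]

theorem EE.n (E : EE S z r1 y1 r2 y2 s j1 u1 s') (h : Co z r1 y1 r2 y2 n1 n2) :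
    Ns r1 y1 r2 y2 s 1 j1 (1 + 2 ^ (n2 + 1) * u1) 0 where
  a1 := by rw [E.a1, zpow_one]
  b1 := E.b1
  a2 := by rw [E.a2, zpow_add, zpow_one, zpow_mul, h.q2.rzp]
  b2 := by rw [E.b2, zpow_zero, one_mul]

/-- `(e y1)² = z ζ`. -/
theorem EE.ey (E : EE S z r1 y1 r2 y2 s j1 u1 s') (h : Sd S z r1 y1 r2 y2 n1 n2) :
    (s * y1) * (s * y1) = z * s' := by
  have hc : s' * y1 = y1 * s' := by
    rcases E.hζ with h1 | h1 <;> rw [h1]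
    · simp
    · exact h.q1.zy
  calc (s * y1) * (s * y1) = cj s y1 * (s * s) * y1 := by simp only [cj]; group
    _ = r1 ^ j1 * y1 * (r1 ^ j1 * s') * y1 := by rw [E.b1, E.sq]
    _ = r1 ^ j1 * (y1 * r1 ^ j1) * (s' * y1) := by group
    _ = r1 ^ j1 * (r1 ^ (-j1) * y1) * (y1 * s') := by rw [h.q1.y_zpow, hc]
    _ = (y1 * y1) * s' := by group
    _ = z * s' := by rw [h.q1.ys]

theorem EE.a2c (E : EE S z r1 y1 r2 y2 s j1 u1 s') (h : Co z r1 y1 r2 y2 n1 n2) (h0 : n2 = 0 → Even u1) :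
    cj s (r2 ^ 2 ^ n2) = r2 ^ 2 ^ n2 := by
  have h1 : Commute r2 (z ^ u1) := Commute.zpow_right (show Commute r2 z from h.q2.zr.symm) _
  rw [cj_pow, E.a2, h1.mul_pow]
  have h2 : (z ^ u1) ^ 2 ^ n2 = 1 := by
    rcases Nat.eq_zero_or_pos n2 with h3 | h3
    · rcases h.q1.z_cases u1 with ⟨h4, _⟩ | ⟨_, h4⟩
      · rw [h4, one_pow]
      · exact absurd (h0 h3) (Int.not_even_iff_odd.2 h4)
    · obtain ⟨m, rfl⟩ : ∃ m, n2 = m + 1 := ⟨n2 - 1, by omega⟩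
      rw [pow_succ', pow_mul]
      have h5 : (z ^ u1) ^ 2 = 1 := by
        rw [pow_two, ← zpow_add, ← two_mul, zpow_mul, h.q1.z2, one_zpow]
      rw [h5, one_pow]
  rw [h2, mul_one]

theorem Qn.a_sq {z r y : G} {n : ℕ} (h : Qn z r y n) : r ^ 2 ^ n * r ^ 2 ^ n = z := by
  rw [← pow_add, ← two_mul, ← pow_succ', h.rp]

/-- the involution `s1 ∈ e y1 R`. -/
theorem EE.exists_inv (E : EE S z r1 y1 r2 y2 s j1 u1 s') (h : Sd S z r1 y1 r2 y2 n1 n2) (h0 : n2 = 0 → Even u1) :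
    ∃ q : G, (q = 1 ∨ q = r2 ^ 2 ^ n2) ∧ (s * y1 * q) * (s * y1 * q) = 1 := by
  rcases E.hζ with h1 | h1
  · refine ⟨r2 ^ 2 ^ n2, Or.inr rfl, ?_⟩
    have hc1 : s * r2 ^ 2 ^ n2 = r2 ^ 2 ^ n2 * s := cj_eq_self_iff.1 (E.a2c h.toCo h0)
    have hc2 : y1 * r2 ^ 2 ^ n2 = r2 ^ 2 ^ n2 * y1 := (Commute.pow_right (show Commute y1 r2 from h.yr) _)
    calc (s * y1 * r2 ^ 2 ^ n2) * (s * y1 * r2 ^ 2 ^ n2) = s * y1 * (r2 ^ 2 ^ n2 * s) * y1 * r2 ^ 2 ^ n2 := by group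
      _ = s * y1 * s * (r2 ^ 2 ^ n2 * y1) * r2 ^ 2 ^ n2 := by rw [← hc1]; group
      _ = ((s * y1) * (s * y1)) * (r2 ^ 2 ^ n2 * r2 ^ 2 ^ n2) := by rw [← hc2]; group
      _ = 1 := by rw [E.ey h, h1, mul_one, h.q2.a_sq, h.q1.z_sq]
  · refine ⟨1, Or.inl rfl, ?_⟩
    rw [mul_one, E.ey h, h1, h.q1.z_sq]

end

end Cfsg.Agent.GH.Q2
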