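import Cfsg.Agent.GH.Q2.FiveA

/-!
# GH-Q, case (II), section 5: no element of type `(1, 0)`, end
-/

set_option autoImplicit false

namespace Cfsg.Agent.GH.Q2

open Subgroup

variable {G : Type*} [Group G]

section

variable {S : Subgroup G} {z r1 y1 r2 y2 s s' : G} {n1 n2 : ℕ} {u1 j1 u2 j2 v1 k1 v2 k2 : ℤ}

theorem Qn.zpow_sq {z r y : G} (h : Qn z r y 0) {w : ℤ} (hw : Odd w) : r ^ (w * w) = r := by
  have h1 : r ^ (w * w) = r ^ (1 : ℤ) := by
    rw [h.zpow_eq]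
    obtain ⟨k, rfl⟩ := hw
    exact ⟨k * k + k, by norm_num; ring⟩
  rw [h1, zpow_one]

theorem pow4 (s : G) : s ^ 4 = s * s * (s * s) := by
  simp only [pow_succ, pow_zero, one_mul, mul_assoc]

theorem Sd.pow_four (h : Sd S z r1 y1 r2 y2 n1 n2) (hs : s ∈ S) : s ^ 4 ∈ RR r1 y1 r2 y2 := by
  have h2 : ∃ u1 j1 u2 j2 : ℤ, Ns r1 y1 r2 y2 (s * s) u1 j1 u2 j2 := by
    rcases h.act s hs with ⟨u1, j1, u2, j2, N⟩ | ⟨e, u1, j1, u2, j2, N⟩
    · exact ⟨_, _, _, _, N.mul N⟩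
    · exact ⟨_, _, _, _, N.mul N⟩
  obtain ⟨u1, j1, u2, j2, N⟩ := h2
  have h3 := h.sq_mem (mul_mem hs hs) N
  rwa [pow4]

/-- the general part of the transfer argument for `s1 = e y1 q`. -/
theorem no10_aux (h : Sd S z r1 y1 r2 y2 n1 n2) (F : Fu S z r1 y1 r2 y2)
    (hz : ∀ g : G, cj g z ∈ RR r1 y1 r2 y2 → cj g z = z) {e ζ : G} {j f : ℤ} (E : EE S z r1 y1 r2 y2 e j f ζ)
    {q : G} (hq : q = 1 ∨ q = r2 ^ 2 ^ n2) (hss : (e * y1 * q) * (e * y1 * q) = 1) {w : G} {k : ℕ} (hw : w ∈ S)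
    (hwq : cj (e * y1) w = w) (hwr : w * r2 = r2 * w) (hwk : w ^ k = z)
    (hk : ∀ u ∈ S, u ^ k ∈ RR r1 y1 r2 y2) : False := by
  have hqR : q ∈ RR r1 y1 r2 y2 := by
    rcases hq with rfl | rfl
    · exact one_mem _
    · exact pow_mem h.toCo.m3 _
  have hEn := E.n h.toCo
  have hodd : ¬ Even (j + 0) := by rw [add_zero, Int.not_even_iff_odd]; exact E.oj
  refine tr1 (s := e * y1 * q) F hz (R_le_MP h) (MP_le h) (MP_relIndex h E.mem hEn hodd)
    (mul_mem (mul_mem E.mem h.h2) (h.R_le hqR)) ?_ hss hw ?_ hwk hk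
  · intro h1
    have h2 : e ∈ MP h := by
      have h3 := (MP h).mul_mem ((MP h).mul_mem h1 ((MP h).inv_mem (R_le_MP h hqR)))
        ((MP h).inv_mem (R_le_MP h h.toCo.m2))
      have h4 : e * y1 * q * q⁻¹ * y1⁻¹ = e := by group
      rwa [h4] at h3
    exact hodd ((par_ns h.toCo hEn).1 h2.2)
  · have h1 : w * q = q * w := by
      rcases hq with rfl | rfl
      · simp
      · exact (Commute.pow_right (show Commute w r2 from hwr) _)
    have h2 := cj_eq_self_iff.1 hwq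
    rw [mul_assoc (e * y1), ← h1, ← mul_assoc, ← h2, mul_assoc (e * y1)]

/-- (5.1), (5.2): there is no element of type `(1, 0)`. -/
theorem no10 (h : Sd S z r1 y1 r2 y2 n1 n2) (F : Fu S z r1 y1 r2 y2)
    (hz : ∀ g : G, cj g z ∈ RR r1 y1 r2 y2 → cj g z = z) (hs : s ∈ S) (N : Ns r1 y1 r2 y2 s u1 j1 u2 j2)
    (o : Odd j1) (ev : Even j2) : False := by
  obtain ⟨e, ζ, j, f, E, hf⟩ := exists_EE h hs N o ev
  obtain ⟨q, hq, hss⟩ := E.exists_inv h hf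
  have hco := h.toCo
  by_cases hsw : ∀ u ∈ S, ∃ u1 j1 u2 j2 : ℤ, Ns r1 y1 r2 y2 u u1 j1 u2 j2
  · -- no swap
    refine no10_aux (w := r2 ^ 2 ^ n2) (k := 2) h F hz E hq hss (S.pow_mem h.h3 _) ?_ ?_ ?_ ?_
    · rw [cj_mul_left, cj_eq_self (s := y1) (Commute.pow_right (show Commute y1 r2 from h.yr) _), E.a2c hco hf]
    · exact ((Commute.pow_right (Commute.refl r2) _).symm).eq
    · rw [pow_two, h.q2.a_sq]
    · intro u hu
      obtain ⟨u1, j1, u2, j2, M⟩ := hsw u hu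
      rw [pow_two]
      exact h.sq_mem hu M
  push Not at hsw
  obtain ⟨σ, hσ, hσ'⟩ := hsw
  obtain ⟨hn, w1, l1, w2, l2, W⟩ : n1 = n2 ∧ ∃ u1 j1 u2 j2 : ℤ, Sw r1 y1 r2 y2 σ u1 j1 u2 j2 := by
    rcases h.act σ hσ with ⟨u1, j1, u2, j2, M⟩ | ⟨e, u1, j1, u2, j2, M⟩
    · exact (hσ' _ _ _ _ M).elim
    · exact ⟨e, u1, j1, u2, j2, M⟩
  subst hn
  have cy1 : cj y1 r2 = r2 := cj_eq_self h.yr
  rcases Nat.eq_zero_or_pos n1 with hn | hn
  · -- `n = 0`
    subst hn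
    have cer2 : cj e r2 = r2 := by
      rw [E.a2]
      rcases h.q1.z_cases f with ⟨h1, _⟩ | ⟨_, h1⟩
      · rw [h1, mul_one]
      · exact absurd (hf rfl) (Int.not_even_iff_odd.2 h1)
    set e2 := cj σ e with he2
    have me2 : e2 ∈ S := mul_mem (mul_mem hσ E.mem) (inv_mem hσ)
    have ow1 := W.odd1 hco
    have ow2 := W.odd2 hco
    have c1 : cj e2 r1 = r1 := by
      have h1 : cj e2 (r1 ^ w2) = r1 ^ w2 := by rw [← W.a2, he2, cj_cj, cer2]
      have h2 : r1 = (r1 ^ w2) ^ w2 := by rw [← zpow_mul, h.q1.zpow_sq ow2]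
      rw [h2, cj_zpow, h1]
    have c2 : cj e2 y1 = y1 := by
      have h1 : cj e2 (r1 ^ l2 * y1) = r1 ^ l2 * y1 := by rw [← W.b2, he2, cj_cj, E.b2]
      rw [cj_mul, cj_zpow, c1] at h1
      exact mul_left_cancel h1
    have c3 : cj e2 r2 = r2 := by
      have h1 : cj e2 (r2 ^ w1) = r2 ^ w1 := by rw [← W.a1, he2, cj_cj, E.a1]
      have h2 : r2 = (r2 ^ w1) ^ w1 := by rw [← zpow_mul, h.q2.zpow_sq ow1]
      rw [h2, cj_zpow, h1]
    have hζc : cj σ ζ = ζ := by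
      rcases E.hζ with h1 | h1 <;> rw [h1]
      · simp
      · exact h.cj_z hσ
    have hsq2 : e2 * e2 = r2 ^ (w1 * j) * ζ := by
      rw [he2, ← cj_mul, E.sq, cj_mul, cj_zpow, W.a1, hζc, ← zpow_mul]
    have hζr : ζ * r2 ^ (w1 * j) = r2 ^ (w1 * j) * ζ := by
      rcases E.hζ with h1 | h1 <;> rw [h1]
      · simp
      · exact (Commute.zpow_right (show Commute z r2 from h.q2.zr) _)
    have hr22 : r2 ^ (2 : ℤ) = z := by
      have := h.q2.rzp
      simpa using this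
    have h4 : e2 ^ 4 = z := by
      rw [pow4, hsq2]
      calc r2 ^ (w1 * j) * ζ * (r2 ^ (w1 * j) * ζ) = r2 ^ (w1 * j) * (ζ * r2 ^ (w1 * j)) * ζ := by group
        _ = (r2 ^ (w1 * j) * r2 ^ (w1 * j)) * (ζ * ζ) := by rw [hζr]; group
        _ = (r2 ^ (2 : ℤ)) ^ (w1 * j) := by
          rw [zζ hco E.hζ, mul_one, ← zpow_add, ← zpow_mul]; congr 1; ring
        _ = z := by
          rw [hr22]
          rcases h.q1.z_cases (w1 * j) with ⟨_, h6⟩ | ⟨h6, _⟩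
          · exact absurd h6 (Int.not_even_iff_odd.2 (ow1.mul E.oj))
          · exact h6
    have hrr : r1 * r1 = z := by
      have := h.q1.rp
      simpa [pow_succ] using this
    -- `e` and `e2` commute modulo `z`
    obtain ⟨m, hm⟩ : ∃ m : ℤ, cj e2 y2 = r2 ^ m * y2 := by
      rcases h.act e2 me2 with ⟨a1, b1, a2, b2, M⟩ | ⟨_, a1, b1, a2, b2, M⟩
      · exact ⟨_, M.b2⟩
      · exfalso
        have := hco.ind_zpow (i := 1) (j := a1) (by rw [zpow_one, ← M.a1, c1])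
        exact h.q1.odd_ne odd_one this
    have hcc := h.eq_or (a := e * e2) (b := e2 * e) (mul_mem E.mem me2) (mul_mem me2 E.mem)
      (by rw [cj_mul_left, cj_mul_left, c1, E.a1, c1])
      (by rw [cj_mul_left, cj_mul_left, c2, E.b1, cj_mul, cj_zpow, c1, c2])
      (by rw [cj_mul_left, cj_mul_left, c3, cer2, c3])
      (by rw [cj_mul_left, cj_mul_left, E.b2, hm, cj_mul, cj_zpow, cer2, E.b2])
    have hy1 : cj y1 e2 = e2 := cj_comm c2
    have hr1 : cj r1 e2 = e2 := cj_comm c1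
    rcases hcc with hcc | hcc
    · refine no10_aux (w := e2) (k := 4) h F hz E hq hss me2 ?_ ?_ h4 (fun u hu => h.pow_four hu)
      · rw [cj_mul_left, hy1, cj_eq_self_iff, hcc]
      · exact cj_eq_self_iff.1 c3
    · have hee : cj e e2 = e2 * z := by
        rw [cj_def, hcc]
        have := h.zc E.mem
        rw [mul_assoc e2, this]; group
      refine no10_aux (w := e2 * r1) (k := 4) h F hz E hq hss (mul_mem me2 h.h1) ?_ ?_ ?_ (fun u hu => h.pow_four hu)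
      · have h5 : cj y1 r1 = z * r1 := by
          have h6 : r1 * (z * r1) = 1 := by
            rw [h.q1.zr, ← mul_assoc, hrr, h.q1.z_sq]
          rw [h.q1.inv]
          exact inv_eq_of_mul_eq_one_right h6
        have h7 : cj e (z * r1) = z * r1 := by rw [cj_mul, h.cj_z E.mem, E.a1]
        rw [cj_mul_left, cj_mul, hy1, h5, cj_mul, hee, h7, ← mul_assoc, mul_assoc e2, h.q1.z_sq, mul_one]
      · have h5 := cj_eq_self_iff.1 c3
        rw [mul_assoc, h.rr, ← mul_assoc, h5, mul_assoc]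
      · have h5 : r1 * e2 = e2 * r1 := cj_eq_self_iff.1 hr1
        have h6 : (e2 * r1) ^ 4 = e2 ^ 4 * r1 ^ 4 := (show Commute e2 r1 from h5.symm).mul_pow 4
        rw [h6, h4]
        rw [pow4 r1, hrr, h.q1.z_sq, mul_one]
  · -- `n ≥ 1`
    obtain ⟨m, rfl⟩ : ∃ m, n1 = m + 1 := ⟨n1 - 1, by omega⟩
    have hk : ∀ u ∈ S, u ^ 2 ^ (m + 1 + 1) ∈ RR r1 y1 r2 y2 := by
      intro u hu
      have h1 : (2 : ℕ) ^ (m + 1 + 1) = 4 * 2 ^ m := by ring
      rw [h1, pow_mul]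
      exact pow_mem (h.pow_four hu) _
    rcases h.q1.z_cases f with ⟨h1, _⟩ | ⟨h1, _⟩
    · refine no10_aux (w := r2) (k := 2 ^ (m + 1 + 1)) h F hz E hq hss h.h3 ?_ rfl h.q2.rp hk
      rw [cj_mul_left, cy1, E.a2, h1, mul_one]
    · have ha : r1 ^ 2 ^ (m + 1) * r1 ^ 2 ^ (m + 1) = z := h.q1.a_sq
      have hai : (r1 ^ 2 ^ (m + 1))⁻¹ = r1 ^ 2 ^ (m + 1) * z := by
        rw [inv_eq_iff_mul_eq_one, ← mul_assoc, ha, h.q1.z_sq]
      have hc : Commute (r1 ^ 2 ^ (m + 1)) r2 := Commute.pow_left (show Commute r1 r2 from h.rr) _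
      refine no10_aux (w := r1 ^ 2 ^ (m + 1) * r2) (k := 2 ^ (m + 1 + 1)) h F hz E hq hss
        (mul_mem (S.pow_mem h.h1 _) h.h3) ?_ ?_ ?_ hk
      · have h5 : cj y1 (r1 ^ 2 ^ (m + 1)) = r1 ^ 2 ^ (m + 1) * z := by
          rw [cj_pow, h.q1.inv, inv_pow, hai]
        have h6 : cj e (r1 ^ 2 ^ (m + 1) * z) = r1 ^ 2 ^ (m + 1) * z := by
          rw [cj_mul, cj_pow, E.a1, h.cj_z E.mem]
        rw [cj_mul_left, cj_mul, cy1, h5, cj_mul, h6, E.a2, h1]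
        have h7 : z * r2 = r2 * z := h.q2.zr
        calc r1 ^ 2 ^ (m + 1) * z * (r2 * z) = r1 ^ 2 ^ (m + 1) * (z * r2) * z := by group
          _ = r1 ^ 2 ^ (m + 1) * r2 * (z * z) := by rw [h7]; group
          _ = _ := by rw [h.q1.z_sq, mul_one]
      · rw [mul_assoc, ← mul_assoc r2, ← hc.eq, mul_assoc]
      · rw [hc.mul_pow, h.q2.rp, ← pow_mul]
        have h8 : 2 ^ (m + 1) * 2 ^ (m + 1 + 1) = 2 ^ (m + 1 + 2) * 2 ^ m := by ring
        rw [h8, pow_mul, h.q1.rp2, one_pow, one_mul]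

end

end Cfsg.Agent.GH.Q2
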