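import Cfsg.Agent.GH.Q2.FiveB

/-!
# GH-Q, case (II), section 5: a swapping involution conjugate to `z`
-/

set_option autoImplicit false

namespace Cfsg.Agent.GH.Q2

open Subgroup

variable {G : Type*} [Group G]

section

variable {S : Subgroup G} {z r1 y1 r2 y2 s s' : G} {n1 n2 : ℕ} {u1 j1 u2 j2 v1 k1 v2 k2 : ℤ}

theorem Fu.symm (F : Fu S z r1 y1 r2 y2) : Fu S z r2 y2 r1 y1 where
  iso := F.iso
  f1 := by rw [Co.RR_symm]; exact F.f1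
  f2 := by rw [Co.RR_symm]; exact F.f2
  ext := F.ext
  t1 := F.t1
  t2 := F.t2

theorem no01 (h : Sd S z r1 y1 r2 y2 n1 n2) (F : Fu S z r1 y1 r2 y2)
    (hz : ∀ g : G, cj g z ∈ RR r1 y1 r2 y2 → cj g z = z) (hs : s ∈ S) (N : Ns r1 y1 r2 y2 s u1 j1 u2 j2)
    (ev : Even j1) (o : Odd j2) : False :=
  no10 h.symm F.symm (by rw [Co.RR_symm]; exact hz) hs N.symm o ev

/-- `s` does not swap the two factors. -/
def IsN (r1 y1 r2 y2 s : G) : Prop := ∃ u1 j1 u2 j2 : ℤ, Ns r1 y1 r2 y2 s u1 j1 u2 j2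

theorem isN_mul (h : Sd S z r1 y1 r2 y2 n1 n2) (hs : s ∈ S) (hs' : s' ∈ S) :
    IsN r1 y1 r2 y2 (s * s') ↔ (IsN r1 y1 r2 y2 s ↔ IsN r1 y1 r2 y2 s') := by
  have key : ∀ {x : G} {a b c d : ℤ}, Sw r1 y1 r2 y2 x a b c d → ¬ IsN r1 y1 r2 y2 x := by
    rintro x a b c d N ⟨_, _, _, _, M⟩
    exact M.not_sw N h.toCo
  rcases h.act s hs with ⟨u1, j1, u2, j2, N⟩ | ⟨e, u1, j1, u2, j2, N⟩ <;>
  rcases h.act s' hs' with ⟨v1, k1, v2, k2, N'⟩ | ⟨e', v1, k1, v2, k2, N'⟩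
  · exact ⟨fun _ => ⟨fun _ => ⟨_, _, _, _, N'⟩, fun _ => ⟨_, _, _, _, N⟩⟩, fun _ => ⟨_, _, _, _, N.mul N'⟩⟩
  · exact ⟨fun h1 => absurd h1 (key (N.mul_sw N')), fun h1 => absurd (h1.1 ⟨_, _, _, _, N⟩) (key N')⟩
  · exact ⟨fun h1 => absurd h1 (key (N.mul_ns N')), fun h1 => absurd (h1.2 ⟨_, _, _, _, N'⟩) (key N)⟩
  · exact ⟨fun _ => ⟨fun h1 => absurd h1 (key N), fun h1 => absurd h1 (key N')⟩, fun _ => ⟨_, _, _, _, N.mul N'⟩⟩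

theorem isN_one : IsN r1 y1 r2 y2 1 := ⟨_, _, _, _, Ns.one⟩

theorem isN_inv (h : Sd S z r1 y1 r2 y2 n1 n2) (hs : s ∈ S) : IsN r1 y1 r2 y2 s⁻¹ ↔ IsN r1 y1 r2 y2 s := by
  have h1 := isN_mul h hs (S.inv_mem hs)
  rw [mul_inv_cancel] at h1
  exact (h1.1 isN_one).symm

theorem isN_cj (h : Sd S z r1 y1 r2 y2 n1 n2) (hs : s ∈ S) (hs' : s' ∈ S) :
    IsN r1 y1 r2 y2 (cj s s') ↔ IsN r1 y1 r2 y2 s' := by
  rw [cj_def, isN_mul h (mul_mem hs hs') (S.inv_mem hs), isN_mul h hs hs', isN_inv h hs]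
  tauto

theorem isN_of_mem (h : Co z r1 y1 r2 y2 n1 n2) (hs : s ∈ RR r1 y1 r2 y2) : IsN r1 y1 r2 y2 s := by
  obtain ⟨i, j, h1⟩ := h.ns_of_mem hs
  rcases h1 with ⟨_, M⟩ | ⟨_, M⟩ | ⟨_, M⟩ | ⟨_, M⟩ <;> exact ⟨_, _, _, _, M⟩

theorem isN_z (h : Sd S z r1 y1 r2 y2 n1 n2) : IsN r1 y1 r2 y2 z := isN_of_mem h.toCo h.toCo.mz

/-- `s` is fused into `z`. -/
def Zt (z s : G) : Prop := ∃ g : G, s = cj g z

theorem Zt.cj {z s : G} (h : Zt z s) (g : G) : Zt z (cj g s) := by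
  obtain ⟨a, rfl⟩ := h
  exact ⟨g * a, by rw [cj_mul_left]⟩

theorem Zt.of_cj {z s g : G} (h : Zt z (Q2.cj g s)) : Zt z s := by
  have := h.cj g⁻¹
  rwa [cj_inv_cj] at this

theorem Zt.sq {z s : G} (h : Zt z s) (hz : z * z = 1) : s * s = 1 := by
  obtain ⟨g, rfl⟩ := h
  rw [← cj_mul, hz, cj_one]

/-- `s` is an involution of type `(1, 1)`. -/
structure VV (S : Subgroup G) (r1 y1 r2 y2 s : G) (j1 j2 : ℤ) : Prop where
  mem : s ∈ S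
  ss : s * s = 1
  a1 : cj s r1 = r1⁻¹
  b1 : cj s y1 = r1 ^ j1 * y1
  a2 : cj s r2 = r2⁻¹
  b2 : cj s y2 = r2 ^ j2 * y2
  o1 : Odd j1
  o2 : Odd j2

theorem VV.symm (V : VV S r1 y1 r2 y2 s j1 j2) : VV S r2 y2 r1 y1 s j2 j1 :=
  ⟨V.mem, V.ss, V.a2, V.b2, V.a1, V.b1, V.o2, V.o1⟩

theorem VV.ns (V : VV S r1 y1 r2 y2 s j1 j2) : Ns r1 y1 r2 y2 s (-1) j1 (-1) j2 :=
  ⟨by rw [V.a1, zpow_neg_one], V.b1, by rw [V.a2, zpow_neg_one], V.b2⟩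

theorem inv_aux {z r y : G} {n : ℕ} (h : Qn z r y n) {u j : ℤ} {s : G} (hs : s * s = 1) (a : cj s r = r ^ u)
    (b : cj s y = r ^ j * y) (o : Odd j) : cj s r = r⁻¹ := by
  have h1 : cj (s * s) y = r ^ (u * j + j) * y := by
    rw [cj_mul_left, b, cj_mul, cj_zpow, a, b, zpow_add, zpow_mul, mul_assoc]
  rw [hs, cj_one_left, right_eq_mul, h.zpow_eq_one] at h1
  obtain ⟨k, rfl⟩ := o
  have h2 : (2 : ℤ) ^ (n + 2) ∣ (2 * k + 1) * (u + 1) := by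
    have : u * (2 * k + 1) + (2 * k + 1) = (2 * k + 1) * (u + 1) := by ring
    rwa [this] at h1
  have h3 := (isCoprime_two_pow (n + 2) k).dvd_of_dvd_mul_left h2
  rw [a, ← zpow_neg_one, h.zpow_eq]
  have : u - -1 = u + 1 := by ring
  rwa [this]

theorem exists_VV (h : Sd S z r1 y1 r2 y2 n1 n2) (F : Fu S z r1 y1 r2 y2)
    (hz : ∀ g : G, cj g z ∈ RR r1 y1 r2 y2 → cj g z = z) (hs : s ∈ S) (hss : s * s = 1)
    (hR : s ∉ RR r1 y1 r2 y2) (N : IsN r1 y1 r2 y2 s) : ∃ j1 j2 : ℤ, VV S r1 y1 r2 y2 s j1 j2 := by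
  obtain ⟨u1, j1, u2, j2, N⟩ := N
  rcases Int.even_or_odd j1 with e1 | o1 <;> rcases Int.even_or_odd j2 with e2 | o2
  · exact absurd (h.inR s hs _ _ _ _ N e1 e2) hR
  · exact (no01 h F hz hs N e1 o2).elim
  · exact (no10 h F hz hs N o1 e2).elim
  · exact ⟨j1, j2, hs, hss, inv_aux h.q1 hss N.a1 N.b1 o1, N.b1, inv_aux h.q2 hss N.a2 N.b2 o2, N.b2, o1, o2⟩

theorem cj_inv_eq {s q : G} (hs : s * s = 1) : cj q s = s * cj s q * q⁻¹ := by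
  have h1 : s⁻¹ = s := inv_eq_of_mul_eq_one_left hs
  have h2 : s * (s * q * s⁻¹) * q⁻¹ = (s * s) * q * s⁻¹ * q⁻¹ := by group
  rw [cj_def, cj_def, h2, hs, h1, one_mul]

theorem a_inv {z r y : G} {n : ℕ} (h : Qn z r y n) : (r ^ 2 ^ n)⁻¹ = r ^ 2 ^ n * z := by
  rw [inv_eq_iff_mul_eq_one, ← mul_assoc, h.a_sq, h.z_sq]

/-- conjugating `s` by an element of the first factor gives `s a₁` or `s a₁ z`. -/
theorem VV.conj1 (V : VV S r1 y1 r2 y2 s j1 j2) (h : Co z r1 y1 r2 y2 n1 n2) :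
    ∃ q ∈ closure ({r1, y1} : Set G), cj q s = s * r1 ^ 2 ^ n1 ∨ cj q s = s * (r1 ^ 2 ^ n1 * z) := by
  rcases Nat.eq_zero_or_pos n1 with hn | hn
  · subst hn
    refine ⟨y1, subset_closure (by simp), ?_⟩
    have h1 : cj y1 s = s * r1 ^ j1 := by
      rw [cj_inv_eq V.ss, V.b1]; group
    rw [h1]
    obtain ⟨k, rfl⟩ := V.o1
    have h2 : r1 ^ (2 * k + 1) = z ^ k * r1 := by
      rw [zpow_add, zpow_mul, zpow_one]
      have := h.q1.rzp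
      simp only [zero_add, pow_one] at this
      rw [this]
    rcases h.q1.z_cases k with ⟨h3, _⟩ | ⟨h3, _⟩
    · left; rw [h2, h3, one_mul, pow_zero, pow_one]
    · right; rw [h2, h3, pow_zero, pow_one, h.q1.zr]
  · obtain ⟨m, rfl⟩ : ∃ m, n1 = m + 1 := ⟨n1 - 1, by omega⟩
    refine ⟨r1 ^ 2 ^ m, pow_mem (subset_closure (by simp)) _, ?_⟩
    right
    rw [cj_inv_eq V.ss, cj_pow, V.a1, ← a_inv h.q1, mul_assoc, inv_pow, ← mul_inv_rev, ← pow_add, ← two_mul, ← pow_succ']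

/-- `t = a₁ a₂` -/
def tel (r1 r2 : G) (n1 n2 : ℕ) : G := r1 ^ 2 ^ n1 * r2 ^ 2 ^ n2

theorem tel_mem (h : Co z r1 y1 r2 y2 n1 n2) : tel r1 r2 n1 n2 ∈ RR r1 y1 r2 y2 :=
  mul_mem (pow_mem h.m1 _) (pow_mem h.m3 _)

theorem a_comm (h : Co z r1 y1 r2 y2 n1 n2) (i j : ℕ) : r1 ^ i * r2 ^ j = r2 ^ j * r1 ^ i :=
  (show Commute r1 r2 from h.rr).pow_pow i j

theorem tel_sq (h : Co z r1 y1 r2 y2 n1 n2) : tel r1 r2 n1 n2 * tel r1 r2 n1 n2 = 1 := by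
  unfold tel
  calc r1 ^ 2 ^ n1 * r2 ^ 2 ^ n2 * (r1 ^ 2 ^ n1 * r2 ^ 2 ^ n2) =
      r1 ^ 2 ^ n1 * (r2 ^ 2 ^ n2 * r1 ^ 2 ^ n1) * r2 ^ 2 ^ n2 := by group
    _ = (r1 ^ 2 ^ n1 * r1 ^ 2 ^ n1) * (r2 ^ 2 ^ n2 * r2 ^ 2 ^ n2) := by rw [← a_comm h]; group
    _ = 1 := by rw [h.q1.a_sq, h.q2.a_sq, h.q1.z_sq]

theorem a_ne (h : Qn z r1 y1 n1) : r1 ^ 2 ^ n1 ≠ 1 ∧ r1 ^ 2 ^ n1 ≠ z := by
  constructor
  · intro h1
    have := h.a_sq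
    rw [h1, mul_one] at this
    exact h.z_ne this.symm
  · intro h1
    have := h.a_sq
    rw [h1, h.z_sq] at this
    exact h.z_ne this.symm

theorem tel_ne_one (h : Co z r1 y1 r2 y2 n1 n2) : tel r1 r2 n1 n2 ≠ 1 := by
  intro h1
  rcases h.mul_eq_one (pow_mem (subset_closure (by simp)) _) (pow_mem (subset_closure (by simp)) _) h1 with
    ⟨h2, _⟩ | ⟨h2, _⟩
  · exact (a_ne h.q1).1 h2
  · exact (a_ne h.q1).2 h2

theorem tel_ne_z (h : Co z r1 y1 r2 y2 n1 n2) : tel r1 r2 n1 n2 ≠ z := by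
  intro h1
  rcases h.mul_eq_z (pow_mem (subset_closure (by simp)) _) (pow_mem (subset_closure (by simp)) _) h1 with
    ⟨h2, _⟩ | ⟨h2, _⟩
  · exact (a_ne h.q1).1 h2
  · exact (a_ne h.q1).2 h2

theorem VV.sz (V : VV S r1 y1 r2 y2 s j1 j2) (h : Co z r1 y1 r2 y2 n1 n2) :
    cj (r1 ^ 2 ^ n1) s = s * z := by
  rw [cj_inv_eq V.ss, cj_pow, V.a1, inv_pow, mul_assoc, ← mul_inv_rev, h.q1.a_sq, h.q1.zz]

/-- all of `s U` is conjugate to `s`. -/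
theorem VV.conj_t (V : VV S r1 y1 r2 y2 s j1 j2) (h : Sd S z r1 y1 r2 y2 n1 n2) (Z : Zt z s) :
    Zt z (s * tel r1 r2 n1 n2) ∧ Zt z (s * (tel r1 r2 n1 n2 * z)) := by
  have hco := h.toCo
  obtain ⟨q1, hq1, e1⟩ := V.conj1 hco
  obtain ⟨q2, hq2, e2⟩ := V.symm.conj1 hco.symm
  -- `q1` commutes with `a₂`
  have c1 : cj q1 (r2 ^ 2 ^ n2) = r2 ^ 2 ^ n2 := cj_eq_self (hco.comm hq1 (pow_mem (subset_closure (by simp)) _))
  have mz1 : z ∈ S := h.hz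
  have hq1S : q1 ∈ S := by
    have : closure ({r1, y1} : Set G) ≤ S := by
      rw [closure_le]
      rintro x (rfl | rfl)
      · exact h.h1
      · exact h.h2
    exact this hq1
  have c2 : cj q1 z = z := h.cj_z hq1S
  have hza : z * r1 ^ 2 ^ n1 = r1 ^ 2 ^ n1 * z := Commute.pow_right (show Commute z r1 from h.q1.zr) _
  have hzb : z * r2 ^ 2 ^ n2 = r2 ^ 2 ^ n2 * z := Commute.pow_right (show Commute z r2 from h.q2.zr) _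
  have key : cj (q1 * q2) s = s * tel r1 r2 n1 n2 ∨ cj (q1 * q2) s = s * (tel r1 r2 n1 n2 * z) := by
    unfold tel
    rw [cj_mul_left]
    rcases e2 with e2 | e2 <;> rcases e1 with e1 | e1
    · left; rw [e2, cj_mul, c1, e1]; group
    · right
      rw [e2, cj_mul, c1, e1]
      calc s * (r1 ^ 2 ^ n1 * z) * r2 ^ 2 ^ n2 = s * (r1 ^ 2 ^ n1 * (z * r2 ^ 2 ^ n2)) := by group
        _ = _ := by rw [hzb]; group
    · right; rw [e2, cj_mul, cj_mul, c1, c2, e1]; group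
    · left
      rw [e2, cj_mul, cj_mul, c1, c2, e1]
      calc s * (r1 ^ 2 ^ n1 * z) * (r2 ^ 2 ^ n2 * z) = s * (r1 ^ 2 ^ n1 * (z * r2 ^ 2 ^ n2) * z) := by group
        _ = s * (r1 ^ 2 ^ n1 * r2 ^ 2 ^ n2 * (z * z)) := by rw [hzb]; group
        _ = _ := by rw [h.q1.z_sq, mul_one]
  -- conjugation by `a₁`
  have mt : tel r1 r2 n1 n2 ∈ S := h.R_le (tel_mem hco)
  have cat : cj (r1 ^ 2 ^ n1) (tel r1 r2 n1 n2) = tel r1 r2 n1 n2 := by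
    unfold tel
    rw [cj_mul, cj_self, cj_eq_self (a_comm hco _ _)]
  have caz : cj (r1 ^ 2 ^ n1) z = z := h.cj_z (S.pow_mem h.h1 _)
  have ha : cj (r1 ^ 2 ^ n1) (s * tel r1 r2 n1 n2) = s * (tel r1 r2 n1 n2 * z) := by
    rw [cj_mul, V.sz hco, cat, mul_assoc, h.zc mt]
  have hb : cj (r1 ^ 2 ^ n1) (s * (tel r1 r2 n1 n2 * z)) = s * tel r1 r2 n1 n2 := by
    rw [cj_mul, V.sz hco, cj_mul, cat, caz]
    calc s * z * (tel r1 r2 n1 n2 * z) = s * (z * (tel r1 r2 n1 n2 * z)) := by group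
      _ = s * (tel r1 r2 n1 n2 * (z * z)) := by rw [h.zc mt, ← mul_assoc z, h.q1.z_sq]; group
      _ = _ := by rw [h.q1.z_sq, mul_one]
  have Zq := Z.cj (q1 * q2)
  rcases key with key | key <;> rw [key] at Zq
  · refine ⟨Zq, ?_⟩
    rw [← ha]; exact Zq.cj _
  · refine ⟨?_, Zq⟩
    rw [← hb]; exact Zq.cj _

end

end Cfsg.Agent.GH.Q2
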