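import Cfsg.Agent.GH.Q2.FiveC

/-!
# GH-Q, case (II), section 5: a swapping involution conjugate to `z` exists
-/

set_option autoImplicit false

namespace Cfsg.Agent.GH.Q2

open Subgroup

variable {G : Type*} [Group G]

section

variable {S : Subgroup G} {z r1 y1 r2 y2 s s' : G} {n1 n2 : ℕ} {u1 j1 u2 j2 v1 k1 v2 k2 : ℤ}

/-- `s ∈ S` is extremal: `k` normalises `C_S(s)` and moves `z`. -/
structure Ex (S : Subgroup G) (z s k : G) : Prop where
  mem : s ∈ S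
  zt : Zt z s
  ks : cj k s = s
  kz : cj k z ≠ z
  nor : ∀ w ∈ S, w * s = s * w → cj k w ∈ S

theorem zt_mem (hz : ∀ g : G, cj g z ∈ RR r1 y1 r2 y2 → cj g z = z) (Z : Zt z s) (hs : s ∈ RR r1 y1 r2 y2) : s = z := by
  obtain ⟨g, rfl⟩ := Z
  exact hz g hs

/-- extremal elements `s` are not in `R`. -/
theorem Ex.notin {k : G} (X : Ex S z s k) (hz : ∀ g : G, cj g z ∈ RR r1 y1 r2 y2 → cj g z = z) :
    s ∉ RR r1 y1 r2 y2 := by
  intro h1
  have h2 := zt_mem hz X.zt h1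
  apply X.kz
  rw [← h2]; exact X.ks

theorem Ex.false {k : G} (X : Ex S z s k) (hz : ∀ g : G, cj g z ∈ RR r1 y1 r2 y2 → cj g z = z)
    (h1 : cj k z ∈ RR r1 y1 r2 y2) : False := X.kz (hz k h1)

/-- (P1): some extremal swap. -/
theorem exists_swap (h : Sd S z r1 y1 r2 y2 n1 n2) (F : Fu S z r1 y1 r2 y2)
    (hz : ∀ g : G, cj g z ∈ RR r1 y1 r2 y2 → cj g z = z) :
    ∃ s k : G, Ex S z s k ∧ ¬ IsN r1 y1 r2 y2 s := by
  have hco := h.toCo
  by_cases hsw : ∃ g : G, cj g z ∈ S ∧ ¬ IsN r1 y1 r2 y2 (cj g z)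
  · obtain ⟨g, hgS, hgN⟩ := hsw
    have hne : cj g z ≠ z := by
      intro h1
      rw [h1] at hgN
      exact hgN (isN_z h)
    obtain ⟨c, k, hc, hcS, hk1, hk2, hk3⟩ := F.ext g hgS hne
    refine ⟨cj (c * g) z, k, ⟨hcS, ⟨_, rfl⟩, hk1, hk2, hk3⟩, ?_⟩
    rw [cj_mul_left] at hcS ⊢
    obtain ⟨t, ht, ht2⟩ := F.f2 c (cj g z) hc hgS hcS
    intro h1
    have h2 := isN_of_mem hco ht2
    have mt : cj t (cj g z) ∈ S := mul_mem (mul_mem ht hgS) (S.inv_mem ht)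
    rw [isN_mul h hcS (S.inv_mem mt), isN_inv h mt, isN_cj h ht hgS] at h2
    exact hgN (h2.1 h1)
  · push Not at hsw
    exfalso
    obtain ⟨g, hgS, hne⟩ := F.iso
    obtain ⟨c, k, hc, hcS, hk1, hk2, hk3⟩ := F.ext g hgS hne
    have X : Ex S z (cj (c * g) z) k := ⟨hcS, ⟨_, rfl⟩, hk1, hk2, hk3⟩
    set s := cj (c * g) z with hsdef
    have hsR := X.notin hz
    have hss := X.zt.sq h.q1.z_sq
    have hN : ∀ w ∈ S, Zt z w → IsN r1 y1 r2 y2 w := by
      rintro w hw ⟨g', rfl⟩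
      exact hsw g' hw
    obtain ⟨j1, j2, V⟩ := exists_VV h F hz hcS hss hsR (hN s hcS X.zt)
    obtain ⟨Z1, Z2⟩ := V.conj_t h X.zt
    -- the key claim
    have key : ∀ v ∈ RR r1 y1 r2 y2, v * s = s * v → Zt z (s * v) → v ≠ z → cj k v ∈ RR r1 y1 r2 y2 := by
      intro v hv hvs Zv hvz
      have hvS := h.R_le hv
      have h1 : cj k (s * v) ∈ S := by
        apply X.nor _ (mul_mem hcS hvS)
        rw [mul_assoc, hvs, ← mul_assoc]
      have h2 : Zt z (cj k (s * v)) := Zv.cj k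
      have h3 : cj k v = s * cj k (s * v) := by
        rw [cj_mul, X.ks, ← mul_assoc, hss, one_mul]
      by_cases hR : cj k (s * v) ∈ RR r1 y1 r2 y2
      · exfalso
        have h4 := zt_mem hz h2 hR
        apply hvz
        apply zt_mem hz _ hv
        refine Zt.of_cj (g := k) ?_
        rw [h3, h4, ← V.sz hco]
        exact X.zt.cj _
      · obtain ⟨k1, k2, V'⟩ := exists_VV h F hz h1 (h2.sq h.q1.z_sq) hR (hN _ h1 h2)
        rw [h3]
        refine h.inR _ (mul_mem hcS h1) _ _ _ _ (V.ns.mul V'.ns) ?_ ?_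
        · rw [show -1 * k1 + j1 = j1 - k1 by ring]
          exact V.o1.sub_odd V'.o1
        · rw [show -1 * k2 + j2 = j2 - k2 by ring]
          exact V.o2.sub_odd V'.o2
    have mt := tel_mem hco
    have mtS := h.R_le mt
    have hts : tel r1 r2 n1 n2 * s = s * tel r1 r2 n1 n2 := by
      have h1 : cj s (tel r1 r2 n1 n2) = tel r1 r2 n1 n2 := by
        unfold tel
        rw [cj_mul, cj_pow, cj_pow, V.a1, V.a2, inv_pow, inv_pow, a_inv h.q1, a_inv h.q2]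
        have hzb : z * r2 ^ 2 ^ n2 = r2 ^ 2 ^ n2 * z := Commute.pow_right (show Commute z r2 from h.q2.zr) _
        calc r1 ^ 2 ^ n1 * z * (r2 ^ 2 ^ n2 * z) = r1 ^ 2 ^ n1 * (z * r2 ^ 2 ^ n2) * z := by group
          _ = r1 ^ 2 ^ n1 * r2 ^ 2 ^ n2 * (z * z) := by rw [hzb]; group
          _ = _ := by rw [h.q1.z_sq, mul_one]
      exact (cj_eq_self_iff.1 h1).symm
    have hsz : z * s = s * z := (h.zc hcS).symm
    have k1 := key _ mt hts Z1 (tel_ne_z hco)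
    have k2 := key _ (mul_mem mt hco.mz) (by rw [mul_assoc, hsz, ← mul_assoc, hts, mul_assoc]) Z2
      (fun h1 => tel_ne_one hco (mul_eq_right.1 h1))
    apply X.false hz
    have h5 : z = tel r1 r2 n1 n2 * (tel r1 r2 n1 n2 * z) := by rw [← mul_assoc, tel_sq hco, one_mul]
    rw [h5, cj_mul]
    exact mul_mem k1 k2

end

end Cfsg.Agent.GH.Q2
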