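import Cfsg.Agent.GH.Q2.Fus

/-!
# GH-Q, case (II): change of coordinates and normal forms (1.3)
-/

set_option autoImplicit false

namespace Cfsg.Agent.GH.Q2

open Subgroup

variable {G : Type*} [Group G]

/-- an odd power of `r` generates `⟨r⟩`. -/
theorem Qn.exists_inv {z r y : G} {n : ℕ} (h : Qn z r y n) {u : ℤ} (hu : Odd u) :
    ∃ v : ℤ, Odd v ∧ (r ^ u) ^ v = r := by
  obtain ⟨k, rfl⟩ := hu
  obtain ⟨a, b, hab⟩ := isCoprime_two_pow (n + 2) k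
  refine ⟨b, ?_, ?_⟩
  · by_contra hb
    rw [Int.not_odd_iff_even] at hb
    have h1 : Even (a * 2 ^ (n + 2) + b * (2 * k + 1)) :=
      (Even.mul_left (Even.pow_of_ne_zero even_two (by omega)) a).add (hb.mul_right _)
    rw [hab] at h1
    exact absurd h1 (by decide)
  · rw [← zpow_mul]
    conv_rhs => rw [← zpow_one r]
    rw [h.zpow_eq]
    exact ⟨-a, by linear_combination hab⟩

theorem Qn.change {z r y : G} {n : ℕ} (h : Qn z r y n) {u j : ℤ} (hu : Odd u) :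
    Qn z (r ^ u) (r ^ j * y) n where
  z_ne := h.z_ne
  z_sq := h.z_sq
  rp := h.pow_odd hu
  ys := h.ry_sq j
  inv := by rw [cj_mul_left, h.cj_y_zpow, Qn.cj_rz_r, zpow_neg]

theorem Qn.closure_change {z r y : G} {n : ℕ} (h : Qn z r y n) {u j : ℤ} (hu : Odd u) :
    closure ({r ^ u, r ^ j * y} : Set G) = closure {r, y} := by
  have mr : r ∈ closure ({r, y} : Set G) := subset_closure (by simp)
  have my : y ∈ closure ({r, y} : Set G) := subset_closure (by simp)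
  apply le_antisymm
  · rw [closure_le]
    rintro x (rfl | rfl)
    · exact Subgroup.zpow_mem _ mr _
    · exact mul_mem (Subgroup.zpow_mem _ mr _) my
  · obtain ⟨v, _, hv⟩ := h.exists_inv hu
    have m1 : r ^ u ∈ closure ({r ^ u, r ^ j * y} : Set G) := subset_closure (by simp)
    have m2 : r ^ j * y ∈ closure ({r ^ u, r ^ j * y} : Set G) := subset_closure (by simp)
    have mr' : r ∈ closure ({r ^ u, r ^ j * y} : Set G) := by
      have := Subgroup.zpow_mem _ m1 v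
      rwa [hv] at this
    rw [closure_le]
    rintro x (rfl | rfl)
    · exact mr'
    · exact (mul_mem_cancel_left (Subgroup.zpow_mem _ mr' j)).1 m2

theorem Co.change {z r1 y1 r2 y2 : G} {n1 n2 : ℕ} (h : Co z r1 y1 r2 y2 n1 n2) {u j : ℤ}
    (hu : Odd u) : Co z r1 y1 (r2 ^ u) (r2 ^ j * y2) n1 n2 := by
  have mr : r2 ∈ closure ({r2, y2} : Set G) := subset_closure (by simp)
  have my : y2 ∈ closure ({r2, y2} : Set G) := subset_closure (by simp)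
  have mr1 : r1 ∈ closure ({r1, y1} : Set G) := subset_closure (by simp)
  have my1 : y1 ∈ closure ({r1, y1} : Set G) := subset_closure (by simp)
  refine ⟨h.q1, h.q2.change hu, ?_, ?_, ?_, ?_, ?_⟩
  · exact h.comm mr1 (Subgroup.zpow_mem _ mr _)
  · exact h.comm mr1 (mul_mem (Subgroup.zpow_mem _ mr _) my)
  · exact h.comm my1 (Subgroup.zpow_mem _ mr _)
  · exact h.comm my1 (mul_mem (Subgroup.zpow_mem _ mr _) my)
  · intro g hg hg'
    rw [h.q2.closure_change hu] at hg'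
    exact h.ind g hg hg'

theorem Co.RR_change {z r1 y1 r2 y2 : G} {n1 n2 : ℕ} (h : Co z r1 y1 r2 y2 n1 n2) {u j : ℤ}
    (hu : Odd u) : RR r1 y1 (r2 ^ u) (r2 ^ j * y2) = RR r1 y1 r2 y2 := by
  unfold RR
  rw [h.q2.closure_change hu]

/-- Change of coordinates in the second factor. -/
theorem Sd.change {S : Subgroup G} {z r1 y1 r2 y2 : G} {n1 n2 : ℕ} (h : Sd S z r1 y1 r2 y2 n1 n2)
    {u j : ℤ} (hu : Odd u) : Sd S z r1 y1 (r2 ^ u) (r2 ^ j * y2) n1 n2 := by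
  obtain ⟨v, hv, hvr⟩ := h.q2.exists_inv hu
  have hp : ∀ k : ℤ, r2 ^ k = (r2 ^ u) ^ (v * k) := by
    intro k
    rw [zpow_mul, hvr]
  have toNs : ∀ (s : G) (u1 j1 u2 j2 : ℤ), Ns r1 y1 r2 y2 s u1 j1 u2 j2 →
      Ns r1 y1 (r2 ^ u) (r2 ^ j * y2) s u1 j1 u2 (v * (j * u2 + j2 - j)) := by
    intro s u1 j1 u2 j2 N
    refine ⟨N.a1, N.b1, ?_, ?_⟩
    · rw [cj_zpow, N.a2, ← zpow_mul, ← zpow_mul, mul_comm]
    · rw [cj_mul, cj_zpow, N.a2, N.b2, ← hp, ← zpow_mul]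
      rw [← mul_assoc, ← mul_assoc, ← zpow_add, ← zpow_add]
      congr 2
      ring
  refine ⟨h.toCo.change hu, h.h1, h.h2, Subgroup.zpow_mem _ h.h3 _,
    mul_mem (Subgroup.zpow_mem _ h.h3 _) h.h4, ?_, ?_⟩
  · intro s hs
    rcases h.act s hs with ⟨u1, j1, u2, j2, N⟩ | ⟨e, u1, j1, u2, j2, N⟩
    · exact Or.inl ⟨_, _, _, _, toNs _ _ _ _ _ N⟩
    · refine Or.inr ⟨e, v * u1, v * (j1 - j), u2 * u, u2 * j + j2, ?_, ?_, ?_, ?_⟩
      · rw [N.a1, hp]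
      · rw [N.b1, ← hp, ← mul_assoc, ← zpow_add, sub_add_cancel]
      · rw [cj_zpow, N.a2, ← zpow_mul]
      · rw [cj_mul, cj_zpow, N.a2, N.b2, ← zpow_mul, ← mul_assoc, ← zpow_add]
  · intro s hs u1 j1 u2 j2 N e1 e2
    rw [h.toCo.RR_change hu]
    rcases h.act s hs with ⟨u1', j1', u2', j2', N'⟩ | ⟨e, u1', j1', u2', j2', N'⟩
    · have hc := h.toCo.change (j := j) hu
      refine h.inR s hs _ _ _ _ N' ?_ ?_
      · exact (N.parity1 (toNs _ _ _ _ _ N') hc).1 e1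
      · have h1 := (N.parity2 (toNs _ _ _ _ _ N') hc).1 e2
        rw [Int.even_mul] at h1
        rcases h1 with h1 | h1
        · exact absurd h1 (Int.not_even_iff_odd.2 hv)
        · have o := N'.odd2 h.toCo
          have h2 : j * u2' + j2' - j = j * (u2' - 1) + j2' := by ring
          rw [h2, Int.even_add] at h1
          apply h1.1
          exact (o.sub_odd odd_one).mul_left _
    · exfalso
      have h1 := N.a1.symm.trans N'.a1
      exact h.q1.odd_ne (N.odd1 (h.toCo.change (j := j) hu)) (h.toCo.ind_zpow h1)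

section cosets

variable {S : Subgroup G} {z r1 y1 r2 y2 s x t : G} {n1 n2 : ℕ} {u1 j1 u2 j2 v1 k1 v2 k2 : ℤ}

/-- non-swapping elements of the same type are in the same coset of `R`. -/
theorem Sd.ns_ns (h : Sd S z r1 y1 r2 y2 n1 n2) (hx : x ∈ S) (hs : s ∈ S)
    (N : Ns r1 y1 r2 y2 x u1 j1 u2 j2) (M : Ns r1 y1 r2 y2 s v1 k1 v2 k2)
    (e1 : Even j1 ↔ Even k1) (e2 : Even j2 ↔ Even k2) : x⁻¹ * s ∈ RR r1 y1 r2 y2 := by
  have hw : x * (x⁻¹ * s) = s := by group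
  rcases h.act (x⁻¹ * s) (mul_mem (inv_mem hx) hs) with
    ⟨w1, l1, w2, l2, W⟩ | ⟨e, w1, l1, w2, l2, W⟩
  · have P := N.mul W
    rw [hw] at P
    have p1 := P.parity1 M h.toCo
    have p2 := P.parity2 M h.toCo
    have o1 := N.odd1 h.toCo
    have o2 := N.odd2 h.toCo
    refine h.inR _ (mul_mem (inv_mem hx) hs) _ _ _ _ W ?_ ?_
    · rw [← e1, Int.even_add, Int.even_mul] at p1
      rw [← Int.not_even_iff_odd] at o1
      tauto
    · rw [← e2, Int.even_add, Int.even_mul] at p2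
      rw [← Int.not_even_iff_odd] at o2
      tauto
  · have P := N.mul_sw W
    rw [hw] at P
    exact (M.not_sw P h.toCo).elim

/-- the quotient of two swaps is non-swapping. -/
theorem Sd.sw_sw (h : Sd S z r1 y1 r2 y2 n1 n2) (hx : x ∈ S) (hs : s ∈ S)
    (N : Sw r1 y1 r2 y2 x u1 j1 u2 j2) (M : Sw r1 y1 r2 y2 s v1 k1 v2 k2) :
    ∃ w1 l1 w2 l2 : ℤ, Ns r1 y1 r2 y2 (x⁻¹ * s) w1 l1 w2 l2 := by
  have hw : x * (x⁻¹ * s) = s := by group
  rcases h.act (x⁻¹ * s) (mul_mem (inv_mem hx) hs) with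
    ⟨w1, l1, w2, l2, W⟩ | ⟨e, w1, l1, w2, l2, W⟩
  · exact ⟨_, _, _, _, W⟩
  · have P := N.mul W
    rw [hw] at P
    exact (P.not_sw M h.toCo).elim

theorem Sd.sw_ns (h : Sd S z r1 y1 r2 y2 n1 n2) (hx : x ∈ S) (hs : s ∈ S)
    (N : Sw r1 y1 r2 y2 x u1 j1 u2 j2) (M : Ns r1 y1 r2 y2 s v1 k1 v2 k2) :
    ∃ w1 l1 w2 l2 : ℤ, Sw r1 y1 r2 y2 (x⁻¹ * s) w1 l1 w2 l2 := by
  have hw : x * (x⁻¹ * s) = s := by group
  rcases h.act (x⁻¹ * s) (mul_mem (inv_mem hx) hs) with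
    ⟨w1, l1, w2, l2, W⟩ | ⟨e, w1, l1, w2, l2, W⟩
  · have P := N.mul_ns W
    rw [hw] at P
    exact (M.not_sw P h.toCo).elim
  · exact ⟨_, _, _, _, W⟩

/-- normalize signs and `j`-exponents by an element of `R` on the left. -/
theorem Sd.norm (h : Sd S z r1 y1 r2 y2 n1 n2) (hs : s ∈ S) (N : Ns r1 y1 r2 y2 s u1 j1 u2 j2)
    {l1 l2 : ℤ} (e1 : Even (j1 - l1)) (e2 : Even (j2 - l2)) :
    ∃ x ∈ S, x * s⁻¹ ∈ RR r1 y1 r2 y2 ∧ ∃ w1 w2 : ℤ, Ns r1 y1 r2 y2 x w1 l1 w2 l2 ∧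
      (4 : ℤ) ∣ w1 - 1 ∧ (4 : ℤ) ∣ w2 - 1 := by
  have step : ∃ q ∈ RR r1 y1 r2 y2, ∃ w1 k1 w2 k2 : ℤ, Ns r1 y1 r2 y2 (q * s) w1 k1 w2 k2 ∧
      (4 : ℤ) ∣ w1 - 1 ∧ (4 : ℤ) ∣ w2 - 1 ∧ Even (k1 - l1) ∧ Even (k2 - l2) := by
    have o1 := N.odd1 h.toCo
    have o2 := N.odd2 h.toCo
    have c1 : (4 : ℤ) ∣ u1 - 1 ∨ (4 : ℤ) ∣ -1 * u1 - 1 := by
      obtain ⟨m, hm⟩ := o1
      omega
    have c2 : (4 : ℤ) ∣ u2 - 1 ∨ (4 : ℤ) ∣ -1 * u2 - 1 := by
      obtain ⟨m, hm⟩ := o2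
      omega
    have N1 := h.ns_y1.mul N
    have N2 := h.ns_y2.mul N
    have N12 := (h.ns_y1.mul h.ns_y2).mul N
    simp only [mul_zero, add_zero, one_mul, mul_one] at N1 N2 N12
    have f1 : Even (-1 * j1 - l1) := by
      have : -1 * j1 - l1 = (j1 - l1) - 2 * j1 := by ring
      rw [this]; exact e1.sub (even_two_mul _)
    have f2 : Even (-1 * j2 - l2) := by
      have : -1 * j2 - l2 = (j2 - l2) - 2 * j2 := by ring
      rw [this]; exact e2.sub (even_two_mul _)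
    rcases c1 with c1 | c1 <;> rcases c2 with c2 | c2
    · exact ⟨1, one_mem _, u1, j1, u2, j2, by rwa [one_mul], c1, c2, e1, e2⟩
    · exact ⟨y2, h.m4, _, _, _, _, N2, c1, c2, e1, f2⟩
    · exact ⟨y1, h.m2, _, _, _, _, N1, c1, c2, f1, e2⟩
    · exact ⟨y1 * y2, mul_mem h.m2 h.m4, _, _, _, _, N12, c1, c2, f1, f2⟩
  obtain ⟨q, hq, w1, k1, w2, k2, N', c1, c2, ⟨m1, hm1⟩, ⟨m2, hm2⟩⟩ := step
  have P := (h.ns_r1 (-m1)).mul ((h.ns_r2 (-m2)).mul N')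
  refine ⟨r1 ^ (-m1) * (r2 ^ (-m2) * (q * s)), ?_, ?_, w1, w2, ?_, c1, c2⟩
  · exact mul_mem (Subgroup.zpow_mem _ h.h1 _) (mul_mem (Subgroup.zpow_mem _ h.h3 _)
      (mul_mem (h.R_le hq) hs))
  · have e : r1 ^ (-m1) * (r2 ^ (-m2) * (q * s)) * s⁻¹ = r1 ^ (-m1) * (r2 ^ (-m2) * q) := by group
    rw [e]
    exact mul_mem (Subgroup.zpow_mem _ h.m1 _) (mul_mem (Subgroup.zpow_mem _ h.m3 _) hq)
  · have z1 : 1 * (1 * k1 + 0) + 2 * -m1 = l1 := by linarith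
    have z2 : 1 * (1 * k2 + 2 * -m2) + 0 = l2 := by linarith
    rw [z1, z2] at P
    simpa using P

/-- Normal form of an element of type `(1, 1)`. -/
structure XF (n1 n2 : ℕ) (z r1 y1 r2 y2 x : G) (a c : ℤ) : Prop where
  a1 : cj x r1 = r1 * z ^ a
  a2 : cj x r2 = r2 * z ^ a
  b1 : cj x y1 = r1 * y1
  b2 : cj x y2 = r2 * y2
  xx : x * x = r1 ^ (1 + 2 ^ n1 * a) * r2 ^ (1 + 2 ^ n2 * a) * z ^ c

/-- Normal form of an element of type `(1, 0)`. -/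
structure EF (z r1 y1 r2 y2 e : G) (b c : ℤ) : Prop where
  a1 : cj e r1 = r1
  b1 : cj e y1 = r1 * y1
  a2 : cj e r2 = r2 * z ^ b
  b2 : cj e y2 = y2
  ee : e * e = r1 * z ^ c

theorem Qn.z_mod (h : Qn z r1 y1 n1) (a : ℤ) : ∃ b : ℤ, (b = 0 ∨ b = 1) ∧ z ^ a = z ^ b ∧ Even (a - b) := by
  rcases Int.even_or_odd' a with ⟨k, hk | hk⟩
  · refine ⟨0, Or.inl rfl, ?_, ⟨k, by linarith⟩⟩
    rw [hk, zpow_mul, h.z2, one_zpow, zpow_zero]
  · refine ⟨1, Or.inr rfl, ?_, ⟨k, by linarith⟩⟩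
    rw [hk, zpow_add, zpow_mul, h.z2, one_zpow, one_mul]

theorem Qn.zpow_congr (h : Qn z r1 y1 n1) {a b : ℤ} (hab : Even (a - b)) : z ^ a = z ^ b := by
  obtain ⟨k, hk⟩ := hab
  have : a = 2 * k + b := by linarith
  rw [this, zpow_add, zpow_mul, h.z2, one_zpow, one_mul]

/-- normal form for type `(1, 1)` -/
theorem Sd.nf_x (h : Sd S z r1 y1 r2 y2 n1 n2) (hs : s ∈ S) (N : Ns r1 y1 r2 y2 s u1 j1 u2 j2)
    (o1 : Odd j1) (o2 : Odd j2) :
    ∃ x ∈ S, x * s⁻¹ ∈ RR r1 y1 r2 y2 ∧ ∃ a c : ℤ, (a = 0 ∨ a = 1) ∧ (c = 0 ∨ c = 1) ∧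
      XF n1 n2 z r1 y1 r2 y2 x a c ∧ (∃ w1 w2 : ℤ, Ns r1 y1 r2 y2 x w1 1 w2 1) ∧
      (a = 1 → 1 ≤ n1 ∧ 1 ≤ n2) := by
  obtain ⟨x, hx, hxs, w1, w2, M, d1, d2⟩ := h.norm hs N (l1 := 1) (l2 := 1)
    (o1.sub_odd odd_one) (o2.sub_odd odd_one)
  obtain ⟨f1, f2, i, j, c1, c2, e, p1, p2, p3, p4, p5⟩ := h.sq_form hx M d1 d2
  obtain ⟨a, ha, hza, hea⟩ := h.q1.z_mod f1
  have oi : Odd i := by
    rw [← Int.not_even_iff_odd, p1]; decide
  have oj : Odd j := by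
    rw [← Int.not_even_iff_odd, p2]; decide
  have hf : Even (f1 - f2) := by
    rw [Int.even_add, Int.even_mul, Int.even_mul] at p3
    rw [← Int.not_even_iff_odd] at oi oj
    rw [Int.even_sub]
    tauto
  have hza2 : z ^ f2 = z ^ a := by rw [← h.q1.zpow_congr hf, hza]
  have hea2 : Even (f2 - a) := by
    have : f2 - a = (f1 - a) - (f1 - f2) := by ring
    rw [this]; exact hea.sub hf
  -- the square
  have sqr : ∀ (n : ℕ) (r y : G) (w f i : ℤ), Qn z r y n → r ^ w = r * z ^ f → Even (f - a) →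
      r ^ (w * 1 + 1) * y = r ^ (2 * i) * y → ∃ c : ℤ, r ^ i = r ^ (1 + 2 ^ n * a) * z ^ c := by
    intro n r y w f i q hw hfa he
    have he := mul_right_cancel he
    rw [mul_one, zpow_add, hw, q.zpow_congr hfa, zpow_one] at he
    -- r z^a r = r^(2i)
    have hzr : Commute (z ^ a) r := (Commute.zpow_left (show Commute z r from q.zr) a)
    have he2 : r ^ (2 * i) = r ^ (2 * (1 + 2 ^ n * a)) := by
      rw [← he, mul_assoc, hzr.eq, ← q.rzp, ← zpow_mul, ← zpow_one_add, ← zpow_one_add]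
      congr 1
      ring
    rw [q.zpow_eq, ← mul_sub, show (2 : ℤ) ^ (n + 2) = 2 * 2 ^ (n + 1) by ring] at he2
    obtain ⟨c, hc⟩ := Int.dvd_of_mul_dvd_mul_left (by norm_num) he2
    refine ⟨c, ?_⟩
    rw [← q.rzp, ← zpow_mul, ← hc, ← zpow_add]
    congr 1
    ring
  have MM := M.mul M
  have hR := h.ns_r1 i
  have hcj1 : cj (x * x) y1 = r1 ^ (2 * i) * y1 := by
    rw [e, cj_mul_left, (h.ns_r2 j).b1, zpow_zero, one_mul, hR.b1]
  have hcj2 : cj (x * x) y2 = r2 ^ (2 * j) * y2 := by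
    rw [e, cj_mul_left, (h.ns_r2 j).b2, cj_mul, cj_zpow, hR.a2, hR.b2, zpow_one, zpow_zero, one_mul]
  obtain ⟨c', hc'⟩ := sqr n1 r1 y1 w1 f1 i h.q1 (M.a1.symm.trans c1) hea (MM.b1.symm.trans hcj1)
  obtain ⟨c'', hc''⟩ := sqr n2 r2 y2 w2 f2 j h.q2 (M.a2.symm.trans c2) hea2 (MM.b2.symm.trans hcj2)
  obtain ⟨c, hc, hzc, _⟩ := h.q1.z_mod (c' + c'')
  refine ⟨x, hx, hxs, a, c, ha, hc, ⟨?_, ?_, ?_, ?_, ?_⟩, ⟨w1, w2, M⟩, ?_⟩
  · rw [c1, hza]
  · rw [c2, hza2]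
  · rw [M.b1, zpow_one]
  · rw [M.b2, zpow_one]
  · have hz2 : Commute (z ^ c') (r2 ^ (1 + 2 ^ n2 * a)) :=
      (Commute.zpow_zpow (show Commute z r2 from h.q2.zr) _ _)
    rw [e, hc', hc'', ← hzc, zpow_add z c' c'']
    calc r1 ^ (1 + 2 ^ n1 * a) * z ^ c' * (r2 ^ (1 + 2 ^ n2 * a) * z ^ c'') =
        r1 ^ (1 + 2 ^ n1 * a) * (z ^ c' * r2 ^ (1 + 2 ^ n2 * a)) * z ^ c'' := by group
      _ = _ := by rw [hz2.eq]; group
  · intro ha1
    constructor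
    · by_contra hn
      have h0 : n1 = 0 := by omega
      have := p4 h0
      rw [ha1] at hea
      rw [Int.even_sub] at hea
      exact absurd (hea.1 this) (by decide)
    · by_contra hn
      have h0 : n2 = 0 := by omega
      have := p5 h0
      rw [ha1] at hea2
      rw [Int.even_sub] at hea2
      exact absurd (hea2.1 this) (by decide)

/-- normal form for type `(1, 0)` -/
theorem Sd.nf_e (h : Sd S z r1 y1 r2 y2 n1 n2) (hs : s ∈ S) (N : Ns r1 y1 r2 y2 s u1 j1 u2 j2)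
    (o1 : Odd j1) (o2 : Even j2) :
    ∃ x ∈ S, x * s⁻¹ ∈ RR r1 y1 r2 y2 ∧ ∃ b c : ℤ, (b = 0 ∨ b = 1) ∧ (c = 0 ∨ c = 1) ∧
      EF z r1 y1 r2 y2 x b c ∧ (∃ w1 w2 : ℤ, Ns r1 y1 r2 y2 x w1 1 w2 0) ∧ (b = 1 → 1 ≤ n2) := by
  obtain ⟨x, hx, hxs, w1, w2, M, d1, d2⟩ := h.norm hs N (l1 := 1) (l2 := 0)
    (o1.sub_odd odd_one) (by rwa [sub_zero])
  obtain ⟨f1, f2, i, j, c1, c2, e, p1, p2, p3, p4, p5⟩ := h.sq_form hx M d1 d2
  obtain ⟨b, hb, hzb, heb⟩ := h.q1.z_mod f2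
  have oi : Odd i := by
    rw [← Int.not_even_iff_odd, p1]; decide
  have oj : Even j := by
    rw [p2]; decide
  have hf1 : Even f1 := by
    rw [Int.even_add, Int.even_mul, Int.even_mul] at p3
    rw [← Int.not_even_iff_odd] at oi
    tauto
  have hzf1 : z ^ f1 = 1 := by
    have := h.q1.zpow_congr (a := f1) (b := 0) (by rwa [sub_zero])
    rwa [zpow_zero] at this
  rw [hzf1, mul_one] at c1
  have MM := M.mul M
  have hR := h.ns_r1 i
  have hcj1 : cj (x * x) y1 = r1 ^ (2 * i) * y1 := by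
    rw [e, cj_mul_left, (h.ns_r2 j).b1, zpow_zero, one_mul, hR.b1]
  have hcj2 : cj (x * x) y2 = r2 ^ (2 * j) * y2 := by
    rw [e, cj_mul_left, (h.ns_r2 j).b2, cj_mul, cj_zpow, hR.a2, hR.b2, zpow_one, zpow_zero, one_mul]
  have g1 : ∃ c : ℤ, r1 ^ i = r1 * z ^ c := by
    have he := mul_right_cancel (MM.b1.symm.trans hcj1)
    have hw : r1 ^ w1 = r1 ^ (1 : ℤ) := by rw [zpow_one]; exact M.a1.symm.trans c1
    rw [h.q1.zpow_eq] at he hw
    have h3 : (2 : ℤ) ^ (n1 + 2) ∣ 2 * (i - 1) := by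
      have h4 := dvd_sub hw he
      have e4 : w1 - 1 - (w1 * 1 + 1 - 2 * i) = 2 * (i - 1) := by ring
      rwa [e4] at h4
    rw [show (2 : ℤ) ^ (n1 + 2) = 2 * 2 ^ (n1 + 1) by ring] at h3
    obtain ⟨c, hc⟩ := Int.dvd_of_mul_dvd_mul_left (by norm_num) h3
    refine ⟨c, ?_⟩
    rw [← h.q1.rzp, ← zpow_mul, ← hc, ← zpow_one_add]
    congr 1
    ring
  have g2 : ∃ c : ℤ, r2 ^ j = z ^ c := by
    have he := mul_right_cancel (MM.b2.symm.trans hcj2)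
    rw [h.q2.zpow_eq] at he
    have e4 : w2 * 0 + 0 - 2 * j = 2 * (-j) := by ring
    rw [e4, show (2 : ℤ) ^ (n2 + 2) = 2 * 2 ^ (n2 + 1) by ring] at he
    obtain ⟨c, hc⟩ := Int.dvd_of_mul_dvd_mul_left (by norm_num) he
    refine ⟨-c, ?_⟩
    rw [← h.q2.rzp, ← zpow_mul, mul_neg, ← hc, neg_neg]
  obtain ⟨c', hc'⟩ := g1
  obtain ⟨c'', hc''⟩ := g2
  obtain ⟨c, hc, hzc, _⟩ := h.q1.z_mod (c' + c'')
  refine ⟨x, hx, hxs, b, c, hb, hc, ⟨c1, ?_, ?_, ?_, ?_⟩, ⟨w1, w2, M⟩, ?_⟩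
  · rw [M.b1, zpow_one]
  · rw [c2, hzb]
  · rw [M.b2, zpow_zero, one_mul]
  · rw [e, hc', hc'', ← hzc, zpow_add, mul_assoc]
  · intro hb1
    by_contra hn
    have h0 : n2 = 0 := by omega
    have := p5 h0
    rw [hb1] at heb
    rw [Int.even_sub] at heb
    exact absurd (heb.1 this) (by decide)

end cosets

section swaps

variable {S : Subgroup G} {z r1 y1 r2 y2 s x t : G} {n : ℕ} {u1 j1 u2 j2 : ℤ}

theorem Sw.cj_mem1 (N : Sw r1 y1 r2 y2 s u1 j1 u2 j2) {a : G}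
    (ha : a ∈ closure ({r1, y1} : Set G)) : cj s a ∈ closure ({r2, y2} : Set G) := by
  have : closure ({r1, y1} : Set G) ≤
      (closure ({r2, y2} : Set G)).comap (MulAut.conj s).toMonoidHom := by
    rw [closure_le]
    intro x hx
    change cj s x ∈ closure ({r2, y2} : Set G)
    rcases hx with hx | hx
    · rw [hx, N.a1]
      exact Subgroup.zpow_mem _ (subset_closure (by simp)) _
    · rw [Set.mem_singleton_iff] at hx
      rw [hx, N.b1]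
      exact mul_mem (Subgroup.zpow_mem _ (subset_closure (by simp)) _) (subset_closure (by simp))
  exact this ha

theorem Sw.cj_mem2 (N : Sw r1 y1 r2 y2 s u1 j1 u2 j2) {a : G}
    (ha : a ∈ closure ({r2, y2} : Set G)) : cj s a ∈ closure ({r1, y1} : Set G) :=
  N.symm.cj_mem1 ha

/-- An equality `a b = c d` in `Q₁ * Q₂`. -/
theorem Co.mul_eq_mul {n1 n2 : ℕ} (h : Co z r1 y1 r2 y2 n1 n2) {a b c d : G}
    (ha : a ∈ closure ({r1, y1} : Set G)) (hb : b ∈ closure ({r2, y2} : Set G))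
    (hc : c ∈ closure ({r1, y1} : Set G)) (hd : d ∈ closure ({r2, y2} : Set G))
    (e : a * b = c * d) : (a = c ∧ b = d) ∨ (a = c * z ∧ b = d * z) := by
  have h1 : (c⁻¹ * a) * (b * d⁻¹) = 1 := by
    have : c⁻¹ * a * (b * d⁻¹) = c⁻¹ * (a * b) * d⁻¹ := by group
    rw [this, e]; group
  rcases h.mul_eq_one (mul_mem (inv_mem hc) ha) (mul_mem hb (inv_mem hd)) h1 with
    ⟨h2, h3⟩ | ⟨h2, h3⟩
  · left
    exact ⟨(inv_mul_eq_one.1 h2).symm, mul_inv_eq_one.1 h3⟩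
  · right
    refine ⟨inv_mul_eq_iff_eq_mul.1 h2, ?_⟩
    have h4 : b = z * d := mul_inv_eq_iff_eq_mul.1 h3
    rw [h4]
    obtain ⟨j, rfl | rfl⟩ := h.q2.mem_iff.1 hd
    · exact (Commute.zpow_right (show Commute z r2 from h.q2.zr) j)
    · have e1 : z * r2 ^ j = r2 ^ j * z := (Commute.zpow_right (show Commute z r2 from h.q2.zr) j)
      rw [← mul_assoc, e1, mul_assoc, h.q2.zy, mul_assoc]

/-- normal form for a swap with square in `R`. -/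
theorem Sd.nf_t (h : Sd S z r1 y1 r2 y2 n n) (hs : s ∈ S) (N : Sw r1 y1 r2 y2 s u1 j1 u2 j2)
    (hss : s * s ∈ RR r1 y1 r2 y2) :
    ∃ t ∈ S, t * s⁻¹ ∈ RR r1 y1 r2 y2 ∧ (t * t = 1 ∨ t * t = z) ∧
      Sd S z r1 y1 (cj t r1) (cj t y1) n n ∧
      RR r1 y1 (cj t r1) (cj t y1) = RR r1 y1 r2 y2 ∧
      ∃ w1 l1 w2 l2 : ℤ, Sw r1 y1 r2 y2 t w1 l1 w2 l2 := by
  obtain ⟨a, ha, b, hb, hab⟩ := h.mem_R'.1 hss
  have h1 : cj s (s * s) = s * s := by rw [cj_mul, cj_self]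
  rw [hab, cj_mul] at h1
  have ca := N.cj_mem1 ha
  have cb := N.cj_mem2 hb
  have h2 : cj s b * cj s a = a * b := by rw [h.comm cb ca, h1]
  -- `t = a⁻¹ s`
  obtain ⟨u1', j1', u2', j2', M⟩ : ∃ w1 l1 w2 l2 : ℤ, Sw r1 y1 r2 y2 (a⁻¹ * s) w1 l1 w2 l2 := by
    have hR : a⁻¹ ∈ RR r1 y1 r2 y2 := h.mem_R'.2 ⟨a⁻¹, inv_mem ha, 1, one_mem _, by simp⟩
    obtain ⟨i, j, hc⟩ := h.ns_of_mem hR
    rcases hc with ⟨_, L⟩ | ⟨_, L⟩ | ⟨_, L⟩ | ⟨_, L⟩ <;> exact ⟨_, _, _, _, L.mul_sw N⟩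
  have hat : a⁻¹ * s ∈ S := by
    have : a ∈ S := h.R_le (h.mem_R'.2 ⟨a, ha, 1, one_mem _, by simp⟩)
    exact mul_mem (inv_mem this) hs
  have htt : a⁻¹ * s * (a⁻¹ * s) = 1 ∨ a⁻¹ * s * (a⁻¹ * s) = z := by
    have e1 : a⁻¹ * s * (a⁻¹ * s) = a⁻¹ * (cj s a)⁻¹ * (s * s) := by simp [cj]; group
    rw [e1, hab]
    rcases h.mul_eq_mul cb ca ha hb h2 with ⟨_, h4⟩ | ⟨_, h4⟩
    · left
      rw [h4]
      have : a⁻¹ * b⁻¹ * (a * b) = a⁻¹ * (b⁻¹ * a) * b := by group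
      rw [this, ← h.comm ha (inv_mem hb)]; group
    · right
      rw [h4, mul_inv_rev, h.q1.zz]
      have : a⁻¹ * (z * b⁻¹) * (a * b) = a⁻¹ * z * (b⁻¹ * a) * b := by group
      rw [this, ← h.comm ha (inv_mem hb)]
      have : a⁻¹ * z * (a * b⁻¹) * b = a⁻¹ * z * a := by group
      have haS : a⁻¹ ∈ S := by
        have : a ∈ S := h.R_le (h.mem_R'.2 ⟨a, ha, 1, one_mem _, by simp⟩)
        exact inv_mem this
      rw [this, h.zc haS, mul_assoc, inv_mul_cancel, mul_one]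
  have ch := h.change (u := u1') (j := j1') (M.odd1 h.toCo)
  rw [← M.a1, ← M.b1] at ch
  refine ⟨a⁻¹ * s, hat, ?_, htt, ch, ?_, _, _, _, _, M⟩
  · rw [mul_inv_cancel_right]
    exact h.mem_R'.2 ⟨a⁻¹, inv_mem ha, 1, one_mem _, by simp⟩
  · rw [M.a1, M.b1]
    exact h.toCo.RR_change (M.odd1 h.toCo)

/-- a swap in its own coordinates: `cj t r2 = r1`, `cj t y2 = y1`. -/
theorem Sd.sw_self (h : Sd S z r1 y1 (cj t r1) (cj t y1) n n) (htt : t * t = 1 ∨ t * t = z) :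
    Sw r1 y1 (cj t r1) (cj t y1) t 1 0 1 0 := by
  have hc : ∀ x, x = r1 ∨ x = y1 → cj (t * t) x = x := by
    rintro x hx
    rcases htt with e | e
    · rw [e, cj_one_left]
    · rw [e]
      apply cj_eq_self
      rcases hx with rfl | rfl
      · exact h.q1.zr
      · exact h.q1.zy
  refine ⟨by simp, by simp, ?_, ?_⟩
  · rw [← cj_mul_left, hc _ (Or.inl rfl), zpow_one]
  · rw [← cj_mul_left, hc _ (Or.inr rfl), zpow_zero, one_mul]

/-- Involutions in the coset `t R` of a swap `t` with `t² ∈ ⟨z⟩`. -/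
theorem Sd.sw_coset (h : Sd S z r1 y1 r2 y2 n n) (ht : t ∈ S) (N : Sw r1 y1 r2 y2 t u1 j1 u2 j2)
    (htt : t * t = 1 ∨ t * t = z) {q : G} (hq : q ∈ RR r1 y1 r2 y2)
    (hi : t * q * (t * q) = 1) : t * t = 1 ∧ ∃ b ∈ closure ({r2, y2} : Set G),
      t * q = b⁻¹ * t * b ∨ t * q = b⁻¹ * t * b * z := by
  obtain ⟨a, ha, b, hb, rfl⟩ := h.mem_R'.1 hq
  have haS : a ∈ S := h.R_le (h.mem_R'.2 ⟨a, ha, 1, one_mem _, by simp⟩)
  have hbS : b ∈ S := h.R_le (h.mem_R'.2 ⟨1, one_mem _, b, hb, by simp⟩)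
  have ca := N.cj_mem1 ha
  have cb := N.cj_mem2 hb
  have e1 : t * (a * b) * (t * (a * b)) = cj t a * cj t b * (t * t) * (a * b) := by
    simp [cj]; group
  have zt : t * t * (a * b) = a * b * (t * t) := by
    rcases htt with e | e
    · rw [e]; simp
    · rw [e]; exact (h.zc (mul_mem haS hbS)).symm
  have e2 : cj t a * cj t b * (t * t) * (a * b) = (cj t b * a) * (cj t a * b) * (t * t) := by
    calc cj t a * cj t b * (t * t) * (a * b) = cj t a * cj t b * (t * t * (a * b)) := by group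
      _ = (cj t a * cj t b) * (a * b) * (t * t) := by rw [zt]; group
      _ = (cj t b * cj t a) * (a * b) * (t * t) := by rw [h.comm cb ca]
      _ = cj t b * (cj t a * a) * b * (t * t) := by group
      _ = cj t b * (a * cj t a) * b * (t * t) := by rw [h.comm ha ca]
      _ = _ := by group
  rw [e1, e2] at hi
  have hzz : t * t * (t * t) = 1 := by
    rcases htt with e | e <;> rw [e]
    · simp
    · exact h.q1.z_sq
  -- `cj t b * a ∈ {1, z}`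
  have m1 : cj t b * a ∈ closure ({r1, y1} : Set G) := mul_mem cb ha
  have m2 : cj t a * b ∈ closure ({r2, y2} : Set G) := mul_mem ca hb
  have hi' : (cj t b * a) * (cj t a * b) = t * t := by
    have := congrArg (· * (t * t)) hi
    simp only [mul_assoc, one_mul] at this hzz ⊢
    rw [hzz, mul_one] at this
    exact this
  have key : cj t b * a = 1 ∨ cj t b * a = z := by
    rcases htt with e | e
    · rw [e] at hi'
      rcases h.mul_eq_one m1 m2 hi' with h3 | h3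
      · exact Or.inl h3.1
      · exact Or.inr h3.1
    · rw [e] at hi'
      rcases h.mul_eq_z m1 m2 hi' with h3 | h3
      · exact Or.inl h3.1
      · exact Or.inr h3.1
  have hb2 : cj (t * t) b = b := by
    rcases htt with e | e
    · rw [e, cj_one_left]
    · rw [e]; exact cj_eq_self (h.zc hbS).symm
  have hzt : ∀ ζ : G, ζ = 1 ∨ ζ = z → cj t ζ = ζ ∧ ζ * b = b * ζ ∧ ζ * ζ = 1 := by
    rintro ζ (rfl | rfl)
    · simp
    · exact ⟨h.cj_z ht, (h.zc hbS).symm, h.q1.z_sq⟩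
  obtain ⟨k1, k2, k3⟩ := hzt _ key
  set ζ := cj t b * a with hζ
  have ea : a = (cj t b)⁻¹ * ζ := by rw [hζ]; group
  have eca : cj t a = b⁻¹ * ζ := by
    rw [ea, cj_mul, cj_inv, ← cj_mul_left, hb2, k1]
  have e3 : cj t a * b = ζ := by rw [eca, mul_assoc, k2, inv_mul_cancel_left]
  have ht1 : t * t = 1 := by
    rw [← hi', e3, k3]
  refine ⟨ht1, b, hb, ?_⟩
  have hti : t⁻¹ = t := inv_eq_of_mul_eq_one_left ht1
  have e4 : t * (a * b) = b⁻¹ * t * b * ζ := by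
    rw [ea]
    calc t * ((cj t b)⁻¹ * ζ * b) = (t * t) * b⁻¹ * t⁻¹ * (ζ * b) := by simp [cj]; group
      _ = _ := by rw [ht1, hti, k2]; group
  rcases key with e | e
  · left; rw [e4, e, mul_one]
  · right; rw [e4, e]

end swaps

end Cfsg.Agent.GH.Q2
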