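import Cfsg.Agent.GH.Q2.FiveD
import Cfsg.Agent.GH.Q2.NF

/-!
# GH-Q, case (II), section 5: the swap `t` and an element `x` of type `(1, 1)`
-/

set_option autoImplicit false

namespace Cfsg.Agent.GH.Q2

open Subgroup

variable {G : Type*} [Group G]

section

variable {S : Subgroup G} {z r1 y1 r2 y2 s s' t k x : G} {n1 n2 n : ℕ} {u1 j1 u2 j2 v1 k1 v2 k2 : ℤ}

theorem Sd.cj_R (h : Sd S z r1 y1 r2 y2 n1 n2) (hs : s ∈ S) (hq : s' ∈ RR r1 y1 r2 y2) :
    cj s s' ∈ RR r1 y1 r2 y2 := by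
  have hco := h.toCo
  have hle : RR r1 y1 r2 y2 ≤ (RR r1 y1 r2 y2).comap (MulAut.conj s).toMonoidHom := by
    conv_lhs => unfold RR
    rw [sup_le_iff, closure_le, closure_le]
    rcases h.act s hs with ⟨u1, j1, u2, j2, N⟩ | ⟨e, u1, j1, u2, j2, N⟩
    · constructor
      · rintro v (rfl | rfl)
        · change cj s v ∈ RR v y1 r2 y2
          rw [N.a1]; exact Subgroup.zpow_mem _ hco.m1 _
        · change cj s v ∈ RR r1 v r2 y2
          rw [N.b1]; exact mul_mem (Subgroup.zpow_mem _ hco.m1 _) hco.m2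
      · rintro v (rfl | rfl)
        · change cj s v ∈ RR r1 y1 v y2
          rw [N.a2]; exact Subgroup.zpow_mem _ hco.m3 _
        · change cj s v ∈ RR r1 y1 r2 v
          rw [N.b2]; exact mul_mem (Subgroup.zpow_mem _ hco.m3 _) hco.m4
    · constructor
      · rintro v (rfl | rfl)
        · change cj s v ∈ RR v y1 r2 y2
          rw [N.a1]; exact Subgroup.zpow_mem _ hco.m3 _
        · change cj s v ∈ RR r1 v r2 y2
          rw [N.b1]; exact mul_mem (Subgroup.zpow_mem _ hco.m3 _) hco.m4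
      · rintro v (rfl | rfl)
        · change cj s v ∈ RR r1 y1 v y2
          rw [N.a2]; exact Subgroup.zpow_mem _ hco.m1 _
        · change cj s v ∈ RR r1 y1 r2 v
          rw [N.b2]; exact mul_mem (Subgroup.zpow_mem _ hco.m1 _) hco.m2
  exact hle hq

theorem TT.a2 (T : TT r1 y1 r2 y2 t) : cj t r2 = r1 := by
  rw [← T.a, ← cj_mul_left, T.tt, cj_one_left]

theorem TT.b2 (T : TT r1 y1 r2 y2 t) : cj t y2 = y1 := by
  rw [← T.b, ← cj_mul_left, T.tt, cj_one_left]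

theorem TT.sw (T : TT r1 y1 r2 y2 t) : Sw r1 y1 r2 y2 t 1 0 1 0 :=
  ⟨by rw [T.a, zpow_one], by rw [T.b, zpow_zero, one_mul], by rw [T.a2, zpow_one], by rw [T.b2, zpow_zero, one_mul]⟩

theorem TT.inv (T : TT r1 y1 r2 y2 t) : t⁻¹ = t := inv_eq_of_mul_eq_one_left T.tt

theorem not_isN (h : Co z r1 y1 r2 y2 n1 n2) (N : Sw r1 y1 r2 y2 s u1 j1 u2 j2) : ¬ IsN r1 y1 r2 y2 s := by
  rintro ⟨_, _, _, _, M⟩
  exact M.not_sw N h

/-- no `q ∈ R` with `t q t⁻¹ = q z`. -/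
theorem TT.noq (T : TT r1 y1 r2 y2 t) (h : Sd S z r1 y1 r2 y2 n n) (ht : t ∈ S) {q : G} (hq : q ∈ RR r1 y1 r2 y2)
    (e : cj t q = q * z) : False := by
  obtain ⟨a, ha, b, hb, rfl⟩ := h.toCo.mem_R'.1 hq
  have ca := T.sw.cj_mem1 ha
  have cb := T.sw.cj_mem2 hb
  have haS : a ∈ S := h.R_le (h.mem_R'.2 ⟨a, ha, 1, one_mem _, by simp⟩)
  have hbS : b ∈ S := h.R_le (h.mem_R'.2 ⟨1, one_mem _, b, hb, by simp⟩)
  have mz : z ∈ closure ({r2, y2} : Set G) := by
    rw [← h.q2.ys]; exact mul_mem (subset_closure (by simp)) (subset_closure (by simp))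
  have hcc : ∀ v : G, cj t (cj t v) = v := fun v => by rw [← cj_mul_left, T.tt, cj_one_left]
  rw [cj_mul, ← h.comm cb ca, mul_assoc] at e
  rcases h.mul_eq_mul cb ca ha (mul_mem hb mz) e with ⟨e1, e2⟩ | ⟨e1, e2⟩
  · rw [← e1, hcc] at e2
    exact h.q1.z_ne (left_eq_mul.1 e2)
  · have e3 := congrArg (cj t) e1
    rw [hcc, cj_mul, e2, h.cj_z ht] at e3
    rw [mul_assoc, mul_assoc, h.q1.z_sq, mul_one] at e3
    exact h.q1.z_ne (left_eq_mul.1 e3)

theorem TT.t_tel (T : TT r1 y1 r2 y2 t) (h : Co z r1 y1 r2 y2 n n) : cj t (tel r1 r2 n n) = tel r1 r2 n n := by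
  unfold tel
  rw [cj_mul, cj_pow, cj_pow, T.a, T.a2, a_comm h]

/-- elements of `S` are in `R`, `xR`, `tR` or `txR`. -/
theorem cases_ns (h : Sd S z r1 y1 r2 y2 n1 n2) (F : Fu S z r1 y1 r2 y2)
    (hz : ∀ g : G, cj g z ∈ RR r1 y1 r2 y2 → cj g z = z) (hx : x ∈ S) (N : Ns r1 y1 r2 y2 x u1 j1 u2 j2) (o1 : Odd j1)
    (o2 : Odd j2) (hs : s ∈ S) (hN : IsN r1 y1 r2 y2 s) : s ∈ RR r1 y1 r2 y2 ∨ x⁻¹ * s ∈ RR r1 y1 r2 y2 := by
  obtain ⟨v1, k1, v2, k2, M⟩ := hN
  rcases Int.even_or_odd k1 with e1 | p1 <;> rcases Int.even_or_odd k2 with e2 | p2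
  · exact Or.inl (h.inR s hs _ _ _ _ M e1 e2)
  · exact (no01 h F hz hs M e1 p2).elim
  · exact (no10 h F hz hs M p1 e2).elim
  · refine Or.inr (h.ns_ns hx hs N M ?_ ?_)
    · rw [← Int.not_odd_iff_even, ← Int.not_odd_iff_even]; tauto
    · rw [← Int.not_odd_iff_even, ← Int.not_odd_iff_even]; tauto

/-- (5.5): `t x t⁻¹ = x z` is impossible. -/
theorem five5 (h : Sd S z r1 y1 r2 y2 n n) (F : Fu S z r1 y1 r2 y2)
    (hz : ∀ g : G, cj g z ∈ RR r1 y1 r2 y2 → cj g z = z) (X : Ex S z t k) (T : TT r1 y1 r2 y2 t) (hx : x ∈ S)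
    (N : Ns r1 y1 r2 y2 x u1 j1 u2 j2) (o1 : Odd j1) (o2 : Odd j2) (e : cj t x = x * z) : False := by
  have hco := h.toCo
  have ht := X.mem
  -- the non-swapping elements commuting with `t`
  have c1 : ∀ w ∈ S, IsN r1 y1 r2 y2 w → cj t w = w → w ∈ RR r1 y1 r2 y2 := by
    intro w hw hN hc
    rcases cases_ns h F hz hx N o1 o2 hw hN with h1 | h1
    · exact h1
    · exfalso
      apply T.noq h ht h1
      have hxz : x⁻¹ * z = z * x⁻¹ := h.zc (S.inv_mem hx)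
      rw [cj_mul, cj_inv, e, hc, mul_inv_rev, h.q1.zz, ← hxz, mul_assoc, mul_assoc, h.zc hw]
  have zt' : cj x t = t * z := by
    have h1 : t * x = x * z * t := by rw [← e]; exact mul_cj _ _
    have h2 : x * (t * z) = t * x := by
      rw [h.zc ht, ← mul_assoc, h1]
    have h3 : cj x (t * z) = t := by rw [cj_def, h2, mul_inv_cancel_right]
    rw [cj_mul, h.cj_z hx] at h3
    rw [← mul_left_inj z, h3, mul_assoc, h.q1.z_sq, mul_one]
  -- involutions commuting with `t`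
  have c2 : ∀ w ∈ S, cj t w = w → w * w = 1 → w ∉ RR r1 y1 r2 y2 → Zt z w := by
    intro w hw hc hww hR
    have h1 : t * w ∈ RR r1 y1 r2 y2 := by
      apply c1 _ (mul_mem ht hw)
      · rw [isN_mul h ht hw]
        constructor
        · intro h2; exact absurd h2 (not_isN hco T.sw)
        · intro h2; exact absurd (c1 w hw h2 hc) hR
      · rw [cj_mul, cj_self, hc]
    have h2 : w = t * (t * w) := by rw [← mul_assoc, T.tt, one_mul]
    obtain ⟨_, b, hb, h3⟩ := h.sw_coset ht T.sw (Or.inl T.tt) h1 (by rw [← h2]; exact hww)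
    have hbS : b ∈ S := h.R_le (h.mem_R'.2 ⟨1, one_mem _, b, hb, by simp⟩)
    rw [← h2] at h3
    rcases h3 with h3 | h3
    · have h4 := X.zt.cj b⁻¹
      have h5 : cj b⁻¹ t = w := by rw [h3, cj_def, inv_inv]
      rwa [h5] at h4
    · have h4 := (X.zt.cj x).cj b⁻¹
      have h5 : cj b⁻¹ (cj x t) = w := by
        rw [zt', cj_mul, h.cj_z (S.inv_mem hbS), h3, cj_def, inv_inv]
      rwa [h5] at h4
  have key : ∀ v ∈ RR r1 y1 r2 y2, cj t v = v → v * v = 1 → v ≠ z → cj k v ∈ RR r1 y1 r2 y2 := by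
    intro v hv hc hvv hne
    by_contra hR
    have h1 : cj k v ∈ S := X.nor v (h.R_le hv) (cj_eq_self_iff.1 hc).symm
    have h2 := c2 _ h1 (by
      have h3 : cj t (cj k v) = cj k (cj t v) := by
        have h4 := cj_cj k t v
        rwa [X.ks] at h4
      rw [h3, hc]) (by rw [← cj_mul, hvv, cj_one]) hR
    exact hne (zt_mem hz (Zt.of_cj h2) hv)
  have mt := tel_mem hco
  have k1 := key _ mt (T.t_tel hco) (tel_sq hco) (tel_ne_z hco)
  have hzt : z * tel r1 r2 n n = tel r1 r2 n n * z := (h.zc (h.R_le mt)).symm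
  have k2 := key (tel r1 r2 n n * z) (mul_mem mt hco.mz) (by rw [cj_mul, T.t_tel hco, h.cj_z ht]) (by
    calc tel r1 r2 n n * z * (tel r1 r2 n n * z) = tel r1 r2 n n * (z * tel r1 r2 n n) * z := by group
      _ = (tel r1 r2 n n * tel r1 r2 n n) * (z * z) := by rw [hzt]; group
      _ = 1 := by rw [tel_sq hco, h.q1.z_sq, one_mul]) (fun h1 => tel_ne_one hco (mul_eq_right.1 h1))
  apply X.false hz
  have h5 : z = tel r1 r2 n n * (tel r1 r2 n n * z) := by rw [← mul_assoc, tel_sq hco, one_mul]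
  rw [h5, cj_mul]
  exact mul_mem k1 k2

end

end Cfsg.Agent.GH.Q2
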