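import Cfsg.Agent.GH.Q2.FiveE

/-!
# GH-Q, case (II), section 5: the case `[x, t] = 1`
-/

set_option autoImplicit false

namespace Cfsg.Agent.GH.Q2

open Subgroup

variable {G : Type*} [Group G]

section

variable {S : Subgroup G} {z r1 y1 r2 y2 s s' t k x : G} {n1 n2 n : ℕ} {u1 j1 u2 j2 v1 k1 v2 k2 a c : ℤ}

/-- squares of elements of `S` are in `R`. -/
theorem sq_R (h : Sd S z r1 y1 r2 y2 n n) (F : Fu S z r1 y1 r2 y2)
    (hz : ∀ g : G, cj g z ∈ RR r1 y1 r2 y2 → cj g z = z) (ht : t ∈ S) (T : TT r1 y1 r2 y2 t) (hs : s ∈ S) :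
    s * s ∈ RR r1 y1 r2 y2 := by
  by_cases hN : IsN r1 y1 r2 y2 s
  · obtain ⟨u1, j1, u2, j2, N⟩ := hN
    exact h.sq_mem hs N
  · have h1 : IsN r1 y1 r2 y2 (t * s) := by
      rw [isN_mul h ht hs]
      exact ⟨fun h2 => absurd h2 (not_isN h.toCo T.sw), fun h2 => absurd h2 hN⟩
    obtain ⟨v1, k1, v2, k2, V⟩ := h1
    have hv : t * s ∈ S := mul_mem ht hs
    have P := T.sw.mul_ns V
    rw [← mul_assoc, T.tt, one_mul] at P
    have PP := P.mul P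
    have o1 := V.odd1 h.toCo
    have o2 := V.odd2 h.toCo
    have hpar : Even k1 ↔ Even k2 := by
      rcases Int.even_or_odd k1 with e1 | p1 <;> rcases Int.even_or_odd k2 with e2 | p2
      · exact ⟨fun _ => e2, fun _ => e1⟩
      · exact (no01 h F hz hv V e1 p2).elim
      · exact (no10 h F hz hv V p1 e2).elim
      · rw [← Int.not_odd_iff_even, ← Int.not_odd_iff_even]; tauto
    refine h.inR _ (mul_mem hs hs) _ _ _ _ PP ?_ ?_
    · rw [one_mul, one_mul, one_mul, add_zero, add_zero, Int.even_add, Int.even_mul]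
      rw [← Int.not_even_iff_odd] at o1 o2
      tauto
    · rw [one_mul, one_mul, one_mul, add_zero, add_zero, Int.even_add, Int.even_mul]
      rw [← Int.not_even_iff_odd] at o1 o2
      tauto

theorem XF.ns (X : XF n1 n2 z r1 y1 r2 y2 x a c) (h : Co z r1 y1 r2 y2 n1 n2) :
    Ns r1 y1 r2 y2 x (1 + 2 ^ (n1 + 1) * a) 1 (1 + 2 ^ (n2 + 1) * a) 1 where
  a1 := by rw [X.a1, zpow_add, zpow_one, zpow_mul, h.q1.rzp]
  b1 := by rw [X.b1, zpow_one]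
  a2 := by rw [X.a2, zpow_add, zpow_one, zpow_mul, h.q2.rzp]
  b2 := by rw [X.b2, zpow_one]

theorem yy_r (h : Qn z r1 y1 n1) : y1 * (r1 * y1) = r1⁻¹ * z := by
  have h1 : y1 * r1 = r1⁻¹ * y1 := by rw [← h.inv]; exact mul_cj _ _
  rw [← mul_assoc, h1, mul_assoc, h.ys]

/-- `(y x)² = t₀^a z^c` -/
theorem XF.yx (X : XF n1 n2 z r1 y1 r2 y2 x a c) (h : Co z r1 y1 r2 y2 n1 n2) :
    (y1 * y2 * x) * (y1 * y2 * x) = r1 ^ (2 ^ n1 * a) * r2 ^ (2 ^ n2 * a) * z ^ c := by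
  have hzr : z * r2⁻¹ = r2⁻¹ * z := by
    rw [eq_inv_mul_iff_mul_eq, ← mul_assoc, h.q2.zr.symm]; group
  have e1 : (y1 * y2 * x) * (y1 * y2 * x) = y1 * y2 * cj x (y1 * y2) * (x * x) := by simp [cj]; group
  have c12 : y2 * (r1 * y1) = r1 * y1 * y2 := by
    rw [← mul_assoc, ← h.ry, mul_assoc, ← h.yy, ← mul_assoc]
  have e2 : y1 * y2 * (r1 * y1 * (r2 * y2)) = r1⁻¹ * r2⁻¹ := by
    calc y1 * y2 * (r1 * y1 * (r2 * y2)) = y1 * (y2 * (r1 * y1)) * (r2 * y2) := by group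
      _ = (y1 * (r1 * y1)) * (y2 * (r2 * y2)) := by rw [c12]; group
      _ = r1⁻¹ * (z * r2⁻¹) * z := by rw [yy_r h.q1, yy_r h.q2]; group
      _ = r1⁻¹ * r2⁻¹ * (z * z) := by rw [hzr]; group
      _ = r1⁻¹ * r2⁻¹ := by rw [h.q1.z_sq, mul_one]
  have hcomm : Commute r1 r2 := h.rr
  have e3 : r1⁻¹ * r2⁻¹ * (r1 ^ (1 + 2 ^ n1 * a) * r2 ^ (1 + 2 ^ n2 * a)) =
      r1 ^ (2 ^ n1 * a) * r2 ^ (2 ^ n2 * a) := by
    have h2 : r2⁻¹ * r1 ^ (1 + 2 ^ n1 * a) = r1 ^ (1 + 2 ^ n1 * a) * r2⁻¹ :=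
      ((hcomm.symm.inv_left).zpow_right _)
    calc r1⁻¹ * r2⁻¹ * (r1 ^ (1 + 2 ^ n1 * a) * r2 ^ (1 + 2 ^ n2 * a)) =
        r1⁻¹ * (r2⁻¹ * r1 ^ (1 + 2 ^ n1 * a)) * r2 ^ (1 + 2 ^ n2 * a) := by group
      _ = (r1⁻¹ * r1 ^ (1 + 2 ^ n1 * a)) * (r2⁻¹ * r2 ^ (1 + 2 ^ n2 * a)) := by rw [h2]; group
      _ = _ := by rw [zpow_one_add, zpow_one_add, inv_mul_cancel_left, inv_mul_cancel_left]
  rw [e1, cj_mul, X.b1, X.b2, e2, X.xx, ← mul_assoc, e3]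

/-- (5.6), `c = 1`. -/
theorem five6c (h : Sd S z r1 y1 r2 y2 n n) (F : Fu S z r1 y1 r2 y2)
    (hz : ∀ g : G, cj g z ∈ RR r1 y1 r2 y2 → cj g z = z) (E : Ex S z t k) (T : TT r1 y1 r2 y2 t) (hx : x ∈ S)
    (X : XF n n z r1 y1 r2 y2 x a 1) (ha : a = 0 ∨ a = 1) (han : a = 1 → 1 ≤ n) (e : cj t x = x) : False := by
  have hco := h.toCo
  have ht := E.mem
  have hw : y1 * y2 * x ∈ S := mul_mem (mul_mem h.h2 h.h4) hx
  have hwt : cj t (y1 * y2 * x) = y1 * y2 * x := by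
    rw [cj_mul, cj_mul, T.b, T.b2, e, h.yy]
  have key : ∀ w ∈ S, cj t w = w → cj k (w * w) ∈ RR r1 y1 r2 y2 := by
    intro w hw hc
    rw [cj_mul]
    exact sq_R h F hz ht T (E.nor w hw (cj_eq_self_iff.1 hc).symm)
  have k1 := key _ hw hwt
  rw [X.yx hco, zpow_one] at k1
  rcases ha with rfl | rfl
  · simp only [mul_zero, zpow_zero, one_mul] at k1
    exact E.false hz k1
  · obtain ⟨m, rfl⟩ : ∃ m, n = m + 1 := ⟨n - 1, by have := han rfl; omega⟩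
    have hv : (r1 * r2) ^ 2 ^ m ∈ S := S.pow_mem (mul_mem h.h1 h.h3) _
    have hvt : cj t ((r1 * r2) ^ 2 ^ m) = (r1 * r2) ^ 2 ^ m := by
      rw [cj_pow, cj_mul, T.a, T.a2, h.rr]
    have k2 := key _ hv hvt
    have e1 : (r1 * r2) ^ 2 ^ m * (r1 * r2) ^ 2 ^ m = tel r1 r2 (m + 1) (m + 1) := by
      rw [← pow_add, ← two_mul, ← pow_succ', (show Commute r1 r2 from h.rr).mul_pow]
      rfl
    have e2 : r1 ^ ((2 : ℤ) ^ (m + 1) * 1) * r2 ^ ((2 : ℤ) ^ (m + 1) * 1) = tel r1 r2 (m + 1) (m + 1) := by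
      unfold tel
      rw [mul_one, ← zpow_natCast, ← zpow_natCast]
      push_cast
      rfl
    rw [e1] at k2
    rw [e2] at k1
    apply E.false hz
    have h5 : z = tel r1 r2 (m + 1) (m + 1) * (tel r1 r2 (m + 1) (m + 1) * z) := by
      rw [← mul_assoc, tel_sq hco, one_mul]
    rw [h5, cj_mul]
    exact mul_mem k2 k1

end

end Cfsg.Agent.GH.Q2
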