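import Cfsg.Agent.GH.Q2.Fus

/-!
# GH-Q, case (II), section 5: the parity subgroup and transfer
-/

set_option autoImplicit false

namespace Cfsg.Agent.GH.Q2

open Subgroup

variable {G : Type*} [Group G]

/-- `s` has even `j1 + j2` (also defined for swaps). -/
def Par (r1 y1 r2 y2 s : G) : Prop :=
  (∃ u1 j1 u2 j2 : ℤ, Ns r1 y1 r2 y2 s u1 j1 u2 j2 ∧ Even (j1 + j2)) ∨
    ∃ u1 j1 u2 j2 : ℤ, Sw r1 y1 r2 y2 s u1 j1 u2 j2 ∧ Even (j1 + j2)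

section

variable {S : Subgroup G} {z r1 y1 r2 y2 s s' : G} {n1 n2 : ℕ} {u1 j1 u2 j2 v1 k1 v2 k2 : ℤ}

theorem par_ns (h : Co z r1 y1 r2 y2 n1 n2) (N : Ns r1 y1 r2 y2 s u1 j1 u2 j2) :
    Par r1 y1 r2 y2 s ↔ Even (j1 + j2) := by
  constructor
  · rintro (⟨v1, k1, v2, k2, N', e⟩ | ⟨v1, k1, v2, k2, N', e⟩)
    · have p1 := N.parity1 N' h
      have p2 := N.parity2 N' h
      rw [Int.even_add] at e ⊢
      rw [p1, p2, e]
    · exact (N.not_sw N' h).elim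
  · intro e
    exact Or.inl ⟨_, _, _, _, N, e⟩

theorem par_sw (h : Co z r1 y1 r2 y2 n1 n2) (N : Sw r1 y1 r2 y2 s u1 j1 u2 j2) :
    Par r1 y1 r2 y2 s ↔ Even (j1 + j2) := by
  constructor
  · rintro (⟨v1, k1, v2, k2, N', e⟩ | ⟨v1, k1, v2, k2, N', e⟩)
    · exact (N'.not_sw N h).elim
    · have p1 := N.parity1 N' h
      have p2 := N.parity2 N' h
      rw [Int.even_add] at e ⊢
      rw [p1, p2, e]
  · intro e
    exact Or.inr ⟨_, _, _, _, N, e⟩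

theorem Ns.odd (N : Ns r1 y1 r2 y2 s u1 j1 u2 j2) (h : Co z r1 y1 r2 y2 n1 n2) : Odd u1 ∧ Odd u2 :=
  ⟨N.odd1 h, N.odd2 h⟩

theorem par_aux {u1 u2 k1 k2 j1 j2 : ℤ} (h1 : Odd u1) (h2 : Odd u2) :
    Even ((u1 * k1 + j1) + (u2 * k2 + j2)) ↔ (Even (j1 + j2) ↔ Even (k1 + k2)) := by
  obtain ⟨a, rfl⟩ := h1
  obtain ⟨b, rfl⟩ := h2
  simp only [Int.even_add, Int.even_mul, even_two, true_or, Int.not_even_one, iff_false, not_true_eq_false,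
    false_or]
  tauto

theorem par_mul (h : Sd S z r1 y1 r2 y2 n1 n2) (hs : s ∈ S) (hs' : s' ∈ S) :
    Par r1 y1 r2 y2 (s * s') ↔ (Par r1 y1 r2 y2 s ↔ Par r1 y1 r2 y2 s') := by
  rcases h.act s hs with ⟨u1, j1, u2, j2, N⟩ | ⟨e, u1, j1, u2, j2, N⟩ <;>
  rcases h.act s' hs' with ⟨v1, k1, v2, k2, N'⟩ | ⟨e', v1, k1, v2, k2, N'⟩
  · rw [par_ns h.toCo (N.mul N'), par_ns h.toCo N, par_ns h.toCo N']
    exact par_aux (N.odd1 h.toCo) (N.odd2 h.toCo)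
  · rw [par_sw h.toCo (N.mul_sw N'), par_ns h.toCo N, par_sw h.toCo N']
    rw [par_aux (N.odd2 h.toCo) (N.odd1 h.toCo), add_comm j2 j1]
  · subst e
    rw [par_sw h.toCo (N.mul_ns N'), par_sw h.toCo N, par_ns h.toCo N']
    exact par_aux (N.odd1 h.toCo) (N.odd2 h.toCo)
  · subst e
    rw [par_ns h.toCo (N.mul N'), par_sw h.toCo N, par_sw h.toCo N']
    rw [par_aux (N.odd2 h.toCo) (N.odd1 h.toCo), add_comm j2 j1]

theorem par_one : Par r1 y1 r2 y2 1 := Or.inl ⟨1, 0, 1, 0, Ns.one, by simp⟩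

/-- The subgroup of `S` of the elements with even `j1 + j2`. -/
def MP (h : Sd S z r1 y1 r2 y2 n1 n2) : Subgroup G where
  carrier := {s | s ∈ S ∧ Par r1 y1 r2 y2 s}
  mul_mem' := by
    rintro a b ⟨ha, pa⟩ ⟨hb, pb⟩
    exact ⟨mul_mem ha hb, (par_mul h ha hb).2 ⟨fun _ => pb, fun _ => pa⟩⟩
  one_mem' := ⟨one_mem S, par_one⟩
  inv_mem' := by
    rintro a ⟨ha, pa⟩
    refine ⟨inv_mem ha, ?_⟩
    have h1 := par_mul h ha (inv_mem ha)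
    rw [mul_inv_cancel] at h1
    exact (h1.1 par_one).1 pa

theorem mem_MP (h : Sd S z r1 y1 r2 y2 n1 n2) : s ∈ MP h ↔ s ∈ S ∧ Par r1 y1 r2 y2 s := Iff.rfl

theorem MP_le (h : Sd S z r1 y1 r2 y2 n1 n2) : MP h ≤ S := fun _ hs => hs.1

theorem R_le_MP (h : Sd S z r1 y1 r2 y2 n1 n2) : RR r1 y1 r2 y2 ≤ MP h := by
  intro s hs
  refine ⟨h.R_le hs, ?_⟩
  obtain ⟨i, j, h1⟩ := h.ns_of_mem hs
  have e : Even (2 * i + 2 * j) := (even_two_mul i).add (even_two_mul j)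
  rcases h1 with ⟨_, M⟩ | ⟨_, M⟩ | ⟨_, M⟩ | ⟨_, M⟩ <;> exact (par_ns h.toCo M).2 e

theorem MP_relIndex (h : Sd S z r1 y1 r2 y2 n1 n2) (hs : s ∈ S) (N : Ns r1 y1 r2 y2 s u1 j1 u2 j2)
    (hj : ¬ Even (j1 + j2)) : (MP h).relIndex S = 2 := by
  rw [relIndex_eq_two_iff]
  refine ⟨s, hs, fun b hb => ?_⟩
  have hp : ¬ Par r1 y1 r2 y2 s := by rwa [par_ns h.toCo N]
  have h1 := par_mul h hb hs
  rw [mem_MP, mem_MP]
  by_cases hpb : Par r1 y1 r2 y2 b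
  · right
    refine ⟨⟨hb, hpb⟩, ?_⟩
    rintro ⟨_, h2⟩
    exact hp ((h1.1 h2).1 hpb)
  · left
    refine ⟨⟨mul_mem hb hs, h1.2 ⟨fun h2 => absurd h2 hpb, fun h2 => absurd h2 hp⟩⟩, ?_⟩
    rintro ⟨_, h2⟩
    exact hpb h2

/-- transfer: `M` of index two in `S`, `s` an involution outside, `z` a power of `w ∈ C_S(s)`. -/
theorem tr1 (F : Fu S z r1 y1 r2 y2) (hz : ∀ g : G, cj g z ∈ RR r1 y1 r2 y2 → cj g z = z) {M : Subgroup G}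
    (hRM : RR r1 y1 r2 y2 ≤ M) (hMS : M ≤ S) (hidx : M.relIndex S = 2) (hs : s ∈ S) (hsM : s ∉ M) (hss : s * s = 1)
    {w : G} {k : ℕ} (hw : w ∈ S) (hws : w * s = s * w) (hwk : w ^ k = z)
    (hk : ∀ u ∈ S, u ^ k ∈ RR r1 y1 r2 y2) : False := by
  obtain ⟨g, hg1, hg2⟩ := F.t1 M hMS hidx s hs hsM hss
  have h1 : cj g z = z := by
    apply hz
    rw [← hwk, cj_pow]
    exact hk _ (hg2 w hw hws)
  obtain ⟨v, hv, hv2⟩ := F.f2 g s h1 hs (hMS hg1)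
  have h3 : cj v s ∈ M := by
    have h4 := M.mul_mem (M.inv_mem (hRM hv2)) hg1
    have h5 : (cj g s * (cj v s)⁻¹)⁻¹ * cj g s = cj v s := by group
    rwa [h5] at h4
  have hTn : (M.subgroupOf S).Normal := Subgroup.normal_of_index_eq_two hidx
  have h6 := hTn.conj_mem ⟨cj v s, hMS h3⟩ (mem_subgroupOf.2 h3) ⟨v⁻¹, S.inv_mem hv⟩
  have h7 : cj v⁻¹ (cj v s) ∈ M := h6
  rw [cj_inv_cj] at h7
  exact hsM h7

end

end Cfsg.Agent.GH.Q2
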