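import Cfsg.Agent.GH.Q2.FourBase
import Cfsg.Agent.GH.Q2.NF

/-!
# GH-Q, case (II), section 4: squares, commuting elements, no swap
-/

set_option autoImplicit false

namespace Cfsg.Agent.GH.Q2.Four

open Subgroup

variable {G : Type*} [Group G]

section

variable {S : Subgroup G} {z t k r1 y1 r2 y2 s w : G} {u1 j1 u2 j2 v1 k1 v2 k2 : ℤ}

theorem cj_mem (hs : s ∈ S) (hw : w ∈ S) : cj s w ∈ S := mul_mem (mul_mem hs hw) (inv_mem hs)

/-- conjugating `Al` by an element of `S`. -/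
theorem al_conj (a : Al S z t k) (hs : s ∈ S) (hz : cj s z = z) : Al S z (cj s t) (cj s k) where
  hz := by
    have := cj_cj s k z
    rw [hz] at this
    rw [this, a.hz]
  ht := by rw [cj_cj, a.ht, hz]
  hh := by
    rw [← cj_mul]
    exact cj_mem hs a.hh
  nor w hw hwt := by
    have h1 : cj s⁻¹ w * t = t * cj s⁻¹ w := by
      have := congrArg (cj s⁻¹) hwt
      simpa [cj_mul] using this
    have h2 := cj_mem hs (a.nor _ (cj_mem (inv_mem hs) hw) h1)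
    rw [← cj_cj, cj_cj_inv] at h2
    exact h2

theorem t_z_ne (h : Co z r1 y1 r2 y2 0 0) : r1 * r2 * z ≠ 1 := by
  intro e
  apply t_ne_z h
  have : r1 * r2 = z⁻¹ := eq_inv_of_mul_eq_one_left e
  rw [this, h.q1.zz]

theorem cj_y1_t (h : Co z r1 y1 r2 y2 0 0) : cj y1 (r1 * r2) = r1 * r2 * z := by
  rw [cj_mul, h.q1.inv, rinv h.q1, cj_eq_self h.yr, mul_assoc, h.q2.zr, mul_assoc]

/-- if `r2 ^ u` replaces `r2` -/
theorem al_change (h : Sd S z r1 y1 r2 y2 0 0) (a : Al S z (r1 * r2) k) {u : ℤ} (hu : Odd u) :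
    ∃ k', Al S z (r1 * r2 ^ u) k' := by
  rcases odd_zpow h.q2 hu with e | e
  · exact ⟨k, by rw [e]; exact a⟩
  · refine ⟨cj y1 k, ?_⟩
    rw [e, ← mul_assoc, ← cj_y1_t h.toCo]
    exact al_conj a h.h2 (h.cj_z h.h2)

theorem yy_sq (h : Co z r1 y1 r2 y2 0 0) : (y1 * y2) * (y1 * y2) = 1 := by
  calc (y1 * y2) * (y1 * y2) = y1 * (y2 * y1) * y2 := by group
    _ = (y1 * y1) * (y2 * y2) := by rw [← h.yy]; group
    _ = 1 := by rw [h.q1.ys, h.q2.ys, h.q1.z_sq]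

theorem cj_yy (h : Co z r1 y1 r2 y2 0 0) (i j : ℤ) :
    cj (y1 * y2) (r1 ^ i * r2 ^ j) = r1 ^ (-i) * r2 ^ (-j) := by
  have e1 : cj y2 r1 = r1 := cj_eq_self h.ry.symm
  have e2 : cj y1 r2 = r2 := cj_eq_self h.yr
  rw [cj_mul_left, cj_mul, cj_mul, h.q2.cj_y_zpow, cj_zpow, e1, h.q1.cj_y_zpow, cj_zpow, e2]

theorem y_t (h : Co z r1 y1 r2 y2 0 0) : (y1 * y2) * (r1 * r2) = (r1 * r2) * (y1 * y2) := by
  have h1 := h.ns_y1.mul h.ns_y2
  exact comm_t_of h h1 (by right; constructor <;> norm_num)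

theorem t_r1 (h : Co z r1 y1 r2 y2 0 0) : r1 * (r1 * r2) = (r1 * r2) * r1 := by
  rw [mul_assoc, ← h.rr]

theorem t_r2 (h : Co z r1 y1 r2 y2 0 0) : r2 * (r1 * r2) = (r1 * r2) * r2 := by
  rw [← mul_assoc, ← h.rr]

theorem four_r1 (h : Co z r1 y1 r2 y2 0 0) : ∀ i : ℤ, Odd i → r1 ^ i ≠ 1 ∧ r1 ^ i ≠ z :=
  fun _ hi => ⟨fun e => h.q1.odd_ne hi (Or.inl e), fun e => h.q1.odd_ne hi (Or.inr e)⟩

/-- squares of non-swaps -/
theorem ns_sq (h : Sd S z r1 y1 r2 y2 0 0) (hs : s ∈ S) (N : Ns r1 y1 r2 y2 s u1 j1 u2 j2) :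
    ∃ i j : ℤ, s * s = r1 ^ i * r2 ^ j ∧ (Odd i ↔ (Odd j1 ∧ (4 : ℤ) ∣ u1 - 1)) ∧
      (Odd j ↔ (Odd j2 ∧ (4 : ℤ) ∣ u2 - 1)) := by
  have hsq := h.sq_mem hs N
  have NN := N.mul N
  obtain ⟨i, j, hc⟩ := h.ns_of_mem hsq
  have four : ∀ u : ℤ, Odd u → (4 : ℤ) ∣ u * u - 1 := by
    rintro u ⟨m, rfl⟩
    exact ⟨m * m + m, by ring⟩
  have c11 : cj (s * s) r1 = r1 := by
    rw [NN.a1, zpow_plus h.q1 (four _ (N.odd1 h.toCo))]
  have c22 : cj (s * s) r2 = r2 := by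
    rw [NN.a2, zpow_plus h.q2 (four _ (N.odd2 h.toCo))]
  have hA : s * s = r1 ^ i * r2 ^ j ∧ Ns r1 y1 r2 y2 (s * s) 1 (2 * i) 1 (2 * j) := by
    rcases hc with ⟨e, M⟩ | ⟨_, M⟩ | ⟨_, M⟩ | ⟨_, M⟩
    · exact ⟨e, M⟩
    · have h1 := M.a1.symm.trans c11
      rw [zpow_neg_one] at h1
      exact absurd h1.symm h.q1.r_ne_inv
    · have h1 := M.a2.symm.trans c22
      rw [zpow_neg_one] at h1
      exact absurd h1.symm h.q2.r_ne_inv
    · have h1 := M.a1.symm.trans c11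
      rw [zpow_neg_one] at h1
      exact absurd h1.symm h.q1.r_ne_inv
  obtain ⟨e, M⟩ := hA
  have key : ∀ {r y : G} (_ : Qn z r y 0) (u j i : ℤ), Odd u →
      r ^ (u * j + j) * y = r ^ (2 * i) * y → (Odd i ↔ (Odd j ∧ (4 : ℤ) ∣ u - 1)) := by
    intro r y q u j i hu he
    have he := mul_right_cancel he
    rw [zeq q] at he
    have he' : (4 : ℤ) ∣ 2 * i - (u + 1) * j := by
      have : 2 * i - (u + 1) * j = -(u * j + j - 2 * i) := by ring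
      rw [this]
      exact dvd_neg.2 he
    rcases odd_mod hu with h1 | h1
    · rw [par_plus h1 he']
      tauto
    · have h2 := par_minus h1 he'
      have h3 : ¬ (4 : ℤ) ∣ u - 1 := by omega
      rw [← Int.not_even_iff_odd]
      tauto
  exact ⟨i, j, e, key h.q1 _ _ _ (N.odd1 h.toCo) (NN.b1.symm.trans M.b1),
    key h.q2 _ _ _ (N.odd2 h.toCo) (NN.b2.symm.trans M.b2)⟩

/-- fourth powers of non-swaps -/
theorem ns_four (h : Sd S z r1 y1 r2 y2 0 0) (hs : s ∈ S) (N : Ns r1 y1 r2 y2 s u1 j1 u2 j2) :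
    s * s * (s * s) = 1 ∨ s * s * (s * s) = z := by
  obtain ⟨i, j, e, _, _⟩ := ns_sq h hs N
  rw [e, A0_sq h.toCo]
  exact h.q1.zpow_one_or _

/-- a non-swap whose square is `r1 ^ i * r2 ^ j` with `i`, `j` odd -/
theorem ns_root (h : Sd S z r1 y1 r2 y2 0 0) (hs : s ∈ S) (N : Ns r1 y1 r2 y2 s u1 j1 u2 j2)
    {i j : ℤ} (hi : Odd i) (hj : Odd j) (e : s * s = r1 ^ i * r2 ^ j) :
    Odd j1 ∧ (4 : ℤ) ∣ u1 - 1 ∧ Odd j2 ∧ (4 : ℤ) ∣ u2 - 1 := by
  obtain ⟨i', j', e', p1, p2⟩ := ns_sq h hs N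
  have h1 := Sd.A0_parity h.toCo (e.symm.trans e')
  rw [← Int.not_odd_iff_even, ← Int.not_odd_iff_even, ← Int.not_odd_iff_even,
    ← Int.not_odd_iff_even, p1, p2] at h1
  tauto

/-- elements of `R` centralizing `r1`, `r2` -/
theorem R_cen (h : Co z r1 y1 r2 y2 0 0) (hs : s ∈ RR r1 y1 r2 y2) (c1 : cj s r1 = r1)
    (c2 : cj s r2 = r2) : ∃ i j : ℤ, s = r1 ^ i * r2 ^ j := by
  obtain ⟨i, j, hc⟩ := h.ns_of_mem hs
  rcases hc with ⟨e, M⟩ | ⟨_, M⟩ | ⟨_, M⟩ | ⟨_, M⟩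
  · exact ⟨i, j, e⟩
  · have h1 := M.a1.symm.trans c1
    rw [zpow_neg_one] at h1
    exact absurd h1.symm h.q1.r_ne_inv
  · have h1 := M.a2.symm.trans c2
    rw [zpow_neg_one] at h1
    exact absurd h1.symm h.q2.r_ne_inv
  · have h1 := M.a1.symm.trans c1
    rw [zpow_neg_one] at h1
    exact absurd h1.symm h.q1.r_ne_inv

/-- elements of `R` centralizing `t` -/
theorem R_t (h : Co z r1 y1 r2 y2 0 0) (hs : s ∈ RR r1 y1 r2 y2)
    (hst : s * (r1 * r2) = r1 * r2 * s) :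
    ∃ i j : ℤ, s = r1 ^ i * r2 ^ j ∨ s = r1 ^ i * r2 ^ j * (y1 * y2) := by
  obtain ⟨i, j, hc⟩ := h.ns_of_mem hs
  refine ⟨i, j, ?_⟩
  rcases hc with ⟨e, M⟩ | ⟨_, M⟩ | ⟨_, M⟩ | ⟨e, M⟩
  · exact Or.inl e
  · have := comm_t h M hst
    norm_num at this
  · have := comm_t h M hst
    norm_num at this
  · right
    have hc : y1 * r2 ^ j = r2 ^ j * y1 :=
      (Commute.zpow_right (show Commute y1 r2 from h.yr) j)
    rw [e]
    calc r1 ^ i * y1 * (r2 ^ j * y2) = r1 ^ i * (y1 * r2 ^ j) * y2 := by group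
      _ = _ := by rw [hc]; group

/-- two non-swaps of the same type with signs `+` commute. -/
theorem plus_comm (h : Sd S z r1 y1 r2 y2 0 0) (hs : s ∈ S) (hw : w ∈ S)
    (N : Ns r1 y1 r2 y2 s u1 j1 u2 j2) (M : Ns r1 y1 r2 y2 w v1 k1 v2 k2)
    (p1 : (4 : ℤ) ∣ u1 - 1) (p2 : (4 : ℤ) ∣ u2 - 1) (q1 : (4 : ℤ) ∣ v1 - 1)
    (q2 : (4 : ℤ) ∣ v2 - 1) (e1 : Even j1 ↔ Even k1) (e2 : Even j2 ↔ Even k2) :
    s * w = w * s := by
  have hR := h.ns_ns hs hw N M e1 e2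
  have a1 : cj s r1 = r1 := by rw [N.a1, zpow_plus h.q1 p1]
  have a2 : cj s r2 = r2 := by rw [N.a2, zpow_plus h.q2 p2]
  have b1 : cj w r1 = r1 := by rw [M.a1, zpow_plus h.q1 q1]
  have b2 : cj w r2 = r2 := by rw [M.a2, zpow_plus h.q2 q2]
  have inv : ∀ r, cj s r = r → cj s⁻¹ r = r := by
    intro r hr
    conv_lhs => rw [← hr]
    exact cj_inv_cj _ _
  obtain ⟨i, j, e⟩ := R_cen h.toCo hR (by rw [cj_mul_left, b1, inv _ a1])
    (by rw [cj_mul_left, b2, inv _ a2])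
  have h1 : cj s (s⁻¹ * w) = s⁻¹ * w := by
    rw [e, cj_mul, cj_zpow, cj_zpow, a1, a2]
  rw [cj_mul, cj_inv, cj_self] at h1
  exact cj_eq_self_iff.1 (mul_left_cancel h1)

theorem change2 (h : Sd S z r1 y1 r2 y2 0 0) {a b : ℤ} (ha : Odd a) (hb : Odd b) :
    Sd S z (r1 ^ a) y1 (r2 ^ b) y2 0 0 ∧ RR (r1 ^ a) y1 (r2 ^ b) y2 = RR r1 y1 r2 y2 := by
  have h1 := h.change (u := b) (j := 0) hb
  have e1 := h.toCo.RR_change (u := b) (j := 0) hb
  rw [zpow_zero, one_mul] at h1 e1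
  have h2 := h1.symm.change (u := a) (j := 0) ha
  have e2 := h1.symm.toCo.RR_change (u := a) (j := 0) ha
  rw [zpow_zero, one_mul] at h2 e2
  refine ⟨h2.symm, ?_⟩
  rw [Co.RR_symm, e2, Co.RR_symm, e1]

/-- no element of type `(1, 0)` -/
theorem no_e (h : Sd S z r1 y1 r2 y2 0 0) (a : Al S z (r1 * r2) k)
    (hns : ∀ s ∈ S, ∃ u1 j1 u2 j2 : ℤ, Ns r1 y1 r2 y2 s u1 j1 u2 j2) (hs : s ∈ S)
    (N : Ns r1 y1 r2 y2 s u1 j1 u2 j2) (o1 : Odd j1) (o2 : Even j2) : False := by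
  obtain ⟨e, he, -, b, c, hb, -, E, -, hb1⟩ := h.nf_e hs N o1 o2
  have hb0 : b = 0 := by
    rcases hb with hb | hb
    · exact hb
    · exact absurd (hb1 hb) (by norm_num)
  have a2 := E.a2
  rw [hb0, zpow_zero, mul_one] at a2
  have het : e * (r1 * r2) = r1 * r2 * e := by
    rw [← cj_eq_self_iff, cj_mul, E.a1, a2]
  have e4 : e * e * (e * e) = z := by
    have hzz : z ^ c * z ^ c = 1 := by
      rcases h.q1.zpow_one_or c with hc | hc <;> rw [hc]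
      · simp
      · exact h.q1.z_sq
    have hc : Commute (z ^ c) r1 := (Commute.zpow_left (show Commute z r1 from h.q1.zr) c)
    rw [E.ee]
    calc r1 * z ^ c * (r1 * z ^ c) = r1 * (z ^ c * r1) * z ^ c := by group
      _ = r1 * r1 * (z ^ c * z ^ c) := by rw [hc.eq]; group
      _ = z := by rw [rr_sq h.q1, hzz, mul_one]
  have hk := a.nor e he het
  obtain ⟨_, _, _, _, M⟩ := hns _ hk
  have h4 := ns_four h hk M
  rw [← cj_mul, ← cj_mul, e4, a.hz] at h4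
  rcases h4 with h4 | h4
  · exact t_ne_one h.toCo h4
  · exact t_ne_z h.toCo h4

/-- Case A: no swap. -/
theorem caseA (h : Sd S z r1 y1 r2 y2 0 0) (a : Al S z (r1 * r2) k)
    (hns : ∀ s ∈ S, ∃ u1 j1 u2 j2 : ℤ, Ns r1 y1 r2 y2 s u1 j1 u2 j2) : Tg S z := by
  set x := cj k r1 with hxd
  have hx : x ∈ S := a.nor r1 h.h1 (t_r1 h.toCo)
  have xx : x * x = r1 * r2 := by rw [hxd, ← cj_mul, rr_sq h.q1, a.hz]
  have xx' : x * x = r1 ^ (1 : ℤ) * r2 ^ (1 : ℤ) := by rw [zpow_one, zpow_one, xx]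
  obtain ⟨u1, j1, u2, j2, N⟩ := hns x hx
  obtain ⟨o1, p1, o2, p2⟩ := ns_root h hx N odd_one odd_one xx'
  have all : ∀ s ∈ S, s ∈ RR r1 y1 r2 y2 ∨ x⁻¹ * s ∈ RR r1 y1 r2 y2 := by
    intro s hs
    obtain ⟨v1, k1, v2, k2, M⟩ := hns s hs
    have hns' : ∀ s ∈ S, ∃ u1 j1 u2 j2 : ℤ, Ns r2 y2 r1 y1 s u1 j1 u2 j2 := by
      intro s hs
      obtain ⟨v1, k1, v2, k2, M⟩ := hns s hs
      exact ⟨_, _, _, _, M.symm⟩
    have a' : Al S z (r2 * r1) k := by rw [← h.rr]; exact a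
    rcases Int.even_or_odd k1 with q1 | q1 <;> rcases Int.even_or_odd k2 with q2 | q2
    · exact Or.inl (h.inR s hs _ _ _ _ M q1 q2)
    · exact (no_e h.symm a' hns' hs M.symm q2 q1).elim
    · exact (no_e h a hns hs M q1 q2).elim
    · right
      refine h.ns_ns hx hs N M ?_ ?_
      · rw [← Int.not_odd_iff_even, ← Int.not_odd_iff_even]; tauto
      · rw [← Int.not_odd_iff_even, ← Int.not_odd_iff_even]; tauto
  obtain ⟨h', hRR⟩ := change2 h o1 o2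
  have x1 : cj x r1 = r1 := by rw [N.a1, zpow_plus h.q1 p1]
  have x2 : cj x r2 = r2 := by rw [N.a2, zpow_plus h.q2 p2]
  rcases A0_form h.toCo o1 o2 with e | e
  · refine ⟨r1 ^ j1, y1, r2 ^ j2, y2, 0, h', Or.inl ⟨x, hx, ?_, ?_⟩⟩
    · exact ⟨by rw [xx, e], by rw [cj_zpow, x1], by rw [cj_zpow, x2], N.b1, N.b2⟩
    · rw [hRR]
      exact all
  · exfalso
    have hc : y1 * r2 ^ j2 = r2 ^ j2 * y1 :=
      (Commute.zpow_right (show Commute y1 r2 from h.yr) j2)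
    have hxy : cj x (y1 * y2) = r1 * r2 * z * (y1 * y2) := by
      rw [cj_mul, N.b1, N.b2, ← e]
      calc r1 ^ j1 * y1 * (r2 ^ j2 * y2) = r1 ^ j1 * (y1 * r2 ^ j2) * y2 := by group
        _ = _ := by rw [hc]; group
    set y := y1 * y2 with hy
    have hyS : y ∈ S := mul_mem h.h2 h.h4
    have hxt : x * (r1 * r2) = r1 * r2 * x := by rw [← cj_eq_self_iff, cj_mul, x1, x2]
    have hwt : x * y * (r1 * r2) = r1 * r2 * (x * y) := by
      rw [mul_assoc, y_t h.toCo, ← mul_assoc, hxt, mul_assoc]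
    have hw2 : x * y * (x * y) = z := by
      have hzt : z * (r1 * r2) = r1 * r2 * z := (h.zc (mul_mem h.h1 h.h3)).symm
      have tt := t_sq h.toCo
      have hyt : y * (r1 * r2) = r1 * r2 * y := y_t h.toCo
      have hyy : y * y = 1 := yy_sq h.toCo
      calc x * y * (x * y) = cj x y * (x * x) * y := by simp [cj]; group
        _ = r1 * r2 * z * (y * (r1 * r2)) * y := by rw [hxy, xx]; group
        _ = r1 * r2 * (z * (r1 * r2)) * (y * y) := by rw [hyt]; group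
        _ = (r1 * r2 * (r1 * r2)) * z := by rw [hzt, hyy]; group
        _ = z := by rw [tt, one_mul]
    have hs2 := a.nor (x * y) (mul_mem hx hyS) hwt
    obtain ⟨v1, k1, v2, k2, M⟩ := hns _ hs2
    have ss : cj k (x * y) * cj k (x * y) = r1 ^ (1 : ℤ) * r2 ^ (1 : ℤ) := by
      rw [← cj_mul, hw2, a.hz, zpow_one, zpow_one]
    obtain ⟨o1', p1', o2', p2'⟩ := ns_root h hs2 M odd_one odd_one ss
    have hcomm := plus_comm h hx hs2 N M p1 p2 p1' p2'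
      (by rw [← Int.not_odd_iff_even, ← Int.not_odd_iff_even]; tauto)
      (by rw [← Int.not_odd_iff_even, ← Int.not_odd_iff_even]; tauto)
    rw [hxd, ← cj_mul, ← cj_mul] at hcomm
    have hcomm := cj_inj hcomm
    rw [← hxd] at hcomm
    have h1 : cj (x * y) r1 = r1 := cj_eq_self hcomm.symm
    have h2 : cj y r1 = r1⁻¹ := by
      have := cj_yy h.toCo 1 0
      simpa using this
    rw [cj_mul_left, h2, cj_inv, x1] at h1
    exact h.q1.r_ne_inv h1.symm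

end

end Cfsg.Agent.GH.Q2.Four
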