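import Cfsg.Agent.GH.Q2.Fus

/-!
# GH-Q, case (II), section 4: preliminaries for two quaternion groups of order eight
-/

set_option autoImplicit false

namespace Cfsg.Agent.GH.Q2.Four

open Subgroup

variable {G : Type*} [Group G]

/-! ### arithmetic modulo four -/

theorem odd_mod {u : ℤ} (hu : Odd u) : (4 : ℤ) ∣ u - 1 ∨ (4 : ℤ) ∣ u + 1 := by
  obtain ⟨k, rfl⟩ := hu
  omega

theorem par_plus {u i j : ℤ} (hu : (4 : ℤ) ∣ u - 1) (h : (4 : ℤ) ∣ 2 * i - (u + 1) * j) :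
    (Odd i ↔ Odd j) := by
  obtain ⟨k, hk⟩ := hu
  have e : (u + 1) * j = 4 * (k * j) + 2 * j := by
    have : u = 4 * k + 1 := by linarith
    rw [this]; ring
  rw [e] at h
  generalize k * j = m at h
  rw [Int.odd_iff, Int.odd_iff]
  omega

theorem par_minus {u i j : ℤ} (hu : (4 : ℤ) ∣ u + 1) (h : (4 : ℤ) ∣ 2 * i - (u + 1) * j) :
    Even i := by
  obtain ⟨k, hk⟩ := hu
  rw [hk] at h
  have e : 4 * k * j = 4 * (k * j) := by ring
  rw [e] at h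
  generalize k * j = m at h
  rw [Int.even_iff]
  omega

/-- `(u s) k + j = (u w) j + k` modulo four with `u s = -1`, `u w = 1` gives `k` even. -/
theorem comm_par {us js uw kw : ℤ} (h1 : (4 : ℤ) ∣ us + 1) (h2 : (4 : ℤ) ∣ uw - 1)
    (h : (4 : ℤ) ∣ (us * kw + js) - (uw * js + kw)) : Even kw := by
  obtain ⟨a, ha⟩ := h1
  obtain ⟨b, hb⟩ := h2
  have e : (us * kw + js) - (uw * js + kw) = 4 * (a * kw - b * js) - 2 * kw := by
    have e1 : us = 4 * a - 1 := by linarith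
    have e2 : uw = 4 * b + 1 := by linarith
    rw [e1, e2]; ring
  rw [e] at h
  generalize a * kw - b * js = m at h
  rw [Int.even_iff]
  omega

/-! ### one quaternion group -/

section one

variable {z r y : G}

theorem zp2 (h : Qn z r y 0) (i : ℤ) : r ^ (2 * i) = z ^ i := by
  rw [zpow_mul]
  congr 1
  have h1 : r ^ (2 : ℤ) = r ^ ((2 : ℤ) ^ (0 + 1)) := by norm_num
  exact h1.trans h.rzp

theorem zeq (h : Qn z r y 0) {i j : ℤ} : r ^ i = r ^ j ↔ (4 : ℤ) ∣ i - j := by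
  have := h.zpow_eq (i := i) (j := j)
  norm_num at this
  exact this

theorem zeq1 (h : Qn z r y 0) {i : ℤ} : r ^ i = 1 ↔ (4 : ℤ) ∣ i := by
  have := h.zpow_eq_one (i := i)
  norm_num at this
  exact this

theorem zpow_plus (h : Qn z r y 0) {u : ℤ} (hu : (4 : ℤ) ∣ u - 1) : r ^ u = r := by
  have : r ^ u = r ^ (1 : ℤ) := (zeq h).2 hu
  rwa [zpow_one] at this

theorem zpow_minus (h : Qn z r y 0) {u : ℤ} (hu : (4 : ℤ) ∣ u + 1) : r ^ u = r⁻¹ := by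
  have : r ^ u = r ^ (-1 : ℤ) := (zeq h).2 (by simpa using hu)
  rwa [zpow_neg_one] at this

theorem rinv (h : Qn z r y 0) : r⁻¹ = r * z := by
  have h1 := zp2 h 1
  rw [zpow_one, mul_one] at h1
  have h2 : r⁻¹ = r ^ (-1 : ℤ) := (zpow_neg_one r).symm
  rw [h2, ← h1]
  have : r * r ^ (2 : ℤ) = r ^ (3 : ℤ) := by
    rw [show (3 : ℤ) = 1 + 2 by norm_num, zpow_add, zpow_one]
  rw [this, zeq h]
  norm_num

theorem rr_sq (h : Qn z r y 0) : r * r = z := by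
  have h1 := zp2 h 1
  rw [zpow_one, mul_one, zpow_two] at h1
  exact h1

theorem odd_zpow (h : Qn z r y 0) {i : ℤ} (hi : Odd i) : r ^ i = r ∨ r ^ i = r * z := by
  rcases odd_mod hi with h1 | h1
  · exact Or.inl (zpow_plus h h1)
  · exact Or.inr ((zpow_minus h h1).trans (rinv h))

theorem even_zpow (h : Qn z r y 0) {i : ℤ} (hi : Even i) : r ^ i = 1 ∨ r ^ i = z := by
  obtain ⟨k, rfl⟩ := hi
  rw [← two_mul, zp2 h]
  exact h.zpow_one_or k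

theorem z_even (h : Qn z r y 0) {i : ℤ} (hi : Even i) : z ^ i = 1 := by
  rcases h.z_cases i with ⟨h1, _⟩ | ⟨_, h1⟩
  · exact h1
  · exact absurd hi (Int.not_even_iff_odd.2 h1)

theorem z_odd (h : Qn z r y 0) {i : ℤ} (hi : Odd i) : z ^ i = z := by
  rcases h.z_cases i with ⟨_, h1⟩ | ⟨h1, _⟩
  · exact absurd hi (Int.not_odd_iff_even.2 h1)
  · exact h1

end one

/-! ### two of them -/

section co

variable {z r1 y1 r2 y2 s w : G} {u1 j1 u2 j2 v1 k1 v2 k2 : ℤ}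

theorem t_sq (h : Co z r1 y1 r2 y2 0 0) : (r1 * r2) * (r1 * r2) = 1 := by
  calc (r1 * r2) * (r1 * r2) = r1 * (r2 * r1) * r2 := by group
    _ = (r1 * r1) * (r2 * r2) := by rw [← h.rr]; group
    _ = 1 := by rw [rr_sq h.q1, rr_sq h.q2, h.q1.z_sq]

theorem A0_sq (h : Co z r1 y1 r2 y2 0 0) (i j : ℤ) :
    (r1 ^ i * r2 ^ j) * (r1 ^ i * r2 ^ j) = z ^ (i + j) := by
  rw [Sd.A0_mul h, ← two_mul, ← two_mul, zp2 h.q1, zp2 h.q2, ← zpow_add]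

theorem A0_form (h : Co z r1 y1 r2 y2 0 0) {i j : ℤ} (hi : Odd i) (hj : Odd j) :
    r1 ^ i * r2 ^ j = r1 * r2 ∨ r1 ^ i * r2 ^ j = r1 * r2 * z := by
  have hz : z * r2 = r2 * z := h.q2.zr
  rcases odd_zpow h.q1 hi with e1 | e1 <;> rcases odd_zpow h.q2 hj with e2 | e2 <;> rw [e1, e2]
  · exact Or.inl rfl
  · right; group
  · right
    rw [mul_assoc, hz]; group
  · left
    calc r1 * z * (r2 * z) = r1 * (z * r2) * z := by group
      _ = r1 * r2 * (z * z) := by rw [hz]; group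
      _ = r1 * r2 := by rw [h.q1.z_sq, mul_one]

theorem A0_even (h : Co z r1 y1 r2 y2 0 0) {i j : ℤ} (hi : Even i) (hj : Even j) :
    r1 ^ i * r2 ^ j = 1 ∨ r1 ^ i * r2 ^ j = z := by
  rcases even_zpow h.q1 hi with e1 | e1 <;> rcases even_zpow h.q2 hj with e2 | e2 <;> rw [e1, e2]
  · left; simp
  · right; simp
  · right; simp
  · left; exact h.q1.z_sq

theorem t_ne_one (h : Co z r1 y1 r2 y2 0 0) : r1 * r2 ≠ 1 := by
  intro e
  have h1 : r1 ^ (1 : ℤ) * r2 ^ (1 : ℤ) = 1 := by simpa using e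
  have h2 := Sd.A0_one h h1
  exact h.q1.odd_ne odd_one (by rcases h2 with h2 | h2; exacts [Or.inl h2.1, Or.inr h2.1])

theorem t_ne_z (h : Co z r1 y1 r2 y2 0 0) : r1 * r2 ≠ z := by
  intro e
  have h1 : r1 ^ (1 : ℤ) * r2 ^ (1 : ℤ) = r1 ^ (2 : ℤ) * r2 ^ (0 : ℤ) := by
    have := zp2 h.q1 1
    rw [mul_one, zpow_one] at this
    simpa [this] using e
  have h2 := (Sd.A0_parity h h1).1
  exact absurd (h2.2 (by decide)) (by decide)

/-- commuting with `t`: non-swap -/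
theorem comm_t (h : Co z r1 y1 r2 y2 0 0) (N : Ns r1 y1 r2 y2 s u1 j1 u2 j2)
    (hs : s * (r1 * r2) = (r1 * r2) * s) :
    ((4 : ℤ) ∣ u1 - 1 ∧ (4 : ℤ) ∣ u2 - 1) ∨ ((4 : ℤ) ∣ u1 + 1 ∧ (4 : ℤ) ∣ u2 + 1) := by
  have h1 : cj s (r1 * r2) = r1 * r2 := cj_eq_self hs
  rw [cj_mul, N.a1, N.a2] at h1
  have h2 : r1 ^ u1 * r2 ^ u2 = r1 ^ (1 : ℤ) * r2 ^ (1 : ℤ) := by simpa using h1
  have h3 := Sd.A0_eq h h2
  have o1 := N.odd1 h
  have o2 := N.odd2 h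
  rw [Int.odd_iff] at o1 o2
  rcases h3 with ⟨h4, h5⟩ | ⟨h4, h5⟩
  · rw [zeq1 h.q1] at h4
    rw [zeq1 h.q2] at h5
    exact Or.inl ⟨h4, h5⟩
  · right
    have h6 : r1 ^ (u1 - 1) ≠ 1 := by rw [h4]; exact h.q1.z_ne
    have h7 : r2 ^ (u2 - 1) ≠ 1 := by rw [h5]; exact h.q1.z_ne
    rw [Ne, zeq1 h.q1] at h6
    rw [Ne, zeq1 h.q2] at h7
    omega

theorem comm_t_of (h : Co z r1 y1 r2 y2 0 0) (N : Ns r1 y1 r2 y2 s u1 j1 u2 j2)
    (hu : ((4 : ℤ) ∣ u1 - 1 ∧ (4 : ℤ) ∣ u2 - 1) ∨ ((4 : ℤ) ∣ u1 + 1 ∧ (4 : ℤ) ∣ u2 + 1)) :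
    s * (r1 * r2) = (r1 * r2) * s := by
  rw [← cj_eq_self_iff, cj_mul, N.a1, N.a2]
  rcases hu with ⟨h1, h2⟩ | ⟨h1, h2⟩
  · rw [zpow_plus h.q1 h1, zpow_plus h.q2 h2]
  · rw [zpow_minus h.q1 h1, zpow_minus h.q2 h2, rinv h.q1, rinv h.q2]
    have hz : z * r2 = r2 * z := h.q2.zr
    calc r1 * z * (r2 * z) = r1 * (z * r2) * z := by group
      _ = r1 * r2 * (z * z) := by rw [hz]; group
      _ = r1 * r2 := by rw [h.q1.z_sq, mul_one]

/-- commuting with `t`: swap -/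
theorem comm_t_sw (h : Co z r1 y1 r2 y2 0 0) (N : Sw r1 y1 r2 y2 s u1 j1 u2 j2)
    (hs : s * (r1 * r2) = (r1 * r2) * s) :
    ((4 : ℤ) ∣ u1 - 1 ∧ (4 : ℤ) ∣ u2 - 1) ∨ ((4 : ℤ) ∣ u1 + 1 ∧ (4 : ℤ) ∣ u2 + 1) := by
  have h1 : cj s (r1 * r2) = r1 * r2 := cj_eq_self hs
  rw [cj_mul, N.a1, N.a2, ← Sd.r_zpow_comm h] at h1
  have h2 : r1 ^ u2 * r2 ^ u1 = r1 ^ (1 : ℤ) * r2 ^ (1 : ℤ) := by simpa using h1
  have h3 := Sd.A0_eq h h2
  have o1 := N.odd1 h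
  have o2 := N.odd2 h
  rw [Int.odd_iff] at o1 o2
  rcases h3 with ⟨h4, h5⟩ | ⟨h4, h5⟩
  · rw [zeq1 h.q1] at h4
    rw [zeq1 h.q2] at h5
    exact Or.inl ⟨h5, h4⟩
  · right
    have h6 : r1 ^ (u2 - 1) ≠ 1 := by rw [h4]; exact h.q1.z_ne
    have h7 : r2 ^ (u1 - 1) ≠ 1 := by rw [h5]; exact h.q1.z_ne
    rw [Ne, zeq1 h.q1] at h6
    rw [Ne, zeq1 h.q2] at h7
    omega

theorem comm_t_of_sw (h : Co z r1 y1 r2 y2 0 0) (N : Sw r1 y1 r2 y2 s u1 j1 u2 j2)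
    (hu : ((4 : ℤ) ∣ u1 - 1 ∧ (4 : ℤ) ∣ u2 - 1) ∨ ((4 : ℤ) ∣ u1 + 1 ∧ (4 : ℤ) ∣ u2 + 1)) :
    s * (r1 * r2) = (r1 * r2) * s := by
  rw [← cj_eq_self_iff, cj_mul, N.a1, N.a2]
  rcases hu with ⟨h1, h2⟩ | ⟨h1, h2⟩
  · rw [zpow_plus h.q2 h1, zpow_plus h.q1 h2, h.rr]
  · rw [zpow_minus h.q2 h1, zpow_minus h.q1 h2, rinv h.q1, rinv h.q2]
    have hz : z * r1 = r1 * z := h.q1.zr
    calc r2 * z * (r1 * z) = r2 * (z * r1) * z := by group
      _ = r2 * r1 * (z * z) := by rw [hz]; group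
      _ = r1 * r2 := by rw [h.q1.z_sq, mul_one, h.rr]

/-- two commuting non-swaps, first component -/
theorem comm_ns (h : Co z r1 y1 r2 y2 0 0) (N : Ns r1 y1 r2 y2 s u1 j1 u2 j2)
    (M : Ns r1 y1 r2 y2 w v1 k1 v2 k2) (hsw : s * w = w * s) :
    (4 : ℤ) ∣ (u1 * k1 + j1) - (v1 * j1 + k1) := by
  have e1 := (N.mul M).b1
  have e2 := (M.mul N).b1
  rw [hsw] at e1
  have e3 := mul_right_cancel (e1.symm.trans e2)
  rwa [zeq h.q1] at e3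

/-- a swap commuting with a non-swap -/
theorem comm_sw (h : Co z r1 y1 r2 y2 0 0) (N : Sw r1 y1 r2 y2 s u1 j1 u2 j2)
    (M : Ns r1 y1 r2 y2 w v1 k1 v2 k2) (hsw : s * w = w * s) :
    (4 : ℤ) ∣ v1 - v2 ∧ (Odd k1 ↔ Odd k2) := by
  have e1 := (N.mul_ns M)
  have e2 := (M.mul_sw N)
  rw [hsw] at e1
  have o := N.odd1 h
  have o' := M.odd2 h
  have e3 := e1.a1.symm.trans e2.a1
  rw [zeq h.q2] at e3
  have e4 := mul_right_cancel (e1.b1.symm.trans e2.b1)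
  rw [zeq h.q2] at e4
  constructor
  · have e5 : u1 * v1 - v2 * u1 = u1 * (v1 - v2) := by ring
    rw [e5] at e3
    have hc : IsCoprime (4 : ℤ) u1 := by
      obtain ⟨k, rfl⟩ := o
      have := isCoprime_two_pow 2 k
      norm_num at this
      exact this
    exact hc.dvd_of_dvd_mul_left e3
  · have h2 : (2 : ℤ) ∣ (u1 * k1 + j1) - (v2 * j1 + k2) := dvd_trans (by norm_num) e4
    rw [← even_iff_two_dvd] at h2
    have p1 : Even (u1 * k1) ↔ Even k1 := by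
      rw [Int.even_mul]
      have := Int.not_even_iff_odd.2 o
      tauto
    have p2 : Even (v2 * j1) ↔ Even j1 := by
      rw [Int.even_mul]
      have := Int.not_even_iff_odd.2 o'
      tauto
    rw [Int.even_sub, Int.even_add, Int.even_add, p1, p2] at h2
    rw [← Int.not_even_iff_odd, ← Int.not_even_iff_odd]
    tauto

end co

end Cfsg.Agent.GH.Q2.Four
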