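import Cfsg.Agent.GH.Q2.FourZ

/-!
# GH-Q, case (II), section 4: `S / R` a four-group (frame)
-/

set_option autoImplicit false

namespace Cfsg.Agent.GH.Q2.Four

open Subgroup

variable {G : Type*} [Group G]

/-- `S = R ⟨x, τ⟩`, `x` of type `(1, 1)` in normal form, `τ` a swap in its own coordinates. -/
structure VX (S : Subgroup G) (z r1 y1 r2 y2 x τ : G) : Prop
    extends Sd S z r1 y1 r2 y2 0 0 where
  xS : x ∈ S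
  tS : τ ∈ S
  x1 : cj x r1 = r1
  x2 : cj x r2 = r2
  x3 : cj x y1 = r1 * y1
  x4 : cj x y2 = r2 * y2
  t1 : cj τ r1 = r2
  t2 : cj τ r2 = r1
  t3 : cj τ y1 = y2
  t4 : cj τ y2 = y1
  cov : ∀ s ∈ S, s ∈ RR r1 y1 r2 y2 ∨ x⁻¹ * s ∈ RR r1 y1 r2 y2 ∨ τ⁻¹ * s ∈ RR r1 y1 r2 y2 ∨
      (τ * x)⁻¹ * s ∈ RR r1 y1 r2 y2

/-- `W = C_S(τ)`. -/
def WW (S : Subgroup G) (τ : G) : Subgroup G := S ⊓ centralizer ({τ} : Set G)

theorem mem_WW {S : Subgroup G} {τ w : G} : w ∈ WW S τ ↔ w ∈ S ∧ w * τ = τ * w := by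
  rw [WW, mem_inf, mem_centralizer_singleton_iff]

namespace VX

variable {S : Subgroup G} {z r1 y1 r2 y2 x τ s : G}

theorem nsx (v : VX S z r1 y1 r2 y2 x τ) : Ns r1 y1 r2 y2 x 1 1 1 1 :=
  ⟨by rw [v.x1, zpow_one], by rw [v.x3, zpow_one], by rw [v.x2, zpow_one], by rw [v.x4, zpow_one]⟩

theorem swt (v : VX S z r1 y1 r2 y2 x τ) : Sw r1 y1 r2 y2 τ 1 0 1 0 :=
  ⟨by rw [v.t1, zpow_one], by rw [v.t3, zpow_zero, one_mul], by rw [v.t2, zpow_one],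
    by rw [v.t4, zpow_zero, one_mul]⟩

theorem x_yy (v : VX S z r1 y1 r2 y2 x τ) : cj x (y1 * y2) = r1 * r2 * (y1 * y2) := by
  rw [cj_mul, v.x3, v.x4]
  calc r1 * y1 * (r2 * y2) = r1 * (y1 * r2) * y2 := by group
    _ = _ := by rw [v.yr]; group

theorem t_yy (v : VX S z r1 y1 r2 y2 x τ) : cj τ (y1 * y2) = y1 * y2 := by
  rw [cj_mul, v.t3, v.t4, v.yy]

theorem t_t (v : VX S z r1 y1 r2 y2 x τ) : cj τ (r1 * r2) = r1 * r2 := by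
  rw [cj_mul, v.t1, v.t2, v.rr]

theorem t_z (v : VX S z r1 y1 r2 y2 x τ) : cj τ z = z := v.cj_z v.tS

theorem x_t (v : VX S z r1 y1 r2 y2 x τ) : cj x (r1 * r2) = r1 * r2 := by
  rw [cj_mul, v.x1, v.x2]

theorem zW (v : VX S z r1 y1 r2 y2 x τ) : z ∈ WW S τ := mem_WW.2 ⟨v.hz, (v.zc v.tS).symm⟩

theorem rW (v : VX S z r1 y1 r2 y2 x τ) : r1 * r2 ∈ WW S τ :=
  mem_WW.2 ⟨mul_mem v.h1 v.h3, (cj_eq_self_iff.1 v.t_t).symm⟩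

theorem yW (v : VX S z r1 y1 r2 y2 x τ) : y1 * y2 ∈ WW S τ :=
  mem_WW.2 ⟨mul_mem v.h2 v.h4, (cj_eq_self_iff.1 v.t_yy).symm⟩

theorem tW (v : VX S z r1 y1 r2 y2 x τ) : τ ∈ WW S τ := mem_WW.2 ⟨v.tS, rfl⟩

end VX

end Cfsg.Agent.GH.Q2.Four
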