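import Cfsg.Agent.GH.Q2.FourV

/-!
# GH-Q, case (II), section 4: `S / R` a four-group, the case `x² = t`, `τ² = 1`, `[τ, x] = z`
-/

set_option autoImplicit false

namespace Cfsg.Agent.GH.Q2.Four

open Subgroup

variable {G : Type*} [Group G]

/-- the involutions of `R` other than `z` are conjugate to `t` by elements `c ∈ C(z)` with
`C_S(a) ^ c ≤ S`. -/
def HX (S : Subgroup G) (z r1 y1 r2 y2 : G) : Prop :=
  ∀ a ∈ RR r1 y1 r2 y2, a * a = 1 → a ≠ 1 → a ≠ z → ∃ c : G, cj c z = z ∧ cj c a = r1 * r2 ∧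
    ∀ w ∈ S, w * a = a * w → cj c w ∈ S

theorem inv_of_fin {P : G → Prop} [Finite {w // P w}] {g : G} (hg : ∀ w, P w → P (cj g w)) :
    ∀ w, P w → P (cj g⁻¹ w) := by
  let f : {w // P w} → {w // P w} := fun w => ⟨cj g w, hg w w.2⟩
  have hf : Function.Injective f := by
    intro a b hab
    have : cj g (a : G) = cj g (b : G) := congrArg Subtype.val hab
    exact Subtype.ext (cj_inj this)
  have hs := Finite.surjective_of_injective hf
  intro w hw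
  obtain ⟨⟨w', hw'⟩, e⟩ := hs ⟨w, hw⟩
  have e' : cj g w' = w := congrArg Subtype.val e
  rw [← e', cj_inv_cj]
  exact hw'

theorem RR_cj {S : Subgroup G} {z r1 y1 r2 y2 s w : G} (h : Sd S z r1 y1 r2 y2 0 0) (hs : s ∈ S)
    (hw : w ∈ RR r1 y1 r2 y2) : cj s w ∈ RR r1 y1 r2 y2 := by
  have hle : RR r1 y1 r2 y2 ≤ (RR r1 y1 r2 y2).comap (MulAut.conj s).toMonoidHom := by
    have key : ∀ g, (g = r1 ∨ g = y1 ∨ g = r2 ∨ g = y2) → cj s g ∈ RR r1 y1 r2 y2 := by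
      rcases h.act s hs with ⟨v1, k1, v2, k2, W⟩ | ⟨-, v1, k1, v2, k2, W⟩
      · rintro g (rfl | rfl | rfl | rfl)
        · rw [W.a1]; exact Subgroup.zpow_mem _ h.m1 _
        · rw [W.b1]; exact mul_mem (Subgroup.zpow_mem _ h.m1 _) h.m2
        · rw [W.a2]; exact Subgroup.zpow_mem _ h.m3 _
        · rw [W.b2]; exact mul_mem (Subgroup.zpow_mem _ h.m3 _) h.m4
      · rintro g (rfl | rfl | rfl | rfl)
        · rw [W.a1]; exact Subgroup.zpow_mem _ h.m3 _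
        · rw [W.b1]; exact mul_mem (Subgroup.zpow_mem _ h.m3 _) h.m4
        · rw [W.a2]; exact Subgroup.zpow_mem _ h.m1 _
        · rw [W.b2]; exact mul_mem (Subgroup.zpow_mem _ h.m1 _) h.m2
    conv_lhs => unfold RR
    rw [sup_le_iff, closure_le, closure_le]
    constructor
    · rintro g (hg | hg)
      · exact key g (Or.inl hg)
      · exact key g (Or.inr (Or.inl hg))
    · rintro g (hg | hg)
      · exact key g (Or.inr (Or.inr (Or.inl hg)))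
      · exact key g (Or.inr (Or.inr (Or.inr hg)))
  exact hle hw

/-- the subgroup of non-swaps -/
def NS {S : Subgroup G} {z r1 y1 r2 y2 : G} (h : Sd S z r1 y1 r2 y2 0 0) : Subgroup G where
  carrier := {s | s ∈ S ∧ ∃ u1 j1 u2 j2 : ℤ, Ns r1 y1 r2 y2 s u1 j1 u2 j2}
  one_mem' := ⟨one_mem S, _, _, _, _, Ns.one⟩
  mul_mem' := by
    rintro a b ⟨ha, _, _, _, _, A⟩ ⟨hb, _, _, _, _, B⟩
    exact ⟨mul_mem ha hb, _, _, _, _, A.mul B⟩
  inv_mem' := by
    rintro a ⟨ha, _, _, _, _, A⟩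
    refine ⟨inv_mem ha, ?_⟩
    rcases h.act a⁻¹ (inv_mem ha) with W | ⟨-, v1, k1, v2, k2, W⟩
    · exact W
    · exfalso
      have h1 := A.mul_sw W
      rw [mul_inv_cancel] at h1
      exact Ns.one.not_sw h1 h.toCo

theorem mem_NS {S : Subgroup G} {z r1 y1 r2 y2 s : G} (h : Sd S z r1 y1 r2 y2 0 0) :
    s ∈ NS h ↔ s ∈ S ∧ ∃ u1 j1 u2 j2 : ℤ, Ns r1 y1 r2 y2 s u1 j1 u2 j2 := Iff.rfl

section

variable {S : Subgroup G} {z r1 y1 r2 y2 x τ k : G}

/-- `x² = t`, `τ² = 1`, `[τ, x] = z` is impossible. -/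
theorem kill2_aux [Finite S] (v : VX S z r1 y1 r2 y2 x τ) (F : Fu S z r1 y1 r2 y2)
    (a : Al S z (r1 * r2) k) (hx : HX S z r1 y1 r2 y2) (xx : x * x = r1 * r2) (tt : τ * τ = 1)
    (xt : cj τ x = x * z)
    (W_form : ∀ w ∈ WW S τ, ∃ a b c d : ℤ, w = z ^ a * (r1 * r2) ^ b * (y1 * y2) ^ c * τ ^ d)
    (W_sq : ∀ w ∈ WW S τ, w * w = 1)
    (W_comm : ∀ w ∈ WW S τ, ∀ w' ∈ WW S τ, w * w' = w' * w)
    (W_swap : ∀ s ∈ S, ∀ u1 j1 u2 j2 : ℤ, Sw r1 y1 r2 y2 s u1 j1 u2 j2 → s * s = 1 →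
      s ∈ WW S τ ∧ ∀ w ∈ S, w * s = s * w → w ∈ WW S τ)
    (W_count : ∀ g : G, (∀ w ∈ WW S τ, cj g w ∈ S) → ∃ w ∈ WW S τ, ∃ u1 j1 u2 j2 : ℤ,
      Sw r1 y1 r2 y2 (cj g w) u1 j1 u2 j2) : False := by
  have WS : ∀ w ∈ WW S τ, w ∈ S := fun w hw => (mem_WW.1 hw).1
  -- powers of `τ`
  have tpow : ∀ d : ℤ, τ ^ d = 1 ∨ τ ^ d = τ := by
    intro d
    have t2 : τ ^ (2 : ℤ) = 1 := by rw [zpow_two, tt]
    rcases Int.even_or_odd' d with ⟨m, rfl | rfl⟩
    · left; rw [zpow_mul, t2, one_zpow]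
    · right; rw [zpow_add, zpow_mul, t2, one_zpow, one_mul, zpow_one]
  have tR : r1 * r2 ∈ RR r1 y1 r2 y2 := mul_mem v.m1 v.m3
  have yR : y1 * y2 ∈ RR r1 y1 r2 y2 := mul_mem v.m2 v.m4
  have nsR : ∀ q ∈ RR r1 y1 r2 y2, ∃ u1 j1 u2 j2 : ℤ, Ns r1 y1 r2 y2 q u1 j1 u2 j2 := by
    intro q hq
    obtain ⟨i, j, hc⟩ := v.ns_of_mem hq
    rcases hc with ⟨_, M⟩ | ⟨_, M⟩ | ⟨_, M⟩ | ⟨_, M⟩ <;> exact ⟨_, _, _, _, M⟩
  -- non-swaps of `W` are in `R`
  have W_ns : ∀ w ∈ WW S τ, (∃ u1 j1 u2 j2 : ℤ, Ns r1 y1 r2 y2 w u1 j1 u2 j2) →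
      w ∈ RR r1 y1 r2 y2 := by
    rintro w hw ⟨u1, j1, u2, j2, N⟩
    obtain ⟨a, b, c, d, e⟩ := W_form w hw
    have hq : z ^ a * (r1 * r2) ^ b * (y1 * y2) ^ c ∈ RR r1 y1 r2 y2 :=
      mul_mem (mul_mem (Subgroup.zpow_mem _ v.mz _) (Subgroup.zpow_mem _ tR _))
        (Subgroup.zpow_mem _ yR _)
    rcases tpow d with h1 | h1
    · rw [e, h1, mul_one]
      exact hq
    · exfalso
      obtain ⟨_, _, _, _, Q⟩ := nsR _ hq
      have h2 := Q.mul_sw v.swt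
      rw [h1] at e
      rw [← e] at h2
      exact N.not_sw h2 v.toCo
  have W_sw : ∀ w ∈ WW S τ, w ∉ RR r1 y1 r2 y2 → ∃ u1 j1 u2 j2 : ℤ,
      Sw r1 y1 r2 y2 w u1 j1 u2 j2 := by
    intro w hw hwR
    rcases v.act w (WS w hw) with W | ⟨-, W⟩
    · exact (hwR (W_ns w hw W)).elim
    · exact W
  -- normalizing
  have NW : ∀ g : G, (∀ w ∈ WW S τ, cj g w ∈ S) → ∀ w ∈ WW S τ, cj g w ∈ WW S τ := by
    intro g hg w hw
    obtain ⟨w0, hw0, u1, j1, u2, j2, N⟩ := W_count g hg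
    obtain ⟨-, h2⟩ := W_swap _ (hg w0 hw0) _ _ _ _ N (by rw [← cj_mul, W_sq w0 hw0, cj_one])
    apply h2 _ (hg w hw)
    rw [← cj_mul, W_comm w hw w0 hw0, cj_mul]
  have finW : Finite {w // w ∈ WW S τ} := by
    refine Finite.of_injective (fun w : {w // w ∈ WW S τ} => (⟨w, WS w w.2⟩ : S)) ?_
    intro a b hab
    have h1 := congrArg (fun u : S => (u : G)) hab
    exact Subtype.ext h1
  have finV : Finite {w // w ∈ WW S τ ∧ w ∈ RR r1 y1 r2 y2} := by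
    refine Finite.of_injective
      (fun w : {w // w ∈ WW S τ ∧ w ∈ RR r1 y1 r2 y2} => (⟨w, WS w w.2.1⟩ : S)) ?_
    intro a b hab
    have h1 := congrArg (fun u : S => (u : G)) hab
    exact Subtype.ext h1
  have NWi : ∀ g : G, (∀ w ∈ WW S τ, cj g w ∈ WW S τ) → ∀ w ∈ WW S τ, cj g⁻¹ w ∈ WW S τ :=
    fun g hg => inv_of_fin (P := fun w => w ∈ WW S τ) hg
  -- `C(z) ∩ N(W)` normalizes `V = W ∩ R`
  have NV : ∀ g : G, cj g z = z → (∀ w ∈ WW S τ, cj g w ∈ WW S τ) → ∀ w ∈ WW S τ,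
      w ∈ RR r1 y1 r2 y2 → cj g w ∈ RR r1 y1 r2 y2 := by
    intro g hgz hg w hw hwR
    obtain ⟨t, ht, hR⟩ := F.f2 g w hgz (WS w hw) (WS _ (hg w hw))
    have h1 := mul_mem hR (RR_cj v.toSd ht hwR)
    rwa [inv_mul_cancel_right] at h1
  -- `k` normalizes `W`
  have kW : ∀ w ∈ WW S τ, cj k w ∈ WW S τ := by
    apply NW
    intro w hw
    exact a.nor w (WS w hw) (W_comm w hw _ v.rW)
  -- `k` maps involutions of `C_S(t)` outside `W` to non-swaps
  have kN : ∀ s ∈ S, s * (r1 * r2) = r1 * r2 * s → s * s = 1 → cj τ s ≠ s → cj k s ∈ NS v.toSd := by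
    intro s hs hst hss hsW
    have hk := a.nor s hs hst
    rcases v.act _ hk with W | ⟨-, u1, j1, u2, j2, W⟩
    · exact ⟨hk, W⟩
    · exfalso
      obtain ⟨h1, -⟩ := W_swap _ hk _ _ _ _ W (by rw [← cj_mul, hss, cj_one])
      have h2 := NWi k kW _ h1
      rw [cj_inv_cj] at h2
      exact hsW (cj_eq_self (mem_WW.1 h2).2.symm)
  set y := y1 * y2 with hy
  set t := r1 * r2 with htd
  have hyy : y * y = 1 := yy_sq v.toCo
  have hyS : y ∈ S := mul_mem v.h2 v.h4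
  have hyt : y * t = t * y := y_t v.toCo
  have htt : t * t = 1 := t_sq v.toCo
  have tz : z * t = t * z := (v.zc (mul_mem v.h1 v.h3)).symm
  have hxy : cj x y = t * y := v.x_yy
  have hyx : y * x = t * x * y := by
    have h1 : x * y = t * y * x := by rw [mul_cj, hxy]
    calc y * x = (t * t) * y * x := by rw [htt, one_mul]
      _ = t * (t * y * x) := by group
      _ = t * x * y := by rw [← h1]; group
  have hyr : cj y r1 = r1⁻¹ := by
    have := cj_yy v.toCo 1 0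
    simpa using this
  have hyr' : y * r1 = r1⁻¹ * y := by rw [mul_cj, hyr]
  have hxr : x * r1 = r1 * x := cj_eq_self_iff.1 v.x1
  have hxt : x * t = t * x := cj_eq_self_iff.1 v.x_t
  have hrt : r1 * t = t * r1 := t_r1 v.toCo
  have hryt : r1 * y * t = t * (r1 * y) := by rw [mul_assoc, hyt, ← mul_assoc, hrt, mul_assoc]
  -- the three involutions
  have m1 : cj k (r1 * y) ∈ NS v.toSd := by
    refine kN _ (mul_mem v.h1 hyS) hryt ?_ ?_
    · calc r1 * y * (r1 * y) = r1 * (y * r1) * y := by group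
        _ = y * y := by rw [hyr']; group
        _ = 1 := hyy
    · rw [cj_mul, v.t1, v.t_yy]
      intro e
      have h1 : r2 = r1 := mul_right_cancel e
      have h2 : r1 ^ (1 : ℤ) = r2 ^ (1 : ℤ) := by rw [h1]
      exact v.q1.odd_ne odd_one (v.toCo.ind_zpow h2)
  have m2 : cj k (x * y) ∈ NS v.toSd := by
    refine kN _ (mul_mem v.xS hyS) ?_ ?_ ?_
    · rw [mul_assoc, hyt, ← mul_assoc, hxt, mul_assoc]
    · calc x * y * (x * y) = x * (y * x) * y := by group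
        _ = x * (t * x * y) * y := by rw [hyx]
        _ = x * t * x * (y * y) := by group
        _ = t * (x * x) := by rw [hxt, hyy]; group
        _ = 1 := by rw [xx, htt]
    · rw [cj_mul, xt, v.t_yy]
      intro e
      have h1 : x * z = x := mul_right_cancel e
      exact v.q1.z_ne (mul_eq_left.1 h1)
  have m3 : cj k (x * r1 * y) ∈ NS v.toSd := by
    refine kN _ (mul_mem (mul_mem v.xS v.h1) hyS) ?_ ?_ ?_
    · calc x * r1 * y * t = x * (r1 * y * t) := by group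
        _ = (x * t) * (r1 * y) := by rw [hryt]; group
        _ = t * (x * r1 * y) := by rw [hxt]; group
    · calc x * r1 * y * (x * r1 * y) = x * r1 * (y * x) * r1 * y := by group
        _ = x * r1 * (t * x * y) * r1 * y := by rw [hyx]
        _ = x * (r1 * t) * x * (y * r1) * y := by group
        _ = x * (t * r1) * x * (r1⁻¹ * y) * y := by rw [hrt, hyr']
        _ = (x * t) * (r1 * x) * r1⁻¹ * (y * y) := by group
        _ = (t * x) * (x * r1) * r1⁻¹ := by rw [hxt, hxr, hyy]; group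
        _ = t * (x * x) := by group
        _ = 1 := by rw [xx, htt]
    · rw [cj_mul, cj_mul, xt, v.t1, v.t_yy]
      intro e
      have h1 : x * z * r2 = x * r1 := mul_right_cancel e
      rw [mul_assoc] at h1
      have h2 : z * r2 = r1 := mul_left_cancel h1
      have h3 : r1 ^ (1 : ℤ) = r2 ^ (3 : ℤ) := by
        have : r2 ^ (3 : ℤ) = z * r2 := by
          rw [show (3 : ℤ) = 2 * 1 + 1 by norm_num, zpow_add, zp2 v.q2, zpow_one, zpow_one]
        rw [this, zpow_one, h2]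
      exact v.q1.odd_ne odd_one (v.toCo.ind_zpow h3)
  have hyprod : y = z * ((r1 * y) * (x * y) * (x * r1 * y)) := by
    have h1 : (r1 * y) * (x * y) * (x * r1 * y) = z * y := by
      calc (r1 * y) * (x * y) * (x * r1 * y) = r1 * (y * x) * y * (x * r1) * y := by group
        _ = r1 * (t * x * y) * y * (x * r1) * y := by rw [hyx]
        _ = r1 * t * x * (y * y) * (x * r1) * y := by group
        _ = r1 * t * (x * x) * r1 * y := by rw [hyy]; group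
        _ = r1 * (t * t) * r1 * y := by rw [xx]; group
        _ = r1 * r1 * y := by rw [htt, mul_one]
        _ = z * y := by rw [rr_sq v.q1]
    rw [h1, ← mul_assoc, v.q1.z_sq, one_mul]
  have kz : cj k z = t := a.hz
  have kt : cj k t = z := a.ht
  have ky : cj k y ∈ RR r1 y1 r2 y2 := by
    apply W_ns _ (kW _ v.yW)
    have h1 : cj k y ∈ NS v.toSd := by
      rw [hyprod, cj_mul, cj_mul, cj_mul, kz]
      exact mul_mem ⟨v.R_le tR, nsR _ tR⟩ (mul_mem (mul_mem m1 m2) m3)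
    exact h1.2
  have kV : ∀ w ∈ WW S τ, w ∈ RR r1 y1 r2 y2 → cj k w ∈ RR r1 y1 r2 y2 := by
    intro w hw hwR
    obtain ⟨a, b, c, d, e⟩ := W_form w hw
    have hq : z ^ a * t ^ b * y ^ c ∈ RR r1 y1 r2 y2 :=
      mul_mem (mul_mem (Subgroup.zpow_mem _ v.mz _) (Subgroup.zpow_mem _ tR _))
        (Subgroup.zpow_mem _ yR _)
    rcases tpow d with h1 | h1
    · rw [e, h1, mul_one, cj_mul, cj_mul, cj_zpow, cj_zpow, cj_zpow, kz, kt]
      exact mul_mem (mul_mem (Subgroup.zpow_mem _ tR _) (Subgroup.zpow_mem _ v.mz _))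
        (Subgroup.zpow_mem _ ky _)
    · exfalso
      rw [h1] at e
      have h2 : τ ∈ RR r1 y1 r2 y2 := by
        have : τ = (z ^ a * t ^ b * y ^ c)⁻¹ * w := by rw [e]; group
        rw [this]
        exact mul_mem (inv_mem hq) hwR
      exact Sd.not_sw_of_mem v.toCo h2 v.swt
  -- transitivity
  have trans : ∀ w ∈ WW S τ, w ∈ RR r1 y1 r2 y2 → w ≠ 1 → ∃ h : G, cj h w = z ∧
      (∀ w ∈ WW S τ, cj h w ∈ WW S τ) ∧
      (∀ w ∈ WW S τ, w ∈ RR r1 y1 r2 y2 → cj h w ∈ RR r1 y1 r2 y2) := by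
    intro w hw hwR hw1
    by_cases hwz : w = z
    · exact ⟨1, by rw [cj_one_left, hwz], fun w hw => by rwa [cj_one_left],
        fun w _ hw => by rwa [cj_one_left]⟩
    · obtain ⟨c, hcz, hcw, hcn⟩ := hx w hwR (W_sq w hw) hw1 hwz
      have cW := NW c (fun w' hw' => hcn w' (WS w' hw') (W_comm w' hw' w hw))
      have cV := NV c hcz cW
      refine ⟨k * c, by rw [cj_mul_left, hcw, kt], ?_, ?_⟩
      · intro w' hw'
        rw [cj_mul_left]
        exact kW _ (cW _ hw')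
      · intro w' hw' hw'R
        rw [cj_mul_left]
        exact kV _ (cW _ hw') (cV _ hw' hw'R)
  -- transfer
  have hτ : τ ∉ RR r1 y1 r2 y2 := fun h2 => Sd.not_sw_of_mem v.toCo h2 v.swt
  have hNS : NS v.toSd ≤ S := fun s hs => hs.1
  have hrel : (NS v.toSd).relIndex S = 2 := by
    rw [relIndex_eq_two_iff]
    refine ⟨τ, v.tS, ?_⟩
    intro b hb
    rcases v.act b hb with ⟨u1, j1, u2, j2, B⟩ | ⟨-, u1, j1, u2, j2, B⟩
    · right
      refine ⟨⟨hb, _, _, _, _, B⟩, ?_⟩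
      rintro ⟨-, _, _, _, _, C⟩
      exact C.not_sw (B.mul_sw v.swt) v.toCo
    · left
      refine ⟨⟨mul_mem hb v.tS, _, _, _, _, B.mul v.swt⟩, ?_⟩
      rintro ⟨-, _, _, _, _, C⟩
      exact C.not_sw B v.toCo
  have hτM : τ ∉ NS v.toSd := by
    rintro ⟨-, _, _, _, _, C⟩
    exact C.not_sw v.swt v.toCo
  obtain ⟨g, hgM, hgS⟩ := F.t1 (NS v.toSd) hNS hrel τ v.tS hτM tt
  have gW := NW g (fun w hw => hgS w (WS w hw) (mem_WW.1 hw).2)
  have gτ : cj g τ ∈ RR r1 y1 r2 y2 := W_ns _ (gW _ v.tW) hgM.2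
  -- `w ∈ V#` with `cj g w ∈ V#`
  have hex : ∃ w ∈ WW S τ, w ∈ RR r1 y1 r2 y2 ∧ w ≠ 1 ∧ cj g w ∈ RR r1 y1 r2 y2 := by
    by_cases c1 : cj g z ∈ RR r1 y1 r2 y2
    · exact ⟨z, v.zW, v.mz, v.q1.z_ne, c1⟩
    · by_cases c2 : cj g t ∈ RR r1 y1 r2 y2
      · exact ⟨t, v.rW, tR, t_ne_one v.toCo, c2⟩
      · refine ⟨z * t, mul_mem v.zW v.rW, mul_mem v.mz tR, ?_, ?_⟩
        · intro e
          apply t_ne_z v.toCo
          have h1 : t = z⁻¹ := eq_inv_of_mul_eq_one_right e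
          rw [← htd, h1, v.q1.zz]
        · obtain ⟨_, _, _, _, C1⟩ := W_sw _ (gW _ v.zW) c1
          obtain ⟨_, _, _, _, C2⟩ := W_sw _ (gW _ v.rW) c2
          apply W_ns _ (gW _ (mul_mem v.zW v.rW))
          rw [cj_mul]
          exact ⟨_, _, _, _, C1.mul C2⟩
  obtain ⟨w, hw, hwR, hw1, hgw⟩ := hex
  obtain ⟨h1, h1z, h1W, h1V⟩ := trans w hw hwR hw1
  obtain ⟨h2, h2z, h2W, h2V⟩ := trans (cj g w) (gW w hw) hgw (cj_ne_one hw1)
  have h1W' := NWi h1 h1W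
  have h1V' : ∀ w ∈ WW S τ, w ∈ RR r1 y1 r2 y2 → cj h1⁻¹ w ∈ RR r1 y1 r2 y2 := by
    intro w hw hwR
    exact (inv_of_fin (P := fun w => w ∈ WW S τ ∧ w ∈ RR r1 y1 r2 y2)
      (fun w hw => ⟨h1W w hw.1, h1V w hw.1 hw.2⟩) w ⟨hw, hwR⟩).2
  -- `g' = h2 g h1⁻¹ ∈ C(z) ∩ N(W)`
  have gz' : cj (h2 * g * h1⁻¹)⁻¹ z = z := by
    have e1 : cj (h2 * g * h1⁻¹) z = z := by
      rw [cj_mul_left, cj_mul_left, ← h1z, cj_inv_cj, h1z, h2z]
    conv_lhs => rw [← e1]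
    exact cj_inv_cj _ _
  have gW' : ∀ w ∈ WW S τ, cj (h2 * g * h1⁻¹)⁻¹ w ∈ WW S τ := by
    apply NWi
    intro w hw
    rw [cj_mul_left, cj_mul_left]
    exact h2W _ (gW _ (h1W' _ hw))
  have gV' := NV _ gz' gW'
  have f1 : cj (h2 * g * h1⁻¹)⁻¹ (cj h2 (cj g τ)) ∈ RR r1 y1 r2 y2 :=
    gV' _ (h2W _ (gW _ v.tW)) (h2V _ (gW _ v.tW) gτ)
  have f2 : cj (h2 * g * h1⁻¹)⁻¹ (cj h2 (cj g τ)) = cj h1 τ := by
    rw [← cj_mul_left, ← cj_mul_left]
    congr 1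
    group
  rw [f2] at f1
  have f3 := h1V' _ (h1W _ v.tW) f1
  rw [cj_inv_cj] at f3
  exact hτ f3

end

end Cfsg.Agent.GH.Q2.Four
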