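import Cfsg.Agent.GH.Q2.FourV4

/-!
# GH-Q, case (II), section 4: change of coordinates for a given swap
-/

set_option autoImplicit false

namespace Cfsg.Agent.GH.Q2.Four

open Subgroup

variable {G : Type*} [Group G]

section

variable {S : Subgroup G} {z t k r1 y1 r2 y2 s w τ x : G} {u1 j1 u2 j2 v1 k1 v2 k2 : ℤ}

theorem fu_congr {r1' y1' r2' y2' : G} (F : Fu S z r1 y1 r2 y2)
    (e : RR r1' y1' r2' y2' = RR r1 y1 r2 y2) : Fu S z r1' y1' r2' y2' where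
  iso := F.iso
  f1 := by rw [e]; exact F.f1
  f2 := by rw [e]; exact F.f2
  ext := F.ext
  t1 := F.t1
  t2 := F.t2

theorem hx_change (h : Sd S z r1 y1 r2 y2 0 0) (H : HX S z r1 y1 r2 y2) {u j : ℤ} (hu : Odd u) :
    HX S z r1 y1 (r2 ^ u) (r2 ^ j * y2) := by
  intro a ha haa ha1 haz
  rw [h.toCo.RR_change hu] at ha
  obtain ⟨c, hc, hca, hcn⟩ := H a ha haa ha1 haz
  rcases odd_zpow h.q2 hu with e | e
  · exact ⟨c, hc, by rw [e]; exact hca, hcn⟩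
  · refine ⟨y1 * c, ?_, ?_, ?_⟩
    · rw [cj_mul_left, hc]
      exact h.cj_z h.h2
    · rw [cj_mul_left, hca, cj_y1_t h.toCo, e, mul_assoc]
    · intro w hw hwa
      rw [cj_mul_left]
      exact cj_mem h.h2 (hcn w hw hwa)

theorem ns_change (h : Co z r1 y1 r2 y2 0 0) {u j : ℤ} (hu : Odd u)
    (N : Ns r1 y1 r2 y2 s u1 j1 u2 j2) :
    ∃ j2' : ℤ, Ns r1 y1 (r2 ^ u) (r2 ^ j * y2) s u1 j1 u2 j2' ∧ (Odd j2' ↔ Odd j2) := by
  obtain ⟨v, hv, hvr⟩ := h.q2.exists_inv hu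
  have hp : ∀ k : ℤ, r2 ^ k = (r2 ^ u) ^ (v * k) := by
    intro k
    rw [zpow_mul, hvr]
  refine ⟨v * (j * u2 + j2 - j), ⟨N.a1, N.b1, ?_, ?_⟩, ?_⟩
  · rw [cj_zpow, N.a2, ← zpow_mul, ← zpow_mul, mul_comm]
  · rw [cj_mul, cj_zpow, N.a2, N.b2, ← hp, ← zpow_mul]
    rw [← mul_assoc, ← mul_assoc, ← zpow_add, ← zpow_add]
    congr 2
    ring
  · obtain ⟨m, hm⟩ := N.odd2 h
    obtain ⟨n, hn⟩ := hv
    have e1 : v * (j * u2 + j2 - j) = 2 * (n * (j * u2 + j2 - j) + j * m) + j2 := by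
      rw [hn, hm]; ring
    rw [e1, Int.odd_iff, Int.odd_iff]
    generalize n * (j * u2 + j2 - j) + j * m = c
    omega

/-- all non-swaps have type `(c, c)` -/
def Ev (S : Subgroup G) (r1 y1 r2 y2 : G) : Prop :=
  ∀ s ∈ S, ∀ u1 j1 u2 j2 : ℤ, Ns r1 y1 r2 y2 s u1 j1 u2 j2 → (Odd j1 ↔ Odd j2)

theorem ev_change (h : Sd S z r1 y1 r2 y2 0 0) (H : Ev S r1 y1 r2 y2) {u j : ℤ} (hu : Odd u) :
    Ev S r1 y1 (r2 ^ u) (r2 ^ j * y2) := by
  intro s hs u1 j1 u2 j2 N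
  have h' := h.change (j := j) hu
  rcases h.act s hs with ⟨v1, k1, v2, k2, W⟩ | ⟨-, v1, k1, v2, k2, W⟩
  · obtain ⟨k2', W', hk⟩ := ns_change (j := j) h.toCo hu W
    have p1 := N.parity1 W' h'.toCo
    have p2 := N.parity2 W' h'.toCo
    have p3 := H s hs _ _ _ _ W
    rw [← Int.not_odd_iff_even, ← Int.not_odd_iff_even] at p1 p2
    tauto
  · exfalso
    have h1 := N.a1.symm.trans W.a1
    exact h.q1.odd_ne (N.odd1 h'.toCo) (h.toCo.ind_zpow h1)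

/-- The data for case `S / R = V₄`. -/
structure Dt (S : Subgroup G) (z r1 y1 r2 y2 x k : G) : Prop where
  h : Sd S z r1 y1 r2 y2 0 0
  F : Fu S z r1 y1 r2 y2
  a : Al S z (r1 * r2) k
  H : HX S z r1 y1 r2 y2
  E : Ev S r1 y1 r2 y2
  xS : x ∈ S
  N : ∃ u1 j1 u2 j2 : ℤ, Ns r1 y1 r2 y2 x u1 j1 u2 j2 ∧ Odd j1 ∧ Odd j2

theorem Dt.change (D : Dt S z r1 y1 r2 y2 x k) {u j : ℤ} (hu : Odd u) :
    ∃ k', Dt S z r1 y1 (r2 ^ u) (r2 ^ j * y2) x k' := by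
  obtain ⟨k', a'⟩ := al_change D.h D.a hu
  obtain ⟨u1, j1, u2, j2, N, o1, o2⟩ := D.N
  obtain ⟨j2', N', o2'⟩ := ns_change (j := j) D.h.toCo hu N
  exact ⟨k', D.h.change hu, fu_congr D.F (D.h.toCo.RR_change hu), a', hx_change D.h D.H hu,
    ev_change D.h D.E hu, D.xS, u1, j1, u2, j2', N', o1, o2'.2 o2⟩

/-- Given a swap `τ` with `τ² ∈ ⟨z⟩`, there are coordinates with a `VX` structure. -/
theorem mkV (D : Dt S z r1 y1 r2 y2 x k) (ht : τ ∈ S) (W : Sw r1 y1 r2 y2 τ u1 j1 u2 j2)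
    (tt : τ * τ = 1 ∨ τ * τ = z) :
    ∃ x' k' r2' y2', Dt S z r1 y1 r2' y2' x' k' ∧ VX S z r1 y1 r2' y2' x' τ ∧
      (x' * x' = r1 * r2' ∨ x' * x' = r1 * r2' * z) ∧ (cj τ x' = x' ∨ cj τ x' = x' * z) := by
  obtain ⟨k', D'⟩ := D.change (u := u1) (j := j1) (W.odd1 D.h.toCo)
  rw [← W.a1, ← W.b1] at D'
  have h' := D'.h
  have W' := h'.sw_self tt
  obtain ⟨v1, k1, v2, k2, N, o1, o2⟩ := D'.N
  obtain ⟨x', hx', -, b, c, hb, hc, X, ⟨w1, w2, M⟩, hb1⟩ := h'.nf_x D'.xS N o1 o2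
  have hb0 : b = 0 := by
    rcases hb with hb | hb
    · exact hb
    · exact absurd (hb1 hb).1 (by norm_num)
  have x1 := X.a1
  have x2 := X.a2
  have xx := X.xx
  rw [hb0, zpow_zero, mul_one] at x1 x2
  rw [hb0] at xx
  norm_num at xx
  have M' : Ns r1 y1 (cj τ r1) (cj τ y1) x' 1 1 1 1 :=
    ⟨by rw [x1, zpow_one], by rw [X.b1, zpow_one], by rw [x2, zpow_one], by rw [X.b2, zpow_one]⟩
  have t2 : cj τ (cj τ r1) = r1 := by have := W'.a2; rwa [zpow_one] at this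
  have t4 : cj τ (cj τ y1) = y1 := by have := W'.b2; rwa [zpow_zero, one_mul] at this
  refine ⟨x', k', cj τ r1, cj τ y1, ⟨h', D'.F, D'.a, D'.H, D'.E, hx', _, _, _, _, M, odd_one,
    odd_one⟩, ⟨h', hx', ht, x1, x2, X.b1, X.b2, rfl, t2, rfl, t4, ?_⟩, ?_, ?_⟩
  · -- cosets
    have ns : ∀ g ∈ S, ∀ a1 b1 a2 b2 : ℤ, Ns r1 y1 (cj τ r1) (cj τ y1) g a1 b1 a2 b2 →
        g ∈ RR r1 y1 (cj τ r1) (cj τ y1) ∨ x'⁻¹ * g ∈ RR r1 y1 (cj τ r1) (cj τ y1) := by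
      intro g hg a1 b1 a2 b2 Q
      have hev := D'.E g hg _ _ _ _ Q
      rcases Int.even_or_odd b1 with e1 | e1
      · left
        refine h'.inR g hg _ _ _ _ Q e1 ?_
        rw [← Int.not_odd_iff_even] at e1 ⊢
        tauto
      · right
        refine h'.ns_ns hx' hg M Q ?_ ?_
        · rw [← Int.not_odd_iff_even, ← Int.not_odd_iff_even]
          have : Odd (1 : ℤ) := odd_one
          tauto
        · rw [← Int.not_odd_iff_even, ← Int.not_odd_iff_even]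
          have : Odd (1 : ℤ) := odd_one
          tauto
    intro g hg
    rcases h'.act g hg with ⟨a1, b1, a2, b2, Q⟩ | ⟨-, a1, b1, a2, b2, Q⟩
    · rcases ns g hg _ _ _ _ Q with h1 | h1
      · exact Or.inl h1
      · exact Or.inr (Or.inl h1)
    · obtain ⟨c1, d1, c2, d2, L⟩ := h'.sw_sw ht hg W' Q
      rcases ns _ (mul_mem (inv_mem ht) hg) _ _ _ _ L with h1 | h1
      · exact Or.inr (Or.inr (Or.inl h1))
      · right; right; right
        rw [mul_inv_rev, mul_assoc]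
        exact h1
  · rcases hc with hc | hc
    · left
      rw [xx, hc, zpow_zero, mul_one]
    · right
      rw [xx, hc, zpow_one]
  · -- `cj τ x'` and `x'` act in the same way
    have ti : ∀ a b : G, cj τ a = b → cj τ⁻¹ b = a := by
      rintro a b rfl
      exact cj_inv_cj _ _
    have e : ∀ g, cj (cj τ x') g = cj τ (cj x' (cj τ⁻¹ g)) := by
      intro g
      conv_lhs => rw [← cj_cj_inv τ g]
      exact cj_cj _ _ _
    apply h'.eq_or (cj_mem ht hx') hx'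
    · rw [e, ti _ _ t2, x2, t2, x1]
    · rw [e, ti _ _ t4, X.b2, cj_mul, t2, t4, X.b1]
    · rw [e, ti r1 _ rfl, x1, x2]
    · rw [e, ti y1 _ rfl, X.b1, X.b2, cj_mul]

end

end Cfsg.Agent.GH.Q2.Four
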