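import Cfsg.Agent.GH.Q2.FourW

/-!
# GH-Q, case (II), section 4: the case distinction
-/

set_option autoImplicit false

namespace Cfsg.Agent.GH.Q2.Four

open Subgroup

variable {G : Type*} [Group G]

section

variable {S : Subgroup G} {z t k r1 y1 r2 y2 s w τ x : G} {u1 j1 u2 j2 v1 k1 v2 k2 : ℤ}

/-- `l = 0` is impossible -/
def K0 (S : Subgroup G) (z : G) : Prop := ∀ r1 y1 r2 y2 x τ k : G, VX S z r1 y1 r2 y2 x τ →
  Al S z (r1 * r2) k → (x * x = r1 * r2 ∨ x * x = r1 * r2 * z) → cj τ x = x → False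

/-- `l = 1`, `x² = t z`, `τ² = z` is impossible -/
def K1 (S : Subgroup G) (z : G) : Prop := ∀ r1 y1 r2 y2 x τ k : G, VX S z r1 y1 r2 y2 x τ →
  Al S z (r1 * r2) k → x * x = r1 * r2 * z → τ * τ = z → cj τ x = x * z → False

/-- `l = 1`, `x² = t`, `τ² = 1` is impossible -/
def K2 (S : Subgroup G) (z : G) : Prop := ∀ r1 y1 r2 y2 x τ k : G, VX S z r1 y1 r2 y2 x τ →
  Fu S z r1 y1 r2 y2 → Al S z (r1 * r2) k → HX S z r1 y1 r2 y2 → x * x = r1 * r2 → τ * τ = 1 →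
  cj τ x = x * z → False

/-- there is a swap involution -/
theorem v4_one (k0 : K0 S z) (k2 : K2 S z) (D : Dt S z r1 y1 r2 y2 x k) (ht : τ ∈ S)
    (W : Sw r1 y1 r2 y2 τ u1 j1 u2 j2) (tt : τ * τ = 1) : Tg S z := by
  obtain ⟨x', k', r2', y2', D', V, xx, xt⟩ := mkV D ht W (Or.inl tt)
  rcases xt with xt | xt
  · exact (k0 _ _ _ _ _ _ _ V D'.a xx xt).elim
  · rcases xx with xx | xx
    · exact (k2 _ _ _ _ _ _ _ V D'.F D'.a D'.H xx tt xt).elim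
    · refine ⟨r1, y1, r2', y2', 0, V.toSd, Or.inr (Or.inr (Or.inr ⟨rfl, x', V.xS, τ, V.tS,
        ⟨xx, V.x1, V.x2, V.x3, V.x4⟩, ⟨tt, V.t1, V.t3⟩, xt, V.cov⟩))⟩

/-- there is a swap with square `1` or `z` -/
theorem v4 (k0 : K0 S z) (k1 : K1 S z) (k2 : K2 S z) (D : Dt S z r1 y1 r2 y2 x k) (ht : τ ∈ S)
    (W : Sw r1 y1 r2 y2 τ u1 j1 u2 j2) (tt : τ * τ = 1 ∨ τ * τ = z) : Tg S z := by
  rcases tt with tt | tt
  · exact v4_one k0 k2 D ht W tt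
  · obtain ⟨x', k', r2', y2', D', V, xx, xt⟩ := mkV D ht W (Or.inr tt)
    rcases xt with xt | xt
    · exact (k0 _ _ _ _ _ _ _ V D'.a xx xt).elim
    · rcases xx with xx | xx
      · -- `τ x r1` is a swap involution
        have P := V.swt.mul_ns (V.nsx.mul (V.toCo.ns_r1 1))
        rw [zpow_one] at P
        refine v4_one k0 k2 D' (mul_mem V.tS (mul_mem V.xS V.h1)) P ?_
        have zr2 : z * r2' = r2' * z := V.q2.zr
        have hxr2 : x' * r2' = r2' * x' := cj_eq_self_iff.1 V.x2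
        have tsq := t_sq V.toCo
        calc τ * (x' * r1) * (τ * (x' * r1)) = cj τ x' * cj τ r1 * (τ * τ) * (x' * r1) := by
              simp [cj]; group
          _ = x' * z * r2' * z * (x' * r1) := by rw [xt, V.t1, tt]
          _ = x' * (z * r2') * z * (x' * r1) := by group
          _ = x' * r2' * (z * z) * (x' * r1) := by rw [zr2]; group
          _ = x' * (r2' * x') * r1 := by rw [V.q1.z_sq]; group
          _ = x' * (x' * r2') * r1 := by rw [hxr2]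
          _ = (x' * x') * (r2' * r1) := by group
          _ = 1 := by rw [xx, ← V.rr, tsq]
      · exact (k1 _ _ _ _ _ _ _ V D'.a xx tt xt).elim

/-- **Section 4** from its pieces. -/
theorem four_aux (k0 : K0 S z) (k1 : K1 S z) (k2 : K2 S z)
    (d8 : ∀ r1 y1 r2 y2 k : G, Sd S z r1 y1 r2 y2 0 0 → Fu S z r1 y1 r2 y2 →
      Al S z (r1 * r2) k → ∀ e ∈ S, ∀ u1 j1 u2 j2 : ℤ, Ns r1 y1 r2 y2 e u1 j1 u2 j2 → Odd j1 →
      Even j2 → ∀ w ∈ S, ∀ v1 k1 v2 k2 : ℤ, Sw r1 y1 r2 y2 w v1 k1 v2 k2 → False)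
    (h : Sd S z r1 y1 r2 y2 0 0) (F : Fu S z r1 y1 r2 y2) (a : Al S z (r1 * r2) k)
    (hx : HX S z r1 y1 r2 y2) : Tg S z := by
  by_cases hns : ∀ s ∈ S, ∃ u1 j1 u2 j2 : ℤ, Ns r1 y1 r2 y2 s u1 j1 u2 j2
  · exact caseA h a hns
  push Not at hns
  obtain ⟨w, hw, hwN⟩ := hns
  have hwS : ∃ v1 k1 v2 k2 : ℤ, Sw r1 y1 r2 y2 w v1 k1 v2 k2 := by
    rcases h.act w hw with ⟨u1, j1, u2, j2, N⟩ | ⟨-, W⟩
    · exact (hwN u1 j1 u2 j2 N).elim
    · exact W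
  obtain ⟨v1, k1', v2, k2', W⟩ := hwS
  have E : Ev S r1 y1 r2 y2 := by
    intro s hs u1 j1 u2 j2 N
    by_contra hne
    rcases Int.even_or_odd j1 with e1 | e1 <;> rcases Int.even_or_odd j2 with e2 | e2
    · apply hne
      rw [← Int.not_odd_iff_even] at e1 e2
      tauto
    · exact d8 r2 y2 r1 y1 k h.symm (fu_congr F (Co.RR_symm _ _ _ _)) (by rw [← h.rr]; exact a)
        s hs _ _ _ _ N.symm e2 e1 w hw _ _ _ _ W.symm
    · exact d8 r1 y1 r2 y2 k h F a s hs _ _ _ _ N e1 e2 w hw _ _ _ _ W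
    · exact hne ⟨fun _ => e2, fun _ => e1⟩
  by_cases ho : Odd (k1' + k2')
  · exact (caseZ4 h a E hw W ho).elim
  by_cases hR : ∀ s ∈ S, ∀ u1 j1 u2 j2 : ℤ, Ns r1 y1 r2 y2 s u1 j1 u2 j2 → s ∈ RR r1 y1 r2 y2
  · exact caseZ2 h a hR hw W
  push Not at hR
  obtain ⟨x, hx', u1, j1, u2, j2, N, hxR⟩ := hR
  have ho1 : Odd j1 := by
    by_contra hc
    have hc' : ¬ Odd j2 := fun h2 => hc ((E x hx' _ _ _ _ N).2 h2)
    exact hxR (h.inR x hx' _ _ _ _ N (Int.not_odd_iff_even.1 hc) (Int.not_odd_iff_even.1 hc'))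
  have ho2 := (E x hx' _ _ _ _ N).1 ho1
  have hww : w * w ∈ RR r1 y1 r2 y2 := by
    refine h.inR _ (mul_mem hw hw) _ _ _ _ (W.mul W) ?_ ?_
    · rw [← Int.not_odd_iff_even, odd_lin (W.odd2 h.toCo)]
      exact ho
    · rw [← Int.not_odd_iff_even, odd_lin (W.odd1 h.toCo), add_comm]
      exact ho
  obtain ⟨τ, ht, -, htt, -, -, w1, l1, w2, l2, T⟩ := h.nf_t hw W hww
  exact v4 k0 k1 k2 (x := x) ⟨h, F, a, hx, E, hx', _, _, _, _, N, ho1, ho2⟩ ht T htt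

end

end Cfsg.Agent.GH.Q2.Four
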