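import Cfsg.Agent.GH.Q2.FourA

/-!
# GH-Q, case (II), section 4: the cases `S / R` cyclic with a swap
-/

set_option autoImplicit false

namespace Cfsg.Agent.GH.Q2.Four

open Subgroup

variable {G : Type*} [Group G]

section

variable {S : Subgroup G} {z t k r1 y1 r2 y2 s w : G} {u1 j1 u2 j2 v1 k1 v2 k2 : ℤ}

theorem odd_lin {u a b : ℤ} (hu : Odd u) : Odd (u * a + b) ↔ Odd (a + b) := by
  obtain ⟨m, rfl⟩ := hu
  have e : (2 * m + 1) * a + b = 2 * (m * a) + (a + b) := by ring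
  rw [e, Int.odd_iff, Int.odd_iff]
  generalize m * a = c
  omega

theorem A0_ne (h : Co z r1 y1 r2 y2 0 0) {i j : ℤ} (hi : Odd i) :
    r1 ^ i * r2 ^ j ≠ 1 ∧ r1 ^ i * r2 ^ j ≠ z := by
  constructor
  · intro e
    have e' : r1 ^ i * r2 ^ j = r1 ^ (0 : ℤ) * r2 ^ (0 : ℤ) := by simpa using e
    have := (Sd.A0_parity h e').1
    rw [← Int.not_even_iff_odd] at hi
    exact hi (this.2 Even.zero)
  · intro e
    have e' : r1 ^ i * r2 ^ j = r1 ^ (2 * 1 : ℤ) * r2 ^ (0 : ℤ) := by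
      rw [zp2 h.q1, zpow_one, zpow_zero, mul_one, e]
    have := (Sd.A0_parity h e').1
    rw [← Int.not_even_iff_odd] at hi
    exact hi (this.2 (even_two_mul _))

theorem sign_mul {u v : ℤ} (h : ((4 : ℤ) ∣ u - 1 ∧ (4 : ℤ) ∣ v - 1) ∨
    ((4 : ℤ) ∣ u + 1 ∧ (4 : ℤ) ∣ v + 1)) : (4 : ℤ) ∣ u * v - 1 := by
  rcases h with ⟨⟨a, ha⟩, ⟨b, hb⟩⟩ | ⟨⟨a, ha⟩, ⟨b, hb⟩⟩
  · have e1 : u = 4 * a + 1 := by linarith
    have e2 : v = 4 * b + 1 := by linarith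
    exact ⟨4 * a * b + a + b, by rw [e1, e2]; ring⟩
  · have e1 : u = 4 * a - 1 := by linarith
    have e2 : v = 4 * b - 1 := by linarith
    exact ⟨4 * a * b - a - b, by rw [e1, e2]; ring⟩

/-- fourth powers of swaps centralizing `t` -/
theorem sw_four (h : Sd S z r1 y1 r2 y2 0 0) (hs : s ∈ S) (N : Sw r1 y1 r2 y2 s u1 j1 u2 j2)
    (hst : s * (r1 * r2) = r1 * r2 * s) :
    ∃ i j : ℤ, s * s * (s * s) = r1 ^ i * r2 ^ j ∧ (Odd i ↔ Odd (j1 + j2)) ∧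
      (Odd j ↔ Odd (j1 + j2)) := by
  have NN := N.mul N
  obtain ⟨i, j, e, p1, p2⟩ := ns_sq h (mul_mem hs hs) NN
  have hsg := comm_t_sw h.toCo N hst
  have g1 : (4 : ℤ) ∣ u2 * u1 - 1 := by rw [mul_comm]; exact sign_mul hsg
  have g2 : (4 : ℤ) ∣ u1 * u2 - 1 := sign_mul hsg
  rw [odd_lin (N.odd2 h.toCo)] at p1
  rw [odd_lin (N.odd1 h.toCo), add_comm j2 j1] at p2
  exact ⟨i, j, e, by rw [p1]; tauto, by rw [p2]; tauto⟩

/-- Case Z4: a swap with `j1 + j2` odd, all non-swaps of type `(c, c)`. -/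
theorem caseZ4 (h : Sd S z r1 y1 r2 y2 0 0) (a : Al S z (r1 * r2) k)
    (hev : ∀ s ∈ S, ∀ u1 j1 u2 j2 : ℤ, Ns r1 y1 r2 y2 s u1 j1 u2 j2 → (Odd j1 ↔ Odd j2))
    (hs : s ∈ S) (N : Sw r1 y1 r2 y2 s u1 j1 u2 j2) (ho : Odd (j1 + j2)) : False := by
  have key : ∀ w ∈ S, w * (r1 * r2) = r1 * r2 * w → w * w * (w * w) ≠ z := by
    intro w hw hwt
    rcases h.act w hw with ⟨v1, k1, v2, k2, W⟩ | ⟨-, v1, k1, v2, k2, W⟩
    · obtain ⟨i, j, e, p1, p2⟩ := ns_sq h hw W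
      have hsg := comm_t h.toCo W hwt
      have ht := hev w hw _ _ _ _ W
      have hsg' : (4 : ℤ) ∣ v1 - 1 ↔ (4 : ℤ) ∣ v2 - 1 := by omega
      have hij : Odd i ↔ Odd j := by rw [p1, p2, ht, hsg']
      have hij' : Even (i + j) := by
        rw [Int.even_add, ← Int.not_odd_iff_even, ← Int.not_odd_iff_even]
        tauto
      rw [e, A0_sq h.toCo, z_even h.q1 hij']
      exact h.q1.z_ne.symm
    · obtain ⟨i, j, e, p1, p2⟩ := sw_four h hw W hwt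
      obtain ⟨w1, l1, w2, l2, L⟩ := h.sw_sw hs hw N W
      have P := N.mul_ns L
      rw [mul_inv_cancel_left] at P
      have q1 := W.parity1 P h.toCo
      have q2 := W.parity2 P h.toCo
      have q3 := hev _ (mul_mem (inv_mem hs) hw) _ _ _ _ L
      rw [← Int.not_odd_iff_even, ← Int.not_odd_iff_even, odd_lin (N.odd1 h.toCo)] at q1
      rw [← Int.not_odd_iff_even, ← Int.not_odd_iff_even, odd_lin (N.odd2 h.toCo)] at q2
      have hk : Odd (k1 + k2) := by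
        rw [Int.odd_iff] at ho ⊢
        rw [Int.odd_iff, Int.odd_iff] at q1 q2 q3
        omega
      rw [e]
      exact (A0_ne h.toCo (p1.2 hk)).2
  -- a swap centralizing `t`
  have hw0 : ∃ w0 ∈ S, w0 * (r1 * r2) = r1 * r2 * w0 ∧ ∃ v1 k1 v2 k2 : ℤ,
      Sw r1 y1 r2 y2 w0 v1 k1 v2 k2 ∧ Odd (k1 + k2) := by
    by_cases hsg : ((4 : ℤ) ∣ u1 - 1 ∧ (4 : ℤ) ∣ u2 - 1) ∨ ((4 : ℤ) ∣ u1 + 1 ∧ (4 : ℤ) ∣ u2 + 1)
    · exact ⟨s, hs, comm_t_of_sw h.toCo N hsg, _, _, _, _, N, ho⟩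
    · have P := h.ns_y1.mul_sw N
      refine ⟨y1 * s, mul_mem h.h2 hs, ?_, _, _, _, _, P, ?_⟩
      · refine comm_t_of_sw h.toCo P ?_
        have o1 := odd_mod (N.odd1 h.toCo)
        have o2 := odd_mod (N.odd2 h.toCo)
        omega
      · rw [Int.odd_iff] at ho ⊢
        omega
  obtain ⟨w0, hw0, hw0t, v1, k1, v2, k2, W, hk⟩ := hw0
  obtain ⟨i, j, e, p1, p2⟩ := sw_four h hw0 W hw0t
  rcases A0_form h.toCo (p1.2 hk) (p2.2 hk) with e' | e'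
  · refine key (cj k w0) (a.nor _ hw0 hw0t) (a.comm (h.zc hw0)) ?_
    rw [← cj_mul, ← cj_mul, e, e', a.ht]
  · have a' := al_conj a h.h2 (h.cj_z h.h2)
    rw [cj_y1_t h.toCo] at a'
    have hc : ∀ g ∈ S, g * (r1 * r2) = r1 * r2 * g ↔ g * (r1 * r2 * z) = r1 * r2 * z * g := by
      intro g hg
      constructor
      · intro e1
        calc g * (r1 * r2 * z) = (g * (r1 * r2)) * z := by group
          _ = r1 * r2 * (g * z) := by rw [e1]; group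
          _ = _ := by rw [h.zc hg]; group
      · intro e1
        have e2 : g * (r1 * r2) * z = r1 * r2 * g * z := by
          calc g * (r1 * r2) * z = g * (r1 * r2 * z) := by group
            _ = r1 * r2 * (z * g) := by rw [e1]; group
            _ = _ := by rw [← h.zc hg]; group
        exact mul_right_cancel e2
    have hm := a'.nor w0 hw0 ((hc w0 hw0).1 hw0t)
    refine key (cj (cj y1 k) w0) hm ((hc _ hm).2 (a'.comm (h.zc hw0))) ?_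
    rw [← cj_mul, ← cj_mul, e, e', a'.ht]

/-- `S = R ∪ s R`, `s` a swap with square `z`. -/
theorem z2_aux (h : Sd S z r1 y1 r2 y2 0 0) (a : Al S z (r1 * r2) k)
    (hR : ∀ s ∈ S, ∀ u1 j1 u2 j2 : ℤ, Ns r1 y1 r2 y2 s u1 j1 u2 j2 → s ∈ RR r1 y1 r2 y2)
    (hs : s ∈ S) (N : Sw r1 y1 r2 y2 s u1 j1 u2 j2) (hz : s * s = z) : False := by
  have hst : s * (r1 * r2) = r1 * r2 * s := by
    refine comm_t_of_sw h.toCo N ?_
    have h1 := (N.mul N).a1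
    have h2 : r1 ^ (u2 * u1) = r1 ^ (1 : ℤ) := by
      rw [zpow_one, ← h1, hz]
      exact cj_eq_self h.q1.zr
    rw [zeq h.q1] at h2
    rcases odd_mod (N.odd1 h.toCo) with ⟨p, hp⟩ | ⟨p, hp⟩ <;>
      rcases odd_mod (N.odd2 h.toCo) with ⟨q, hq⟩ | ⟨q, hq⟩
    · exact Or.inl ⟨⟨p, hp⟩, ⟨q, hq⟩⟩
    · exfalso
      have e1 : u1 = 4 * p + 1 := by linarith
      have e2 : u2 = 4 * q - 1 := by linarith
      have e3 : u2 * u1 - 1 = 4 * (4 * p * q - p + q) - 2 := by rw [e1, e2]; ring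
      rw [e3] at h2
      omega
    · exfalso
      have e1 : u1 = 4 * p - 1 := by linarith
      have e2 : u2 = 4 * q + 1 := by linarith
      have e3 : u2 * u1 - 1 = 4 * (4 * p * q + p - q) - 2 := by rw [e1, e2]; ring
      rw [e3] at h2
      omega
    · exact Or.inr ⟨⟨p, hp⟩, ⟨q, hq⟩⟩
  -- elements of `S` with square `t` are swaps
  have sw : ∀ w ∈ S, w * w = r1 * r2 → ∃ v1 k1 v2 k2 : ℤ, Sw r1 y1 r2 y2 w v1 k1 v2 k2 := by
    intro w hw hww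
    rcases h.act w hw with ⟨v1, k1, v2, k2, W⟩ | ⟨-, v1, k1, v2, k2, W⟩
    · exfalso
      have h1 := W.even_of_mem h.toCo (hR w hw _ _ _ _ W)
      have h2 := ns_root h hw W (i := 1) (j := 1) odd_one odd_one (by simpa using hww)
      exact absurd h1.1 (Int.not_even_iff_odd.2 h2.1)
    · exact ⟨_, _, _, _, W⟩
  set s1 := cj k r1 with hs1
  set s2 := cj k s with hs2
  have m1 : s1 ∈ S := a.nor _ h.h1 (t_r1 h.toCo)
  have m2 : s2 ∈ S := a.nor _ hs hst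
  have q1 : s1 * s1 = r1 * r2 := by rw [hs1, ← cj_mul, rr_sq h.q1, a.hz]
  have q2 : s2 * s2 = r1 * r2 := by rw [hs2, ← cj_mul, hz, a.hz]
  have c1 : s1 * (r1 * r2) = r1 * r2 * s1 := a.comm (h.zc h.h1)
  have c2 : s2 * (r1 * r2) = r1 * r2 * s2 := a.comm (h.zc hs)
  obtain ⟨v1, k1, v2, k2, W1⟩ := sw s1 m1 q1
  obtain ⟨w1, l1, w2, l2, W2⟩ := sw s2 m2 q2
  -- `p = s2 * s1⁻¹`
  have hp : s2 * s1⁻¹ ∈ S := mul_mem m2 (inv_mem m1)
  have hpR : s2 * s1⁻¹ ∈ RR r1 y1 r2 y2 := by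
    rcases h.act _ hp with ⟨a1, b1, a2, b2, P⟩ | ⟨-, a1, b1, a2, b2, P⟩
    · exact hR _ hp _ _ _ _ P
    · have h1 := P.mul W1
      rw [inv_mul_cancel_right] at h1
      exact (h1.not_sw W2 h.toCo).elim
  have hpt : s2 * s1⁻¹ * (r1 * r2) = r1 * r2 * (s2 * s1⁻¹) := by
    have h1 : s1⁻¹ * (r1 * r2) = r1 * r2 * s1⁻¹ := by
      rw [inv_mul_eq_iff_eq_mul, ← mul_assoc, c1, mul_inv_cancel_right]
    rw [mul_assoc, h1, ← mul_assoc, c2, mul_assoc]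
  have hinv : cj s1 (s2 * s1⁻¹) = (s2 * s1⁻¹)⁻¹ := by
    apply eq_inv_of_mul_eq_one_right
    have h1 : s2 * s1⁻¹ * cj s1 (s2 * s1⁻¹) = s2 * s2 * (s1 * s1)⁻¹ := by simp [cj]; group
    rw [h1, q1, q2, mul_inv_cancel]
  have hp2 : s2 * s1⁻¹ * (s2 * s1⁻¹) = 1 := by
    obtain ⟨i, j, e | e⟩ := R_t h.toCo hpR hpt
    · have h1 := hinv
      rw [e, cj_mul, cj_zpow, cj_zpow, W1.a1, W1.a2, ← zpow_mul, ← zpow_mul,
        ← Sd.r_zpow_comm h.toCo, mul_inv_rev, ← zpow_neg, ← zpow_neg,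
        ← Sd.r_zpow_comm h.toCo] at h1
      have h2 := (Sd.A0_parity h.toCo h1).1
      have o2 := W1.odd2 h.toCo
      rw [Int.even_mul, even_neg] at h2
      rw [← Int.not_even_iff_odd] at o2
      rw [e, A0_sq h.toCo, z_even h.q1]
      rw [Int.even_add]
      tauto
    · have h1 := cj_yy h.toCo i j
      have h3 : r1 ^ i * r2 ^ j * (r1 ^ (-i) * r2 ^ (-j)) = 1 := by
        rw [Sd.A0_mul h.toCo]; simp
      rw [e]
      calc r1 ^ i * r2 ^ j * (y1 * y2) * (r1 ^ i * r2 ^ j * (y1 * y2)) =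
          r1 ^ i * r2 ^ j * cj (y1 * y2) (r1 ^ i * r2 ^ j) * ((y1 * y2) * (y1 * y2)) := by
            simp [cj]; group
        _ = 1 := by rw [h1, yy_sq h.toCo, mul_one, h3]
  have hinv2 : (s2 * s1⁻¹)⁻¹ = s2 * s1⁻¹ := inv_eq_of_mul_eq_one_left hp2
  rw [hinv2] at hinv
  have hcomm : s1 * s2 = s2 * s1 := by
    have h1 := cj_eq_self_iff.1 hinv
    have h2 : s1 * (s2 * s1⁻¹) * s1 = s1 * s2 := by group
    have h3 : s2 * s1⁻¹ * s1 * s1 = s2 * s1 := by group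
    rw [← h2, h1, h3]
  rw [hs1, hs2, ← cj_mul, ← cj_mul] at hcomm
  have hcomm := cj_inj hcomm
  have h1 : cj s r1 = r1 := cj_eq_self hcomm.symm
  rw [N.a1] at h1
  have h2 : r1 ^ (1 : ℤ) = r2 ^ u1 := by rw [zpow_one]; exact h1.symm
  exact h.q1.odd_ne odd_one (h.toCo.ind_zpow h2)

/-- Case Z2: `S = R ∪ s R`, `s` a swap. -/
theorem caseZ2 (h : Sd S z r1 y1 r2 y2 0 0) (a : Al S z (r1 * r2) k)
    (hR : ∀ s ∈ S, ∀ u1 j1 u2 j2 : ℤ, Ns r1 y1 r2 y2 s u1 j1 u2 j2 → s ∈ RR r1 y1 r2 y2)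
    (hs : s ∈ S) (N : Sw r1 y1 r2 y2 s u1 j1 u2 j2) : Tg S z := by
  have hss : s * s ∈ RR r1 y1 r2 y2 := hR _ (mul_mem hs hs) _ _ _ _ (N.mul N)
  obtain ⟨t, ht, -, htt, ch, hRR, w1, l1, w2, l2, W⟩ := h.nf_t hs N hss
  rcases htt with htt | htt
  · refine ⟨r1, y1, cj t r1, cj t y1, 0, ch, Or.inr (Or.inl ⟨t, ht, ⟨htt, rfl, rfl⟩, ?_⟩)⟩
    intro g hg
    rw [hRR]
    rcases h.act g hg with ⟨a1, b1, a2, b2, P⟩ | ⟨-, a1, b1, a2, b2, P⟩
    · exact Or.inl (hR _ hg _ _ _ _ P)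
    · right
      obtain ⟨c1, d1, c2, d2, Q⟩ := h.sw_sw ht hg W P
      exact hR _ (mul_mem (inv_mem ht) hg) _ _ _ _ Q
  · exact (z2_aux h a hR ht W htt).elim

end

end Cfsg.Agent.GH.Q2.Four
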