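import Mathlib

/-!
# GH-Q (II): the frame (blueprints/GH-Q2-helper113.md)

`QQ`: the central product `R = Q₁ * Q₂` of two generalized quaternion groups, by generators.
`Fr S`: the action of the 2-group `S` on `R`.
-/

set_option autoImplicit false

namespace Cfsg.Agent.GH.Q2.Frame

open Subgroup

variable {G : Type*} [Group G]

/-- `Q₁ * Q₂`, `Qᵢ = ⟨rᵢ, yᵢ⟩` generalized quaternion of order `2 ^ (nᵢ + 3)`. -/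
structure QQ (n₁ n₂ : ℕ) (z r₁ y₁ r₂ y₂ : G) : Prop where
  zz : z * z = 1
  z1 : z ≠ 1
  p₁ : r₁ ^ (2 ^ (n₁ + 1)) = z
  p₂ : r₂ ^ (2 ^ (n₂ + 1)) = z
  q₁ : y₁ * y₁ = z
  q₂ : y₂ * y₂ = z
  i₁ : y₁ * r₁ * y₁⁻¹ = r₁⁻¹
  i₂ : y₂ * r₂ * y₂⁻¹ = r₂⁻¹
  c11 : Commute r₁ r₂
  c12 : Commute r₁ y₂
  c21 : Commute y₁ r₂
  c22 : Commute y₁ y₂
  ind : ∀ i j : ℤ, r₁ ^ i = r₂ ^ j → (2 : ℤ) ^ (n₁ + 1) ∣ i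

/-- `s` normalizes both factors (and both cyclic subgroups). -/
def Non (r₁ y₁ r₂ y₂ s : G) : Prop :=
  (∃ u : ℤ, s * r₁ * s⁻¹ = r₁ ^ u) ∧ (∃ u : ℤ, s * r₂ * s⁻¹ = r₂ ^ u) ∧
    (∃ j : ℤ, s * y₁ * s⁻¹ = r₁ ^ j * y₁) ∧ (∃ j : ℤ, s * y₂ * s⁻¹ = r₂ ^ j * y₂)

/-- `s` swaps the two factors. -/
def Swp (r₁ y₁ r₂ y₂ s : G) : Prop :=
  (∃ u : ℤ, s * r₁ * s⁻¹ = r₂ ^ u) ∧ (∃ u : ℤ, s * r₂ * s⁻¹ = r₁ ^ u) ∧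
    (∃ j : ℤ, s * y₁ * s⁻¹ = r₂ ^ j * y₂) ∧ (∃ j : ℤ, s * y₂ * s⁻¹ = r₁ ^ j * y₁)

/-- The action of `S` on `R`. -/
structure Fr (S : Subgroup G) (n₁ n₂ : ℕ) (z r₁ y₁ r₂ y₂ : G) : Prop
    extends QQ n₁ n₂ z r₁ y₁ r₂ y₂ where
  mr₁ : r₁ ∈ S
  my₁ : y₁ ∈ S
  mr₂ : r₂ ∈ S
  my₂ : y₂ ∈ S
  cen : ∀ s ∈ S, s * z = z * s
  act : ∀ s ∈ S, Non r₁ y₁ r₂ y₂ s ∨ Swp r₁ y₁ r₂ y₂ s
  ker : ∀ s ∈ S, (∃ u : ℤ, s * r₁ * s⁻¹ = r₁ ^ u) → (∃ u : ℤ, s * r₂ * s⁻¹ = r₂ ^ u) →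
    (∃ j : ℤ, s * y₁ * s⁻¹ = r₁ ^ (2 * j) * y₁) → (∃ j : ℤ, s * y₂ * s⁻¹ = r₂ ^ (2 * j) * y₂) →
    s ∈ closure {r₁, y₁, r₂, y₂}

/-! ### conjugation of words -/

theorem cj_mul (s a b : G) : s * (a * b) * s⁻¹ = (s * a * s⁻¹) * (s * b * s⁻¹) := by group

theorem cj_zpow (s a : G) (k : ℤ) : s * a ^ k * s⁻¹ = (s * a * s⁻¹) ^ k := (conj_zpow ..).symm

theorem cj_comp (s t a : G) : (s * t) * a * (s * t)⁻¹ = s * (t * a * t⁻¹) * s⁻¹ := by group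

theorem cj_eq_iff {s a b : G} : s * a * s⁻¹ = b ↔ s * a = b * s := by
  rw [mul_inv_eq_iff_eq_mul]

theorem cj_comm {s a : G} (h : s * a = a * s) : s * a * s⁻¹ = a := by rw [h]; group

theorem cj_inj {s a b : G} (h : s * a * s⁻¹ = s * b * s⁻¹) : a = b := by
  simpa using h

/-! ### arithmetic of `QQ` -/

section QQ

variable {n₁ n₂ : ℕ} {z r₁ y₁ r₂ y₂ : G} (q : QQ n₁ n₂ z r₁ y₁ r₂ y₂)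

include q

theorem QQ.zinv : z⁻¹ = z := by rw [inv_eq_iff_mul_eq_one]; exact q.zz

theorem QQ.orderOf_z : orderOf z = 2 := by
  refine orderOf_eq_prime ?_ q.z1
  rw [pow_two]; exact q.zz

theorem QQ.z_zpow_eq_one {k : ℤ} : z ^ k = 1 ↔ 2 ∣ k := by
  rw [← orderOf_dvd_iff_zpow_eq_one, q.orderOf_z]; rfl

theorem QQ.z_zpow_even {k : ℤ} (h : Even k) : z ^ k = 1 := q.z_zpow_eq_one.2 h.two_dvd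

theorem QQ.z_zpow_odd {k : ℤ} (h : Odd k) : z ^ k = z := by
  obtain ⟨m, rfl⟩ := h
  rw [zpow_add, q.z_zpow_even (even_two_mul m), zpow_one, one_mul]

theorem QQ.z_zpow_cases (k : ℤ) : z ^ k = 1 ∨ z ^ k = z := by
  rcases Int.even_or_odd k with h | h
  · exact Or.inl (q.z_zpow_even h)
  · exact Or.inr (q.z_zpow_odd h)

theorem QQ.orderOf_r₁ : orderOf r₁ = 2 ^ (n₁ + 2) := by
  apply orderOf_eq_prime_pow (n := n₁ + 1)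
  · rw [q.p₁]; exact q.z1
  · rw [pow_succ, pow_mul, q.p₁, pow_two, q.zz]

theorem QQ.orderOf_r₂ : orderOf r₂ = 2 ^ (n₂ + 2) := by
  apply orderOf_eq_prime_pow (n := n₂ + 1)
  · rw [q.p₂]; exact q.z1
  · rw [pow_succ, pow_mul, q.p₂, pow_two, q.zz]

theorem QQ.r₁_eq_one {k : ℤ} : r₁ ^ k = 1 ↔ (2 : ℤ) ^ (n₁ + 2) ∣ k := by
  rw [← orderOf_dvd_iff_zpow_eq_one, q.orderOf_r₁]; norm_cast

theorem QQ.r₂_eq_one {k : ℤ} : r₂ ^ k = 1 ↔ (2 : ℤ) ^ (n₂ + 2) ∣ k := by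
  rw [← orderOf_dvd_iff_zpow_eq_one, q.orderOf_r₂]; norm_cast

theorem QQ.r₁_z (k : ℤ) : r₁ ^ ((2 : ℤ) ^ (n₁ + 1) * k) = z ^ k := by
  rw [zpow_mul]; congr 1; rw [← q.p₁]; norm_cast

theorem QQ.r₂_z (k : ℤ) : r₂ ^ ((2 : ℤ) ^ (n₂ + 1) * k) = z ^ k := by
  rw [zpow_mul]; congr 1; rw [← q.p₂]; norm_cast

theorem QQ.zr₁ : Commute z r₁ := by rw [← q.p₁]; exact (Commute.refl r₁).pow_left _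

theorem QQ.zr₂ : Commute z r₂ := by rw [← q.p₂]; exact (Commute.refl r₂).pow_left _

theorem QQ.zy₁ : Commute z y₁ := by rw [← q.q₁]; exact (Commute.refl y₁).mul_left (Commute.refl y₁)

theorem QQ.zy₂ : Commute z y₂ := by rw [← q.q₂]; exact (Commute.refl y₂).mul_left (Commute.refl y₂)

theorem QQ.ind' {i j : ℤ} (h : r₁ ^ i = r₂ ^ j) : (2 : ℤ) ^ (n₂ + 1) ∣ j := by
  obtain ⟨k, hk⟩ := q.ind i j h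
  have h1 : r₂ ^ (j * 2) = 1 := by
    rw [zpow_mul, ← h, hk, q.r₁_z, ← zpow_mul, q.z_zpow_eq_one]
    exact ⟨k, by ring⟩
  rw [q.r₂_eq_one] at h1
  have h2 : (2 : ℤ) ^ (n₂ + 2) = 2 ^ (n₂ + 1) * 2 := by ring
  rw [h2] at h1
  exact Int.dvd_of_mul_dvd_mul_right (by norm_num) h1

theorem QQ.symm : QQ n₂ n₁ z r₂ y₂ r₁ y₁ where
  zz := q.zz
  z1 := q.z1
  p₁ := q.p₂
  p₂ := q.p₁
  q₁ := q.q₂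
  q₂ := q.q₁
  i₁ := q.i₂
  i₂ := q.i₁
  c11 := q.c11.symm
  c12 := q.c21.symm
  c21 := q.c12.symm
  c22 := q.c22.symm
  ind := fun i j h => q.ind' h.symm

/-- `r₁^i r₂^j = 1`. -/
theorem QQ.ind2 {i j : ℤ} (h : r₁ ^ i * r₂ ^ j = 1) :
    (2 : ℤ) ^ (n₁ + 1) ∣ i ∧ (2 : ℤ) ^ (n₂ + 1) ∣ j := by
  have h1 : r₁ ^ i = r₂ ^ (-j) := by rw [zpow_neg]; exact eq_inv_of_mul_eq_one_left h
  exact ⟨q.ind _ _ h1, (Int.dvd_neg).1 (q.ind' h1)⟩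

theorem QQ.eq_ind {i j i' j' : ℤ} (h : r₁ ^ i * r₂ ^ j = r₁ ^ i' * r₂ ^ j') :
    (2 : ℤ) ^ (n₁ + 1) ∣ i - i' ∧ (2 : ℤ) ^ (n₂ + 1) ∣ j - j' := by
  apply q.ind2
  have hc := q.c11.zpow_zpow
  have : r₁ ^ (i - i') * r₂ ^ (j - j') = (r₁ ^ i * r₂ ^ j) * (r₁ ^ i' * r₂ ^ j')⁻¹ := by
    rw [zpow_sub, zpow_sub, mul_inv_rev]
    have h1 : (r₁ ^ i')⁻¹ * r₂ ^ j = r₂ ^ j * (r₁ ^ i')⁻¹ := ((hc i' j).inv_left).eq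
    have h2 : (r₁ ^ i')⁻¹ * (r₂ ^ j')⁻¹ = (r₂ ^ j')⁻¹ * (r₁ ^ i')⁻¹ := ((hc i' j').inv_left.inv_right).eq
    calc r₁ ^ i * (r₁ ^ i')⁻¹ * (r₂ ^ j * (r₂ ^ j')⁻¹)
        = r₁ ^ i * ((r₁ ^ i')⁻¹ * r₂ ^ j) * (r₂ ^ j')⁻¹ := by group
      _ = r₁ ^ i * (r₂ ^ j * (r₁ ^ i')⁻¹) * (r₂ ^ j')⁻¹ := by rw [h1]
      _ = r₁ ^ i * r₂ ^ j * ((r₁ ^ i')⁻¹ * (r₂ ^ j')⁻¹) := by group
      _ = _ := by rw [h2]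
  rw [this, h, mul_inv_cancel]

theorem QQ.A_mul (i j i' j' : ℤ) :
    (r₁ ^ i * r₂ ^ j) * (r₁ ^ i' * r₂ ^ j') = r₁ ^ (i + i') * r₂ ^ (j + j') := by
  have h1 : r₂ ^ j * r₁ ^ i' = r₁ ^ i' * r₂ ^ j := (q.c11.zpow_zpow i' j).symm.eq
  rw [zpow_add, zpow_add]
  calc (r₁ ^ i * r₂ ^ j) * (r₁ ^ i' * r₂ ^ j') = r₁ ^ i * (r₂ ^ j * r₁ ^ i') * r₂ ^ j' := by group
    _ = _ := by rw [h1]; group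

theorem QQ.A_zpow (i j k : ℤ) : (r₁ ^ i * r₂ ^ j) ^ k = r₁ ^ (i * k) * r₂ ^ (j * k) := by
  rw [(q.c11.zpow_zpow i j).mul_zpow, zpow_mul, zpow_mul]

theorem QQ.A_inv (i j : ℤ) : (r₁ ^ i * r₂ ^ j)⁻¹ = r₁ ^ (-i) * r₂ ^ (-j) := by
  rw [← zpow_neg_one, q.A_zpow, mul_neg_one, mul_neg_one]

theorem QQ.A_comm (i j i' j' : ℤ) :
    (r₁ ^ i * r₂ ^ j) * (r₁ ^ i' * r₂ ^ j') = (r₁ ^ i' * r₂ ^ j') * (r₁ ^ i * r₂ ^ j) := by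
  rw [q.A_mul, q.A_mul, add_comm i, add_comm j]

theorem QQ.y₁_r₁ (k : ℤ) : y₁ * r₁ ^ k * y₁⁻¹ = r₁ ^ (-k) := by
  rw [cj_zpow, q.i₁, inv_zpow, zpow_neg]

theorem QQ.y₂_r₂ (k : ℤ) : y₂ * r₂ ^ k * y₂⁻¹ = r₂ ^ (-k) := by
  rw [cj_zpow, q.i₂, inv_zpow, zpow_neg]

theorem QQ.y₁_r₂ (k : ℤ) : y₁ * r₂ ^ k * y₁⁻¹ = r₂ ^ k := cj_comm (q.c21.zpow_right k).eq

theorem QQ.y₂_r₁ (k : ℤ) : y₂ * r₁ ^ k * y₂⁻¹ = r₁ ^ k := cj_comm (q.c12.symm.zpow_right k).eq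

theorem QQ.y₁_A (i j : ℤ) : y₁ * (r₁ ^ i * r₂ ^ j) * y₁⁻¹ = r₁ ^ (-i) * r₂ ^ j := by
  rw [cj_mul, q.y₁_r₁, q.y₁_r₂]

theorem QQ.y₂_A (i j : ℤ) : y₂ * (r₁ ^ i * r₂ ^ j) * y₂⁻¹ = r₁ ^ i * r₂ ^ (-j) := by
  rw [cj_mul, q.y₂_r₁, q.y₂_r₂]

theorem QQ.y_A (i j : ℤ) :
    (y₁ * y₂) * (r₁ ^ i * r₂ ^ j) * (y₁ * y₂)⁻¹ = r₁ ^ (-i) * r₂ ^ (-j) := by
  rw [cj_comp, q.y₂_A, q.y₁_A]

theorem QQ.yy : (y₁ * y₂) * (y₁ * y₂) = 1 := by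
  have h : y₂ * y₁ = y₁ * y₂ := q.c22.symm.eq
  calc (y₁ * y₂) * (y₁ * y₂) = y₁ * (y₂ * y₁) * y₂ := by group
    _ = (y₁ * y₁) * (y₂ * y₂) := by rw [h]; group
    _ = 1 := by rw [q.q₁, q.q₂, q.zz]

/-- `r₁^k . y₁ = r₁^(2k) y₁`. -/
theorem QQ.r₁_y₁ (k : ℤ) : r₁ ^ k * y₁ * (r₁ ^ k)⁻¹ = r₁ ^ (2 * k) * y₁ := by
  have h := q.y₁_r₁ (-k)
  rw [cj_eq_iff, neg_neg] at h
  calc r₁ ^ k * y₁ * (r₁ ^ k)⁻¹ = r₁ ^ k * (y₁ * r₁ ^ (-k)) := by rw [zpow_neg]; group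
    _ = r₁ ^ (2 * k) * y₁ := by rw [h, ← mul_assoc, ← zpow_add, two_mul]

theorem QQ.r₂_y₂ (k : ℤ) : r₂ ^ k * y₂ * (r₂ ^ k)⁻¹ = r₂ ^ (2 * k) * y₂ := q.symm.r₁_y₁ k

theorem QQ.A_y₁ (i j : ℤ) :
    (r₁ ^ i * r₂ ^ j) * y₁ * (r₁ ^ i * r₂ ^ j)⁻¹ = r₁ ^ (2 * i) * y₁ := by
  rw [cj_comp, cj_comm (q.c21.symm.zpow_left j).eq, q.r₁_y₁]

theorem QQ.A_y₂ (i j : ℤ) :
    (r₁ ^ i * r₂ ^ j) * y₂ * (r₁ ^ i * r₂ ^ j)⁻¹ = r₂ ^ (2 * j) * y₂ := by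
  rw [cj_comp, q.r₂_y₂, cj_mul, cj_comm (q.c11.zpow_zpow i (2 * j)).eq,
    cj_comm (q.c12.zpow_left i).eq]

theorem QQ.y₁_swap (k : ℤ) : y₁ * r₁ ^ k = r₁ ^ (-k) * y₁ := by
  have := q.y₁_r₁ k
  rwa [cj_eq_iff] at this

theorem QQ.y₂_swap (k : ℤ) : y₂ * r₂ ^ k = r₂ ^ (-k) * y₂ := q.symm.y₁_swap k

/-- Squares `(r₁^k y₁)² = z`. -/
theorem QQ.ry₁_sq (k : ℤ) : (r₁ ^ k * y₁) * (r₁ ^ k * y₁) = z := by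
  calc (r₁ ^ k * y₁) * (r₁ ^ k * y₁) = r₁ ^ k * (y₁ * r₁ ^ k) * y₁ := by group
    _ = z := by rw [q.y₁_swap, ← mul_assoc, ← zpow_add, add_neg_cancel, zpow_zero, one_mul, q.q₁]

theorem QQ.ry₂_sq (k : ℤ) : (r₂ ^ k * y₂) * (r₂ ^ k * y₂) = z := q.symm.ry₁_sq k

/-- No power of `r₁` is of the form `... y₁`: `y₁ ∉ C(r₁)`. -/
theorem QQ.y₁_ne (h : y₁ * r₁ = r₁ * y₁) : False := by
  have h1 := q.i₁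
  rw [cj_comm h] at h1
  have h2 : r₁ ^ (2 : ℤ) = 1 := by
    rw [zpow_two]; nth_rw 1 [h1]; group
  rw [q.r₁_eq_one] at h2
  have h3 : (2 : ℤ) ^ (n₁ + 2) ≤ 2 := Int.le_of_dvd (by norm_num) h2
  have h4 : (2 : ℤ) ^ (n₁ + 2) = 2 ^ n₁ * 4 := by ring
  have h5 : (1 : ℤ) ≤ 2 ^ n₁ := one_le_pow₀ (by norm_num)
  linarith

/-! ### normal form of the elements of `R` -/

/-- `s` is a word `r₁^i r₂^j y₁^a y₂^b`. -/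
def NF (r₁ y₁ r₂ y₂ s : G) : Prop :=
  ∃ i j : ℤ, s = r₁ ^ i * r₂ ^ j ∨ s = r₁ ^ i * r₂ ^ j * y₁ ∨ s = r₁ ^ i * r₂ ^ j * y₂ ∨
      s = r₁ ^ i * r₂ ^ j * (y₁ * y₂)

omit q in
theorem NF.swap (h : Commute y₁ y₂) (hc : Commute r₁ r₂) {s : G} (hs : NF r₁ y₁ r₂ y₂ s) :
    NF r₂ y₂ r₁ y₁ s := by
  obtain ⟨i, j, hs⟩ := hs
  have e : r₁ ^ i * r₂ ^ j = r₂ ^ j * r₁ ^ i := (hc.zpow_zpow i j).eq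
  rw [e] at hs
  rcases hs with h1 | h1 | h1 | h1
  · exact ⟨j, i, Or.inl h1⟩
  · exact ⟨j, i, Or.inr (Or.inr (Or.inl h1))⟩
  · exact ⟨j, i, Or.inr (Or.inl h1)⟩
  · exact ⟨j, i, Or.inr (Or.inr (Or.inr (by rw [h1, h.eq])))⟩

theorem QQ.NF_r₁ (k : ℤ) {s : G} (hs : NF r₁ y₁ r₂ y₂ s) : NF r₁ y₁ r₂ y₂ (r₁ ^ k * s) := by
  have e : ∀ (i j : ℤ) (w : G), r₁ ^ k * (r₁ ^ i * r₂ ^ j * w) = r₁ ^ (k + i) * r₂ ^ j * w :=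
    fun i j w => by rw [zpow_add]; group
  obtain ⟨i, j, h⟩ := hs
  rcases h with rfl | rfl | rfl | rfl
  · exact ⟨k + i, j, Or.inl (by simpa using e i j 1)⟩
  · exact ⟨k + i, j, Or.inr (Or.inl (e _ _ _))⟩
  · exact ⟨k + i, j, Or.inr (Or.inr (Or.inl (e _ _ _)))⟩
  · exact ⟨k + i, j, Or.inr (Or.inr (Or.inr (e _ _ _)))⟩

theorem QQ.NF_y₁ {s : G} (hs : NF r₁ y₁ r₂ y₂ s) : NF r₁ y₁ r₂ y₂ (y₁ * s) := by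
  have hy1 : ∀ i j : ℤ, y₁ * (r₁ ^ i * r₂ ^ j) = r₁ ^ (-i) * r₂ ^ j * y₁ := fun i j => by
    have := q.y₁_A i j; rwa [cj_eq_iff] at this
  have z1 : z = r₁ ^ ((2 : ℤ) ^ (n₁ + 1)) * r₂ ^ (0 : ℤ) := by
    have := q.r₁_z 1
    rw [mul_one, zpow_one] at this
    rw [this, zpow_zero, mul_one]
  have hz : ∀ i j : ℤ, r₁ ^ i * r₂ ^ j * z = r₁ ^ (i + 2 ^ (n₁ + 1)) * r₂ ^ j := fun i j => by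
    rw [z1, q.A_mul, add_zero]
  obtain ⟨i, j, h⟩ := hs
  rcases h with rfl | rfl | rfl | rfl
  · exact ⟨-i, j, Or.inr (Or.inl (hy1 i j))⟩
  · refine ⟨-i + 2 ^ (n₁ + 1), j, Or.inl ?_⟩
    rw [← mul_assoc, hy1, mul_assoc, q.q₁, hz]
  · exact ⟨-i, j, Or.inr (Or.inr (Or.inr (by rw [← mul_assoc, hy1, mul_assoc])))⟩
  · refine ⟨-i + 2 ^ (n₁ + 1), j, Or.inr (Or.inr (Or.inl ?_))⟩
    rw [← mul_assoc, hy1, mul_assoc, ← mul_assoc y₁ y₁, q.q₁, ← mul_assoc, hz]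

theorem QQ.mem_R {s : G} (hs : s ∈ closure {r₁, y₁, r₂, y₂}) : NF r₁ y₁ r₂ y₂ s := by
  have A1 : ∀ (k : ℤ) (t : G), NF r₁ y₁ r₂ y₂ t → NF r₁ y₁ r₂ y₂ (r₁ ^ k * t) :=
    fun k t ht => q.NF_r₁ k ht
  have A2 : ∀ (k : ℤ) (t : G), NF r₁ y₁ r₂ y₂ t → NF r₁ y₁ r₂ y₂ (r₂ ^ k * t) := fun k t ht =>
    NF.swap q.c22.symm q.c11.symm (q.symm.NF_r₁ k (NF.swap q.c22 q.c11 ht))
  have B1 : ∀ t : G, NF r₁ y₁ r₂ y₂ t → NF r₁ y₁ r₂ y₂ (y₁ * t) := fun t ht => q.NF_y₁ ht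
  have B2 : ∀ t : G, NF r₁ y₁ r₂ y₂ t → NF r₁ y₁ r₂ y₂ (y₂ * t) := fun t ht =>
    NF.swap q.c22.symm q.c11.symm (q.symm.NF_y₁ (NF.swap q.c22 q.c11 ht))
  have iy1 : y₁⁻¹ = y₁ * (y₁ * y₁) := by
    rw [q.q₁, inv_eq_iff_mul_eq_one, ← mul_assoc, q.q₁, q.zz]
  have iy2 : y₂⁻¹ = y₂ * (y₂ * y₂) := by
    rw [q.q₂, inv_eq_iff_mul_eq_one, ← mul_assoc, q.q₂, q.zz]
  induction hs using closure_induction_left with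
  | one => exact ⟨0, 0, Or.inl (by simp)⟩
  | mul_left x hx t _ h =>
    simp only [Set.mem_insert_iff, Set.mem_singleton_iff] at hx
    rcases hx with rfl | rfl | rfl | rfl
    · simpa using A1 1 t h
    · exact B1 t h
    · simpa using A2 1 t h
    · exact B2 t h
  | inv_mul_cancel x hx t _ h =>
    simp only [Set.mem_insert_iff, Set.mem_singleton_iff] at hx
    rcases hx with rfl | rfl | rfl | rfl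
    · simpa using A1 (-1) t h
    · rw [iy1, mul_assoc, mul_assoc]; exact B1 _ (B1 _ (B1 _ h))
    · simpa using A2 (-1) t h
    · rw [iy2, mul_assoc, mul_assoc]; exact B2 _ (B2 _ (B2 _ h))

/-- The element `aᵢ = rᵢ ^ (2 ^ nᵢ)` of order 4. -/
theorem QQ.a₁_sq : r₁ ^ ((2 : ℤ) ^ n₁) * r₁ ^ ((2 : ℤ) ^ n₁) = z := by
  rw [← zpow_add, ← two_mul, ← pow_succ']
  simpa using q.r₁_z 1

theorem QQ.y₁_a₁_ne (h : y₁ * r₁ ^ ((2 : ℤ) ^ n₁) * y₁⁻¹ = r₁ ^ ((2 : ℤ) ^ n₁)) : False := by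
  rw [q.y₁_r₁, zpow_neg, inv_eq_iff_mul_eq_one, q.a₁_sq] at h
  exact q.z1 h

/-- An element of `R` centralizing `a₁` and `a₂` lies in `⟨r₁, r₂⟩`. -/
theorem QQ.NF_A0 {s : G} (hs : NF r₁ y₁ r₂ y₂ s)
    (h1 : s * r₁ ^ ((2 : ℤ) ^ n₁) * s⁻¹ = r₁ ^ ((2 : ℤ) ^ n₁))
    (h2 : s * r₂ ^ ((2 : ℤ) ^ n₂) * s⁻¹ = r₂ ^ ((2 : ℤ) ^ n₂)) :
    ∃ i j : ℤ, s = r₁ ^ i * r₂ ^ j := by
  have e1 : ∀ (i j k : ℤ), (r₁ ^ i * r₂ ^ j) * r₁ ^ k * (r₁ ^ i * r₂ ^ j)⁻¹ = r₁ ^ k :=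
    fun i j k => cj_comm (((Commute.refl r₁).zpow_zpow i k).mul_left (q.c11.zpow_zpow k j).symm).eq
  have e2 : ∀ (i j k : ℤ), (r₁ ^ i * r₂ ^ j) * r₂ ^ k * (r₁ ^ i * r₂ ^ j)⁻¹ = r₂ ^ k :=
    fun i j k => cj_comm ((q.c11.zpow_zpow i k).mul_left ((Commute.refl r₂).zpow_zpow j k)).eq
  obtain ⟨i, j, hs | hs | hs | hs⟩ := hs
  · exact ⟨i, j, hs⟩
  · exfalso
    rw [hs, cj_comp, q.y₁_r₁, e1] at h1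
    exact q.y₁_a₁_ne (by rw [q.y₁_r₁]; exact h1)
  · exfalso
    rw [hs, cj_comp, q.y₂_r₂, e2] at h2
    exact q.symm.y₁_a₁_ne (by rw [q.y₂_r₂]; exact h2)
  · exfalso
    rw [hs, cj_comp, cj_comp y₁ y₂, q.y₂_r₁, q.y₁_r₁, e1] at h1
    exact q.y₁_a₁_ne (by rw [q.y₁_r₁]; exact h1)

theorem QQ.r₁y₁_inj {j j' : ℤ} (h : r₁ ^ j * y₁ = r₁ ^ j' * y₁) : (2 : ℤ) ^ (n₁ + 2) ∣ j - j' := by
  rw [← q.r₁_eq_one, zpow_sub, mul_right_cancel h, mul_inv_cancel]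

theorem QQ.r₁_inj {j j' : ℤ} (h : r₁ ^ j = r₁ ^ j') : (2 : ℤ) ^ (n₁ + 2) ∣ j - j' := by
  rw [← q.r₁_eq_one, zpow_sub, h, mul_inv_cancel]

/-- Elements centralizing `R` and lying in `R`. -/
theorem QQ.NF_central {s : G} (hs : NF r₁ y₁ r₂ y₂ s) (h1 : s * r₁ = r₁ * s) (h2 : s * r₂ = r₂ * s)
    (h3 : s * y₁ = y₁ * s) (h4 : s * y₂ = y₂ * s) : s = 1 ∨ s = z := by
  obtain ⟨i, j, rfl⟩ := q.NF_A0 hs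
    (cj_comm ((show Commute s r₁ from h1).zpow_right _).eq)
    (cj_comm ((show Commute s r₂ from h2).zpow_right _).eq)
  have e1 := cj_comm h3
  have e2 := cj_comm h4
  rw [q.A_y₁] at e1
  rw [q.A_y₂] at e2
  have d1 : (2 : ℤ) ^ (n₁ + 2) ∣ 2 * i := by
    rw [← q.r₁_eq_one]; exact mul_eq_right.1 e1
  have d2 : (2 : ℤ) ^ (n₂ + 2) ∣ 2 * j := by
    rw [← q.r₂_eq_one]; exact mul_eq_right.1 e2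
  have f1 : (2 : ℤ) ^ (n₁ + 1) ∣ i := by
    rw [show (2 : ℤ) ^ (n₁ + 2) = 2 * 2 ^ (n₁ + 1) by ring] at d1
    exact Int.dvd_of_mul_dvd_mul_left (by norm_num) d1
  have f2 : (2 : ℤ) ^ (n₂ + 1) ∣ j := by
    rw [show (2 : ℤ) ^ (n₂ + 2) = 2 * 2 ^ (n₂ + 1) by ring] at d2
    exact Int.dvd_of_mul_dvd_mul_left (by norm_num) d2
  obtain ⟨a, rfl⟩ := f1
  obtain ⟨b, rfl⟩ := f2
  rw [q.r₁_z, q.r₂_z, ← zpow_add]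
  exact q.z_zpow_cases _

end QQ

/-! ### the frame -/

section Fr

variable {S : Subgroup G} {n₁ n₂ : ℕ} {z r₁ y₁ r₂ y₂ : G} (F : Fr S n₁ n₂ z r₁ y₁ r₂ y₂)

theorem Non.symm {s : G} (h : Non r₁ y₁ r₂ y₂ s) : Non r₂ y₂ r₁ y₁ s :=
  ⟨h.2.1, h.1, h.2.2.2, h.2.2.1⟩

theorem Swp.symm {s : G} (h : Swp r₁ y₁ r₂ y₂ s) : Swp r₂ y₂ r₁ y₁ s :=
  ⟨h.2.1, h.1, h.2.2.2, h.2.2.1⟩

include F

theorem Fr.symm : Fr S n₂ n₁ z r₂ y₂ r₁ y₁ where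
  toQQ := F.toQQ.symm
  mr₁ := F.mr₂
  my₁ := F.my₂
  mr₂ := F.mr₁
  my₂ := F.my₁
  cen := F.cen
  act := fun s hs => (F.act s hs).imp Non.symm Swp.symm
  ker := fun s hs h1 h2 h3 h4 => by
    have := F.ker s hs h2 h1 h4 h3
    have e : ({r₂, y₂, r₁, y₁} : Set G) = {r₁, y₁, r₂, y₂} := by
      ext x; simp only [Set.mem_insert_iff, Set.mem_singleton_iff]; tauto
    rwa [e]

theorem Fr.cz {s : G} (hs : s ∈ S) : s * z * s⁻¹ = z := cj_comm (F.cen s hs)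

/-- the exponent of `s` on `r₁` is odd. -/
theorem Fr.odd₁ {s : G} (hs : s ∈ S) {u : ℤ} (h : s * r₁ * s⁻¹ = r₁ ^ u) : Odd u := by
  by_contra hu
  rw [Int.not_odd_iff_even] at hu
  have h1 := F.cz hs
  have h2 : z = r₁ ^ ((2 : ℤ) ^ (n₁ + 1)) := by have := F.toQQ.r₁_z 1; simpa using this.symm
  have h3 : s * z * s⁻¹ = 1 := by
    rw [h2, cj_zpow, h, ← zpow_mul, mul_comm, F.toQQ.r₁_z, F.toQQ.z_zpow_even hu]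
  exact F.z1 (h1.symm.trans h3)

theorem Fr.odd₂ {s : G} (hs : s ∈ S) {u : ℤ} (h : s * r₂ * s⁻¹ = r₂ ^ u) : Odd u :=
  F.symm.odd₁ hs h

theorem Fr.le_swp₁ {s : G} (hs : s ∈ S) {u : ℤ} (h : s * r₁ * s⁻¹ = r₂ ^ u) : n₁ ≤ n₂ := by
  have h2 : z = r₁ ^ ((2 : ℤ) ^ (n₁ + 1)) := by have := F.toQQ.r₁_z 1; simpa using this.symm
  have h3 : r₂ ^ (u * 2 ^ (n₁ + 1)) = z := by
    rw [zpow_mul, ← h, ← cj_zpow, ← h2, F.cz hs]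
  by_contra hlt
  push Not at hlt
  apply F.z1
  rw [← h3, F.toQQ.r₂_eq_one]
  exact Dvd.dvd.mul_left (pow_dvd_pow 2 (by omega)) u

theorem Fr.eq_of_swp {s : G} (hs : s ∈ S) (h : Swp r₁ y₁ r₂ y₂ s) : n₁ = n₂ := by
  obtain ⟨⟨u, hu⟩, ⟨v, hv⟩, -, -⟩ := h
  exact le_antisymm (F.le_swp₁ hs hu) (F.symm.le_swp₁ hs hv)

end Fr

section Fr'

variable {S : Subgroup G} {n n₁ n₂ : ℕ} {z r₁ y₁ r₂ y₂ : G}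

theorem Fr.odd_swp₁ (F : Fr S n n z r₁ y₁ r₂ y₂) {s : G} (hs : s ∈ S) {u : ℤ}
    (h : s * r₁ * s⁻¹ = r₂ ^ u) : Odd u := by
  have h2 : z = r₁ ^ ((2 : ℤ) ^ (n + 1)) := by have := F.toQQ.r₁_z 1; simpa using this.symm
  have h3 : r₂ ^ (2 ^ (n + 1) * u) = z := by
    rw [mul_comm, zpow_mul, ← h, ← cj_zpow, ← h2, F.cz hs]
  by_contra hu
  rw [Int.not_odd_iff_even] at hu
  rw [F.toQQ.r₂_z, F.toQQ.z_zpow_even hu] at h3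
  exact F.z1 h3.symm

variable (F : Fr S n₁ n₂ z r₁ y₁ r₂ y₂)

include F

/-- `NF` elements are in `S`. -/
theorem Fr.mA (i j : ℤ) : r₁ ^ i * r₂ ^ j ∈ S := S.mul_mem (S.zpow_mem F.mr₁ i) (S.zpow_mem F.mr₂ j)

theorem Fr.NF_ker {s : G} (hs : s ∈ S) (h1 : ∃ u : ℤ, s * r₁ * s⁻¹ = r₁ ^ u)
    (h2 : ∃ u : ℤ, s * r₂ * s⁻¹ = r₂ ^ u) (h3 : ∃ j : ℤ, Even j ∧ s * y₁ * s⁻¹ = r₁ ^ j * y₁)
    (h4 : ∃ j : ℤ, Even j ∧ s * y₂ * s⁻¹ = r₂ ^ j * y₂) : NF r₁ y₁ r₂ y₂ s := by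
  obtain ⟨j, ⟨k, rfl⟩, h3⟩ := h3
  obtain ⟨j', ⟨k', rfl⟩, h4⟩ := h4
  exact F.toQQ.mem_R (F.ker s hs h1 h2 ⟨k, by rw [h3, two_mul]⟩ ⟨k', by rw [h4, two_mul]⟩)

/-- The centralizer of `R` in `S` is `⟨z⟩`. -/
theorem Fr.central {s : G} (hs : s ∈ S) (h1 : s * r₁ = r₁ * s) (h2 : s * r₂ = r₂ * s)
    (h3 : s * y₁ = y₁ * s) (h4 : s * y₂ = y₂ * s) : s = 1 ∨ s = z := by
  refine F.toQQ.NF_central (F.NF_ker hs ⟨1, ?_⟩ ⟨1, ?_⟩ ⟨0, Even.zero, ?_⟩ ⟨0, Even.zero, ?_⟩)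
    h1 h2 h3 h4
  · rw [cj_comm h1, zpow_one]
  · rw [cj_comm h2, zpow_one]
  · rw [cj_comm h3, zpow_zero, one_mul]
  · rw [cj_comm h4, zpow_zero, one_mul]

omit F in
/-- The action of `s t`. -/
theorem cj_y {s t r y : G} {u j k : ℤ} (hr : s * r * s⁻¹ = r ^ u) (hs : s * y * s⁻¹ = r ^ j * y)
    (ht : t * y * t⁻¹ = r ^ k * y) : (s * t) * y * (s * t)⁻¹ = r ^ (u * k + j) * y := by
  rw [cj_comp, ht, cj_mul, cj_zpow, hr, hs, ← zpow_mul, ← mul_assoc, ← zpow_add]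

omit F in
theorem cj_r {s t r : G} {u v : ℤ} (hs : s * r * s⁻¹ = r ^ u) (ht : t * r * t⁻¹ = r ^ v) :
    (s * t) * r * (s * t)⁻¹ = r ^ (u * v) := by
  rw [cj_comp, ht, cj_zpow, hs, ← zpow_mul]

/-- The square of a nonswapping element lies in `R`. -/
theorem Fr.sq_NF {s : G} (hs : s ∈ S) (h : Non r₁ y₁ r₂ y₂ s) : NF r₁ y₁ r₂ y₂ (s * s) := by
  obtain ⟨⟨u, hu⟩, ⟨v, hv⟩, ⟨j, hj⟩, ⟨k, hk⟩⟩ := h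
  have ou := F.odd₁ hs hu
  have ov := F.odd₂ hs hv
  refine F.NF_ker (S.mul_mem hs hs) ⟨_, cj_r hu hu⟩ ⟨_, cj_r hv hv⟩ ⟨_, ?_, cj_y hu hj hj⟩
    ⟨_, ?_, cj_y hv hk hk⟩
  · obtain ⟨m, rfl⟩ := ou
    exact ⟨(m + 1) * j, by ring⟩
  · obtain ⟨m, rfl⟩ := ov
    exact ⟨(m + 1) * k, by ring⟩

omit F in
/-- arithmetic: `u ≡ 1 mod 4`, `u² ≡ 1 mod 2^(n+2)` implies `u ≡ 1 mod 2^(n+1)`. -/
theorem arith1 {n : ℕ} {u : ℤ} (h4 : (4 : ℤ) ∣ u - 1) (h : (2 : ℤ) ^ (n + 2) ∣ u * u - 1) :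
    (2 : ℤ) ^ (n + 1) ∣ u - 1 := by
  obtain ⟨k, hk⟩ := h4
  have e : u * u - 1 = 2 * ((u - 1) * (2 * k + 1)) := by
    have : u = 4 * k + 1 := by linarith
    subst this; ring
  rw [e, show (2 : ℤ) ^ (n + 2) = 2 * 2 ^ (n + 1) by ring] at h
  have h1 := Int.dvd_of_mul_dvd_mul_left (by norm_num) h
  have hc : IsCoprime ((2 : ℤ) ^ (n + 1)) (2 * k + 1) := by
    apply IsCoprime.pow_left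
    exact ⟨-k, 1, by ring⟩
  exact hc.dvd_of_dvd_mul_right h1

theorem Fr.fix_four {s : G} {u : ℤ} (h : s * r₁ * s⁻¹ = r₁ ^ u)
    (h1 : s * r₁ ^ ((2 : ℤ) ^ n₁) * s⁻¹ = r₁ ^ ((2 : ℤ) ^ n₁)) : (4 : ℤ) ∣ u - 1 := by
  rw [cj_zpow, h, ← zpow_mul] at h1
  have h2 := F.toQQ.r₁_inj h1
  rw [show u * 2 ^ n₁ - 2 ^ n₁ = 2 ^ n₁ * (u - 1) by ring,
    show (2 : ℤ) ^ (n₁ + 2) = 2 ^ n₁ * 4 by ring] at h2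
  exact Int.dvd_of_mul_dvd_mul_left (by positivity) h2

theorem Fr.four_fix {s : G} {u : ℤ} (h : s * r₁ * s⁻¹ = r₁ ^ u) (h1 : (4 : ℤ) ∣ u - 1) :
    s * r₁ ^ ((2 : ℤ) ^ n₁) * s⁻¹ = r₁ ^ ((2 : ℤ) ^ n₁) := by
  obtain ⟨k, hk⟩ := h1
  rw [cj_zpow, h, ← zpow_mul, ← mul_inv_eq_one, ← zpow_sub, F.toQQ.r₁_eq_one]
  refine ⟨k, ?_⟩
  have : u = 1 + 4 * k := by linarith
  subst this; ring

/-- one half of (1.2) -/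
theorem Fr.key_aux {s : G} {i j u j₁ : ℤ} (hu : s * r₁ * s⁻¹ = r₁ ^ u)
    (hj₁ : s * y₁ * s⁻¹ = r₁ ^ j₁ * y₁)
    (h1 : s * r₁ ^ ((2 : ℤ) ^ n₁) * s⁻¹ = r₁ ^ ((2 : ℤ) ^ n₁)) (hss : s * s = r₁ ^ i * r₂ ^ j) :
    ∃ f : ℤ, s * r₁ * s⁻¹ = r₁ * z ^ f ∧ (2 : ℤ) ^ (n₁ + 1) ∣ i - (j₁ + 2 ^ n₁ * (f * j₁)) ∧
      (n₁ = 0 → Even f) := by
  have q := F.toQQ
  have h4 := F.fix_four hu h1
  have e1 : (s * s) * r₁ * (s * s)⁻¹ = r₁ ^ (u * u) := cj_r hu hu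
  have e2 : (s * s) * r₁ * (s * s)⁻¹ = r₁ ^ (1 : ℤ) := by
    rw [hss, zpow_one]
    exact cj_comm (((Commute.refl r₁).zpow_left i).mul_left (q.c11.symm.zpow_left j)).eq
  have h5 := q.r₁_inj (e1.symm.trans e2)
  obtain ⟨f, hf⟩ := arith1 h4 h5
  have hu' : u = 1 + 2 ^ (n₁ + 1) * f := by linarith
  have e3 : s * r₁ * s⁻¹ = r₁ * z ^ f := by
    rw [hu, hu', zpow_add, zpow_one, q.r₁_z]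
  refine ⟨f, e3, ?_, ?_⟩
  · have e4 : (s * s) * y₁ * (s * s)⁻¹ = r₁ ^ (u * j₁ + j₁) * y₁ := cj_y hu hj₁ hj₁
    have e5 : (s * s) * y₁ * (s * s)⁻¹ = r₁ ^ (2 * i) * y₁ := by rw [hss, q.A_y₁]
    have h6 := q.r₁y₁_inj (e5.symm.trans e4)
    rw [hu', show 2 * i - ((1 + 2 ^ (n₁ + 1) * f) * j₁ + j₁) =
      2 * (i - (j₁ + 2 ^ n₁ * (f * j₁))) by ring,
      show (2 : ℤ) ^ (n₁ + 2) = 2 * 2 ^ (n₁ + 1) by ring] at h6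
    exact Int.dvd_of_mul_dvd_mul_left (by norm_num) h6
  · rintro rfl
    rw [pow_zero, zpow_one, e3] at h1
    rw [even_iff_two_dvd, ← q.z_zpow_eq_one]
    exact mul_eq_left.1 h1

/-- (1.2). -/
theorem Fr.key {s : G} (hs : s ∈ S) (hN : Non r₁ y₁ r₂ y₂ s)
    (h1 : s * r₁ ^ ((2 : ℤ) ^ n₁) * s⁻¹ = r₁ ^ ((2 : ℤ) ^ n₁))
    (h2 : s * r₂ ^ ((2 : ℤ) ^ n₂) * s⁻¹ = r₂ ^ ((2 : ℤ) ^ n₂)) :
    ∃ f₁ f₂ i j j₁ j₂ : ℤ, s * r₁ * s⁻¹ = r₁ * z ^ f₁ ∧ s * r₂ * s⁻¹ = r₂ * z ^ f₂ ∧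
      s * y₁ * s⁻¹ = r₁ ^ j₁ * y₁ ∧ s * y₂ * s⁻¹ = r₂ ^ j₂ * y₂ ∧ s * s = r₁ ^ i * r₂ ^ j ∧
      (2 : ℤ) ^ (n₁ + 1) ∣ i - (j₁ + 2 ^ n₁ * (f₁ * j₁)) ∧
      (2 : ℤ) ^ (n₂ + 1) ∣ j - (j₂ + 2 ^ n₂ * (f₂ * j₂)) ∧ Even (f₁ * i + f₂ * j) ∧
      (n₁ = 0 → Even f₁) ∧ (n₂ = 0 → Even f₂) := by
  have q := F.toQQ
  have hsq := F.sq_NF hs hN
  obtain ⟨⟨u, hu⟩, ⟨v, hv⟩, ⟨j₁, hj₁⟩, ⟨j₂, hj₂⟩⟩ := hN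
  obtain ⟨i, j, hss⟩ := q.NF_A0 hsq (by rw [cj_comp, h1, h1]) (by rw [cj_comp, h2, h2])
  obtain ⟨f₁, a1, b1, c1⟩ := F.key_aux hu hj₁ h1 hss
  obtain ⟨f₂, a2, b2, c2⟩ := F.symm.key_aux hv hj₂ h2 (hss.trans (q.c11.zpow_zpow i j).eq)
  refine ⟨f₁, f₂, i, j, j₁, j₂, a1, a2, hj₁, hj₂, hss, b1, b2, ?_, c1, c2⟩
  have e1 : s * (s * s) * s⁻¹ = s * s := by group
  rw [hss, cj_mul, cj_zpow, cj_zpow, a1, a2, (q.zr₁.symm.zpow_right f₁).mul_zpow,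
    (q.zr₂.symm.zpow_right f₂).mul_zpow, ← zpow_mul, ← zpow_mul] at e1
  rw [even_iff_two_dvd, ← q.z_zpow_eq_one, zpow_add]
  have e2 : z ^ (f₁ * i) * r₂ ^ j = r₂ ^ j * z ^ (f₁ * i) := (q.zr₂.zpow_zpow _ _).eq
  have e3 : r₁ ^ i * r₂ ^ j * (z ^ (f₁ * i) * z ^ (f₂ * j)) = r₁ ^ i * r₂ ^ j := by
    calc r₁ ^ i * r₂ ^ j * (z ^ (f₁ * i) * z ^ (f₂ * j))
        = r₁ ^ i * (r₂ ^ j * z ^ (f₁ * i)) * z ^ (f₂ * j) := by group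
      _ = r₁ ^ i * z ^ (f₁ * i) * (r₂ ^ j * z ^ (f₂ * j)) := by rw [← e2]; group
      _ = _ := e1
  exact mul_eq_left.1 e3

/-- Multiply a nonswapping element by `1, y₁, y₂, y₁y₂` to centralize `a₁, a₂`. -/
theorem Fr.exists_cent {s : G} (hs : s ∈ S) {j₁ j₂ : ℤ} (hN : Non r₁ y₁ r₂ y₂ s)
    (hj₁ : s * y₁ * s⁻¹ = r₁ ^ j₁ * y₁) (hj₂ : s * y₂ * s⁻¹ = r₂ ^ j₂ * y₂) :
    ∃ w ∈ closure {r₁, y₁, r₂, y₂}, (s * w) ∈ S ∧ Non r₁ y₁ r₂ y₂ (s * w) ∧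
      (s * w) * r₁ ^ ((2 : ℤ) ^ n₁) * (s * w)⁻¹ = r₁ ^ ((2 : ℤ) ^ n₁) ∧
      (s * w) * r₂ ^ ((2 : ℤ) ^ n₂) * (s * w)⁻¹ = r₂ ^ ((2 : ℤ) ^ n₂) ∧
      (s * w) * y₁ * (s * w)⁻¹ = r₁ ^ j₁ * y₁ ∧ (s * w) * y₂ * (s * w)⁻¹ = r₂ ^ j₂ * y₂ := by
  have q := F.toQQ
  have my1 : y₁ ∈ closure {r₁, y₁, r₂, y₂} := subset_closure (by simp)
  have my2 : y₂ ∈ closure {r₁, y₁, r₂, y₂} := subset_closure (by simp)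
  obtain ⟨⟨u, hu⟩, ⟨v, hv⟩, -, -⟩ := hN
  have ou := F.odd₁ hs hu
  have ov := F.odd₂ hs hv
  -- first factor
  have key1 : ∀ t : G, t ∈ S → (∃ u : ℤ, t * r₁ * t⁻¹ = r₁ ^ u) →
      (∃ v : ℤ, t * r₂ * t⁻¹ = r₂ ^ v) → t * y₁ * t⁻¹ = r₁ ^ j₁ * y₁ →
      t * y₂ * t⁻¹ = r₂ ^ j₂ * y₂ → ∃ w ∈ closure {r₁, y₁, r₂, y₂}, w ∈ S ∧
      (∃ u : ℤ, (4 : ℤ) ∣ u - 1 ∧ (t * w) * r₁ * (t * w)⁻¹ = r₁ ^ u) ∧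
      (∀ v : ℤ, t * r₂ * t⁻¹ = r₂ ^ v → (t * w) * r₂ * (t * w)⁻¹ = r₂ ^ v) ∧
      (t * w) * y₁ * (t * w)⁻¹ = r₁ ^ j₁ * y₁ ∧ (t * w) * y₂ * (t * w)⁻¹ = r₂ ^ j₂ * y₂ := by
    rintro t ht ⟨u, hu⟩ ⟨v, hv⟩ h3 h4
    obtain ⟨m, rfl⟩ := F.odd₁ ht hu
    rcases Int.even_or_odd m with ⟨k, hk⟩ | ⟨k, hk⟩
    · exact ⟨1, one_mem _, one_mem _, ⟨2 * m + 1, ⟨k, by rw [hk]; ring⟩, by simpa using hu⟩,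
        fun v hv => by simpa using hv, by simpa using h3, by simpa using h4⟩
    · refine ⟨y₁, my1, F.my₁, ⟨-(2 * m + 1), ⟨-(k + 1), by rw [hk]; ring⟩, ?_⟩, ?_, ?_, ?_⟩
      · rw [cj_comp, q.i₁, ← zpow_neg_one, cj_zpow, hu, ← zpow_mul]; congr 1; ring
      · intro v hv
        rw [cj_comp, cj_comm q.c21.eq, hv]
      · rw [cj_comp, cj_comm rfl, h3]
      · rw [cj_comp, cj_comm q.c22.eq, h4]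
  obtain ⟨w, hw, hwS, ⟨u', hu4, hu'⟩, hr2, hy1, hy2⟩ := key1 s hs ⟨u, hu⟩ ⟨v, hv⟩ hj₁ hj₂
  have hv' := hr2 v hv
  have hsw : s * w ∈ S := S.mul_mem hs hwS
  obtain ⟨m, rfl⟩ := ov
  rcases Int.even_or_odd m with ⟨k, hk⟩ | ⟨k, hk⟩
  · refine ⟨w, hw, hsw, ⟨⟨_, hu'⟩, ⟨_, hv'⟩, ⟨_, hy1⟩, ⟨_, hy2⟩⟩, F.four_fix hu' hu4,
      F.symm.four_fix hv' ⟨k, by rw [hk]; ring⟩, hy1, hy2⟩
  · have e1 : (s * (w * y₂)) * r₁ * (s * (w * y₂))⁻¹ = r₁ ^ u' := by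
      rw [← mul_assoc, cj_comp (s * w), cj_comm q.c12.symm.eq, hu']
    have e2 : (s * (w * y₂)) * r₂ * (s * (w * y₂))⁻¹ = r₂ ^ (-(2 * m + 1)) := by
      rw [← mul_assoc, cj_comp (s * w), q.i₂, ← zpow_neg_one, cj_zpow, hv', ← zpow_mul]
      congr 1; ring
    have e3 : (s * (w * y₂)) * y₁ * (s * (w * y₂))⁻¹ = r₁ ^ j₁ * y₁ := by
      rw [← mul_assoc, cj_comp (s * w), cj_comm q.c22.symm.eq, hy1]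
    have e4 : (s * (w * y₂)) * y₂ * (s * (w * y₂))⁻¹ = r₂ ^ j₂ * y₂ := by
      rw [← mul_assoc, cj_comp (s * w), cj_comm rfl, hy2]
    exact ⟨w * y₂, mul_mem hw my2, by rw [← mul_assoc]; exact S.mul_mem hsw F.my₂,
      ⟨⟨_, e1⟩, ⟨_, e2⟩, ⟨_, e3⟩, ⟨_, e4⟩⟩, F.four_fix e1 hu4,
      F.symm.four_fix e2 ⟨-(k + 1), by rw [hk]; ring⟩, e3, e4⟩

end Fr'

end Cfsg.Agent.GH.Q2.Frame
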