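import Mathlib
import Cfsg.Agent.ThreePrime.Transfer

/-!
# GH-Q, case (II): fusion lemmas

`extremal` = (C); `transfer` = (T1) and (T2).
-/

set_option autoImplicit false

namespace Cfsg.Agent.GH.Q2.FusC

open Subgroup

variable {G : Type*} [Group G]

/-- A `2`-subgroup of `C` is conjugate in `C` into a Sylow `2`-subgroup of `G` contained in `C`. -/
theorem conj_into [Finite G] (S : Sylow 2 G) {C : Subgroup G} (hSC : (S : Subgroup G) ≤ C) {P : Subgroup G}
    (hP : IsPGroup 2 P) (hPC : P ≤ C) : ∃ c ∈ C, ∀ p ∈ P, c * p * c⁻¹ ∈ (S : Subgroup G) := by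
  have : Fact (Nat.Prime 2) := ⟨Nat.prime_two⟩
  have h1 : IsPGroup 2 (P.subgroupOf C) := hP.comap_of_injective C.subtype Subtype.val_injective
  obtain ⟨Q, hQ⟩ := h1.exists_le_sylow
  obtain ⟨c, hc⟩ := MulAction.exists_smul_eq C Q (S.subtype hSC)
  refine ⟨c, c.2, fun p hp => ?_⟩
  have h2 : (⟨p, hPC hp⟩ : C) ∈ (Q : Subgroup C) := hQ hp
  have h3 : c * ⟨p, hPC hp⟩ * c⁻¹ ∈ ((c • Q : Sylow 2 C) : Subgroup C) := by
    rw [Sylow.coe_subgroup_smul]
    exact ⟨_, h2, rfl⟩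
  rw [hc] at h3
  exact h3

/-- (C): an element `s ≠ z` of `S` conjugate to `z` has a `C(z)`-conjugate `s'` in `S` such that some element of `C(s')`
normalises `C_S(s')` and does not centralise `z`. -/
theorem extremal [Finite G] (S : Sylow 2 G) {z : G}
    (cen : ∀ u ∈ (S : Subgroup G), u * z = z * u)
    (Zs : ∀ u ∈ (S : Subgroup G), (∀ v ∈ (S : Subgroup G), v * u = u * v) → u = 1 ∨ u = z) {s : G}
    (hs : s ∈ (S : Subgroup G)) (hsz : s ≠ z) (h1 : s ≠ 1) {g₀ : G} (hg₀ : g₀ * s * g₀⁻¹ = z) :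
    ∃ c : G, c * z = z * c ∧ c * s * c⁻¹ ∈ (S : Subgroup G) ∧ ∃ g : G, g * (c * s * c⁻¹) * g⁻¹ = c * s * c⁻¹ ∧
      (∀ w ∈ (S : Subgroup G), w * (c * s * c⁻¹) = c * s * c⁻¹ * w → g * w * g⁻¹ ∈ (S : Subgroup G)) ∧
      g * z * g⁻¹ ≠ z := by
  have : Fact (Nat.Prime 2) := ⟨Nat.prime_two⟩
  classical
  set C : Subgroup G := centralizer {z} with hC
  have memC : ∀ {u : G}, u ∈ C ↔ u * z = z * u := by
    intro u
    rw [hC, mem_centralizer_singleton_iff]
  have hSC : (S : Subgroup G) ≤ C := fun u hu => memC.2 (cen u hu)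
  -- a Sylow subgroup of `C(s) ∩ C(z)`
  set D : Subgroup G := centralizer {s} ⊓ C with hD
  have memD : ∀ {u : G}, u ∈ D ↔ u * s = s * u ∧ u * z = z * u := by
    intro u
    rw [hD, mem_inf, memC, mem_centralizer_singleton_iff]
  have hsD : s ∈ D := memD.2 ⟨rfl, cen s hs⟩
  have hs2 : IsPGroup 2 (zpowers s) := S.isPGroup'.to_le (by rwa [zpowers_le])
  have hsD2 : IsPGroup 2 (zpowers (⟨s, hsD⟩ : D)) := by
    have h2 := hs2.comap_of_injective D.subtype Subtype.val_injective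
    refine h2.to_le ?_
    rw [zpowers_le]
    exact mem_zpowers s
  obtain ⟨P, hP⟩ := hsD2.exists_le_sylow
  have hPm : ∀ {u : G}, u ∈ (P : Subgroup D).map D.subtype ↔ ∃ h : u ∈ D, (⟨u, h⟩ : D) ∈ (P : Subgroup D) := by
    intro u
    constructor
    · rintro ⟨v, hv, rfl⟩
      exact ⟨v.2, hv⟩
    · rintro ⟨h, hu⟩
      exact ⟨⟨u, h⟩, hu, rfl⟩
  obtain ⟨c, hcC, hc⟩ := conj_into S hSC (P := (P : Subgroup D).map D.subtype) (P.isPGroup'.map D.subtype)
    (fun u hu => (memD.1 (hPm.1 hu).1).2 |> memC.2)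
  have hcz := memC.1 hcC
  have hsP : s ∈ (P : Subgroup D).map D.subtype := hPm.2 ⟨hsD, hP (mem_zpowers _)⟩
  have hs' : c * s * c⁻¹ ∈ (S : Subgroup G) := hc s hsP
  refine ⟨c, hcz, hs', ?_⟩
  by_contra hcon
  push Not at hcon
  set s' : G := c * s * c⁻¹ with hs'def
  -- `W = C_S(s')`
  set W : Subgroup G := (S : Subgroup G) ⊓ centralizer {s'} with hW
  have memW : ∀ {u : G}, u ∈ W ↔ u ∈ (S : Subgroup G) ∧ u * s' = s' * u := by
    intro u
    rw [hW, mem_inf, mem_centralizer_singleton_iff]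
  have hWp : IsPGroup 2 W := S.isPGroup'.to_le inf_le_left
  -- `W` is a maximal `2`-subgroup of `C(s') ∩ C(z)`
  have hmax : ∀ T : Subgroup G, IsPGroup 2 T → W ≤ T → (∀ t ∈ T, t * s' = s' * t ∧ t * z = z * t) → T ≤ W := by
    intro T hT hWT hTc
    -- conjugate back
    have k1 : T.map (MulAut.conj c⁻¹).toMonoidHom ≤ D := by
      rintro _ ⟨t, ht, rfl⟩
      obtain ⟨e1, e2⟩ := hTc t ht
      rw [memD]
      constructor
      · change c⁻¹ * t * (c⁻¹)⁻¹ * s = s * (c⁻¹ * t * (c⁻¹)⁻¹)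
        have e3 : c⁻¹ * (t * s') * c = c⁻¹ * (s' * t) * c := by rw [e1]
        rw [hs'def] at e3
        calc c⁻¹ * t * (c⁻¹)⁻¹ * s = c⁻¹ * (t * (c * s * c⁻¹)) * c := by group
          _ = c⁻¹ * (c * s * c⁻¹ * t) * c := e3
          _ = s * (c⁻¹ * t * (c⁻¹)⁻¹) := by group
      · change c⁻¹ * t * (c⁻¹)⁻¹ * z = z * (c⁻¹ * t * (c⁻¹)⁻¹)
        have e4 : c⁻¹ * z = z * c⁻¹ := by
          rw [inv_mul_eq_iff_eq_mul, ← mul_assoc, hcz, mul_assoc, mul_inv_cancel, mul_one]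
        rw [inv_inv, mul_assoc, hcz, ← mul_assoc, mul_assoc c⁻¹, e2, ← mul_assoc, e4]
        group
    have k2 : (P : Subgroup D) ≤ (T.map (MulAut.conj c⁻¹).toMonoidHom).subgroupOf D := by
      intro u hu
      rw [mem_subgroupOf]
      have h2 : c * (u : G) * c⁻¹ ∈ (S : Subgroup G) := hc u (hPm.2 ⟨u.2, hu⟩)
      have h3 : c * (u : G) * c⁻¹ ∈ W := by
        rw [memW]
        refine ⟨h2, ?_⟩
        have h4 := (memD.1 u.2).1
        rw [hs'def]
        calc c * (u : G) * c⁻¹ * (c * s * c⁻¹) = c * ((u : G) * s) * c⁻¹ := by group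
          _ = c * (s * (u : G)) * c⁻¹ := by rw [h4]
          _ = c * s * c⁻¹ * (c * (u : G) * c⁻¹) := by group
      refine ⟨c * (u : G) * c⁻¹, hWT h3, ?_⟩
      change c⁻¹ * (c * (u : G) * c⁻¹) * (c⁻¹)⁻¹ = u
      group
    have k3 : IsPGroup 2 ((T.map (MulAut.conj c⁻¹).toMonoidHom).subgroupOf D) :=
      (hT.map _).comap_of_injective D.subtype Subtype.val_injective
    have k4 := P.is_maximal' k3 k2
    -- cardinalities
    intro t ht
    have h5 : c⁻¹ * t * (c⁻¹)⁻¹ ∈ D := k1 ⟨t, ht, rfl⟩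
    have h6 : (⟨c⁻¹ * t * (c⁻¹)⁻¹, h5⟩ : D) ∈ (P : Subgroup D) := by
      rw [← k4, mem_subgroupOf]
      exact ⟨t, ht, rfl⟩
    have h7 := hc _ (hPm.2 ⟨h5, h6⟩)
    have h8 : c * (c⁻¹ * t * (c⁻¹)⁻¹) * c⁻¹ = t := by group
    rw [h8] at h7
    exact memW.2 ⟨h7, (hTc t ht).1⟩
  -- a Sylow subgroup of `C(s')` containing `W`
  set E : Subgroup G := centralizer {s'} with hE
  have memE : ∀ {u : G}, u ∈ E ↔ u * s' = s' * u := by
    intro u
    rw [hE, mem_centralizer_singleton_iff]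
  have hWE : W ≤ E := inf_le_right
  have hWE2 : IsPGroup 2 (W.subgroupOf E) := hWp.comap_of_injective E.subtype Subtype.val_injective
  obtain ⟨T, hT⟩ := hWE2.exists_le_sylow
  have hTW : (T : Subgroup E).map E.subtype = W := by
    by_contra hne
    have hle : W ≤ (T : Subgroup E).map E.subtype := fun u hu =>
      ⟨⟨u, hWE hu⟩, hT (mem_subgroupOf.2 hu), rfl⟩
    set T' : Subgroup G := (T : Subgroup E).map E.subtype with hT'
    have hT'p : IsPGroup 2 T' := T.isPGroup'.map E.subtype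
    have hlt : W.subgroupOf T' < ⊤ := by
      rw [lt_top_iff_ne_top]
      intro h
      rw [subgroupOf_eq_top] at h
      exact hne (le_antisymm h hle)
    have : Group.IsNilpotent T' := hT'p.isNilpotent
    have hN := Group.normalizerCondition_of_isNilpotent (G := T') (W.subgroupOf T') hlt
    obtain ⟨g, hg1, hg2⟩ := SetLike.exists_of_lt hN
    -- `g` normalises `W`
    have hgE : (g : G) * s' = s' * g := by
      obtain ⟨v, hv, hv2⟩ := g.2
      rw [← hv2]
      exact memE.1 v.2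
    have hgW : ∀ w ∈ W, (g : G) * w * (g : G)⁻¹ ∈ W := by
      intro w hw
      have h2 := (mem_normalizer_iff.1 hg1 ⟨w, hle hw⟩).1 (mem_subgroupOf.2 hw)
      exact mem_subgroupOf.1 h2
    have hgW' : ∀ w ∈ W, (g : G)⁻¹ * w * (g : G) ∈ W := by
      intro w hw
      have h3 := (normalizer (W.subgroupOf T' : Set T')).inv_mem hg1
      have h2 := (mem_normalizer_iff.1 h3 ⟨w, hle hw⟩).1 (mem_subgroupOf.2 hw)
      have h4 := mem_subgroupOf.1 h2
      simpa using h4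
    have hgz : (g : G) * z * (g : G)⁻¹ = z := by
      apply hcon
      · rw [hgE, mul_inv_cancel_right]
      · intro w hw hw2
        exact (memW.1 (hgW w (memW.2 ⟨hw, hw2⟩))).1
    have hgz' : (g : G) * z = z * g := by
      rw [← mul_inv_eq_iff_eq_mul]; exact hgz
    -- the group generated by `W` and `g`
    have h5 := hmax (W ⊔ zpowers (g : G)) (hT'p.to_le (sup_le hle (by rw [zpowers_le]; exact g.2))) le_sup_left
      (by
        have h6 : W ⊔ zpowers (g : G) ≤ centralizer {s'} ⊓ centralizer {z} := by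
          refine sup_le (fun w hw => ?_) ?_
          · rw [mem_inf, mem_centralizer_singleton_iff, mem_centralizer_singleton_iff]
            exact ⟨(memW.1 hw).2, cen w (memW.1 hw).1⟩
          · rw [zpowers_le, mem_inf, mem_centralizer_singleton_iff, mem_centralizer_singleton_iff]
            exact ⟨hgE, hgz'⟩
        intro t ht
        have h7 := h6 ht
        rw [mem_inf, mem_centralizer_singleton_iff, mem_centralizer_singleton_iff] at h7
        exact h7)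
    exact hg2 (mem_subgroupOf.2 (h5 (mem_sup_right (mem_zpowers _))))
  -- orders
  have hcard : Nat.card W = Nat.card (S : Subgroup G) := by
    have h2 : Nat.card W = Nat.card (T : Subgroup E) := by
      rw [← hTW]
      exact Nat.card_congr (Equiv.symm ((T : Subgroup E).equivMapOfInjective E.subtype Subtype.val_injective).toEquiv)
    have h3 : Nat.card (S.subtype hSC : Subgroup C) = Nat.card (S : Subgroup G) :=
      Nat.card_congr (Subgroup.subgroupOfEquivOfLe hSC).toEquiv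
    have hk : (c * g₀⁻¹) * z * (c * g₀⁻¹)⁻¹ = s' := by
      rw [← hg₀, hs'def]
      group
    have h4 : Nat.card C = Nat.card E :=
      Nat.card_congr
        { toFun := fun u => ⟨(c * g₀⁻¹) * (u : G) * (c * g₀⁻¹)⁻¹, by
            rw [memE]
            have h5 := memC.1 u.2
            rw [← hk]
            calc c * g₀⁻¹ * (u : G) * (c * g₀⁻¹)⁻¹ * (c * g₀⁻¹ * z * (c * g₀⁻¹)⁻¹)
                = c * g₀⁻¹ * ((u : G) * z) * (c * g₀⁻¹)⁻¹ := by group
              _ = c * g₀⁻¹ * (z * (u : G)) * (c * g₀⁻¹)⁻¹ := by rw [h5]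
              _ = _ := by group⟩
          invFun := fun u => ⟨(c * g₀⁻¹)⁻¹ * (u : G) * (c * g₀⁻¹), by
            rw [memC]
            have h5 := memE.1 u.2
            rw [← hk] at h5
            have h6 : (c * g₀⁻¹)⁻¹ * ((u : G) * (c * g₀⁻¹ * z * (c * g₀⁻¹)⁻¹)) * (c * g₀⁻¹) =
              (c * g₀⁻¹)⁻¹ * (c * g₀⁻¹ * z * (c * g₀⁻¹)⁻¹ * (u : G)) * (c * g₀⁻¹) := by rw [h5]
            calc (c * g₀⁻¹)⁻¹ * (u : G) * (c * g₀⁻¹) * z
                = (c * g₀⁻¹)⁻¹ * ((u : G) * (c * g₀⁻¹ * z * (c * g₀⁻¹)⁻¹)) * (c * g₀⁻¹) := by group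
              _ = _ := h6
              _ = _ := by group⟩
          left_inv := fun u => Subtype.ext (by
            change (c * g₀⁻¹)⁻¹ * (c * g₀⁻¹ * (u : G) * (c * g₀⁻¹)⁻¹) * (c * g₀⁻¹) = u
            group)
          right_inv := fun u => Subtype.ext (by
            change c * g₀⁻¹ * ((c * g₀⁻¹)⁻¹ * (u : G) * (c * g₀⁻¹)) * (c * g₀⁻¹)⁻¹ = u
            group) }
    rw [h2, ← h3, T.card_eq_multiplicity, (S.subtype hSC).card_eq_multiplicity, h4]
  have hWS : W = (S : Subgroup G) := by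
    apply Subgroup.eq_of_le_of_card_ge inf_le_left
    rw [hcard]
  have h2 := Zs s' hs' (fun v hv => by
    rw [← hWS] at hv
    exact (memW.1 hv).2)
  rcases h2 with h2 | h2
  · apply h1
    have : s = c⁻¹ * s' * c := by rw [hs'def]; group
    rw [this, h2]; group
  · apply hsz
    have : s = c⁻¹ * s' * c := by rw [hs'def]; group
    rw [this, h2, mul_assoc, ← hcz, inv_mul_cancel_left]

/-- (T1) and (T2): `M` of index two in `S` containing `R`, `s ∈ S` of least order outside `M`, `z` a power of an element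
of `C_S(s)`. -/
theorem transfer [Finite G] (S : Sylow 2 G) (hG : ∀ N : Subgroup G, N.index ≠ 2) {R M : Subgroup G} {z s w : G} {k : ℕ}
    (hRM : R ≤ M) (hMS : M ≤ (S : Subgroup G)) (hidx : M.relIndex (S : Subgroup G) = 2)
    (iso : ∀ g : G, g * z * g⁻¹ ∈ R → g * z * g⁻¹ = z)
    (f2 : ∀ g u : G, g * z = z * g → u ∈ (S : Subgroup G) → g * u * g⁻¹ ∈ (S : Subgroup G) →
      ∃ v ∈ (S : Subgroup G), (v * u * v⁻¹)⁻¹ * (g * u * g⁻¹) ∈ R)
    (hs : s ∈ (S : Subgroup G)) (hsM : s ∉ M) (hmin : ∀ t ∈ (S : Subgroup G), t ∉ M → orderOf s ≤ orderOf t)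
    (hw : w ∈ (S : Subgroup G)) (hws : w * s = s * w) (hwk : w ^ k = z) (hk : ∀ u ∈ (S : Subgroup G), u ^ k ∈ R) : False := by
  obtain ⟨g, hg1, hg2⟩ := ThreePrime.Transfer.exists_conj S hMS hidx hG hs hsM hmin
  have h1 : g * z * g⁻¹ = z := by
    apply iso
    rw [← hwk, ← conj_pow]
    exact hk _ (hg2 w hw hws)
  have h2 : g * z = z * g := by rwa [mul_inv_eq_iff_eq_mul] at h1
  obtain ⟨v, hv, hv2⟩ := f2 g s h2 hs (hMS hg1)
  have h3 : v * s * v⁻¹ ∈ M := by
    have h4 := M.mul_mem hg1 (M.inv_mem (hRM hv2))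
    have h5 : g * s * g⁻¹ * ((v * s * v⁻¹)⁻¹ * (g * s * g⁻¹))⁻¹ = v * s * v⁻¹ := by group
    rwa [h5] at h4
  have hT2 : (M.subgroupOf (S : Subgroup G)).index = 2 := hidx
  have hTn : (M.subgroupOf (S : Subgroup G)).Normal := Subgroup.normal_of_index_eq_two hT2
  have h6 := hTn.conj_mem ⟨v * s * v⁻¹, hMS h3⟩ (mem_subgroupOf.2 h3) ⟨v⁻¹, (S : Subgroup G).inv_mem hv⟩
  have h7 : v⁻¹ * (v * s * v⁻¹) * (v⁻¹)⁻¹ ∈ M := h6
  have h8 : v⁻¹ * (v * s * v⁻¹) * (v⁻¹)⁻¹ = s := by group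
  rw [h8] at h7
  exact hsM h7

/-- `transfer` for an involution. -/
theorem transfer_inv [Finite G] (S : Sylow 2 G) (hG : ∀ N : Subgroup G, N.index ≠ 2) {R M : Subgroup G} {z s w : G} {k : ℕ}
    (hRM : R ≤ M) (hMS : M ≤ (S : Subgroup G)) (hidx : M.relIndex (S : Subgroup G) = 2)
    (iso : ∀ g : G, g * z * g⁻¹ ∈ R → g * z * g⁻¹ = z)
    (f2 : ∀ g u : G, g * z = z * g → u ∈ (S : Subgroup G) → g * u * g⁻¹ ∈ (S : Subgroup G) →
      ∃ v ∈ (S : Subgroup G), (v * u * v⁻¹)⁻¹ * (g * u * g⁻¹) ∈ R)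
    (hs : s ∈ (S : Subgroup G)) (hsM : s ∉ M) (hss : s * s = 1)
    (hw : w ∈ (S : Subgroup G)) (hws : w * s = s * w) (hwk : w ^ k = z) (hk : ∀ u ∈ (S : Subgroup G), u ^ k ∈ R) : False := by
  refine transfer S hG hRM hMS hidx iso f2 hs hsM ?_ hw hws hwk hk
  intro t ht htM
  have h1 : orderOf s ≤ 2 := orderOf_le_of_pow_eq_one (by norm_num) (by rw [pow_two, hss])
  have h2 : 0 < orderOf t := orderOf_pos t
  have h3 : orderOf t ≠ 1 := fun h => htM (by rw [orderOf_eq_one_iff.1 h]; exact M.one_mem)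
  omega

/-- `transfer` for an element of order four, if there are no involutions outside `M`. -/
theorem transfer_four [Finite G] (S : Sylow 2 G) (hG : ∀ N : Subgroup G, N.index ≠ 2) {R M : Subgroup G} {z s : G}
    (hRM : R ≤ M) (hMS : M ≤ (S : Subgroup G)) (hidx : M.relIndex (S : Subgroup G) = 2)
    (iso : ∀ g : G, g * z * g⁻¹ ∈ R → g * z * g⁻¹ = z)
    (f2 : ∀ g u : G, g * z = z * g → u ∈ (S : Subgroup G) → g * u * g⁻¹ ∈ (S : Subgroup G) →
      ∃ v ∈ (S : Subgroup G), (v * u * v⁻¹)⁻¹ * (g * u * g⁻¹) ∈ R)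
    (hs : s ∈ (S : Subgroup G)) (hsM : s ∉ M) (hss : s * s = z) (hzz : z * z = 1)
    (hinv : ∀ t ∈ (S : Subgroup G), t ∉ M → t * t ≠ 1) (hk : ∀ u ∈ (S : Subgroup G), u * u ∈ R) : False := by
  refine transfer (w := s) (k := 2) S hG hRM hMS hidx iso f2 hs hsM ?_ hs rfl (by rw [pow_two, hss])
    (fun u hu => by rw [pow_two]; exact hk u hu)
  intro t ht htM
  have h1 : orderOf s ≤ 4 := orderOf_le_of_pow_eq_one (by norm_num) (by
    rw [show (4 : ℕ) = 2 * 2 from rfl, pow_mul, pow_two s, hss, pow_two, hzz])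
  have hp : ∃ m, orderOf t = 2 ^ m := by
    have hF : Fact (Nat.Prime 2) := ⟨Nat.prime_two⟩
    have h2 := (S.isPGroup').to_le (show zpowers t ≤ (S : Subgroup G) by rwa [zpowers_le])
    obtain ⟨m, hm⟩ := (IsPGroup.iff_card.1 h2)
    exact ⟨m, by rw [← Nat.card_zpowers]; exact hm⟩
  obtain ⟨m, hm⟩ := hp
  have h3 : m ≠ 0 := by
    intro h0
    have h6 : orderOf t = 1 := by rw [hm, h0, pow_zero]
    exact htM (by rw [orderOf_eq_one_iff.1 h6]; exact M.one_mem)
  have h4 : m ≠ 1 := by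
    rintro rfl
    apply hinv t ht htM
    have := pow_orderOf_eq_one t
    rwa [hm, pow_one, pow_two] at this
  have h5 : 2 ^ 2 ≤ 2 ^ m := Nat.pow_le_pow_right (by norm_num) (by omega)
  rw [hm]
  omega

end Cfsg.Agent.GH.Q2.FusC
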