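import Cfsg.Agent.GH.Q2.NF
import Cfsg.Agent.ThreePrime.Transfer
import Cfsg.Agent.SylowSp4.ExtTransfer
import Cfsg.Agent.TwoFusion.PResidual

/-!
# GH-Q, case (II): the fusion facts (section 2)
-/

set_option autoImplicit false

namespace Cfsg.Agent.GH.Q2

open Subgroup

variable {G : Type*} [Group G]

/-! ### Sylow tools -/

/-- A maximal 2-subgroup `P` of `D`: every 2-subgroup of `D` is conjugate into `P` in `D`. -/
theorem conj_into [Finite G] {D P : Subgroup G} (hP : IsPGroup 2 P) (hPD : P ≤ D)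
    (hmax : ∀ X : Subgroup G, IsPGroup 2 X → X ≤ D → P ≤ X → X = P) {X : Subgroup G}
    (hX : IsPGroup 2 X) (hXD : X ≤ D) : ∃ d ∈ D, ∀ x ∈ X, cj d x ∈ P := by
  have hp : Fact (Nat.Prime 2) := ⟨Nat.prime_two⟩
  have isP : ∀ {Y : Subgroup G}, IsPGroup 2 Y → IsPGroup 2 (Y.subgroupOf D) := by
    intro Y hY
    exact hY.comap_of_injective D.subtype D.subtype_injective
  let P' : Sylow 2 D :=
    { toSubgroup := P.subgroupOf D
      isPGroup' := isP hP
      is_maximal' := by
        intro Q hQ hPQ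
        have h1 := hmax (Q.map D.subtype) (hQ.map D.subtype) (map_subtype_le Q) (by
          intro x hx
          exact ⟨⟨x, hPD hx⟩, hPQ hx, rfl⟩)
        ext x
        rw [mem_subgroupOf, ← h1]
        constructor
        · intro hx
          exact ⟨x, hx, rfl⟩
        · rintro ⟨y, hy, hyx⟩
          rwa [← Subtype.ext hyx] }
  obtain ⟨Q, hQ⟩ := (isP hX).exists_le_sylow
  obtain ⟨d, hd⟩ := MulAction.exists_smul_eq D Q P'
  refine ⟨d, d.2, fun x hx => ?_⟩
  have h1 : (⟨x, hXD hx⟩ : D) ∈ (Q : Subgroup D) := hQ hx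
  have h2 : d * ⟨x, hXD hx⟩ * d⁻¹ ∈ ((d • Q : Sylow 2 D) : Subgroup D) := by
    rw [Sylow.coe_subgroup_smul]
    exact smul_mem_pointwise_smul _ _ _ h1
  rw [hd] at h2
  exact h2

theorem sylow_max [Finite G] (S : Sylow 2 G) (D : Subgroup G) :
    ∀ X : Subgroup G, IsPGroup 2 X → X ≤ D → (S : Subgroup G) ≤ X → X = S :=
  fun X hX _ h => S.3 hX h

/-- Growth of normalizers in a 2-group. -/
theorem exists_normalizing [Finite G] {X P : Subgroup G} (hP : IsPGroup 2 P) (hXP : X ≤ P)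
    (hne : X ≠ P) : ∃ k ∈ P, k ∉ X ∧ ∀ x ∈ X, cj k x ∈ X := by
  have hp : Fact (Nat.Prime 2) := ⟨Nat.prime_two⟩
  have : Group.IsNilpotent P := hP.isNilpotent
  have hlt : X.subgroupOf P < ⊤ := by
    rw [lt_top_iff_ne_top]
    intro h
    rw [subgroupOf_eq_top] at h
    exact hne (le_antisymm hXP h)
  have h1 := Group.normalizerCondition_of_isNilpotent _ hlt
  obtain ⟨k, hk, hk'⟩ := SetLike.exists_of_lt h1
  refine ⟨k, k.2, fun h => hk' h, fun x hx => ?_⟩
  exact (mem_normalizer_iff.1 hk ⟨x, hXP hx⟩).1 hx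

theorem isPGroup_inf {S D : Subgroup G} (hS : IsPGroup 2 S) : IsPGroup 2 ↥(S ⊓ D) :=
  hS.to_le inf_le_left

theorem isPGroup_cj {X : Subgroup G} (hX : IsPGroup 2 X) (c : G) :
    IsPGroup 2 ↥(X.map (MulAut.conj c).toMonoidHom) := hX.map _

theorem mem_map_cj {X : Subgroup G} {c x : G} :
    x ∈ X.map (MulAut.conj c).toMonoidHom ↔ ∃ y ∈ X, cj c y = x := Iff.rfl

theorem mem_cz {z x : G} : x ∈ centralizer ({z} : Set G) ↔ x * z = z * x :=
  mem_centralizer_singleton_iff

theorem cj_mem_cz {z x c : G} (hc : cj c z = z) (hx : x * z = z * x) : cj c x * z = z * cj c x := by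
  rw [← hc, ← cj_mul, ← cj_mul, hx]

theorem cj_inv_z {z c : G} (hc : cj c z = z) : cj c⁻¹ z = z := by
  have := cj_inv_cj c z
  rwa [hc] at this

theorem card_map_cj (X : Subgroup G) (c : G) :
    Nat.card ↥(X.map (MulAut.conj c).toMonoidHom) = Nat.card X :=
  card_map_of_injective (MulAut.conj c).injective

/-- conjugates of `S` are Sylow. -/
theorem sylow_card_le [Finite G] (S : Sylow 2 G) {X : Subgroup G} (hX : IsPGroup 2 X) :
    Nat.card X ≤ Nat.card (S : Subgroup G) := by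
  obtain ⟨Q, hQ⟩ := hX.exists_le_sylow
  have h1 : Nat.card (Q : Subgroup G) = Nat.card (S : Subgroup G) := by
    rw [Sylow.card_eq_multiplicity, Sylow.card_eq_multiplicity]
  rw [← h1]
  exact card_le_of_le hQ

theorem eq_of_card [Finite G] (S : Sylow 2 G) {X Y : Subgroup G} (hY : IsPGroup 2 Y) (h : X ≤ Y)
    (hX : Nat.card X = Nat.card (S : Subgroup G)) : X = Y := by
  apply eq_of_le_of_card_ge h
  rw [hX]
  exact sylow_card_le S hY

/-- (C): extremal conjugates. -/
theorem ext_conj [Finite G] (S : Sylow 2 G) {z : G} (hSz : ∀ s ∈ (S : Subgroup G), s * z = z * s)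
    (hzz : z * z = 1) (hZ : ∀ s ∈ (S : Subgroup G), (∀ w ∈ (S : Subgroup G), w * s = s * w) → s = 1 ∨ s = z)
    (g : G) (hg : cj g z ∈ (S : Subgroup G)) (hgz : cj g z ≠ z) : ∃ c k : G, cj c z = z ∧
      cj (c * g) z ∈ (S : Subgroup G) ∧ cj k (cj (c * g) z) = cj (c * g) z ∧ cj k z ≠ z ∧
      ∀ w ∈ (S : Subgroup G), w * cj (c * g) z = cj (c * g) z * w → cj k w ∈ (S : Subgroup G) := by
  classical
  have hp : Fact (Nat.Prime 2) := ⟨Nat.prime_two⟩
  have hz1 : z ≠ 1 := by
    rintro rfl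
    simp at hgz
  have hSP : IsPGroup 2 (S : Subgroup G) := S.2
  have hSC : (S : Subgroup G) ≤ centralizer {z} := fun s hs => mem_cz.2 (hSz s hs)
  -- choose `c` with maximal centralizer
  let T : Set G := {c | cj c z = z ∧ cj (c * g) z ∈ (S : Subgroup G)}
  have hT : T.Nonempty := ⟨1, by simp, by simpa using hg⟩
  have hTf : T.Finite := Set.toFinite _
  obtain ⟨c, ⟨hc, hcS⟩, hmax⟩ := Set.exists_max_image T
    (fun c => Nat.card ↥((S : Subgroup G) ⊓ centralizer {cj (c * g) z})) hTf hT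
  set s := cj (c * g) z with hs
  have hsz : s ≠ z := by
    rw [hs, cj_mul_left]
    intro h
    apply hgz
    rw [cj_eq_iff] at h
    rw [h]; exact cj_inv_z hc
  have hs1 : s ≠ 1 := cj_ne_one hz1
  set W : Subgroup G := (S : Subgroup G) ⊓ centralizer {s} with hW
  have hWP : IsPGroup 2 W := isPGroup_inf hSP
  have hsS : s ∈ W := ⟨hcS, mem_cz.2 rfl⟩
  -- `W` is a maximal 2-subgroup of `C(z) ∩ C(s)`
  have hWmax : ∀ X : Subgroup G, IsPGroup 2 X → X ≤ centralizer {z} ⊓ centralizer {s} → W ≤ X →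
      X = W := by
    intro X hX hXD hWX
    obtain ⟨d, hd, hdX⟩ := conj_into hSP hSC (sylow_max S _) hX (hXD.trans inf_le_left)
    have hd' : cj d z = z := cj_eq_self (mem_cz.1 hd)
    have hdT : d * c ∈ T := by
      refine ⟨by rw [cj_mul_left, hc, hd'], ?_⟩
      rw [mul_assoc, cj_mul_left]
      exact hdX _ (hWX hsS)
    have h1 := hmax _ hdT
    have h2 : X.map (MulAut.conj d).toMonoidHom ≤
        (S : Subgroup G) ⊓ centralizer {cj (d * c * g) z} := by
      rintro _ ⟨x, hx, rfl⟩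
      refine ⟨hdX x hx, mem_cz.2 ?_⟩
      change cj d x * cj (d * c * g) z = cj (d * c * g) z * cj d x
      rw [mul_assoc, cj_mul_left, ← cj_mul, ← cj_mul, ← hs, mem_cz.1 (hXD hx).2]
    have h3 := card_le_of_le h2
    rw [card_map_cj] at h3
    exact (eq_of_le_of_card_ge hWX (h3.trans h1)).symm
  -- a Sylow 2-subgroup of `C(s)` containing `W`
  have hconj : (S : Subgroup G).map (MulAut.conj (c * g)).toMonoidHom ≤ centralizer {s} := by
    rintro _ ⟨x, hx, rfl⟩
    refine mem_cz.2 ?_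
    change cj (c * g) x * s = s * cj (c * g) x
    rw [hs, ← cj_mul, ← cj_mul, hSz x hx]
  have hconjP := isPGroup_cj hSP (c * g)
  have hconjmax : ∀ X : Subgroup G, IsPGroup 2 X → X ≤ centralizer {s} →
      (S : Subgroup G).map (MulAut.conj (c * g)).toMonoidHom ≤ X →
      X = (S : Subgroup G).map (MulAut.conj (c * g)).toMonoidHom := by
    intro X hX _ hle
    exact (eq_of_card S hX hle (card_map_cj _ _)).symm
  obtain ⟨d, hd, hdW⟩ := conj_into hconjP hconj hconjmax hWP inf_le_right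
  set P : Subgroup G := ((S : Subgroup G).map (MulAut.conj (c * g)).toMonoidHom).map
    (MulAut.conj d⁻¹).toMonoidHom with hPdef
  have hPP : IsPGroup 2 P := isPGroup_cj hconjP _
  have hPc : Nat.card P = Nat.card (S : Subgroup G) := by
    rw [hPdef, card_map_cj, card_map_cj]
  have hPs : P ≤ centralizer {s} := by
    rintro _ ⟨x, hx, rfl⟩
    refine mem_cz.2 ?_
    change cj d⁻¹ x * s = s * cj d⁻¹ x
    have e : cj d⁻¹ s = s := cj_inv_z (cj_eq_self (mem_cz.1 hd))
    have h1 := mem_cz.1 (hconj hx)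
    conv_lhs => rw [← e]
    conv_rhs => rw [← e]
    rw [← cj_mul, ← cj_mul, h1]
  have hWP' : W ≤ P := by
    intro w hw
    exact ⟨cj d w, hdW w hw, cj_inv_cj d w⟩
  have hne : W ≠ P := by
    intro h
    have h1 : W = (S : Subgroup G) := by
      have h0 : Nat.card W = Nat.card (S : Subgroup G) := by rw [h, hPc]
      exact eq_of_le_of_card_ge inf_le_left h0.ge
    have h2 : ∀ w ∈ (S : Subgroup G), w * s = s * w := by
      intro w hw
      rw [← h1] at hw
      exact mem_cz.1 hw.2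
    rcases hZ s hcS h2 with h3 | h3
    · exact hs1 h3
    · exact hsz h3
  obtain ⟨k, hk, hkW, hkn⟩ := exists_normalizing hPP hWP' hne
  refine ⟨c, k, hc, hcS, ?_, ?_, ?_⟩
  · exact cj_eq_self (mem_cz.1 (hPs hk))
  · intro hkz
    have h1 := hWmax ((W ⊔ zpowers k)) ?_ ?_ le_sup_left
    · apply hkW
      rw [← h1]
      exact mem_sup_right (mem_zpowers k)
    · exact hPP.to_le (sup_le hWP' (by rw [zpowers_le]; exact hk))
    · refine sup_le ?_ ?_
      · intro w hw
        exact ⟨hSC hw.1, hw.2⟩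
      · rw [zpowers_le]
        exact ⟨mem_cz.2 (cj_eq_self_iff.1 hkz), hPs hk⟩
  · intro w hw hws
    exact (hkn w ⟨hw, mem_cz.2 hws⟩).1

end Cfsg.Agent.GH.Q2
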