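import Cfsg.Agent.GH.Q2.Fusion

/-!
# GH-Q, case (II): the fusion facts (section 2), continued
-/

set_option autoImplicit false

namespace Cfsg.Agent.GH.Q2

open Subgroup

variable {G : Type*} [Group G]

/-- (T1). -/
theorem fus_tr1 [Finite G] (S : Sylow 2 G) (hidx : ∀ N : Subgroup G, N.index ≠ 2) (M : Subgroup G)
    (hM : M ≤ S) (hr : M.relIndex (S : Subgroup G) = 2) (s : G) (hss : s * s = 1) :
    ∃ g : G, cj g s ∈ M ∧ ∀ w ∈ (S : Subgroup G), w * s = s * w → cj g w ∈ (S : Subgroup G) := by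
  obtain ⟨g, h1, h2⟩ := SylowSp4.ExtTransfer.exists_extremal S M hM hr s hss
    (fun f => ThreePrime.Transfer.hom_eq_one hidx f s) ((S : Subgroup G) ⊓ centralizer {s})
    (isPGroup_inf S.2) (fun r hr => mem_cz.1 hr.2)
  exact ⟨g, h1, fun w hw hws => h2 w ⟨hw, mem_cz.2 hws⟩⟩

/-- (T2). -/
theorem fus_tr2 [Finite G] (S : Sylow 2 G) (hidx : ∀ N : Subgroup G, N.index ≠ 2) (M : Subgroup G)
    (hr : M.relIndex (S : Subgroup G) = 2) {x z : G} (hx : x ∈ (S : Subgroup G)) (hxM : x ∉ M)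
    (hxx : x * x = z) (hzz : z * z = 1) (h1 : ∀ g : G, cj g x ∉ M)
    (h2 : ∀ g : G, cj g z ∈ (S : Subgroup G) → cj g z ∈ M) : False := by
  classical
  have hp : Fact (Nat.Prime 2) := ⟨Nat.prime_two⟩
  have hN : (M.subgroupOf (S : Subgroup G)).index = 2 := hr
  have hz : z ∈ (S : Subgroup G) := by rw [← hxx]; exact mul_mem hx hx
  have key : ∀ (k : ℕ) (g₀ : G) (h : g₀⁻¹ * ((⟨x, hx⟩ : (S : Subgroup G)) : G) ^ k * g₀ ∈
      (S : Subgroup G)), ThreePrime.Transfer.signHom _ hN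
      ⟨g₀⁻¹ * ((⟨x, hx⟩ : (S : Subgroup G)) : G) ^ k * g₀, h⟩ =
      ThreePrime.Transfer.signHom _ hN ((⟨x, hx⟩ : (S : Subgroup G)) ^ k) := by
    intro k g₀ h
    have hc : g₀⁻¹ * ((⟨x, hx⟩ : (S : Subgroup G)) : G) ^ k * g₀ = cj g₀⁻¹ (x ^ k) := by
      simp [cj]
    have hx2 : x ^ 2 = z := by rw [sq, hxx]
    have hx4 : x ^ 4 = 1 := by rw [show 4 = 2 * 2 by norm_num, pow_mul, hx2, sq, hzz]
    have hmod : x ^ k = x ^ (k % 4) := by
      conv_lhs => rw [← Nat.div_add_mod k 4, pow_add, pow_mul, hx4, one_pow, one_mul]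
    have hz1 : z ∈ M := by
      have := h2 1 (by simpa using hz)
      simpa using this
    rcases Nat.even_or_odd k with he | ho
    · have h3 : x ^ k = 1 ∨ x ^ k = z := by
        obtain ⟨m, rfl⟩ := he
        rw [← two_mul, pow_mul, hx2]
        rcases Nat.even_or_odd' m with ⟨l, rfl | rfl⟩
        · left; rw [pow_mul, sq, hzz, one_pow]
        · right; rw [pow_succ, pow_mul, sq, hzz, one_pow, one_mul]
      have h4 : x ^ k ∈ M := by rcases h3 with h3 | h3 <;> rw [h3]; exacts [one_mem _, hz1]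
      have h5 : cj g₀⁻¹ (x ^ k) ∈ M := by
        rcases h3 with h3 | h3
        · rw [h3]; simp
        · rw [h3]; apply h2; rw [← h3, ← hc]; exact h
      rw [ThreePrime.Transfer.signHom_of_mem, ThreePrime.Transfer.signHom_of_mem]
      · exact h4
      · rw [mem_subgroupOf]; change g₀⁻¹ * ((⟨x, hx⟩ : (S : Subgroup G)) : G) ^ k * g₀ ∈ M
        rw [hc]; exact h5
    · have h3 : x ^ k = x ∨ x ^ k = x⁻¹ := by
        rw [hmod]
        have : k % 4 = 1 ∨ k % 4 = 3 := by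
          obtain ⟨m, rfl⟩ := ho
          omega
        rcases this with h | h <;> rw [h]
        · left; exact pow_one _
        · right
          rw [eq_inv_iff_mul_eq_one, ← pow_succ, hx4]
      have h4 : x ^ k ∉ M := by
        rcases h3 with h3 | h3 <;> rw [h3]
        · exact hxM
        · rw [inv_mem_iff]; exact hxM
      have h5 : cj g₀⁻¹ (x ^ k) ∉ M := by
        rcases h3 with h3 | h3
        · rw [h3]; exact h1 _
        · rw [h3, cj_inv, inv_mem_iff]; exact h1 _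
      rw [ThreePrime.Transfer.signHom_of_not_mem, ThreePrime.Transfer.signHom_of_not_mem]
      · exact h4
      · rw [mem_subgroupOf]; change ¬ g₀⁻¹ * ((⟨x, hx⟩ : (S : Subgroup G)) : G) ^ k * g₀ ∈ M
        rw [hc]; exact h5
  have h3 := TwoFusion.PResidual.transfer_eq_pow_index_of_fusion
    (ThreePrime.Transfer.signHom _ hN) (⟨x, hx⟩ : (S : Subgroup G)) key
  rw [ThreePrime.Transfer.hom_eq_one hidx, ThreePrime.Transfer.signHom_of_not_mem hN
    (show (⟨x, hx⟩ : (S : Subgroup G)) ∉ M.subgroupOf (S : Subgroup G) from hxM)] at h3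
  have h4 : Odd (S : Subgroup G).index := by
    rw [← Nat.not_even_iff_odd, even_iff_two_dvd]
    exact S.not_dvd_index
  rw [h4.neg_one_pow] at h3
  exact absurd h3 (by decide)

/-- The fusion facts. -/
theorem fu [Finite G] (S : Sylow 2 G) (hidx : ∀ N : Subgroup G, N.index ≠ 2) {z r1 y1 r2 y2 : G}
    {n1 n2 : ℕ} (h : Sd (S : Subgroup G) z r1 y1 r2 y2 n1 n2)
    (iso : ∃ g : G, cj g z ∈ (S : Subgroup G) ∧ cj g z ≠ z)
    (f1 : ∀ a ∈ RR r1 y1 r2 y2, ∀ b ∈ RR r1 y1 r2 y2, a * a = 1 → a ≠ 1 → a ≠ z → b * b = 1 →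
      b ≠ 1 → b ≠ z → ∃ c : G, cj c z = z ∧ cj c a = b)
    (f2 : ∀ c s : G, cj c z = z → s ∈ (S : Subgroup G) → cj c s ∈ (S : Subgroup G) →
      ∃ t ∈ (S : Subgroup G), cj c s * (cj t s)⁻¹ ∈ RR r1 y1 r2 y2) :
    Fu (S : Subgroup G) z r1 y1 r2 y2 where
  iso := iso
  f1 := f1
  f2 := f2
  ext := by
    intro g h1 h2
    refine ext_conj S (fun s hs => h.zc hs) h.q1.z_sq (fun s hs hc => ?_) g h1 h2
    exact h.cen hs (cj_eq_self (hc _ h.h1).symm) (cj_eq_self (hc _ h.h2).symm)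
      (cj_eq_self (hc _ h.h3).symm) (cj_eq_self (hc _ h.h4).symm)
  t1 M hM hr s _ _ hss := fus_tr1 S hidx M hM hr s hss
  t2 M _ hr x hx hxM hxx h1 h2 := fus_tr2 S hidx M hr hx hxM hxx h.q1.z_sq h1 h2

/-! ### the element `t = r1^(2^n1) * r2^(2^n2)` -/

theorem card_mul_rel {W S : Subgroup G} (h : W ≤ S) :
    Nat.card W * W.relIndex S = Nat.card S := by
  have h1 := (W.subgroupOf S).card_mul_index
  rw [Nat.card_congr (subgroupOfEquivOfLe h).toEquiv] at h1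
  exact h1

/-- `C_S(t)` is a maximal 2-subgroup of `C(z) ∩ C(t)`. -/
theorem max0 [Finite G] (S : Sylow 2 G) {z t : G} (hSz : ∀ s ∈ (S : Subgroup G), s * z = z * s)
    (hZ : ∀ s ∈ (S : Subgroup G), (∀ w ∈ (S : Subgroup G), w * s = s * w) → s = 1 ∨ s = z)
    (ht : t ∈ (S : Subgroup G)) (ht1 : t ≠ 1) (htz : t ≠ z)
    (hS : ∀ s ∈ (S : Subgroup G), cj s t = t ∨ cj s t = t * z) :
    ∀ X : Subgroup G, IsPGroup 2 X → X ≤ centralizer {z} ⊓ centralizer {t} →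
      (S : Subgroup G) ⊓ centralizer {t} ≤ X → X = (S : Subgroup G) ⊓ centralizer {t} := by
  classical
  intro X hX hXD hle
  have hSP : IsPGroup 2 (S : Subgroup G) := S.2
  have hSC : (S : Subgroup G) ≤ centralizer {z} := fun s hs => mem_cz.2 (hSz s hs)
  -- `|S| ≤ 2 |M0|`
  have h1 : Nat.card (S : Subgroup G) = 2 * Nat.card ↥((S : Subgroup G) ⊓ centralizer {t}) := by
    have h2 : ∃ y ∈ (S : Subgroup G), cj y t ≠ t := by
      by_contra hcon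
      push Not at hcon
      rcases hZ t ht (fun w hw => cj_eq_self_iff.1 (hcon w hw)) with h | h
      · exact ht1 h
      · exact htz h
    obtain ⟨y, hy, hyt⟩ := h2
    have hyt' : cj y t = t * z := (hS y hy).resolve_left hyt
    have h3 : ((S : Subgroup G) ⊓ centralizer {t}).relIndex (S : Subgroup G) = 2 := by
      rw [relIndex, index_eq_two_iff']
      refine ⟨⟨y, hy⟩⁻¹, fun b => ?_⟩
      have hb : ∀ u : (S : Subgroup G), u ∈ ((S : Subgroup G) ⊓ centralizer {t}).subgroupOf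
          (S : Subgroup G) ↔ cj (u : G) t = t := by
        intro u
        rw [mem_subgroupOf, mem_inf, cj_eq_self_iff]
        exact ⟨fun h => mem_cz.1 h.2, fun h => ⟨u.2, mem_cz.2 h⟩⟩
      rw [hb, hb]
      have e : cj (((⟨y, hy⟩ : (S : Subgroup G))⁻¹ * b : (S : Subgroup G)) : G) t = t ↔
          cj (b : G) t = t * z := by
        rw [← hyt']
        change cj (y⁻¹ * (b : G)) t = t ↔ _
        rw [cj_mul_left]
        constructor
        · intro h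
          rw [← h, cj_cj_inv]
          rw [h]
        · intro h
          rw [h, cj_inv_cj]
      rw [e]
      have htz' : t * z ≠ t := by
        intro h
        rw [mul_eq_left] at h
        apply hyt; rw [hyt', h, mul_one]
      rcases hS b b.2 with h | h
      · right
        exact ⟨h, fun h' => htz' (h'.symm.trans h)⟩
      · left
        exact ⟨h, fun h' => htz' (h.symm.trans h')⟩
    have h4 := card_mul_rel (W := (S : Subgroup G) ⊓ centralizer {t})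
      (S := (S : Subgroup G)) inf_le_left
    rw [h3] at h4
    omega
  obtain ⟨d, hd, hdX⟩ := conj_into hSP hSC (sylow_max S _) hX (hXD.trans inf_le_left)
  have hdz : cj d z = z := cj_eq_self (mem_cz.1 hd)
  have htM : t ∈ (S : Subgroup G) ⊓ centralizer {t} := ⟨ht, mem_cz.2 rfl⟩
  have htd : cj d t ∈ (S : Subgroup G) := hdX t (hle htM)
  have h2 : X.map (MulAut.conj d).toMonoidHom ≤ (S : Subgroup G) ⊓ centralizer {cj d t} := by
    rintro _ ⟨x, hx, rfl⟩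
    refine ⟨hdX x hx, mem_cz.2 ?_⟩
    change cj d x * cj d t = cj d t * cj d x
    rw [← cj_mul, ← cj_mul, mem_cz.1 (hXD hx).2]
  have h3 : (S : Subgroup G) ⊓ centralizer {cj d t} ≠ (S : Subgroup G) := by
    intro h
    have h4 : ∀ w ∈ (S : Subgroup G), w * cj d t = cj d t * w := by
      intro w hw
      rw [← h] at hw
      exact mem_cz.1 hw.2
    rcases hZ _ htd h4 with h5 | h5
    · exact cj_ne_one ht1 h5
    · apply htz
      exact cj_inj (h5.trans hdz.symm)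
  have h4 := card_mul_rel (W := (S : Subgroup G) ⊓ centralizer {cj d t})
      (S := (S : Subgroup G)) inf_le_left
  have h5 : 2 ≤ ((S : Subgroup G) ⊓ centralizer {cj d t}).relIndex (S : Subgroup G) := by
    have h6 : ((S : Subgroup G) ⊓ centralizer {cj d t}).relIndex (S : Subgroup G) ≠ 0 := by
      intro h; rw [h] at h4; have := Nat.card_pos (α := (S : Subgroup G)); omega
    have h7 : ((S : Subgroup G) ⊓ centralizer {cj d t}).relIndex (S : Subgroup G) ≠ 1 := by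
      intro h
      rw [relIndex_eq_one] at h
      exact h3 (le_antisymm inf_le_left h)
    omega
  have h6 := card_le_of_le h2
  rw [card_map_cj] at h6
  refine (eq_of_le_of_card_ge hle ?_).symm
  nlinarith

theorem Qn.sqrt1 {z r y : G} {n : ℕ} (h : Qn z r y n) {i : ℤ} (e : r ^ (2 * i) = 1) :
    r ^ i = 1 ∨ r ^ i = z := by
  rw [h.zpow_mem]
  rw [h.zpow_eq_one, show (2 : ℤ) ^ (n + 2) = 2 * 2 ^ (n + 1) by ring] at e
  exact Int.dvd_of_mul_dvd_mul_left (by norm_num) e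

theorem Qn.sqrtz {z r y : G} {n : ℕ} (h : Qn z r y n) {i : ℤ} (e : r ^ (2 * i) = z) :
    r ^ i = r ^ (2 ^ n) ∨ r ^ i = r ^ (2 ^ n) * z := by
  have h1 : r ^ (i - 2 ^ n) = 1 ∨ r ^ (i - 2 ^ n) = z := by
    apply h.sqrt1
    rw [mul_sub, zpow_sub, e, show (2 : ℤ) * 2 ^ n = 2 ^ (n + 1) by ring, h.rzp, mul_inv_cancel]
  have h2 : r ^ i = r ^ (2 ^ n) * r ^ (i - 2 ^ n) := by
    rw [← zpow_natCast, ← zpow_add]
    congr 1
    push_cast
    ring
  rcases h1 with h1 | h1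
  · left; rw [h2, h1, mul_one]
  · right; rw [h2, h1]

/-- the fourgroup `{1, z, t, t z} = C_S({r1, r2, y1 y2})`. -/
theorem Sd.cen_u {S : Subgroup G} {z r1 y1 r2 y2 : G} {n1 n2 : ℕ}
    (h : Sd S z r1 y1 r2 y2 n1 n2) {s : G}
    (hs : s ∈ S) (c1 : cj s r1 = r1) (c2 : cj s r2 = r2) (c3 : cj s (y1 * y2) = y1 * y2) :
    s = 1 ∨ s = z ∨ s = r1 ^ (2 ^ n1) * r2 ^ (2 ^ n2) ∨ s = r1 ^ (2 ^ n1) * r2 ^ (2 ^ n2) * z := by
  have key : ∀ {u1 j1 u2 j2 : ℤ}, Ns r1 y1 r2 y2 s u1 j1 u2 j2 → r1 ^ j1 * r2 ^ j2 = 1 := by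
    intro u1 j1 u2 j2 N
    rw [cj_mul, N.b1, N.b2] at c3
    have e : y1 * r2 ^ j2 = r2 ^ j2 * y1 := (Commute.zpow_right (show Commute y1 r2 from h.yr) j2)
    have e2 : r1 ^ j1 * y1 * (r2 ^ j2 * y2) = r1 ^ j1 * r2 ^ j2 * (y1 * y2) := by
      calc r1 ^ j1 * y1 * (r2 ^ j2 * y2) = r1 ^ j1 * (y1 * r2 ^ j2) * y2 := by group
        _ = _ := by rw [e]; group
    rw [e2] at c3
    exact mul_eq_right.1 c3
  have hR : s ∈ RR r1 y1 r2 y2 := by
    rcases h.act s hs with ⟨u1, j1, u2, j2, N⟩ | ⟨e, u1, j1, u2, j2, N⟩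
    · have h1 := Sd.A0_one h.toCo (key N)
      refine h.inR s hs _ _ _ _ N ?_ ?_
      · have h2 : (2 : ℤ) ^ (n1 + 1) ∣ j1 := h.q1.zpow_mem.1 (by
          rcases h1 with h1 | h1; exacts [Or.inl h1.1, Or.inr h1.1])
        exact even_iff_two_dvd.2 ((dvd_pow_self _ (by omega)).trans h2)
      · have h2 : (2 : ℤ) ^ (n2 + 1) ∣ j2 := h.q2.zpow_mem.1 (by
          rcases h1 with h1 | h1; exacts [Or.inl h1.2, Or.inr h1.2])
        exact even_iff_two_dvd.2 ((dvd_pow_self _ (by omega)).trans h2)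
    · exfalso
      have h1 := N.a1.symm.trans c1
      have h2 := h.ind_zpow (i := 1) (j := u1) (by rw [zpow_one]; exact h1.symm)
      exact h.q1.odd_ne odd_one h2
  obtain ⟨i, j, hc⟩ := h.ns_of_mem hR
  rcases hc with ⟨e, M⟩ | ⟨_, M⟩ | ⟨_, M⟩ | ⟨_, M⟩
  · rcases Sd.A0_one h.toCo (key M) with ⟨e1, e2⟩ | ⟨e1, e2⟩
    · rcases h.q1.sqrt1 e1 with h5 | h5 <;> rcases h.q2.sqrt1 e2 with h6 | h6 <;> rw [e, h5, h6]
      · left; simp
      · right; left; simp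
      · right; left; simp
      · left; exact h.q1.z_sq
    · have hz : r1 ^ (2 ^ n1) * z * r2 ^ (2 ^ n2) = r1 ^ (2 ^ n1) * r2 ^ (2 ^ n2) * z := by
        have : z * r2 ^ (2 ^ n2) = r2 ^ (2 ^ n2) * z := (Commute.pow_right (show Commute z r2 from h.q2.zr) _)
        rw [mul_assoc, this, mul_assoc]
      rcases h.q1.sqrtz e1 with h5 | h5 <;> rcases h.q2.sqrtz e2 with h6 | h6 <;> rw [e, h5, h6]
      · right; right; left; rfl
      · right; right; right; rw [mul_assoc]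
      · right; right; right; rw [hz]
      · right; right; left
        rw [← mul_assoc, hz, mul_assoc, h.q1.z_sq, mul_one]
  · exfalso
    have h3 := M.a1.symm.trans c1
    rw [zpow_neg_one] at h3
    exact absurd h3.symm h.q1.r_ne_inv
  · exfalso
    have h3 := M.a2.symm.trans c2
    rw [zpow_neg_one] at h3
    exact absurd h3.symm h.q2.r_ne_inv
  · exfalso
    have h3 := M.a1.symm.trans c1
    rw [zpow_neg_one] at h3
    exact absurd h3.symm h.q1.r_ne_inv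

/-- facts about `a = r ^ (2 ^ n)`. -/
theorem Qn.aa {z r y : G} {n : ℕ} (h : Qn z r y n) : r ^ (2 ^ n) * r ^ (2 ^ n) = z := by
  rw [← pow_add, ← two_mul, ← pow_succ', h.rp]

theorem Qn.a_inv {z r y : G} {n : ℕ} (h : Qn z r y n) : (r ^ (2 ^ n))⁻¹ = r ^ (2 ^ n) * z := by
  rw [inv_eq_iff_mul_eq_one, ← mul_assoc, h.aa, h.z_sq]

theorem Qn.a_odd {z r y : G} {n : ℕ} (h : Qn z r y n) {u : ℤ} (hu : Odd u) :
    (r ^ u) ^ (2 ^ n) = r ^ (2 ^ n) ∨ (r ^ u) ^ (2 ^ n) = r ^ (2 ^ n) * z := by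
  have e : (r ^ u) ^ (2 ^ n) = r ^ (u * 2 ^ n) := by
    rw [← zpow_natCast, ← zpow_mul]; push_cast; rfl
  rw [e]
  apply h.sqrtz
  obtain ⟨k, rfl⟩ := hu
  rw [show 2 * ((2 * k + 1) * (2 : ℤ) ^ n) = 2 ^ (n + 1) * (2 * k + 1) by ring, zpow_mul, h.rzp,
    zpow_add, zpow_mul, h.z2, one_zpow, one_mul, zpow_one]

namespace Sd

variable {S : Subgroup G} {z r1 y1 r2 y2 : G} {n1 n2 : ℕ}

theorem t_comm (h : Co z r1 y1 r2 y2 n1 n2) :
    r1 ^ (2 ^ n1) * r2 ^ (2 ^ n2) = r2 ^ (2 ^ n2) * r1 ^ (2 ^ n1) :=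
  Commute.pow_pow (show Commute r1 r2 from h.rr) _ _

theorem t_sq (h : Co z r1 y1 r2 y2 n1 n2) :
    (r1 ^ (2 ^ n1) * r2 ^ (2 ^ n2)) * (r1 ^ (2 ^ n1) * r2 ^ (2 ^ n2)) = 1 := by
  calc (r1 ^ (2 ^ n1) * r2 ^ (2 ^ n2)) * (r1 ^ (2 ^ n1) * r2 ^ (2 ^ n2))
      = r1 ^ (2 ^ n1) * (r2 ^ (2 ^ n2) * r1 ^ (2 ^ n1)) * r2 ^ (2 ^ n2) := by group
    _ = (r1 ^ (2 ^ n1) * r1 ^ (2 ^ n1)) * (r2 ^ (2 ^ n2) * r2 ^ (2 ^ n2)) := by
        rw [← t_comm h]; group
    _ = 1 := by rw [h.q1.aa, h.q2.aa, h.q1.z_sq]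

theorem t_mem (h : Sd S z r1 y1 r2 y2 n1 n2) : r1 ^ (2 ^ n1) * r2 ^ (2 ^ n2) ∈ S :=
  mul_mem (pow_mem h.h1 _) (pow_mem h.h3 _)

theorem t_mem_R (h : Co z r1 y1 r2 y2 n1 n2) : r1 ^ (2 ^ n1) * r2 ^ (2 ^ n2) ∈ RR r1 y1 r2 y2 :=
  mul_mem (pow_mem h.m1 _) (pow_mem h.m3 _)

/-- `a = r ^ (2 ^ n)` is not central: `a ∉ {1, z}`. -/
theorem _root_.Cfsg.Agent.GH.Q2.Qn.a_ne {z r y : G} {n : ℕ} (h : Qn z r y n) :
    ¬ (r ^ (2 ^ n) = 1 ∨ r ^ (2 ^ n) = z) := by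
  intro h1
  apply h.z_ne
  rcases h1 with h1 | h1
  · rw [← h.aa, h1, one_mul]
  · rw [← h.aa, h1, h.z_sq]

theorem t_ne_one (h : Co z r1 y1 r2 y2 n1 n2) : r1 ^ (2 ^ n1) * r2 ^ (2 ^ n2) ≠ 1 := by
  intro e
  have h1 := h.mul_eq_one (h.q1.mem_iff.2 ⟨2 ^ n1, Or.inl (by rw [← zpow_natCast]; push_cast; rfl)⟩)
    (h.q2.mem_iff.2 ⟨2 ^ n2, Or.inl (by rw [← zpow_natCast]; push_cast; rfl)⟩) e
  exact h.q1.a_ne (by rcases h1 with h1 | h1; exacts [Or.inl h1.1, Or.inr h1.1])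

theorem t_ne_z (h : Co z r1 y1 r2 y2 n1 n2) : r1 ^ (2 ^ n1) * r2 ^ (2 ^ n2) ≠ z := by
  intro e
  have h1 := h.mul_eq_z (h.q1.mem_iff.2 ⟨2 ^ n1, Or.inl (by rw [← zpow_natCast]; push_cast; rfl)⟩)
    (h.q2.mem_iff.2 ⟨2 ^ n2, Or.inl (by rw [← zpow_natCast]; push_cast; rfl)⟩) e
  exact h.q1.a_ne (by rcases h1 with h1 | h1; exacts [Or.inl h1.1, Or.inr h1.1])

/-- conjugates of `t` under `S`. -/
theorem cj_t (h : Sd S z r1 y1 r2 y2 n1 n2) {s : G} (hs : s ∈ S) :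
    cj s (r1 ^ (2 ^ n1) * r2 ^ (2 ^ n2)) = r1 ^ (2 ^ n1) * r2 ^ (2 ^ n2) ∨
    cj s (r1 ^ (2 ^ n1) * r2 ^ (2 ^ n2)) = r1 ^ (2 ^ n1) * r2 ^ (2 ^ n2) * z := by
  have zr2 : ∀ k : ℕ, z * r2 ^ k = r2 ^ k * z := fun k =>
    (Commute.pow_right (show Commute z r2 from h.q2.zr) k)
  have zr1 : ∀ k : ℕ, z * r1 ^ k = r1 ^ k * z := fun k =>
    (Commute.pow_right (show Commute z r1 from h.q1.zr) k)
  have key : ∀ {a b : G}, (a = r1 ^ (2 ^ n1) ∨ a = r1 ^ (2 ^ n1) * z) →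
      (b = r2 ^ (2 ^ n2) ∨ b = r2 ^ (2 ^ n2) * z) →
      a * b = r1 ^ (2 ^ n1) * r2 ^ (2 ^ n2) ∨ a * b = r1 ^ (2 ^ n1) * r2 ^ (2 ^ n2) * z := by
    intro a b ha hb
    have hz : r1 ^ (2 ^ n1) * z * r2 ^ (2 ^ n2) = r1 ^ (2 ^ n1) * r2 ^ (2 ^ n2) * z := by
      rw [mul_assoc, zr2, mul_assoc]
    rcases ha with rfl | rfl <;> rcases hb with rfl | rfl
    · left; rfl
    · right; rw [mul_assoc]
    · right; rw [hz]
    · left; rw [← mul_assoc, hz, mul_assoc, h.q1.z_sq, mul_one]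
  rcases h.act s hs with ⟨u1, j1, u2, j2, N⟩ | ⟨e, u1, j1, u2, j2, N⟩
  · rw [cj_mul, cj_pow, cj_pow, N.a1, N.a2]
    exact key (h.q1.a_odd (N.odd1 h.toCo)) (h.q2.a_odd (N.odd2 h.toCo))
  · subst e
    rw [cj_mul, cj_pow, cj_pow, N.a1, N.a2]
    have h1 := h.q2.a_odd (N.odd1 h.toCo)
    have h2 := h.q1.a_odd (N.odd2 h.toCo)
    have e : ∀ i j : ℤ, (r2 ^ i) ^ (2 ^ n1) * (r1 ^ j) ^ (2 ^ n1) =
        (r1 ^ j) ^ (2 ^ n1) * (r2 ^ i) ^ (2 ^ n1) := by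
      intro i j
      exact (((show Commute r2 r1 from h.rr.symm).zpow_zpow i j).pow_pow _ _)
    rw [e]
    exact key h2 h1

theorem cj_t_y1 (h : Sd S z r1 y1 r2 y2 n1 n2) :
    cj y1 (r1 ^ (2 ^ n1) * r2 ^ (2 ^ n2)) = r1 ^ (2 ^ n1) * r2 ^ (2 ^ n2) * z := by
  have e1 : cj y1 (r1 ^ (2 ^ n1)) = r1 ^ (2 ^ n1) * z := by
    rw [cj_pow, h.q1.inv, inv_pow, h.q1.a_inv]
  have e2 : cj y1 (r2 ^ (2 ^ n2)) = r2 ^ (2 ^ n2) := by
    rw [cj_pow, cj_eq_self h.yr]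
  have zr2 : z * r2 ^ (2 ^ n2) = r2 ^ (2 ^ n2) * z :=
    (Commute.pow_right (show Commute z r2 from h.q2.zr) _)
  rw [cj_mul, e1, e2, mul_assoc, zr2, mul_assoc]

theorem cen_z (h : Sd S z r1 y1 r2 y2 n1 n2) (s : G) (hs : s ∈ S) (hc : ∀ w ∈ S, w * s = s * w) :
    s = 1 ∨ s = z :=
  h.cen hs (cj_eq_self (hc _ h.h1).symm) (cj_eq_self (hc _ h.h2).symm)
      (cj_eq_self (hc _ h.h3).symm) (cj_eq_self (hc _ h.h4).symm)

end Sd

/-- (hx). -/
theorem fus_hx [Finite G] (S : Sylow 2 G) {z r1 y1 r2 y2 : G} {n1 n2 : ℕ}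
    (h : Sd (S : Subgroup G) z r1 y1 r2 y2 n1 n2)
    (f1 : ∀ a ∈ RR r1 y1 r2 y2, ∀ b ∈ RR r1 y1 r2 y2, a * a = 1 → a ≠ 1 → a ≠ z → b * b = 1 →
      b ≠ 1 → b ≠ z → ∃ c : G, cj c z = z ∧ cj c a = b) :
    ∀ a ∈ RR r1 y1 r2 y2, a * a = 1 → a ≠ 1 → a ≠ z → ∃ c : G, cj c z = z ∧
      cj c a = r1 ^ (2 ^ n1) * r2 ^ (2 ^ n2) ∧
      ∀ w ∈ (S : Subgroup G), w * a = a * w → cj c w ∈ (S : Subgroup G) := by
  intro a ha haa ha1 haz
  obtain ⟨c, hc, hca⟩ := f1 a ha _ (Sd.t_mem_R h.toCo) haa ha1 haz (Sd.t_sq h.toCo)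
    (Sd.t_ne_one h.toCo) (Sd.t_ne_z h.toCo)
  set t := r1 ^ (2 ^ n1) * r2 ^ (2 ^ n2) with ht
  have hmax := max0 S (fun s hs => h.zc hs) h.cen_z h.t_mem (Sd.t_ne_one h.toCo)
    (Sd.t_ne_z h.toCo) (fun s hs => h.cj_t hs)
  have hP : IsPGroup 2 ↥((S : Subgroup G) ⊓ centralizer {t}) := isPGroup_inf S.2
  have hPD : (S : Subgroup G) ⊓ centralizer {t} ≤ centralizer {z} ⊓ centralizer {t} := by
    intro s hs
    exact ⟨mem_cz.2 (h.zc hs.1), hs.2⟩
  have hX : IsPGroup 2 ↥(((S : Subgroup G) ⊓ centralizer {a}).map (MulAut.conj c).toMonoidHom) :=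
    isPGroup_cj (isPGroup_inf S.2) c
  have hXD : ((S : Subgroup G) ⊓ centralizer {a}).map (MulAut.conj c).toMonoidHom ≤
      centralizer {z} ⊓ centralizer {t} := by
    rintro _ ⟨x, hx, rfl⟩
    refine ⟨mem_cz.2 (cj_mem_cz hc (h.zc hx.1)), mem_cz.2 ?_⟩
    change cj c x * t = t * cj c x
    rw [← hca, ← cj_mul, ← cj_mul, mem_cz.1 hx.2]
  obtain ⟨d, hd, hdX⟩ := conj_into hP hPD hmax hX hXD
  refine ⟨d * c, ?_, ?_, ?_⟩
  · rw [cj_mul_left, hc]; exact cj_eq_self (mem_cz.1 hd.1)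
  · rw [cj_mul_left, hca]; exact cj_eq_self (mem_cz.1 hd.2)
  · intro w hw hwa
    have := hdX _ ⟨w, ⟨hw, mem_cz.2 hwa⟩, rfl⟩
    rw [cj_mul_left]
    exact this.1

theorem exists_normalizing' [Finite G] {X P : Subgroup G} (hP : IsPGroup 2 P) (hXP : X ≤ P)
    (hne : X ≠ P) : ∃ k ∈ P, k ∉ X ∧ ∀ x ∈ P, x ∈ X ↔ cj k x ∈ X := by
  have hp : Fact (Nat.Prime 2) := ⟨Nat.prime_two⟩
  have : Group.IsNilpotent P := hP.isNilpotent
  have hlt : X.subgroupOf P < ⊤ := by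
    rw [lt_top_iff_ne_top]
    intro h
    rw [subgroupOf_eq_top] at h
    exact hne (le_antisymm hXP h)
  have h1 := Group.normalizerCondition_of_isNilpotent _ hlt
  obtain ⟨k, hk, hk'⟩ := SetLike.exists_of_lt h1
  refine ⟨k, k.2, fun h => hk' h, fun x hx => ?_⟩
  exact mem_normalizer_iff.1 hk ⟨x, hx⟩

/-- (A). -/
theorem alpha [Finite G] (S : Sylow 2 G) {z r1 y1 r2 y2 : G} {n1 n2 : ℕ}
    (h : Sd (S : Subgroup G) z r1 y1 r2 y2 n1 n2) {g : G}
    (hg : cj g z = r1 ^ (2 ^ n1) * r2 ^ (2 ^ n2)) :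
    ∃ k : G, Al (S : Subgroup G) z (r1 ^ (2 ^ n1) * r2 ^ (2 ^ n2)) k := by
  have hmax := max0 S (fun s hs => h.zc hs) h.cen_z h.t_mem (Sd.t_ne_one h.toCo)
    (Sd.t_ne_z h.toCo) (fun s hs => h.cj_t hs)
  have t1 := Sd.t_ne_one h.toCo
  have tz := Sd.t_ne_z h.toCo
  have tt := Sd.t_sq h.toCo
  have tS := h.t_mem
  have ty := h.cj_t_y1
  have cenu := fun {s : G} => h.cen_u (s := s)
  have tr1 : cj (r1 ^ (2 ^ n1) * r2 ^ (2 ^ n2)) r1 = r1 := by
    apply cj_eq_self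
    exact ((show Commute r1 r1 from rfl).pow_left _).mul_left
      ((show Commute r2 r1 from h.rr.symm).pow_left _)
  have tr2 : cj (r1 ^ (2 ^ n1) * r2 ^ (2 ^ n2)) r2 = r2 := by
    apply cj_eq_self
    exact ((show Commute r1 r2 from h.rr).pow_left _).mul_left
      ((show Commute r2 r2 from rfl).pow_left _)
  have ty2 := h.symm.cj_t_y1
  rw [← Sd.t_comm h.toCo] at ty2
  set t := r1 ^ (2 ^ n1) * r2 ^ (2 ^ n2) with ht
  clear_value t
  have zz := h.q1.z_sq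
  have zy1 : cj y1 z = z := h.q1.cj_y_z
  have zy2 : cj y2 z = z := h.q2.cj_y_z
  have tzc : t * z = z * t := h.zc tS
  have tyy : cj t (y1 * y2) = y1 * y2 := by
    apply cj_comm
    rw [cj_mul_left, ty2, cj_mul, ty, zy1, mul_assoc, zz, mul_one]
  set M : Subgroup G := (S : Subgroup G) ⊓ centralizer {t} with hM
  have hMP : IsPGroup 2 M := isPGroup_inf S.2
  have mM : ∀ {s : G}, s ∈ (S : Subgroup G) → cj t s = s → s ∈ M := by
    intro s hs hc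
    exact ⟨hs, mem_cz.2 (cj_eq_self_iff.1 hc).symm⟩
  have m1 : r1 ∈ M := mM h.h1 tr1
  have m2 : r2 ∈ M := mM h.h3 tr2
  have m3 : y1 * y2 ∈ M := mM (mul_mem h.h2 h.h4) tyy
  have mz : z ∈ M := mM h.hz (cj_eq_self tzc)
  have mt : t ∈ M := mM tS (cj_self t)
  -- a Sylow 2-subgroup `P` of `C(t)` containing `M`
  have hSP : IsPGroup 2 (S : Subgroup G) := S.2
  have hconj : (S : Subgroup G).map (MulAut.conj g).toMonoidHom ≤ centralizer {t} := by
    rintro _ ⟨x, hx, rfl⟩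
    refine mem_cz.2 ?_
    change cj g x * t = t * cj g x
    rw [← hg, ← cj_mul, ← cj_mul, h.zc hx]
  have hconjP := isPGroup_cj hSP g
  have hconjmax : ∀ X : Subgroup G, IsPGroup 2 X → X ≤ centralizer {t} →
      (S : Subgroup G).map (MulAut.conj g).toMonoidHom ≤ X →
      X = (S : Subgroup G).map (MulAut.conj g).toMonoidHom := by
    intro X hX _ hle
    exact (eq_of_card S hX hle (card_map_cj _ _)).symm
  obtain ⟨d, hd, hdW⟩ := conj_into hconjP hconj hconjmax hMP inf_le_right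
  set P : Subgroup G := ((S : Subgroup G).map (MulAut.conj g).toMonoidHom).map
    (MulAut.conj d⁻¹).toMonoidHom with hPdef
  have hPP : IsPGroup 2 P := isPGroup_cj hconjP _
  have hPc : Nat.card P = Nat.card (S : Subgroup G) := by
    rw [hPdef, card_map_cj, card_map_cj]
  have hPs : ∀ x ∈ P, x * t = t * x := by
    rintro _ ⟨x, hx, rfl⟩
    change cj d⁻¹ x * t = t * cj d⁻¹ x
    have e : cj d⁻¹ t = t := cj_inv_z (cj_eq_self (mem_cz.1 hd))
    have h1 := mem_cz.1 (hconj hx)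
    have h2 := congrArg (cj d⁻¹) h1
    rwa [cj_mul, cj_mul, e] at h2
  have hWP' : M ≤ P := by
    intro w hw
    exact ⟨cj d w, hdW w hw, cj_inv_cj d w⟩
  have hne : M ≠ P := by
    intro h1
    have h2 : M = (S : Subgroup G) := by
      have h0 : Nat.card M = Nat.card (S : Subgroup G) := by rw [h1, hPc]
      exact eq_of_le_of_card_ge inf_le_left h0.ge
    rcases h.cen_z t tS (fun w hw => by rw [← h2] at hw; exact mem_cz.1 hw.2) with h3 | h3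
    · exact t1 h3
    · exact tz h3
  obtain ⟨k, hk, hkM, hkn⟩ := exists_normalizing' hPP hWP' hne
  have kt : cj k t = t := cj_eq_self (hPs k hk)
  -- elements of `P` fixing `z` are in `M`
  have hPM : ∀ x ∈ P, cj x z = z → x ∈ M := by
    intro x hx hxz
    have h1 := hmax (M ⊔ zpowers x) ?_ ?_ le_sup_left
    · rw [← h1]
      exact mem_sup_right (mem_zpowers x)
    · exact hPP.to_le (sup_le hWP' (by rw [zpowers_le]; exact hx))
    · refine sup_le ?_ ?_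
      · intro w hw
        exact ⟨mem_cz.2 (h.zc hw.1), hw.2⟩
      · rw [zpowers_le]
        exact ⟨mem_cz.2 (cj_eq_self_iff.1 hxz), mem_cz.2 (hPs x hx)⟩
  have kz : cj k z ≠ z := fun e => hkM (hPM k hk e)
  have hfix : ∀ m ∈ M, cj (cj k z) m = m := by
    intro m hm
    have h1 : cj k (cj k⁻¹ m) = m := cj_cj_inv k m
    have h2 : cj k⁻¹ m ∈ M := by
      have h3 : cj k⁻¹ m ∈ P := mul_mem (mul_mem (inv_mem hk) (hWP' hm)) (inv_mem (inv_mem hk))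
      rw [hkn _ h3, h1]; exact hm
    conv_lhs => rw [← h1]
    rw [cj_cj, cj_eq_self (h.zc h2.1).symm, h1]
  have kzM : cj k z ∈ M := (hkn _ (hWP' mz)).1 mz
  have kz' : cj k z = t * z := by
    rcases cenu kzM.1 (hfix _ m1) (hfix _ m2) (hfix _ m3) with h1 | h1 | h1 | h1
    · exact absurd h1 (cj_ne_one h.q1.z_ne)
    · exact absurd h1 kz
    · exact absurd (cj_inj (h1.trans kt.symm)) tz.symm
    · exact h1
  have ktz : cj k (t * z) = z := by
    rw [cj_mul, kt, kz', ← mul_assoc, tt, one_mul]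
  have kk : k * k ∈ M := by
    apply hPM _ (mul_mem hk hk)
    rw [cj_mul_left, kz', ktz]
  have ty' : cj y1 (t * z) = t := by
    rw [cj_mul, ty, zy1, mul_assoc, zz, mul_one]
  refine ⟨cj y1 k, ?_, ?_, ?_, ?_⟩
  · conv_lhs => rw [← zy1]
    rw [cj_cj, kz', ty']
  · conv_lhs => rw [← ty']
    rw [cj_cj, ktz, zy1]
  · rw [← cj_mul]
    exact mul_mem (mul_mem h.h2 kk.1) (inv_mem h.h2)
  · intro w hw hwt
    have h1 : cj y1 (cj y1⁻¹ w) = w := cj_cj_inv y1 w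
    have h2 : cj y1⁻¹ w ∈ (S : Subgroup G) :=
      mul_mem (mul_mem (inv_mem h.h2) hw) (inv_mem (inv_mem h.h2))
    have h3 : cj y1⁻¹ w ∈ M := by
      refine ⟨h2, mem_cz.2 ?_⟩
      have h4 : cj y1⁻¹ w * (t * z) = (t * z) * cj y1⁻¹ w := by
        have h5 : cj y1⁻¹ t = t * z := by
          conv_lhs => rw [← ty']
          rw [cj_inv_cj]
        have h6 := congrArg (cj y1⁻¹) hwt
        rwa [cj_mul, cj_mul, h5] at h6
      have h5 := h.zc h2
      have h6 : cj y1⁻¹ w * t * z = t * cj y1⁻¹ w * z := by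
        rw [mul_assoc, h4, mul_assoc, ← h5, mul_assoc]
      exact mul_right_cancel h6
    have h4 := ((hkn _ (hWP' h3)).1 h3).1
    rw [← h1, cj_cj]
    exact mul_mem (mul_mem h.h2 h4) (inv_mem h.h2)

end Cfsg.Agent.GH.Q2
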