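import Cfsg.Agent.GH.Q2.InPair

/-!
# GH-Q (II), input: (f1) the involutions of `R - {z}` are conjugate in `C(z)`
-/

set_option autoImplicit false
set_option maxHeartbeats 400000

open Cfsg Subgroup
open scoped commutatorElement
open Cfsg.Agent.Intrinsic.Basic Cfsg.Agent.GH.Defs
open Cfsg.Agent.GH.Q2.InPair

namespace Cfsg.Agent.GH.Q2.InF1

variable {G : Type*} [Group G]

/-- Involutions congruent modulo an odd subgroup: if `b`, `o * b` are involutions, `o` of odd order, then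
they are conjugate by a power of `o`. -/
theorem exists_pow_conj {b o : G} (hb : b * b = 1) (hob : (o * b) * (o * b) = 1)
    (ho : Odd (orderOf o)) : ∃ m : ℕ, o ^ m * b * (o ^ m)⁻¹ = o * b := by
  obtain ⟨m, hm⟩ := ho
  refine ⟨m + 1, ?_⟩
  have h1 : b * o * b⁻¹ = o⁻¹ := by
    have h2 : b⁻¹ = b := inv_eq_of_mul_eq_one_right hb
    rw [h2, eq_inv_iff_mul_eq_one]
    have h3 : o * (b * o * b) = 1 := by
      rw [← hob]
      simp only [mul_assoc]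
    have h4 : b * o * b = o⁻¹ := eq_inv_of_mul_eq_one_right h3
    rw [h4, inv_mul_cancel]
  have h5 : b * (o ^ (m + 1))⁻¹ * b⁻¹ = o ^ (m + 1) := by
    have h6 : b * (o ^ (m + 1))⁻¹ * b⁻¹ = ((b * o * b⁻¹) ^ (m + 1))⁻¹ := by
      rw [conj_pow]; group
    rw [h6, h1, inv_pow, inv_inv]
  calc o ^ (m + 1) * b * (o ^ (m + 1))⁻¹ = o ^ (m + 1) * (b * (o ^ (m + 1))⁻¹ * b⁻¹) * b := by group
    _ = o ^ (m + 1) * o ^ (m + 1) * b := by rw [h5]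
    _ = o * b := by
      have h7 : o ^ (m + 1) * o ^ (m + 1) = o := by
        rw [← pow_add, show m + 1 + (m + 1) = (2 * m + 1) + 1 by ring, pow_succ, ← hm,
          pow_orderOf_eq_one, one_mul]
      rw [h7]

variable [Finite G] {z : G} {K₁ K₂ S : Subgroup G}

/-- an involution of `R`, different from `z`, is `q₁ q₂` with `q₁² = q₂² = z` -/
theorem exists_of_mem (h1 : QC z K₁) (h2 : QC z K₂) (hne : K₁ ≠ K₂)
    (hS : Cit.Syl S (centralizer {z})) {a : G} (ha : a ∈ (S ⊓ K₁) ⊔ (S ⊓ K₂)) (haa : a * a = 1)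
    (ha1 : a ≠ 1) (haz : a ≠ z) : ∃ p ∈ S ⊓ K₁, ∃ q ∈ S ⊓ K₂, a = p * q ∧ p * p = z ∧ q * q = z := by
  obtain ⟨p, hp, q, hq, rfl⟩ := (InRank.mem_sup_iff (comm h1 h2 hne hS)).1 ha
  have hpq := comm h1 h2 hne hS p hp q hq
  have e1 : (p * p) * (q * q) = 1 := by
    rw [← haa]
    exact ((show Commute q p from hpq.symm).mul_mul_mul_comm p q).symm
  have e2 : q * q = (p * p)⁻¹ := eq_inv_of_mul_eq_one_right e1
  have hzi : z⁻¹ = z := inv_eq_of_mul_eq_one_right h1.z_sq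
  rcases inf_eq h1 h2 hne hS ((S ⊓ K₁).mul_mem hp hp) (by
    have h3 := (S ⊓ K₂).inv_mem ((S ⊓ K₂).mul_mem hq hq)
    rwa [e2, inv_inv] at h3) with h3 | h3
  · exfalso
    rw [h3, inv_one] at e2
    rcases h1.uniq p hp.2 h3 with h4 | h4 <;> rcases h2.uniq q hq.2 e2 with h5 | h5
    · exact ha1 (by rw [h4, h5, one_mul])
    · exact haz (by rw [h4, h5, one_mul])
    · exact haz (by rw [h4, h5, mul_one])
    · exact ha1 (by rw [h4, h5, h1.z_sq])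
  · refine ⟨p, hp, q, hq, rfl, h3, ?_⟩
    rw [e2, h3, hzi]

/-- **(f1)** -/
theorem f1 (h1 : QC z K₁) (h2 : QC z K₂) (hne : K₁ ≠ K₂)
    (hS : Cit.Syl S (centralizer {z})) {a b : G} (ha : a ∈ (S ⊓ K₁) ⊔ (S ⊓ K₂))
    (hb : b ∈ (S ⊓ K₁) ⊔ (S ⊓ K₂)) (haa : a * a = 1) (ha1 : a ≠ 1) (haz : a ≠ z)
    (hbb : b * b = 1) (hb1 : b ≠ 1) (hbz : b ≠ z) :
    ∃ c : G, c * z * c⁻¹ = z ∧ c * a * c⁻¹ = b := by
  obtain ⟨p, hp, q, hq, rfl, hpp, hqq⟩ := exists_of_mem h1 h2 hne hS ha haa ha1 haz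
  obtain ⟨p', hp', q', hq', rfl, hpp', hqq'⟩ := exists_of_mem h1 h2 hne hS hb hbb hb1 hbz
  obtain ⟨c₁, v₁, n₁, g1⟩ := h1.exists_gq hS
  obtain ⟨c₂, v₂, n₂, g2⟩ := h2.exists_gq hS
  obtain ⟨k₁, hk₁, e1⟩ := (h1.qk hS g1).conj_four hp.2 hpp hp'.2 hpp'
  obtain ⟨k₂, hk₂, e2⟩ := (h2.qk hS g2).conj_four hq.2 hqq hq'.2 hqq'
  -- modulo the core of `C(z)`
  let N : Subgroup G := core (centralizer ({z} : Set G))
  have hCN : ∀ g ∈ centralizer ({z} : Set G), ∀ o ∈ N, g * o * g⁻¹ ∈ N := fun g hg o ho =>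
    conj_mem_core (le_normalizer hg) ho
  have hcomm : ∀ a ∈ K₁, ∀ b ∈ K₂, ⁅a, b⁆ ∈ N := by
    intro a ha b hb
    exact h1.comp.comp.core_le_core
      ((h1.comp.comp.comm_le_core h2.comp.comp hne) (commutator_mem_commutator ha hb)).1
  have hk₁C := h1.cent hk₁
  have hk₂C := h2.cent hk₂
  have hpC := h1.cent hp.2
  have hp'C := h1.cent hp'.2
  obtain ⟨o, ho⟩ : ∃ o, o = (k₁ * k₂) * (p * q) * (k₁ * k₂)⁻¹ * (p' * q')⁻¹ := ⟨_, rfl⟩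
  have hoN : o ∈ N := by
    -- `o = k₁ [k₂, p] k₁⁻¹ · p' [k₁, q'] p'⁻¹`
    have e3 : o = (k₁ * ⁅p, k₂⁆⁻¹ * k₁⁻¹) * (p' * ⁅k₁, q'⁆ * p'⁻¹) := by
      have e4 : (k₁ * k₂) * (p * q) * (k₁ * k₂)⁻¹ =
          (k₁ * ⁅p, k₂⁆⁻¹ * k₁⁻¹) * (k₁ * p * k₁⁻¹) * (k₁ * (k₂ * q * k₂⁻¹) * k₁⁻¹) := by
        simp only [commutatorElement_def]; group
      rw [ho, e4, e1, e2]
      simp only [commutatorElement_def]; group
    rw [e3]
    exact N.mul_mem (hCN _ hk₁C _ (N.inv_mem (hcomm _ hp.2 _ hk₂))) (hCN _ hp'C _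
      (hcomm _ hk₁ _ hq'.2))
  have hoodd : Odd (orderOf o) := by
    have h3 : orderOf (⟨o, hoN⟩ : N) ∣ Nat.card N := orderOf_dvd_natCard _
    rw [Subgroup.orderOf_mk] at h3
    exact Odd.of_dvd_nat (odd_card_core _) h3
  have hob : o * (p' * q') = (k₁ * k₂) * (p * q) * (k₁ * k₂)⁻¹ := by
    rw [ho, inv_mul_cancel_right]
  obtain ⟨m, hm⟩ := exists_pow_conj (b := p' * q') (o := o) hbb (by
    rw [hob]
    calc (k₁ * k₂) * (p * q) * (k₁ * k₂)⁻¹ * ((k₁ * k₂) * (p * q) * (k₁ * k₂)⁻¹) =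
        (k₁ * k₂) * ((p * q) * (p * q)) * (k₁ * k₂)⁻¹ := by group
      _ = 1 := by rw [haa]; group) hoodd
  have hcz : ∀ g ∈ centralizer ({z} : Set G), g * z * g⁻¹ = z := by
    intro g hg
    rw [mem_centralizer_singleton_iff.1 hg, mul_inv_cancel_right]
  refine ⟨(o ^ m)⁻¹ * (k₁ * k₂), hcz _ ?_, ?_⟩
  · exact (centralizer ({z} : Set G)).mul_mem (Subgroup.inv_mem _ (Subgroup.pow_mem _ (core_le _ hoN) m))
      (Subgroup.mul_mem _ hk₁C hk₂C)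
  · calc (o ^ m)⁻¹ * (k₁ * k₂) * (p * q) * ((o ^ m)⁻¹ * (k₁ * k₂))⁻¹ =
        (o ^ m)⁻¹ * ((k₁ * k₂) * (p * q) * (k₁ * k₂)⁻¹) * o ^ m := by group
      _ = (o ^ m)⁻¹ * (o ^ m * (p' * q') * (o ^ m)⁻¹) * o ^ m := by rw [← hob, hm]
      _ = p' * q' := by group

end Cfsg.Agent.GH.Q2.InF1
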