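import Cfsg.Agent.Cit.OneQuat
import Cfsg.Agent.Transfer.ThompsonTransfer

/-!
# GH-Q (II), input: a perfect group with a generalized quaternion Sylow 2-subgroup and central involution

`QK K Q c v z n`: `Q = ⟨c, v⟩` (generalized quaternion of order `2^(n+3)`, `GQ Q c v z n`) is a Sylow
2-subgroup of `K`, `z` is central in `K`, `K` has no subgroup of index 2.  With `w = c ^ 2 ^ n`:

* `conj_w`: every `a ∈ K` with `a * a = z` is conjugate to `w` in `K`;
* `pair`: every pair `(a, b)` with `a * a = b * b = z`, `a * b * a⁻¹ = b⁻¹` is conjugate to `(w, v)` or to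
  `(w, v c)`;
* `sep`: `(w, v)` is not conjugate to `(w, v c ^ j)`, `j` odd.
-/

set_option autoImplicit false
set_option maxHeartbeats 400000

open Cfsg Subgroup
open Cfsg.Agent.Cit

namespace Cfsg.Agent.GH.Q2.InQuat

/-- `sign_quotient_eq_neg_one` for an element acting as an involution. -/
theorem exists_hom {X : Type*} [Group X] [Finite X] (M : Subgroup X) {m : ℕ}
    (hM : M.index = 2 * m) (hm : Odd m) (u : X) (hu : ∀ x : X, x⁻¹ * (u * u) * x ∈ M)
    (h : ∀ g : X, g * u * g⁻¹ ∉ M) : ∃ f : X →* ℤˣ, f u = -1 := by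
  classical
  have : Finite (X ⧸ M) := inferInstance
  have : Fintype (X ⧸ M) := Fintype.ofFinite _
  refine ⟨(Equiv.Perm.sign).comp (MulAction.toPermHom X (X ⧸ M)), ?_⟩
  change Equiv.Perm.sign (MulAction.toPermHom X (X ⧸ M) u) = -1
  have h2 : (MulAction.toPermHom X (X ⧸ M) u) ^ 2 = 1 := by
    ext x
    refine QuotientGroup.induction_on x ?_
    intro g
    rw [← map_pow, Equiv.Perm.one_apply]
    change ((u ^ 2 * g : X) : X ⧸ M) = (g : X ⧸ M)
    rw [QuotientGroup.eq, pow_two]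
    have h3 := M.inv_mem (hu g)
    have h4 : (u * u * g)⁻¹ * g = (g⁻¹ * (u * u) * g)⁻¹ := by group
    rw [h4]
    exact h3
  rw [Equiv.Perm.sign_of_pow_two_eq_one h2]
  have hfix : IsEmpty (Function.fixedPoints (MulAction.toPermHom X (X ⧸ M) u)) := by
    constructor
    rintro ⟨x, hx⟩
    revert hx
    refine QuotientGroup.induction_on x ?_
    intro g hg
    have hg' : u • (g : X ⧸ M) = (g : X ⧸ M) := hg
    have h3 : ((u * g : X) : X ⧸ M) = (g : X ⧸ M) := hg'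
    have h4 := QuotientGroup.eq.1 h3
    have h5 : g⁻¹ * u * g ∈ M := by
      have h6 := M.inv_mem h4
      have h7 : ((u * g)⁻¹ * g)⁻¹ = g⁻¹ * u * g := by group
      rwa [h7] at h6
    have h8 := h g⁻¹
    rw [inv_inv] at h8
    exact h8 h5
  have h0 : Fintype.card (Function.fixedPoints (MulAction.toPermHom X (X ⧸ M) u)) = 0 :=
    Fintype.card_eq_zero_iff.2 hfix
  have h1 : Fintype.card (X ⧸ M) = 2 * m := by
    rw [← Nat.card_eq_fintype_card, ← Subgroup.index_eq_card, hM]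
  rw [h0, h1, Nat.sub_zero, Nat.mul_div_cancel_left m (by norm_num), hm.neg_one_pow]

/-- A cyclic Sylow `2`-subgroup has a normal complement, the set of elements of odd order. -/
theorem exists_odd_core {C : Type*} [Group C] [Finite C] (S : Sylow 2 C) (hS : IsCyclic S) :
    ∃ K : Subgroup C, (∀ g, g ∈ K ↔ Odd (orderOf g)) ∧
      ∀ g, ∃ k ∈ K, ∃ s ∈ (S : Subgroup C), g = k * s := by
  by_cases h2 : 2 ∣ Nat.card C
  · have hmin : (Nat.card C).minFac = 2 := by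
      rw [Nat.minFac_eq_two_iff]; exact h2
    have hn := hS.normalizer_le_centralizer hmin
    have hcomp := hS.isComplement' hmin
    refine ⟨(MonoidHom.transferSylow S hn).ker, ?_, ?_⟩
    · intro g
      constructor
      · intro hg
        have h1 : Odd (Nat.card (MonoidHom.transferSylow S hn).ker) := by
          rw [← Nat.not_even_iff_odd, even_iff_two_dvd]
          exact MonoidHom.not_dvd_card_ker_transferSylow S hn
        have h3 : orderOf (⟨g, hg⟩ : (MonoidHom.transferSylow S hn).ker) ∣ _ :=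
          orderOf_dvd_natCard _
        rw [Subgroup.orderOf_mk] at h3
        exact Odd.of_dvd_nat h1 h3
      · intro hg
        rw [MonoidHom.mem_ker]
        have h1 : orderOf (MonoidHom.transferSylow S hn g) ∣ orderOf g := orderOf_map_dvd _ g
        have h3 : orderOf (MonoidHom.transferSylow S hn g) ∣ Nat.card S := orderOf_dvd_natCard _
        obtain ⟨k, hk⟩ := S.isPGroup'.exists_card_eq
        rw [hk] at h3
        have h4 : Nat.Coprime (orderOf g) (2 ^ k) := by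
          apply Nat.Coprime.pow_right
          exact Nat.Coprime.symm ((Nat.coprime_two_left).mpr hg)
        have h5 := Nat.dvd_gcd h1 h3
        rw [h4] at h5
        exact orderOf_eq_one_iff.mp (Nat.dvd_one.mp h5)
    · intro g
      obtain ⟨⟨k, s⟩, hks⟩ := hcomp.2 g
      exact ⟨k, k.2, s, s.2, hks.symm⟩
  · refine ⟨⊤, ?_, ?_⟩
    · intro g
      refine ⟨fun _ => ?_, fun _ => Subgroup.mem_top _⟩
      have h1 : Odd (Nat.card C) := by
        rw [← Nat.not_even_iff_odd, even_iff_two_dvd]; exact h2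
      exact Odd.of_dvd_nat h1 (orderOf_dvd_natCard g)
    · intro g
      exact ⟨g, Subgroup.mem_top _, 1, one_mem _, (mul_one g).symm⟩

variable {G : Type*} [Group G]

/-- `Q` generalized quaternion with coordinates `c, v, z, n`, Sylow in `K ≤ C(z)`, `K` without subgroup
of index 2. -/
structure QK (K Q : Subgroup G) (c v z : G) (n : ℕ) : Prop where
  syl : Syl Q K
  gq : GQ Q c v z n
  cent : K ≤ centralizer {z}
  perf : ∀ (f : K →* ℤˣ) (x : K), f x = 1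

namespace QK

variable {K Q : Subgroup G} {c v z : G} {n : ℕ}

theorem c_mem (h : QK K Q c v z n) : c ∈ K := h.syl.1 h.gq.c_mem
theorem v_mem (h : QK K Q c v z n) : v ∈ K := h.syl.1 h.gq.v_mem
theorem z_mem (h : QK K Q c v z n) : z ∈ K := h.syl.1 h.gq.z_mem

theorem comm_z (h : QK K Q c v z n) {k : G} (hk : k ∈ K) : k * z = z * k :=
  mem_centralizer_singleton_iff.1 (h.cent hk)

theorem conj_z (h : QK K Q c v z n) {k : G} (hk : k ∈ K) : k * z * k⁻¹ = z := by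
  rw [h.comm_z hk, mul_inv_cancel_right]

/-- the element of order 4 of `⟨c⟩` -/
theorem w_sq (h : QK K Q c v z n) : c ^ 2 ^ n * c ^ 2 ^ n = z := h.gq.w_sq

theorem w_mem (h : QK K Q c v z n) : c ^ 2 ^ n ∈ K := K.pow_mem h.c_mem _

theorem w_inv (h : QK K Q c v z n) : (c ^ 2 ^ n)⁻¹ = c ^ 2 ^ n * z := by
  rw [inv_eq_iff_mul_eq_one, ← mul_assoc, h.w_sq, h.gq.z_mul]

theorem v_conj_w (h : QK K Q c v z n) : v * c ^ 2 ^ n * v⁻¹ = (c ^ 2 ^ n)⁻¹ := by
  rw [h.gq.conj_pow]; group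

theorem w_ne_inv (h : QK K Q c v z n) : c ^ 2 ^ n ≠ (c ^ 2 ^ n)⁻¹ := by
  intro h1
  apply h.gq.z_ne
  rw [← h.w_sq]
  nth_rewrite 2 [h1]
  exact mul_inv_cancel _

/-- conjugates of `z` -/
theorem conj_sq (h : QK K Q c v z n) {k a : G} (hk : k ∈ K) (ha : a * a = z) :
    (k * a * k⁻¹) * (k * a * k⁻¹) = z := by
  have : (k * a * k⁻¹) * (k * a * k⁻¹) = k * (a * a) * k⁻¹ := by group
  rw [this, ha, h.conj_z hk]

theorem eq_w (h : QK K Q c v z n) {x : G} (hx : x ∈ zpowers c) (hxx : x * x = z) :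
    x = c ^ 2 ^ n ∨ x = (c ^ 2 ^ n)⁻¹ := by
  have hcm : Commute x (c ^ 2 ^ n) := by
    obtain ⟨i, rfl⟩ := hx
    exact ((Commute.refl c).zpow_left i).pow_right _
  have h1 : x * c ^ 2 ^ n ∈ Q := Q.mul_mem (h.gq.zpowers_le hx) (Q.pow_mem h.gq.c_mem _)
  have h2 : (x * c ^ 2 ^ n) * (x * c ^ 2 ^ n) = 1 := by
    rw [hcm.symm.mul_mul_mul_comm, hxx, h.w_sq, h.gq.z_mul]
  by_cases h3 : x * c ^ 2 ^ n = 1
  · right
    exact eq_inv_of_mul_eq_one_left h3
  · left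
    have h4 := h.gq.eq_z h1 h2 h3
    rw [← hxx] at h4
    exact (mul_left_cancel h4).symm

theorem relIndex_c [Finite G] (h : QK K Q c v z n) : (zpowers c).relIndex Q = 2 := by
  have h1 := (zpowers c).subgroupOf Q |>.card_mul_index
  have h2 : Nat.card ((zpowers c).subgroupOf Q) = 2 ^ (n + 2) := by
    rw [Nat.card_congr (subgroupOfEquivOfLe h.gq.zpowers_le).toEquiv, Nat.card_zpowers, h.gq.ord]
  rw [h2, h.gq.card] at h1
  have h3 : 2 ^ (n + 2) * ((zpowers c).subgroupOf Q).index = 2 ^ (n + 2) * 2 := by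
    rw [h1]; ring
  exact Nat.eq_of_mul_eq_mul_left (by positivity) h3

/-- transfer: elements with square `z` are conjugate into `⟨c⟩` -/
theorem exists_conj_mem [Finite G] (h : QK K Q c v z n) {u : G} (hu : u ∈ K) (huz : u * u = z) :
    ∃ k ∈ K, k * u * k⁻¹ ∈ zpowers c := by
  by_contra hcon
  push Not at hcon
  have hcK : zpowers c ≤ K := h.gq.zpowers_le.trans h.syl.1
  obtain ⟨f, hf⟩ := exists_hom ((zpowers c).subgroupOf K) (m := Q.relIndex K) (by
      change (zpowers c).relIndex K = _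
      rw [← relIndex_mul_relIndex _ _ _ h.gq.zpowers_le h.syl.1, h.relIndex_c]) (by
      rw [← Nat.not_even_iff_odd, even_iff_two_dvd]
      exact h.syl.2.2) (⟨u, hu⟩ : K) (by
      intro x
      rw [mem_subgroupOf]
      have h1 : ((x⁻¹ * ((⟨u, hu⟩ : K) * ⟨u, hu⟩) * x : K) : G) = (x : G)⁻¹ * (u * u) * x := rfl
      rw [h1, huz]
      have h2 := h.conj_z (K.inv_mem x.2)
      rw [inv_inv] at h2
      rw [h2, ← h.gq.z_eq]
      exact pow_mem (mem_zpowers c) _) (by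
      intro g hg
      exact hcon g g.2 hg)
  rw [h.perf f] at hf
  exact absurd hf (by decide)

/-- every element with square `z` is conjugate to `w` -/
theorem conj_w [Finite G] (h : QK K Q c v z n) {a : G} (ha : a ∈ K) (haz : a * a = z) :
    ∃ k ∈ K, k * a * k⁻¹ = c ^ 2 ^ n := by
  obtain ⟨k, hk, hkc⟩ := h.exists_conj_mem ha haz
  rcases h.eq_w hkc (h.conj_sq hk haz) with h1 | h1
  · exact ⟨k, hk, h1⟩
  · refine ⟨v * k, K.mul_mem h.v_mem hk, ?_⟩
    have h2 : v * k * a * (v * k)⁻¹ = v * (k * a * k⁻¹) * v⁻¹ := by group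
    rw [h2, h1]
    have h3 : v * (c ^ 2 ^ n)⁻¹ * v⁻¹ = (v * c ^ 2 ^ n * v⁻¹)⁻¹ := by group
    rw [h3, h.v_conj_w, inv_inv]

/-- all elements with square `z` are conjugate -/
theorem conj_four [Finite G] (h : QK K Q c v z n) {a b : G} (ha : a ∈ K) (haz : a * a = z)
    (hb : b ∈ K) (hbz : b * b = z) : ∃ k ∈ K, k * a * k⁻¹ = b := by
  obtain ⟨k, hk, h1⟩ := h.conj_w ha haz
  obtain ⟨l, hl, h2⟩ := h.conj_w hb hbz
  refine ⟨l⁻¹ * k, K.mul_mem (K.inv_mem hl) hk, ?_⟩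
  have h3 : l⁻¹ * k * a * (l⁻¹ * k)⁻¹ = l⁻¹ * (k * a * k⁻¹) * l := by group
  rw [h3, h1, ← h2]
  group

/-- `Q` normalises `⟨w⟩` -/
theorem conj_w_of_mem (h : QK K Q c v z n) {q : G} (hq : q ∈ Q) :
    q * c ^ 2 ^ n * q⁻¹ = c ^ 2 ^ n ∧ q ∈ zpowers c ∨
      q * c ^ 2 ^ n * q⁻¹ = (c ^ 2 ^ n)⁻¹ ∧ ∃ i : ℤ, q = v * c ^ i := by
  by_cases hqc : q ∈ zpowers c
  · left
    refine ⟨?_, hqc⟩
    obtain ⟨i, rfl⟩ := hqc
    have h1 : Commute (c ^ i) (c ^ 2 ^ n) := ((Commute.refl c).zpow_left i).pow_right _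
    change c ^ i * c ^ 2 ^ n * (c ^ i)⁻¹ = _
    rw [h1.eq, mul_inv_cancel_right]
  · right
    obtain ⟨i, rfl⟩ := h.gq.exists_eq_of_not_mem hq hqc
    refine ⟨?_, i, rfl⟩
    have h1 : Commute (c ^ i) (c ^ 2 ^ n) := ((Commute.refl c).zpow_left i).pow_right _
    have h2 : v * c ^ i * c ^ 2 ^ n * (v * c ^ i)⁻¹ = v * (c ^ i * c ^ 2 ^ n * (c ^ i)⁻¹) * v⁻¹ := by
      group
    rw [h2, h1.eq, mul_inv_cancel_right, h.v_conj_w]

/-- the subgroup of `K` of elements centralizing or inverting `w` -/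
def NW (K : Subgroup G) (w : G) : Subgroup G where
  carrier := {x | x ∈ K ∧ (x * w * x⁻¹ = w ∨ x * w * x⁻¹ = w⁻¹)}
  one_mem' := ⟨one_mem _, by simp⟩
  mul_mem' := by
    rintro a b ⟨ha, ha'⟩ ⟨hb, hb'⟩
    refine ⟨K.mul_mem ha hb, ?_⟩
    have h1 : a * b * w * (a * b)⁻¹ = a * (b * w * b⁻¹) * a⁻¹ := by group
    have h2 : a * w⁻¹ * a⁻¹ = (a * w * a⁻¹)⁻¹ := by group
    rw [h1]
    rcases hb' with h | h <;> rcases ha' with h' | h' <;> rw [h] <;> simp [h', h2]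
  inv_mem' := by
    rintro a ⟨ha, ha'⟩
    refine ⟨K.inv_mem ha, ?_⟩
    rcases ha' with h | h
    · left
      have : w = a * w * a⁻¹ := h.symm
      calc a⁻¹ * w * a⁻¹⁻¹ = a⁻¹ * (a * w * a⁻¹) * a := by rw [← this]; group
        _ = w := by group
    · right
      have h3 : w = (a * w * a⁻¹)⁻¹ := by rw [h, inv_inv]
      calc a⁻¹ * w * a⁻¹⁻¹ = a⁻¹ * (a * w * a⁻¹)⁻¹ * a := by rw [← h3]; group
        _ = w⁻¹ := by group

theorem mem_NW {w x : G} : x ∈ NW K w ↔ x ∈ K ∧ (x * w * x⁻¹ = w ∨ x * w * x⁻¹ = w⁻¹) := Iff.rfl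

theorem NW_le (w : G) : NW K w ≤ K := fun _ hx => hx.1

theorem syl_NW [Finite G] (h : QK K Q c v z n) : Syl Q (NW K (c ^ 2 ^ n)) := by
  have h1 : Q ≤ NW K (c ^ 2 ^ n) := by
    intro q hq
    refine ⟨h.syl.1 hq, ?_⟩
    rcases h.conj_w_of_mem hq with h1 | h1
    · exact Or.inl h1.1
    · exact Or.inr h1.1
  refine ⟨h1, h.syl.2.1, ?_⟩
  intro h2
  apply h.syl.2.2
  rw [← relIndex_mul_relIndex _ _ _ h1 (NW_le _)]
  exact h2.mul_right _

end QK

/-- 2-subgroups of `N` are conjugate into a Sylow 2-subgroup `Q` of `N` -/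
theorem exists_conj_le [Finite G] {Q N P : Subgroup G} (h : Syl Q N) (hP : IsPGroup 2 P)
    (hPN : P ≤ N) : ∃ k ∈ N, ∀ x ∈ P, k * x * k⁻¹ ∈ Q := by
  have : Fact (Nat.Prime 2) := ⟨Nat.prime_two⟩
  obtain ⟨R, hR⟩ := (IsPGroup.exists_le_sylow (G := N) (P := P.subgroupOf N)
    (hP.comap_subtype))
  have h1 : Syl ((R : Subgroup N).map N.subtype) N := by
    refine ⟨map_subtype_le _, R.isPGroup'.map _, ?_⟩
    have h1 : ((R : Subgroup N).map N.subtype).subgroupOf N = R := by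
      rw [subgroupOf, comap_map_eq_self_of_injective N.subtype_injective]
    rw [relIndex, h1]
    exact R.not_dvd_index
  obtain ⟨k, hk, hkQ⟩ := h1.exists_conj h
  refine ⟨k, hk, fun x hx => ?_⟩
  rw [← hkQ]
  apply conj_mem_cj
  exact ⟨⟨x, hPN hx⟩, hR hx, rfl⟩

/-- 2-elements of `N` are conjugate into a Sylow 2-subgroup `Q` of `N` -/
theorem exists_conj_mem_of_two [Finite G] {Q N : Subgroup G} (h : Syl Q N) {x : G} (hx : x ∈ N)
    {m : ℕ} (hm : x ^ 2 ^ m = 1) : ∃ k ∈ N, k * x * k⁻¹ ∈ Q := by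
  obtain ⟨k, hk, h1⟩ := exists_conj_le h (P := zpowers x) (by
    rintro ⟨_, i, rfl⟩
    refine ⟨m, ?_⟩
    apply Subtype.ext
    change (x ^ i) ^ 2 ^ m = 1
    rw [← zpow_natCast, ← zpow_mul, mul_comm, zpow_mul, zpow_natCast, hm, one_zpow]) (by
    rw [zpowers_le]; exact hx)
  exact ⟨k, hk, h1 x (mem_zpowers x)⟩

namespace QK

variable {K Q : Subgroup G} {c v z : G} {n : ℕ}

theorem pow_four (h : QK K Q c v z n) {a : G} (ha : a * a = z) : a ^ 2 ^ 2 = 1 := by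
  have : a ^ 2 ^ 2 = (a * a) * (a * a) := by
    rw [show 2 ^ 2 = 4 by norm_num, pow_succ, pow_succ, pow_two]
    simp only [mul_assoc]
  rw [this, ha, h.gq.z_mul]

theorem conj_zpow_out (h : QK K Q c v z n) (i j : ℤ) :
    c ^ j * (v * c ^ i) * (c ^ j)⁻¹ = v * c ^ (i - 2 * j) := by
  have h1 := h.gq.conj_zpow_v j
  calc c ^ j * (v * c ^ i) * (c ^ j)⁻¹ = (c ^ j * v * (c ^ j)⁻¹) * (c ^ j * c ^ i * (c ^ j)⁻¹) := by
        group
    _ = v * c ^ (i - 2 * j) := by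
        rw [h1, mul_assoc, ← zpow_neg, ← zpow_add, ← zpow_add, ← zpow_add]
        congr 2
        ring

/-- an element `b` with `w b w⁻¹ = b⁻¹`, `b² = z`, inverts `w` -/
theorem inverts (_h : QK K Q c v z n) {b w : G} (hww : w * w = z) (hbz : b * b = z)
    (hwb : w * b * w⁻¹ = b⁻¹) : b * w * b⁻¹ = w⁻¹ := by
  have h3 : b * w * b = w := by
    have h4 : w * b = b⁻¹ * w := by rw [← hwb]; group
    rw [mul_assoc, h4, mul_inv_cancel_left]
  calc b * w * b⁻¹ = (b * w * b) * (b * b)⁻¹ := by group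
    _ = w * (w * w)⁻¹ := by rw [h3, hbz, hww]
    _ = w⁻¹ := by group

/-- **pairs**: every pair `(a, b)` with `a² = b² = z`, `a b a⁻¹ = b⁻¹` is `K`-conjugate to `(w, v)` or
`(w, v c)`. -/
theorem pair [Finite G] (h : QK K Q c v z n) {a b : G} (ha : a ∈ K) (haz : a * a = z) (hb : b ∈ K)
    (hbz : b * b = z) (hab : a * b * a⁻¹ = b⁻¹) :
    ∃ k ∈ K, k * a * k⁻¹ = c ^ 2 ^ n ∧ (k * b * k⁻¹ = v ∨ k * b * k⁻¹ = v * c) := by
  obtain ⟨k, hk, h1⟩ := h.conj_w ha haz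
  -- `b' = k b k⁻¹` inverts `w`
  obtain ⟨b', hb'⟩ : ∃ b', b' = k * b * k⁻¹ := ⟨_, rfl⟩
  obtain ⟨w, hw⟩ : ∃ w, w = c ^ 2 ^ n := ⟨_, rfl⟩
  have hb'K : b' ∈ K := by
    rw [hb']
    exact K.mul_mem (K.mul_mem hk hb) (K.inv_mem hk)
  have hb'z : b' * b' = z := by
    rw [hb']
    exact h.conj_sq hk hbz
  have hwz : w * w = z := by rw [hw]; exact h.w_sq
  have hwb : w * b' * w⁻¹ = b'⁻¹ := by
    rw [hw, ← h1, hb']
    calc k * a * k⁻¹ * (k * b * k⁻¹) * (k * a * k⁻¹)⁻¹ = k * (a * b * a⁻¹) * k⁻¹ := by group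
      _ = (k * b * k⁻¹)⁻¹ := by rw [hab]; group
  have hbw : b' * w * b'⁻¹ = w⁻¹ := h.inverts hwz hb'z hwb
  obtain ⟨m, hm, hmw, hmQ⟩ : ∃ m ∈ K, m * w * m⁻¹ = w ∧ m * b' * m⁻¹ ∈ Q := by
    obtain ⟨m, hm, hmQ⟩ := exists_conj_mem_of_two (hw ▸ h.syl_NW) (N := NW K w) (x := b')
      ⟨hb'K, Or.inr hbw⟩ (h.pow_four hb'z)
    rcases hm.2 with h2 | h2
    · exact ⟨m, hm.1, h2, hmQ⟩
    · refine ⟨v * m, K.mul_mem h.v_mem hm.1, ?_, ?_⟩
      · have h3 : v * m * w * (v * m)⁻¹ = v * (m * w * m⁻¹) * v⁻¹ := by group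
        have h4 : v * w⁻¹ * v⁻¹ = (v * w * v⁻¹)⁻¹ := by group
        rw [h3, h2, h4, hw, h.v_conj_w, inv_inv]
      · have h3 : v * m * b' * (v * m)⁻¹ = v * (m * b' * m⁻¹) * v⁻¹ := by group
        rw [h3]
        exact Q.mul_mem (Q.mul_mem h.gq.v_mem hmQ) (Q.inv_mem h.gq.v_mem)
  have hq : (m * b' * m⁻¹) * w * (m * b' * m⁻¹)⁻¹ = w⁻¹ := by
    calc (m * b' * m⁻¹) * w * (m * b' * m⁻¹)⁻¹ = m * b' * (m⁻¹ * w * m) * b'⁻¹ * m⁻¹ := by group
      _ = m * b' * w * b'⁻¹ * m⁻¹ := by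
          have : m⁻¹ * w * m = w := by
            nth_rewrite 1 [← hmw]
            group
          rw [this]
      _ = m * (b' * w * b'⁻¹) * m⁻¹ := by group
      _ = (m * w * m⁻¹)⁻¹ := by rw [hbw]; group
      _ = w⁻¹ := by rw [hmw]
  rcases h.conj_w_of_mem hmQ with ⟨h5, -⟩ | ⟨-, i, hi⟩
  · exfalso
    rw [← hw, hq] at h5
    apply h.w_ne_inv
    rw [← hw]
    exact h5.symm
  · have hcw : ∀ j : ℤ, c ^ j * w * (c ^ j)⁻¹ = w := by
      intro j
      rw [hw]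
      have h6 : Commute (c ^ j) (c ^ 2 ^ n) := ((Commute.refl c).zpow_left j).pow_right _
      rw [h6.eq, mul_inv_cancel_right]
    have hkey : ∀ j : ℤ, c ^ j * m * k * a * (c ^ j * m * k)⁻¹ = c ^ 2 ^ n ∧
        c ^ j * m * k * b * (c ^ j * m * k)⁻¹ = v * c ^ (i - 2 * j) := by
      intro j
      constructor
      · calc c ^ j * m * k * a * (c ^ j * m * k)⁻¹ = c ^ j * (m * (k * a * k⁻¹) * m⁻¹) * (c ^ j)⁻¹ := by
              group
          _ = w := by rw [h1, ← hw, hmw, hcw]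
          _ = c ^ 2 ^ n := hw
      · calc c ^ j * m * k * b * (c ^ j * m * k)⁻¹ = c ^ j * (m * (k * b * k⁻¹) * m⁻¹) * (c ^ j)⁻¹ := by
              group
          _ = v * c ^ (i - 2 * j) := by rw [← hb', hi, h.conj_zpow_out]
    have hmem : ∀ j : ℤ, c ^ j * m * k ∈ K := fun j =>
      K.mul_mem (K.mul_mem (K.zpow_mem h.c_mem j) hm) hk
    rcases Int.even_or_odd' i with ⟨j, hj | hj⟩
    · refine ⟨_, hmem j, (hkey j).1, Or.inl ?_⟩
      rw [(hkey j).2, hj, sub_self, zpow_zero, mul_one]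
    · refine ⟨_, hmem j, (hkey j).1, Or.inr ?_⟩
      rw [(hkey j).2, hj, add_sub_cancel_left, zpow_one]

/-- odd powers of `c` -/
theorem c_pow_odd_ne (h : QK K Q c v z n) {i : ℤ} (hi : Odd i) : ¬ Odd (orderOf (c ^ i)) := by
  intro h1
  have h2 : (c ^ i) ^ 2 ^ (n + 2) = 1 := by
    rw [← zpow_natCast, ← zpow_mul, mul_comm, zpow_mul, zpow_natCast, ← h.gq.ord, pow_orderOf_eq_one,
      one_zpow]
  have h3 : c ^ i = 1 := by
    rw [← orderOf_eq_one_iff]
    exact Nat.eq_one_of_dvd_coprimes (Nat.Coprime.pow_right (n + 2) (Nat.coprime_two_right.2 h1))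
      dvd_rfl (orderOf_dvd_of_pow_eq_one h2)
  rw [h.gq.zpow_eq_one_iff] at h3
  obtain ⟨j, hj⟩ := hi
  rw [hj] at h3
  have h4 : (2 : ℤ) ∣ 2 * j + 1 := (dvd_pow_self 2 (by omega)).trans h3
  omega

/-- **separation**: `(w, v)` and `(w, v c ^ j)`, `j` odd, are not conjugate. -/
theorem sep [Finite G] (h : QK K Q c v z n) {k : G} (hk : k ∈ K)
    (hw : k * c ^ 2 ^ n * k⁻¹ = c ^ 2 ^ n) {j : ℤ} (hj : Odd j) : k * v * k⁻¹ ≠ v * c ^ j := by
  intro hv
  obtain ⟨w, hwd⟩ : ∃ w, w = c ^ 2 ^ n := ⟨_, rfl⟩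
  -- `X = C_K(w)` has the cyclic Sylow 2-subgroup `⟨c⟩`
  let X : Subgroup G := K ⊓ centralizer {w}
  have hXN : X ≤ NW K w := by
    rintro x ⟨hx, hx'⟩
    refine ⟨hx, Or.inl ?_⟩
    rw [mem_centralizer_singleton_iff.1 hx', mul_inv_cancel_right]
  have hcX : zpowers c ≤ X := by
    rw [zpowers_le]
    refine ⟨h.c_mem, ?_⟩
    refine mem_centralizer_singleton_iff.2 ?_
    rw [hwd]
    exact ((Commute.refl c).pow_right _).eq
  have hsyl : Syl (zpowers c) X := by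
    refine ⟨hcX, h.syl.2.1.to_le h.gq.zpowers_le, ?_⟩
    have hS := h.syl_NW
    rw [← hwd] at hS
    have hvw : v * w * v⁻¹ = w⁻¹ := by rw [hwd]; exact h.v_conj_w
    have hww : w ≠ w⁻¹ := by rw [hwd]; exact h.w_ne_inv
    have hmemX : ∀ x ∈ NW K w, x ∈ X ↔ x * w * x⁻¹ = w := by
      intro x hx
      constructor
      · intro h1
        rw [mem_centralizer_singleton_iff.1 h1.2, mul_inv_cancel_right]
      · intro h1
        refine ⟨hx.1, mem_centralizer_singleton_iff.2 ?_⟩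
        nth_rewrite 2 [← h1]
        group
    have hX2 : X.relIndex (NW K w) = 2 := by
      rw [relIndex, index_eq_two_iff]
      have hvN : v ∈ NW K w := ⟨h.v_mem, Or.inr hvw⟩
      refine ⟨⟨v, hvN⟩, ?_⟩
      rintro ⟨b, hb⟩
      rw [mem_subgroupOf, mem_subgroupOf, hmemX _ hb, MulMemClass.mk_mul_mk,
        hmemX _ ((NW K w).mul_mem hb hvN)]
      have h1 : b * v * w * (b * v)⁻¹ = (b * w * b⁻¹)⁻¹ := by
        calc b * v * w * (b * v)⁻¹ = b * (v * w * v⁻¹) * b⁻¹ := by group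
          _ = (b * w * b⁻¹)⁻¹ := by rw [hvw]; group
      rw [h1]
      rcases hb.2 with h2 | h2
      · right
        rw [h2]
        exact ⟨rfl, fun h3 => hww h3.symm⟩
      · left
        rw [h2, inv_inv]
        exact ⟨rfl, fun h3 => hww h3.symm⟩
    have h5 : (zpowers c).relIndex X * X.relIndex (NW K w) =
        (zpowers c).relIndex Q * Q.relIndex (NW K w) := by
      rw [relIndex_mul_relIndex _ _ _ hcX hXN, relIndex_mul_relIndex _ _ _ h.gq.zpowers_le hS.1]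
    rw [hX2, h.relIndex_c, mul_comm] at h5
    have h6 := Nat.eq_of_mul_eq_mul_left (by norm_num) h5
    rw [h6]
    exact hS.2.2
  obtain ⟨P, hP⟩ := hsyl.exists_sylow
  have hPc : IsCyclic (P : Subgroup X) := by
    rw [hP]
    exact isCyclic_of_injective (subgroupOfEquivOfLe hcX).toMonoidHom
      (subgroupOfEquivOfLe hcX).injective
  obtain ⟨M, hM, hMP⟩ := exists_odd_core P hPc
  -- write `k = m c ^ i`
  have hkX : k ∈ X := by
    refine ⟨hk, mem_centralizer_singleton_iff.2 ?_⟩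
    rw [hwd]
    nth_rewrite 2 [← hw]
    group
  obtain ⟨m, hm, s, hs, hks⟩ := hMP ⟨k, hkX⟩
  have hs' : (s : G) ∈ zpowers c := by
    rw [hP] at hs
    exact hs
  obtain ⟨i, hi⟩ := hs'
  have hi' : c ^ i = (s : G) := hi
  have hk' : k = (m : G) * c ^ i := by
    rw [hi', ← Subgroup.coe_mul, ← hks]
  -- `v c ^ (-2 i)` normalises `X`, hence `M`
  obtain ⟨u, hu⟩ : ∃ u, u = v * c ^ (-2 * i) := ⟨_, rfl⟩
  have huw : u * w * u⁻¹ = w⁻¹ := by
    have h1 := h.conj_w_of_mem (q := u) (by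
      rw [hu]
      exact Q.mul_mem h.gq.v_mem (Q.zpow_mem h.gq.c_mem _))
    rcases h1 with ⟨-, h1⟩ | ⟨h1, -⟩
    · exfalso
      apply h.gq.vc_not_mem (-2 * i)
      rw [← hu]
      exact h1
    · rw [hwd]; exact h1
  have huK : u ∈ K := by
    rw [hu]
    exact K.mul_mem h.v_mem (K.zpow_mem h.c_mem _)
  have h1 : v * c ^ j = m * u * (m : G)⁻¹ := by
    rw [← hv, hk', hu, ← h.gq.conj_zpow_v i]
    group
  have h2 : u⁻¹ * (v * c ^ j) = c ^ (j + 2 * i) := by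
    rw [hu, mul_inv_rev, ← zpow_neg, mul_assoc, inv_mul_cancel_left, ← zpow_add]
    congr 1
    ring
  -- the element `u⁻¹ m u m⁻¹` of `X`
  have hmX : (u⁻¹ * m * u) ∈ X := by
    refine ⟨K.mul_mem (K.mul_mem (K.inv_mem huK) m.2.1) huK, mem_centralizer_singleton_iff.2 ?_⟩
    have h3 : (m : G) * w = w * m := mem_centralizer_singleton_iff.1 m.2.2
    have h4 : (m : G) * w⁻¹ = w⁻¹ * m := by
      rw [eq_inv_mul_iff_mul_eq, ← mul_assoc, ← h3, mul_assoc, mul_inv_cancel, mul_one]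
    calc u⁻¹ * m * u * w = u⁻¹ * (m * (u * w * u⁻¹)) * u := by group
      _ = u⁻¹ * ((u * w * u⁻¹) * m) * u := by rw [huw, h4]
      _ = w * (u⁻¹ * m * u) := by group
  have hmM : (⟨u⁻¹ * m * u, hmX⟩ : X) ∈ M := by
    rw [hM, ← Subgroup.orderOf_coe]
    have h3 : orderOf (u⁻¹ * (m : G) * u) = orderOf (m : G) := by
      have := (MulAut.conj u⁻¹).orderOf_eq (m : G)
      simpa using this
    change Odd (orderOf (u⁻¹ * (m : G) * u))
    rw [h3, Subgroup.orderOf_coe]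
    exact (hM m).1 hm
  have h3 := (hM _).1 (M.mul_mem hmM (M.inv_mem hm))
  apply h.c_pow_odd_ne (i := j + 2 * i) (by
    obtain ⟨l, hl⟩ := hj
    exact ⟨l + i, by rw [hl]; ring⟩)
  rw [← h2, h1]
  rw [← Subgroup.orderOf_coe] at h3
  have h4 : ((⟨u⁻¹ * m * u, hmX⟩ * m⁻¹ : X) : G) = u⁻¹ * (m * u * (m : G)⁻¹) := by
    change u⁻¹ * m * u * (m : G)⁻¹ = _
    group
  rwa [h4] at h3

end QK

end Cfsg.Agent.GH.Q2.InQuat
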