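import Cfsg.Agent.Cit.OneQuat
import Cfsg.Prelude.Def_CaseTheorems

/-!
# GH-Q (II), input: the rank argument

`Q₁ = ⟨c₁, v₁⟩`, `Q₂ = ⟨c₂, v₂⟩` commuting generalized quaternion groups with the same involution `z`,
`s ∉ Q₁ Q₂` commuting with `v₁`, `v₂`, normalising `⟨c₁⟩`, `⟨c₂⟩`, `s² ∈ ⟨z⟩`.  Then the sectional 2-rank is
at least 5.
-/

set_option autoImplicit false
set_option maxHeartbeats 400000

open Cfsg Subgroup
open Cfsg.Agent.Cit

namespace Cfsg.Agent.GH.Q2.InRank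

variable {G : Type*} [Group G]

/-- the join of two commuting subgroups -/
theorem mem_sup_iff {A B : Subgroup G} (h : ∀ a ∈ A, ∀ b ∈ B, a * b = b * a) {x : G} :
    x ∈ A ⊔ B ↔ ∃ a ∈ A, ∃ b ∈ B, x = a * b := by
  constructor
  · intro hx
    let P : Subgroup G :=
      { carrier := {x | ∃ a ∈ A, ∃ b ∈ B, x = a * b}
        one_mem' := ⟨1, one_mem _, 1, one_mem _, by simp⟩
        mul_mem' := by
          rintro _ _ ⟨a, ha, b, hb, rfl⟩ ⟨c, hc, d, hd, rfl⟩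
          refine ⟨a * c, A.mul_mem ha hc, b * d, B.mul_mem hb hd, ?_⟩
          rw [mul_assoc, ← mul_assoc b, ← h c hc b hb]
          simp only [mul_assoc]
        inv_mem' := by
          rintro _ ⟨a, ha, b, hb, rfl⟩
          refine ⟨a⁻¹, A.inv_mem ha, b⁻¹, B.inv_mem hb, ?_⟩
          rw [mul_inv_rev, ← h _ (A.inv_mem ha) _ (B.inv_mem hb)] }
    have hP : A ⊔ B ≤ P := sup_le (fun a ha => ⟨a, ha, 1, one_mem _, by simp⟩)
      (fun b hb => ⟨1, one_mem _, b, hb, by simp⟩)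
    exact hP hx
  · rintro ⟨a, ha, b, hb, rfl⟩
    exact mul_mem (mem_sup_left ha) (mem_sup_right hb)

theorem mem_normalizer_of_conj [Finite G] {N : Subgroup G} {x : G}
    (h : ∀ y ∈ N, x * y * x⁻¹ ∈ N) : x ∈ normalizer (N : Set G) := by
  rw [Cit.mem_normalizer_iff_cj]
  refine eq_of_le_of_card_ge ?_ (Cit.card_cj x N).ge
  intro y hy
  obtain ⟨k, hk, rfl⟩ := hy
  exact h k hk

theorem two_mul_relIndex [Finite G] {A B C : Subgroup G} (hAB : A ≤ B) (hBC : B ≤ C) {x : G}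
    (hx : x ∈ C) (hxB : x ∉ B) {m : ℕ} (hm : m ≤ A.relIndex B) : 2 * m ≤ A.relIndex C := by
  rw [← relIndex_mul_relIndex _ _ _ hAB hBC, mul_comm]
  refine Nat.mul_le_mul hm ?_
  have h1 : B.relIndex C ≠ 1 := by
    rw [Ne, relIndex_eq_one]
    exact fun h => hxB (h hx)
  have h2 : B.relIndex C ≠ 0 := index_ne_zero_of_finite
  omega

variable {Q₁ Q₂ : Subgroup G} {c₁ v₁ c₂ v₂ z : G} {n₁ n₂ : ℕ}

/-- elements of `Q₁ ∩ Q₂` -/
theorem inf_comm (hc : ∀ a ∈ Q₁, ∀ b ∈ Q₂, a * b = b * a) {x : G} (h1 : x ∈ Q₁) (h2 : x ∈ Q₂) :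
    (∀ a ∈ Q₁, a * x = x * a) ∧ (∀ b ∈ Q₂, x * b = b * x) :=
  ⟨fun a ha => hc a ha x h2, fun b hb => hc x h1 b hb⟩

/-- odd powers of `c` do not commute with `v` -/
theorem odd_not_comm {Q : Subgroup G} {c v : G} {n : ℕ} (h : GQ Q c v z n) {i : ℤ} (hi : Odd i) :
    v * c ^ i ≠ c ^ i * v := by
  intro h1
  have h2 := h.zpow_v i
  rw [← h1] at h2
  have h3 : c ^ i = c ^ (-i) := mul_left_cancel h2
  have h4 : c ^ (2 * i) = 1 := by
    rw [two_mul, zpow_add]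
    nth_rewrite 1 [h3]
    rw [zpow_neg, inv_mul_cancel]
  rw [h.zpow_eq_one_iff] at h4
  obtain ⟨k, hk⟩ := h4
  obtain ⟨j, rfl⟩ := hi
  rw [pow_succ, pow_succ] at hk
  have h5 : 2 * j + 1 = 2 * (2 ^ n * k) := by linarith
  omega

/-- `v c ^ i` does not commute with `c` -/
theorem out_not_comm {Q : Subgroup G} {c v : G} {n : ℕ} (h : GQ Q c v z n) (i : ℤ) :
    c * (v * c ^ i) ≠ v * c ^ i * c := by
  intro h1
  have h2 : c * v * c ^ i = v * c * c ^ i := by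
    rw [mul_assoc, h1, mul_assoc, mul_assoc]
    congr 1
    exact ((Commute.refl c).zpow_left i).eq
  exact h.not_comm (mul_right_cancel h2).symm

/-- **the rank argument** -/
theorem not_rank [Finite G] (h1 : GQ Q₁ c₁ v₁ z n₁) (h2 : GQ Q₂ c₂ v₂ z n₂)
    (hc : ∀ a ∈ Q₁, ∀ b ∈ Q₂, a * b = b * a) {s : G} (hs : s ∉ Q₁ ⊔ Q₂)
    (hss : s * s = 1 ∨ s * s = z) (hv₁ : s * v₁ = v₁ * s) (hv₂ : s * v₂ = v₂ * s)
    (hc₁ : ∃ u : ℤ, s * c₁ * s⁻¹ = c₁ ^ (1 + 2 * u)) (hc₂ : ∃ u : ℤ, s * c₂ * s⁻¹ = c₂ ^ (1 + 2 * u)) :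
    ¬ SectionalPRankLE 2 4 G := by
  intro hr
  let N : Subgroup G := zpowers (c₁ ^ 2) ⊔ zpowers (c₂ ^ 2)
  let H : Subgroup G := normalizer (N : Set G)
  have hNH : N ≤ H := le_normalizer
  have hN₁ : ∀ i : ℤ, c₁ ^ (2 * i) ∈ N := by
    intro i
    refine mem_sup_left ⟨i, ?_⟩
    change (c₁ ^ 2) ^ i = _
    rw [← zpow_natCast, ← zpow_mul]; rfl
  have hN₂ : ∀ i : ℤ, c₂ ^ (2 * i) ∈ N := by
    intro i
    refine mem_sup_right ⟨i, ?_⟩
    change (c₂ ^ 2) ^ i = _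
    rw [← zpow_natCast, ← zpow_mul]; rfl
  have hzN : z ∈ N := by
    rw [← h1.z_eq, pow_succ', pow_mul]
    exact mem_sup_left (pow_mem (mem_zpowers _) _)
  have hnorm : ∀ x : G, x * c₁ ^ 2 * x⁻¹ ∈ N → x * c₂ ^ 2 * x⁻¹ ∈ N → x ∈ H := by
    intro x hx1 hx2
    apply mem_normalizer_of_conj
    have h3 : N ≤ N.comap (MulAut.conj x).toMonoidHom := by
      refine sup_le ?_ ?_
      · rw [zpowers_le]; exact hx1
      · rw [zpowers_le]; exact hx2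
    intro y hy
    exact h3 hy
  have hc12 : c₁ * c₂ = c₂ * c₁ := hc _ h1.c_mem _ h2.c_mem
  have hc1v2 : c₁ * v₂ = v₂ * c₁ := hc _ h1.c_mem _ h2.v_mem
  have hv1c2 : v₁ * c₂ = c₂ * v₁ := hc _ h1.v_mem _ h2.c_mem
  have hv1v2 : v₁ * v₂ = v₂ * v₁ := hc _ h1.v_mem _ h2.v_mem
  have hconj : ∀ x y : G, x * y = y * x → x * y ^ 2 * x⁻¹ = y ^ 2 := by
    intro x y hxy
    rw [show x * y ^ 2 = y ^ 2 * x from (Commute.pow_right hxy 2).eq, mul_inv_cancel_right]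
  have hsq₁ : c₁ ^ 2 ∈ N := mem_sup_left (mem_zpowers _)
  have hsq₂ : c₂ ^ 2 ∈ N := mem_sup_right (mem_zpowers _)
  have hc₁H : c₁ ∈ H := hnorm _ (by rw [hconj _ _ rfl]; exact hsq₁) (by rw [hconj _ _ hc12]; exact hsq₂)
  have hc₂H : c₂ ∈ H := hnorm _ (by rw [hconj _ _ hc12.symm]; exact hsq₁)
    (by rw [hconj _ _ rfl]; exact hsq₂)
  have hinv : ∀ {x y : G} {k : ℤ}, x * y * x⁻¹ = y ^ k → x * y ^ 2 * x⁻¹ = y ^ (2 * k) := by
    intro x y k hxy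
    rw [← conj_pow, hxy, ← zpow_natCast, ← zpow_mul, mul_comm]; rfl
  have hv₁H : v₁ ∈ H := hnorm _ (by
      rw [hinv (k := -1) (by rw [zpow_neg_one]; exact h1.conj)]
      exact hN₁ _) (by rw [hconj _ _ hv1c2]; exact hsq₂)
  have hv₂H : v₂ ∈ H := hnorm _ (by rw [hconj _ _ hc1v2.symm]; exact hsq₁) (by
      rw [hinv (k := -1) (by rw [zpow_neg_one]; exact h2.conj)]
      exact hN₂ _)
  obtain ⟨u₁, hu₁⟩ := hc₁
  obtain ⟨u₂, hu₂⟩ := hc₂
  have hsH : s ∈ H := hnorm _ (by rw [hinv hu₁]; exact hN₁ _) (by rw [hinv hu₂]; exact hN₂ _)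
  -- the quotient
  let π : H →* H ⧸ N.subgroupOf H := QuotientGroup.mk' (N.subgroupOf H)
  have hπ1 : ∀ (x : G) (hx : x ∈ H), x ∈ N → π ⟨x, hx⟩ = 1 := by
    intro x hx hxN
    exact (QuotientGroup.eq_one_iff _).2 hxN
  have hπc : ∀ (x y : G) (hx : x ∈ H) (hy : y ∈ H), x * y * x⁻¹ * y⁻¹ ∈ N →
      π ⟨x, hx⟩ * π ⟨y, hy⟩ = π ⟨y, hy⟩ * π ⟨x, hx⟩ := by
    intro x y hx hy hN
    have h3 := hπ1 _ (H.mul_mem (H.mul_mem (H.mul_mem hx hy) (H.inv_mem hx)) (H.inv_mem hy)) hN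
    have h4 : (⟨x * y * x⁻¹ * y⁻¹, H.mul_mem (H.mul_mem (H.mul_mem hx hy) (H.inv_mem hx))
        (H.inv_mem hy)⟩ : H) = ⟨x, hx⟩ * ⟨y, hy⟩ * ⟨x, hx⟩⁻¹ * ⟨y, hy⟩⁻¹ := rfl
    rw [h4, map_mul, map_mul, map_mul, map_inv, map_inv] at h3
    exact commutatorElement_eq_one_iff_mul_comm.1 h3
  have hcomm : ∀ (x y : G), x * y = y * x → x * y * x⁻¹ * y⁻¹ ∈ N := by
    intro x y hxy
    rw [hxy, mul_inv_cancel_right, mul_inv_cancel]
    exact one_mem _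
  let E : Set (H ⧸ N.subgroupOf H) := {π ⟨c₁, hc₁H⟩, π ⟨v₁, hv₁H⟩, π ⟨c₂, hc₂H⟩, π ⟨v₂, hv₂H⟩, π ⟨s, hsH⟩}
  have hv1c1 : v₁ * c₁ * v₁⁻¹ * c₁⁻¹ ∈ N := by
    rw [h1.conj, ← mul_inv_rev, ← pow_two]
    exact N.inv_mem hsq₁
  have hv2c2 : v₂ * c₂ * v₂⁻¹ * c₂⁻¹ ∈ N := by
    rw [h2.conj, ← mul_inv_rev, ← pow_two]
    exact N.inv_mem hsq₂
  have hsc1 : s * c₁ * s⁻¹ * c₁⁻¹ ∈ N := by
    rw [hu₁, ← zpow_neg_one, ← zpow_add]
    have : (1 + 2 * u₁ + -1) = 2 * u₁ := by ring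
    rw [this]
    exact hN₁ _
  have hsc2 : s * c₂ * s⁻¹ * c₂⁻¹ ∈ N := by
    rw [hu₂, ← zpow_neg_one, ← zpow_add]
    have : (1 + 2 * u₂ + -1) = 2 * u₂ := by ring
    rw [this]
    exact hN₂ _
  have hE : ∀ x ∈ E, ∀ y ∈ E, x * y = y * x := by
    have e1 := hπc _ _ hv₁H hc₁H hv1c1
    have e2 := hπc _ _ hv₂H hc₂H hv2c2
    have e3 := hπc _ _ hsH hc₁H hsc1
    have e4 := hπc _ _ hsH hc₂H hsc2
    have e5 := hπc _ _ hsH hv₁H (hcomm _ _ hv₁)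
    have e6 := hπc _ _ hsH hv₂H (hcomm _ _ hv₂)
    have e7 := hπc _ _ hc₁H hc₂H (hcomm _ _ hc12)
    have e8 := hπc _ _ hc₁H hv₂H (hcomm _ _ hc1v2)
    have e9 := hπc _ _ hv₁H hc₂H (hcomm _ _ hv1c2)
    have e10 := hπc _ _ hv₁H hv₂H (hcomm _ _ hv1v2)
    rintro x (rfl | rfl | rfl | rfl | rfl) y (rfl | rfl | rfl | rfl | rfl) <;>
      first | rfl | assumption | (symm; assumption)
  have hEs : ∀ x ∈ E, x * x = 1 := by
    rintro x (rfl | rfl | rfl | rfl | rfl)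
    · rw [← map_mul]
      exact hπ1 _ _ (by rw [← pow_two]; exact hsq₁)
    · rw [← map_mul]
      exact hπ1 _ _ (by rw [h1.v_sq]; exact hzN)
    · rw [← map_mul]
      exact hπ1 _ _ (by rw [← pow_two]; exact hsq₂)
    · rw [← map_mul]
      exact hπ1 _ _ (by rw [h2.v_sq]; exact hzN)
    · rw [← map_mul]
      refine hπ1 _ _ ?_
      rcases hss with h | h
      · rw [h]; exact one_mem _
      · rw [h]; exact hzN
  let A : Subgroup (H ⧸ N.subgroupOf H) := closure E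
  have hA1 : A ≤ centralizer (A : Set _) := by
    have h3 : A ≤ centralizer E := (closure_le _).2 fun x hx => mem_centralizer_iff.2 fun y hy =>
      hE y hy x hx
    refine (closure_le _).2 fun x hx => mem_centralizer_iff.2 fun y hy => ?_
    exact (mem_centralizer_iff.1 (h3 hy) x hx).symm
  have hAc : ∀ x ∈ A, ∀ y ∈ A, x * y = y * x := fun x hx y hy =>
    (mem_centralizer_iff.1 (hA1 hx) y hy).symm
  have hAs : ∀ x ∈ A, x * x = 1 := by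
    intro x hx
    refine closure_induction (p := fun x _ => x * x = 1) hEs (by simp) ?_ ?_ hx
    · intro x y hx hy hx1 hy1
      have : x * y * (x * y) = (x * x) * (y * y) := by
        rw [mul_assoc, ← mul_assoc y x y, ← hAc x hx y hy]
        simp only [mul_assoc]
      rw [this, hx1, hy1, one_mul]
    · intro x hx hx1
      rw [← mul_inv_rev, hx1, inv_one]
  -- the order of `A`
  have hcard : 17 ≤ Nat.card A := by
    let K' : Subgroup H := A.comap π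
    have hmap : K'.map π = A := map_comap_eq_self_of_surjective (QuotientGroup.mk'_surjective _) _
    have hker : Nat.card A = (N.subgroupOf H).relIndex K' := by
      rw [← hmap, ← relIndex_ker, QuotientGroup.ker_mk']
    let B₅ : Subgroup G := Q₁ ⊔ Q₂ ⊔ zpowers s
    have hB5A : B₅ ≤ K'.map H.subtype := by
      have hmem : ∀ (x : G) (hx : x ∈ H), π ⟨x, hx⟩ ∈ E → x ∈ K'.map H.subtype := by
        intro x hx hxE
        exact ⟨⟨x, hx⟩, subset_closure hxE, rfl⟩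
      have m1 := hmem c₁ hc₁H (by simp [E])
      have m2 := hmem v₁ hv₁H (by simp [E])
      have m3 := hmem c₂ hc₂H (by simp [E])
      have m4 := hmem v₂ hv₂H (by simp [E])
      have m5 := hmem s hsH (by simp [E])
      refine sup_le (sup_le ?_ ?_) ?_
      · exact h1.le_of_mem m1 h1.v_mem h1.v_not_mem m2
      · exact h2.le_of_mem m3 h2.v_mem h2.v_not_mem m4
      · rw [zpowers_le]; exact m5
    have hB5H : B₅ ≤ H := hB5A.trans (map_subtype_le _)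
    have hNB5 : N ≤ B₅ := by
      refine le_trans ?_ le_sup_left
      exact sup_le_sup (by rw [zpowers_le]; exact Q₁.pow_mem h1.c_mem 2)
        (by rw [zpowers_le]; exact Q₂.pow_mem h2.c_mem 2)
    have hle : N.relIndex B₅ ≤ Nat.card A := by
      rw [hker, ← relIndex_subgroupOf hB5H]
      have hle5 : B₅.subgroupOf H ≤ K' := by
        intro x hx
        obtain ⟨y, hy, hyx⟩ := hB5A hx
        have : y = x := Subtype.ext hyx
        rwa [this] at hy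
      exact Nat.le_of_dvd (Nat.pos_of_ne_zero index_ne_zero_of_finite)
        (Dvd.intro _ (relIndex_mul_relIndex _ _ _ (subgroupOf_mono _ hNB5) hle5))
    refine le_trans ?_ hle
    -- the chain
    have hcz : ∀ i : ℤ, ∀ j : ℤ, c₁ ^ i * c₂ ^ j = c₂ ^ j * c₁ ^ i := fun i j =>
      hc _ (Q₁.zpow_mem h1.c_mem i) _ (Q₂.zpow_mem h2.c_mem j)
    have hpw : ∀ (x : G) (i : ℤ), (x ^ 2) ^ i = x ^ (2 * i) := by
      intro x i
      rw [← zpow_natCast, ← zpow_mul]; rfl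
    have hcc : ∀ a ∈ Q₁, ∀ b ∈ zpowers (c₂ ^ 2), a * b = b * a := by
      rintro a ha _ ⟨j, rfl⟩
      exact hc _ ha _ (Q₂.zpow_mem (Q₂.pow_mem h2.c_mem 2) j)
    have hcc' : ∀ a ∈ Q₁, ∀ b ∈ zpowers c₂, a * b = b * a := by
      rintro a ha _ ⟨j, rfl⟩
      exact hc _ ha _ (Q₂.zpow_mem h2.c_mem j)
    have k1 : c₁ ∉ N := by
      intro h3
      obtain ⟨a, ⟨i, hi⟩, b, ⟨j, hj⟩, h4⟩ := (mem_sup_iff (by
        rintro _ ⟨i, rfl⟩ b hb
        exact hcc _ (Q₁.zpow_mem (Q₁.pow_mem h1.c_mem 2) i) _ hb)).1 h3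
      have hbQ : b ∈ Q₂ := by rw [← hj]; exact Q₂.zpow_mem (Q₂.pow_mem h2.c_mem 2) j
      have hi' : a = c₁ ^ (2 * i) := by rw [← hi]; exact hpw _ _
      have h5 : b = c₁ ^ (1 - 2 * i) := by
        rw [sub_eq_neg_add, zpow_add, zpow_one, zpow_neg, ← hi', eq_inv_mul_iff_mul_eq]
        exact h4.symm
      have h7 := hc v₁ h1.v_mem b hbQ
      rw [h5] at h7
      exact odd_not_comm h1 ⟨-i, by ring⟩ h7
    have k2 : v₁ ∉ zpowers c₁ ⊔ zpowers (c₂ ^ 2) := by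
      intro h3
      obtain ⟨a, ⟨i, hi⟩, b, ⟨j, hj⟩, h4⟩ := (mem_sup_iff (by
        rintro _ ⟨i, rfl⟩ b hb
        exact hcc _ (Q₁.zpow_mem h1.c_mem i) _ hb)).1 h3
      have hbQ : b ∈ Q₂ := by rw [← hj]; exact Q₂.zpow_mem (Q₂.pow_mem h2.c_mem 2) j
      have haQ : a ∈ Q₁ := by rw [← hi]; exact Q₁.zpow_mem h1.c_mem i
      have hi' : a = c₁ ^ i := hi.symm
      have h5 : b = v₁ * c₁ ^ i := by
        have h6 : b = a⁻¹ * v₁ := by rw [eq_inv_mul_iff_mul_eq]; exact h4.symm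
        rw [h6, hi', ← zpow_neg, h1.zpow_v, neg_neg]
      have h7 := hc c₁ h1.c_mem b hbQ
      rw [h5] at h7
      exact out_not_comm h1 i h7
    have k3 : c₂ ∉ Q₁ ⊔ zpowers (c₂ ^ 2) := by
      intro h3
      obtain ⟨a, ha, b, ⟨j, hj⟩, h4⟩ := (mem_sup_iff hcc).1 h3
      have hj' : b = c₂ ^ (2 * j) := by rw [← hj]; exact hpw _ _
      have h5 : a = c₂ ^ (1 - 2 * j) := by
        rw [zpow_sub, zpow_one, ← hj', eq_mul_inv_iff_mul_eq]
        exact h4.symm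
      have h7 := hc a ha v₂ h2.v_mem
      rw [h5] at h7
      exact odd_not_comm h2 ⟨-j, by ring⟩ h7.symm
    have k4 : v₂ ∉ Q₁ ⊔ zpowers c₂ := by
      intro h3
      obtain ⟨a, ha, b, ⟨j, hj⟩, h4⟩ := (mem_sup_iff hcc').1 h3
      have hj' : b = c₂ ^ j := hj.symm
      have h5 : a = v₂ * c₂ ^ (-j) := by
        rw [zpow_neg, ← hj', eq_mul_inv_iff_mul_eq]
        exact h4.symm
      have h7 := hc a ha c₂ h2.c_mem
      rw [h5] at h7
      exact out_not_comm h2 _ h7.symm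
    have z1 : zpowers c₁ ≤ Q₁ := h1.zpowers_le
    have z2 : zpowers c₂ ≤ Q₂ := h2.zpowers_le
    have z3 : zpowers (c₁ ^ 2) ≤ zpowers c₁ := by
      rw [zpowers_le]; exact pow_mem (mem_zpowers _) 2
    have z4 : zpowers (c₂ ^ 2) ≤ zpowers c₂ := by
      rw [zpowers_le]; exact pow_mem (mem_zpowers _) 2
    have l1 : N ≤ zpowers c₁ ⊔ zpowers (c₂ ^ 2) := sup_le_sup_right z3 _
    have l2 : zpowers c₁ ⊔ zpowers (c₂ ^ 2) ≤ Q₁ ⊔ zpowers (c₂ ^ 2) := sup_le_sup_right z1 _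
    have l3 : Q₁ ⊔ zpowers (c₂ ^ 2) ≤ Q₁ ⊔ zpowers c₂ := sup_le_sup_left z4 _
    have l4 : Q₁ ⊔ zpowers c₂ ≤ Q₁ ⊔ Q₂ := sup_le_sup_left z2 _
    have r0 : 1 ≤ N.relIndex N := by rw [relIndex_self]
    have r1 := two_mul_relIndex le_rfl l1 (mem_sup_left (mem_zpowers c₁)) k1 r0
    have r2 := two_mul_relIndex l1 l2 (mem_sup_left h1.v_mem) k2 r1
    have r3 := two_mul_relIndex (l1.trans l2) l3 (mem_sup_right (mem_zpowers c₂)) k3 r2
    have r4 := two_mul_relIndex (l1.trans (l2.trans l3)) l4 (mem_sup_right h2.v_mem) k4 r3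
    have r5 := two_mul_relIndex (l1.trans (l2.trans (l3.trans l4))) (le_sup_left (b := zpowers s))
      (mem_sup_right (mem_zpowers s)) hs r4
    change 17 ≤ N.relIndex (Q₁ ⊔ Q₂ ⊔ zpowers s)
    omega
  have := hr H (N.subgroupOf H) A ⟨⟨fun a b => Subtype.ext (hAc a a.2 b b.2)⟩⟩ (fun a ha => by
    rw [pow_two]; exact hAs a ha)
  omega

end Cfsg.Agent.GH.Q2.InRank
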