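import Cfsg.Agent.GH.Comp
import Cfsg.Agent.GH.Q2.InQuat
import Cfsg.Agent.GH.Q2.InRank
import Cfsg.Agent.S0542
import Cfsg.Agent.S0016

/-!
# GH-Q (II), input: two quaternion 2-components of `C(z)` containing `z`
-/

set_option autoImplicit false
set_option maxHeartbeats 400000

open Cfsg Subgroup
open scoped commutatorElement
open Cfsg.Agent.Intrinsic.Basic Cfsg.Agent.GH.Defs

namespace Cfsg.Agent.GH.Q2.InPair

variable {G : Type*} [Group G]

/-- A 2-component of `C(z)` containing `z`, with `z` as its only involution. -/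
structure QC (z : G) (K : Subgroup G) : Prop where
  comp : Comp2 z K
  mem : z ∈ K
  uniq : ∀ x ∈ K, x * x = 1 → x = 1 ∨ x = z

theorem QC.of_comm {z : G} {K : Subgroup G} (c : Comp2 z K) (hz : z ∈ K)
    (h : ∀ x ∈ K, ∀ y ∈ K, x * x = 1 → y * y = 1 → x ≠ 1 → y ≠ 1 → x * y = y * x → x = y) :
    QC z K := by
  have hz2 : z * z = 1 := by rw [← pow_two, ← c.inv, pow_orderOf_eq_one]
  have hz1 : z ≠ 1 := by
    rintro rfl
    have := c.inv
    simp at this
  refine ⟨c, hz, fun x hx hxx => ?_⟩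
  by_cases h1 : x = 1
  · exact Or.inl h1
  · exact Or.inr (h x hx z hz hxx hz2 h1 hz1 (mem_centralizer_singleton_iff.1 (c.comp.le hx)))

theorem comm_top_of_eq {K : Subgroup G} (h : ⁅K, K⁆ = K) : _root_.commutator K = ⊤ := by
  have h1 : (_root_.commutator K).map K.subtype = (⊤ : Subgroup K).map K.subtype := by
    rw [map_subtype_commutator, h, ← MonoidHom.range_eq_map, range_subtype]
  exact map_injective K.subtype_injective h1

theorem hom_trivial {K : Subgroup G} (h : ⁅K, K⁆ = K) {A : Type*} [CommGroup A] (f : K →* A)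
    (x : K) : f x = 1 := by
  have h1 := Abelianization.commutator_subset_ker f
  rw [comm_top_of_eq h] at h1
  exact h1 (mem_top x)

/-- A perfect group of even order has no cyclic Sylow 2-subgroup. -/
theorem not_cyclic [Finite G] {K : Subgroup G} (h : ⁅K, K⁆ = K) (h2 : 2 ∣ Nat.card K)
    (S : Sylow 2 K) : ¬ IsCyclic S := by
  intro hS
  obtain ⟨M, hM, hMS⟩ := InQuat.exists_odd_core S hS
  have hmin : (Nat.card K).minFac = 2 := by
    rw [Nat.minFac_eq_two_iff]; exact h2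
  have hn := hS.normalizer_le_centralizer hmin
  have h4 : ∀ x : K, x ∈ (MonoidHom.transferSylow S hn).ker := by
    intro x
    rw [MonoidHom.mem_ker]
    have hc : ∀ a b : S, a * b = b * a := by
      obtain ⟨g, hg⟩ := hS.exists_generator
      intro a b
      obtain ⟨i, rfl⟩ := hg a
      obtain ⟨j, rfl⟩ := hg b
      exact (Commute.refl g).zpow_zpow i j
    let : CommGroup S := { (inferInstance : Group S) with mul_comm := hc }
    exact hom_trivial h (MonoidHom.transferSylow S hn) x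
  have h5 : (MonoidHom.transferSylow S hn).ker = ⊤ := eq_top_iff.2 fun x _ => h4 x
  have h6 := MonoidHom.not_dvd_card_ker_transferSylow S hn
  rw [h5, Subgroup.card_top] at h6
  exact h6 h2

namespace QC

variable {z : G} {K : Subgroup G}

theorem z_sq (h : QC z K) : z * z = 1 := by rw [← pow_two, ← h.comp.inv, pow_orderOf_eq_one]

theorem z_ne (h : QC z K) : z ≠ 1 := by
  rintro rfl
  have := h.comp.inv
  simp at this

theorem cent (h : QC z K) : K ≤ centralizer {z} := h.comp.comp.le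

variable [Finite G] {S : Subgroup G}

theorem syl (h : QC z K) (hS : Cit.Syl S (centralizer {z})) : Cit.Syl (S ⊓ K) K := by
  have : Fact (Nat.Prime 2) := ⟨Nat.prime_two⟩
  refine ⟨inf_le_right, hS.2.1.to_le inf_le_left, ?_⟩
  rw [inf_relIndex_right]
  obtain ⟨T, hT⟩ := hS.exists_sylow
  obtain ⟨Q, hQ⟩ := Cfsg.Agent.S0542.result 2 (K.subgroupOf (centralizer {z})) h.comp.comp.2.1 T
  have h1 := Q.not_dvd_index
  rw [hQ, hT] at h1
  have h2 : ((S.subgroupOf (centralizer {z})).subgroupOf (K.subgroupOf (centralizer {z}))).index =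
      S.relIndex K := by
    change (S.subgroupOf (centralizer {z})).relIndex (K.subgroupOf (centralizer {z})) = _
    exact relIndex_subgroupOf h.cent
  rwa [h2] at h1

theorem z_mem (h : QC z K) (hS : Cit.Syl S (centralizer {z})) : z ∈ S ⊓ K := by
  obtain ⟨k, hk, hk'⟩ := InQuat.exists_conj_mem_of_two (h.syl hS) h.mem (m := 1)
    (by rw [pow_one, pow_two, h.z_sq])
  have h1 : k * z * k⁻¹ = z := by
    rw [mem_centralizer_singleton_iff.1 (h.cent hk), mul_inv_cancel_right]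
  rwa [h1] at hk'

/-- the Sylow 2-subgroup `S ∩ K` is generalized quaternion -/
theorem exists_gq (h : QC z K) (hS : Cit.Syl S (centralizer {z})) :
    ∃ c v n, Cit.GQ (S ⊓ K) c v z n := by
  have : Fact (Nat.Prime 2) := ⟨Nat.prime_two⟩
  have hsyl := h.syl hS
  have hz := h.z_mem hS
  have huniq : ∀ A B : Subgroup ↥(S ⊓ K), Nat.card A = 2 → Nat.card B = 2 → A = B := by
    have key : ∀ A : Subgroup ↥(S ⊓ K), Nat.card A = 2 → A = zpowers ⟨z, hz⟩ := by
      intro A hA
      have h1 : A ≠ ⊥ := by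
        rintro rfl
        rw [Subgroup.card_bot] at hA
        omega
      obtain ⟨⟨a, ha⟩, ha1'⟩ := Subgroup.ne_bot_iff_exists_ne_one.1 h1
      have ha1 : a ≠ 1 := fun h2 => ha1' (Subtype.ext h2)
      have h2 : a ^ 2 = 1 := by
        have h3 := pow_card_eq_one' (G := A) (x := ⟨a, ha⟩)
        rw [hA] at h3
        exact congrArg Subtype.val h3
      have h3 : a = ⟨z, hz⟩ := by
        apply Subtype.ext
        rcases h.uniq _ a.2.2 (by
          rw [← pow_two]
          exact congrArg Subtype.val h2) with h4 | h4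
        · exact absurd (Subtype.ext h4) ha1
        · exact h4
      symm
      apply Subgroup.eq_of_le_of_card_ge
      · rw [zpowers_le, ← h3]
        exact ha
      · rw [hA, Nat.card_zpowers, Subgroup.orderOf_mk, h.comp.inv]
    intro A B hA hB
    rw [key A hA, key B hB]
  have hgq : Cit.IsGQ (S ⊓ K) := by
    obtain ⟨T, hT⟩ := hsyl.exists_sylow
    have hncyc : ¬ IsCyclic ↥(S ⊓ K) := by
      intro hc
      apply not_cyclic h.comp.comp.perfect h.comp.comp.even T
      have e : (T : Subgroup K) ≃* ↥(S ⊓ K) :=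
        (MulEquiv.subgroupCongr hT).trans (subgroupOfEquivOfLe inf_le_right)
      exact isCyclic_of_injective e.toMonoidHom e.injective
    rcases Cfsg.Agent.S0016.result 2 hsyl.2.1 huniq with hc | ⟨-, n, ⟨e⟩⟩
    · exact absurd hc hncyc
    · rcases n with _ | n
      · exfalso
        apply hncyc
        have h1 : IsCyclic (QuaternionGroup (2 ^ 0)) := by
          rw [pow_zero]
          exact QuaternionGroup.quaternionGroup_one_isCyclic
        exact isCyclic_of_injective e.toMonoidHom e.injective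
      · exact ⟨n, ⟨e⟩⟩
  obtain ⟨c, v, z', n, hc⟩ := Cit.exists_gq hgq
  have h1 : z' = z := by
    rcases h.uniq z' hc.z_mem.2 hc.z_mul with h1 | h1
    · exact absurd h1 hc.z_ne
    · exact h1
  exact ⟨c, v, n, h1 ▸ hc⟩

theorem qk (h : QC z K) (hS : Cit.Syl S (centralizer {z})) {c v : G} {n : ℕ}
    (hc : Cit.GQ (S ⊓ K) c v z n) : InQuat.QK K (S ⊓ K) c v z n :=
  ⟨h.syl hS, hc, h.cent, fun f x => hom_trivial h.comp.comp.perfect f x⟩

omit [Finite G] in
/-- conjugation by elements of `C(z)` -/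
theorem conj (h : QC z K) {g : G} (hg : g ∈ centralizer ({z} : Set G)) :
    QC z (K.map (MulAut.conj g).toMonoidHom) := by
  have hz : g * z * g⁻¹ = z := by
    rw [mem_centralizer_singleton_iff.1 hg, mul_inv_cancel_right]
  refine ⟨⟨h.comp.inv, ?_⟩, ⟨z, h.mem, hz⟩, ?_⟩
  · have h1 := h.comp.comp.cj g
    rw [SignalizersComponents.IntrinsicBasic.cj_centralizer, hz] at h1
    exact h1
  · rintro _ ⟨x, hx, rfl⟩ hxx
    have h1 : x * x = 1 := by
      change (g * x * g⁻¹) * (g * x * g⁻¹) = 1 at hxx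
      have h2 : x * x = g⁻¹ * ((g * x * g⁻¹) * (g * x * g⁻¹)) * g := by group
      rw [h2, hxx]; group
    rcases h.uniq x hx h1 with h2 | h2
    · left
      rw [h2, map_one]
    · right
      rw [h2]
      exact hz

end QC

variable [Finite G] {z : G} {K K₁ K₂ S : Subgroup G}

/-- distinct quaternion components commute on `S` -/
theorem comm (h1 : QC z K₁) (h2 : QC z K₂) (hne : K₁ ≠ K₂) (hS : Cit.Syl S (centralizer {z})) :
    ∀ a ∈ S ⊓ K₁, ∀ b ∈ S ⊓ K₂, a * b = b * a := by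
  intro a ha b hb
  have h3 : ⁅a, b⁆ ∈ core K₁ := by
    have h4 := h1.comp.comp.comm_le_core h2.comp.comp hne
    exact (h4 (commutator_mem_commutator ha.2 hb.2)).1
  have h5 : ⁅a, b⁆ ∈ S := S.mul_mem (S.mul_mem (S.mul_mem ha.1 hb.1) (S.inv_mem ha.1)) (S.inv_mem hb.1)
  obtain ⟨n, hn⟩ := hS.2.1 ⟨_, h5⟩
  have h6 := eq_one_of_mem_core h3 (n := n) (congrArg Subtype.val hn)
  exact commutatorElement_eq_one_iff_mul_comm.1 h6

/-- `Q₁ ∩ Q₂ = ⟨z⟩` -/
theorem inf_eq (h1 : QC z K₁) (h2 : QC z K₂) (hne : K₁ ≠ K₂) (hS : Cit.Syl S (centralizer {z}))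
    {x : G} (hx1 : x ∈ S ⊓ K₁) (hx2 : x ∈ S ⊓ K₂) : x = 1 ∨ x = z := by
  obtain ⟨c, v, n, hc⟩ := h1.exists_gq hS
  have h3 : ∀ a ∈ S ⊓ K₁, a * x = x * a := fun a ha => comm h1 h2 hne hS a ha x hx2
  by_cases hxc : x ∈ zpowers c
  · obtain ⟨i, rfl⟩ := hxc
    have h4 : v * c ^ i = c ^ i * v := h3 v hc.v_mem
    rw [hc.zpow_v] at h4
    have h5 : c ^ (2 * i) = 1 := by
      rw [two_mul, zpow_add]
      nth_rewrite 1 [mul_left_cancel h4]
      rw [zpow_neg, inv_mul_cancel]
    exact hc.zpow_sq h5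
  · exfalso
    obtain ⟨i, rfl⟩ := hc.exists_eq_of_not_mem hx1 hxc
    exact InRank.out_not_comm hc i (h3 c hc.c_mem)

/-- elements of `S ∩ K₃`, `K₃` a third component, do not lie in `R` unless in `⟨z⟩`; so the sectional rank
is at least 5 -/
theorem third (hr : SectionalPRankLE 2 4 G) (h1 : QC z K₁) (h2 : QC z K₂) (h3 : QC z K)
    (hne : K₁ ≠ K₂) (hS : Cit.Syl S (centralizer {z})) : K = K₁ ∨ K = K₂ := by
  by_contra hcon
  push Not at hcon
  obtain ⟨hk1, hk2⟩ := hcon
  obtain ⟨c₁, v₁, n₁, g1⟩ := h1.exists_gq hS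
  obtain ⟨c₂, v₂, n₂, g2⟩ := h2.exists_gq hS
  obtain ⟨c, v, n, g3⟩ := h3.exists_gq hS
  have hc1 : ∀ a ∈ S ⊓ K₁, v * a = a * v := fun a ha => comm h3 h1 hk1 hS v g3.v_mem a ha
  have hc2 : ∀ a ∈ S ⊓ K₂, v * a = a * v := fun a ha => comm h3 h2 hk2 hS v g3.v_mem a ha
  have hvR : v ∉ (S ⊓ K₁) ⊔ (S ⊓ K₂) := by
    intro hv
    -- `v` commutes with `c`, since `c` commutes with `Q₁` and `Q₂`
    obtain ⟨a, ha, b, hb, hab⟩ := (InRank.mem_sup_iff (comm h1 h2 hne hS)).1 hv
    have e1 := comm h3 h1 hk1 hS c g3.c_mem a ha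
    have e2 := comm h3 h2 hk2 hS c g3.c_mem b hb
    apply g3.not_comm
    rw [hab, mul_assoc, ← e2, ← mul_assoc, ← e1, mul_assoc]
  refine InRank.not_rank g1 g2 (comm h1 h2 hne hS) hvR (Or.inr g3.v_sq) (hc1 _ g1.v_mem)
    (hc2 _ g2.v_mem) ⟨0, ?_⟩ ⟨0, ?_⟩ hr
  · rw [hc1 _ g1.c_mem, mul_inv_cancel_right]; simp
  · rw [hc2 _ g2.c_mem, mul_inv_cancel_right]; simp

/-- `C(z)` permutes `{K₁, K₂}` -/
theorem perm (hr : SectionalPRankLE 2 4 G) (h1 : QC z K₁) (h2 : QC z K₂)
    (hne : K₁ ≠ K₂) (hS : Cit.Syl S (centralizer {z})) {g : G}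
    (hg : g ∈ centralizer ({z} : Set G)) :
    (K₁.map (MulAut.conj g).toMonoidHom = K₁ ∧ K₂.map (MulAut.conj g).toMonoidHom = K₂) ∨
    (K₁.map (MulAut.conj g).toMonoidHom = K₂ ∧ K₂.map (MulAut.conj g).toMonoidHom = K₁) := by
  have hinj : K₁.map (MulAut.conj g).toMonoidHom ≠ K₂.map (MulAut.conj g).toMonoidHom := fun h =>
    hne (map_injective (MulAut.conj g).injective h)
  rcases third hr h1 h2 (h1.conj hg) hne hS with e1 | e1 <;>
    rcases third hr h1 h2 (h2.conj hg) hne hS with e2 | e2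
  · exact absurd (e1.trans e2.symm) hinj
  · exact Or.inl ⟨e1, e2⟩
  · exact Or.inr ⟨e1, e2⟩
  · exact absurd (e1.trans e2.symm) hinj

end Cfsg.Agent.GH.Q2.InPair
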