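import Cfsg.Agent.GH.Q2.Target
import Cfsg.Agent.GH.Q2.NF

/-!
# The target `G₂` has no swap

If `S` has coordinates in which some element interchanges the two quaternion groups, then the first target
presentation (`S = R⟨x⟩`) is impossible: there `S'` is abelian and contains an element of order `2^(n+2)`.
-/

set_option autoImplicit false
set_option linter.unusedSectionVars false
set_option linter.unusedVariables false

namespace Cfsg.Agent.GH.Q2.NoG2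

open Subgroup Cfsg.Agent.GH.Defs
open scoped commutatorElement

variable {G : Type*} [Group G] {S : Subgroup G} {z r1 y1 r2 y2 x s : G} {n n1 n2 : ℕ} {u1 j1 u2 j2 : ℤ}

/-! ### The target -/

/-- an element of `R` commuting with `r1`, `r2` -/
theorem mem_A0 (h : Co z r1 y1 r2 y2 n1 n2) {g : G} (hg : g ∈ RR r1 y1 r2 y2) (c1 : g * r1 = r1 * g)
    (c2 : g * r2 = r2 * g) : ∃ i j : ℤ, g = r1 ^ i * r2 ^ j := by
  have aux : ∀ {z r y : G} {n : ℕ} (q : Qn z r y n) (i : ℤ), (r ^ i * y) * r ≠ r * (r ^ i * y) := by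
    intro z r y n q i e
    apply q.r_ne_inv
    have h1 : y * r = r⁻¹ * y := by rw [mul_cj, q.inv]
    have h2 : r ^ i * (y * r) = r ^ i * (r * y) := by
      rw [← mul_assoc, e, ← mul_assoc, ← mul_assoc, ← zpow_one_add, ← zpow_add_one, add_comm]
    have h3 := mul_left_cancel h2
    rw [h1] at h3
    exact (mul_right_cancel h3).symm
  obtain ⟨i, j, rfl | rfl | rfl | rfl⟩ := h.mem_R.1 hg
  · exact ⟨i, j, rfl⟩
  · exfalso
    apply aux h.q1 i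
    have h1 : r2 ^ j * r1 = r1 * r2 ^ j := ((show Commute r1 r2 from h.rr).zpow_right j).eq.symm
    have h2 : (r1 ^ i * y1) * r1 * r2 ^ j = r1 * (r1 ^ i * y1) * r2 ^ j := by
      calc (r1 ^ i * y1) * r1 * r2 ^ j = r1 ^ i * y1 * (r1 * r2 ^ j) := by group
        _ = r1 ^ i * y1 * r2 ^ j * r1 := by rw [← h1]; group
        _ = r1 * (r1 ^ i * y1 * r2 ^ j) := c1
        _ = _ := by group
    exact mul_right_cancel h2
  · exfalso
    apply aux h.q2 j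
    have h1 : r1 ^ i * r2 = r2 * r1 ^ i := ((show Commute r1 r2 from h.rr).zpow_left i).eq
    have h2 : r1 ^ i * ((r2 ^ j * y2) * r2) = r1 ^ i * (r2 * (r2 ^ j * y2)) := by
      calc r1 ^ i * ((r2 ^ j * y2) * r2) = r1 ^ i * (r2 ^ j * y2) * r2 := by group
        _ = r2 * (r1 ^ i * (r2 ^ j * y2)) := c2
        _ = (r2 * r1 ^ i) * (r2 ^ j * y2) := by group
        _ = _ := by rw [← h1]; group
    exact mul_left_cancel h2
  · exfalso
    apply aux h.q2 j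
    have h1 : (r1 ^ i * y1) * r2 = r2 * (r1 ^ i * y1) := by
      have e1 : r1 ^ i * r2 = r2 * r1 ^ i := ((show Commute r1 r2 from h.rr).zpow_left i).eq
      rw [mul_assoc, h.yr, ← mul_assoc, e1, mul_assoc]
    have h2 : (r1 ^ i * y1) * ((r2 ^ j * y2) * r2) = (r1 ^ i * y1) * (r2 * (r2 ^ j * y2)) := by
      calc (r1 ^ i * y1) * ((r2 ^ j * y2) * r2) = r1 ^ i * y1 * (r2 ^ j * y2) * r2 := by group
        _ = r2 * (r1 ^ i * y1 * (r2 ^ j * y2)) := c2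
        _ = (r2 * (r1 ^ i * y1)) * (r2 ^ j * y2) := by group
        _ = _ := by rw [← h1]; group
    exact mul_left_cancel h2

theorem cj_mem_R (h : Sd S z r1 y1 r2 y2 n1 n2) (hs : s ∈ S) {g : G} (hg : g ∈ RR r1 y1 r2 y2) :
    cj s g ∈ RR r1 y1 r2 y2 := by
  have key : ∀ (r y r' y' : G) (u j : ℤ), cj s r = r' ^ u → cj s y = r' ^ j * y' → r' ∈ RR r1 y1 r2 y2 →
      y' ∈ RR r1 y1 r2 y2 → ∀ g ∈ closure ({r, y} : Set G), cj s g ∈ RR r1 y1 r2 y2 := by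
    intro r y r' y' u j e1 e2 m1 m2 g hg
    induction hg using Subgroup.closure_induction with
    | mem x hx =>
      rcases hx with rfl | rfl
      · rw [e1]; exact zpow_mem m1 _
      · rw [e2]; exact mul_mem (zpow_mem m1 _) m2
    | one => rw [cj_one]; exact one_mem _
    | mul a b _ _ ha hb => rw [cj_mul]; exact mul_mem ha hb
    | inv a _ ha => rw [cj_inv]; exact inv_mem ha
  obtain ⟨a, ha, b, hb, rfl⟩ := h.mem_R'.1 hg
  rw [cj_mul]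
  rcases h.act s hs with ⟨u1, j1, u2, j2, N⟩ | ⟨-, u1, j1, u2, j2, N⟩
  · exact mul_mem (key _ _ _ _ _ _ N.a1 N.b1 h.m1 h.m2 a ha) (key _ _ _ _ _ _ N.a2 N.b2 h.m3 h.m4 b hb)
  · exact mul_mem (key _ _ _ _ _ _ N.a1 N.b1 h.m3 h.m4 a ha) (key _ _ _ _ _ _ N.a2 N.b2 h.m1 h.m2 b hb)

/-- commutators in the target -/
theorem comm_mem (h : Sd S z r1 y1 r2 y2 n n) (hx : x ∈ S) (T : TX (r1 * r2) r1 y1 r2 y2 x)
    (hc : ∀ s ∈ S, s ∈ RR r1 y1 r2 y2 ∨ x⁻¹ * s ∈ RR r1 y1 r2 y2) {a b : G} (ha : a ∈ S) (hb : b ∈ S) :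
    ⁅a, b⁆ ∈ RR r1 y1 r2 y2 ∧ ⁅a, b⁆ * r1 = r1 * ⁅a, b⁆ ∧ ⁅a, b⁆ * r2 = r2 * ⁅a, b⁆ := by
  have hN : ∀ s ∈ S, ∃ u1 j1 u2 j2 : ℤ, Ns r1 y1 r2 y2 s u1 j1 u2 j2 := by
    intro s hs
    have hR : ∀ s ∈ RR r1 y1 r2 y2, ∃ u1 j1 u2 j2 : ℤ, Ns r1 y1 r2 y2 s u1 j1 u2 j2 := by
      intro s hs
      obtain ⟨i, j, hh⟩ := h.ns_of_mem hs
      rcases hh with ⟨_, M⟩ | ⟨_, M⟩ | ⟨_, M⟩ | ⟨_, M⟩ <;> exact ⟨_, _, _, _, M⟩
    rcases hc s hs with h1 | h1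
    · exact hR s h1
    · obtain ⟨u1, j1, u2, j2, N⟩ := hR _ h1
      have := T.ns.mul N
      rw [mul_inv_cancel_left] at this
      exact ⟨_, _, _, _, this⟩
  refine ⟨?_, ?_⟩
  · rw [commutatorElement_def]
    rcases hc a ha with h1 | h1
    · have e : a * b * a⁻¹ * b⁻¹ = a * cj b a⁻¹ := by simp only [cj]; group
      rw [e]
      exact mul_mem h1 (cj_mem_R h hb (inv_mem h1))
    · rcases hc b hb with h2 | h2
      · have e : a * b * a⁻¹ * b⁻¹ = cj a b * b⁻¹ := by simp only [cj]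
        rw [e]
        exact mul_mem (cj_mem_R h ha h2) (inv_mem h2)
      · -- `b a⁻¹ ∈ R`
        have h3 : b * a⁻¹ ∈ RR r1 y1 r2 y2 := by
          have e : b * a⁻¹ = cj x ((x⁻¹ * b) * (x⁻¹ * a)⁻¹) := by simp only [cj]; group
          rw [e]
          exact cj_mem_R h hx (mul_mem h2 (inv_mem h1))
        have e : a * b * a⁻¹ * b⁻¹ = cj a (b * a⁻¹) * (b * a⁻¹)⁻¹ := by simp only [cj]; group
        rw [e]
        exact mul_mem (cj_mem_R h ha h3) (inv_mem h3)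
  · obtain ⟨u1, j1, u2, j2, N⟩ := hN a⁻¹ (inv_mem ha)
    obtain ⟨v1, k1, v2, k2, M⟩ := hN b⁻¹ (inv_mem hb)
    have key : ∀ (r : G) (u v : ℤ), cj a⁻¹ r = r ^ u → cj b⁻¹ r = r ^ v → ⁅a, b⁆ * r = r * ⁅a, b⁆ := by
      intro r u v e1 e2
      rw [← cj_eq_self_iff]
      have h1 : cj (a⁻¹ * b⁻¹) r = cj (b⁻¹ * a⁻¹) r := by
        rw [cj_mul_left, cj_mul_left, e1, e2, cj_zpow, cj_zpow, e1, e2, ← zpow_mul, ← zpow_mul, mul_comm]
      have h2 : ⁅a, b⁆ = (b⁻¹ * a⁻¹)⁻¹ * (a⁻¹ * b⁻¹) := by rw [commutatorElement_def]; group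
      rw [h2, cj_mul_left, h1, cj_inv_cj]
    exact ⟨key _ _ _ N.a1 M.a1, key _ _ _ N.a2 M.a2⟩

/-- in the target `G₂`, `S'` is abelian -/
theorem tgt_comm (h : Sd S z r1 y1 r2 y2 n n) (hx : x ∈ S) (T : TX (r1 * r2) r1 y1 r2 y2 x)
    (hc : ∀ s ∈ S, s ∈ RR r1 y1 r2 y2 ∨ x⁻¹ * s ∈ RR r1 y1 r2 y2) {a b : G} (ha : a ∈ ⁅S, S⁆)
    (hb : b ∈ ⁅S, S⁆) : a * b = b * a := by
  have hD : ⁅S, S⁆ ≤ RR r1 y1 r2 y2 ⊓ (centralizer {r1} ⊓ centralizer {r2}) := by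
    rw [commutator_le]
    intro a ha b hb
    obtain ⟨h1, h2, h3⟩ := comm_mem h hx T hc ha hb
    exact ⟨h1, mem_centralizer_singleton_iff.2 h2, mem_centralizer_singleton_iff.2 h3⟩
  obtain ⟨a1, a2, a3⟩ := hD ha
  obtain ⟨b1, b2, b3⟩ := hD hb
  have a2' := mem_centralizer_singleton_iff.1 a2
  have a3' := mem_centralizer_singleton_iff.1 a3
  obtain ⟨i, j, rfl⟩ := mem_A0 h.toCo b1 (mem_centralizer_singleton_iff.1 b2)
    (mem_centralizer_singleton_iff.1 b3)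
  exact (((show Commute a r1 from a2').zpow_right i).mul_right ((show Commute a r2 from a3').zpow_right j)).eq

/-- in the target `G₂`, `r1 ∈ S'` -/
theorem tgt_mem (h : Sd S z r1 y1 r2 y2 n n) (hx : x ∈ S) (T : TX (r1 * r2) r1 y1 r2 y2 x) :
    r1 ∈ ⁅S, S⁆ := by
  have h1 : ⁅x, y1⁆ = r1 := by
    have h2 : x * y1 * x⁻¹ = r1 * y1 := T.b1
    rw [commutatorElement_def, h2, mul_inv_cancel_right]
  rw [← h1]
  exact commutator_mem_commutator hx h.h2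

/-! ### The group with a swap -/

section swap

variable {m : ℕ} (h : Sd S z r1 y1 r2 y2 m m) (hs : s ∈ S) (N : Sw r1 y1 r2 y2 s u1 j1 u2 j2)
  (hab : ∀ a ∈ ⁅S, S⁆, ∀ b ∈ ⁅S, S⁆, a * b = b * a)

include h hs N hab

/-- `y1` and `y2` interchange: the commutator `[s, y1]` -/
theorem no_odd {e : G} (he : e ∈ S) {v1 k1 v2 k2 : ℤ} (M : Ns r1 y1 r2 y2 e v1 k1 v2 k2) :
    Even k1 ∧ Even k2 := by
  have hb : r2 ^ j1 * y2 * y1⁻¹ ∈ ⁅S, S⁆ := by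
    have h1 : ⁅s, y1⁆ = r2 ^ j1 * y2 * y1⁻¹ := by
      have h2 : s * y1 * s⁻¹ = r2 ^ j1 * y2 := N.b1
      rw [commutatorElement_def, h2]
    rw [← h1]
    exact commutator_mem_commutator hs h.h2
  have hk1 : r1 ^ k1 ∈ ⁅S, S⁆ := by
    have h1 : ⁅e, y1⁆ = r1 ^ k1 := by
      have h2 : e * y1 * e⁻¹ = r1 ^ k1 * y1 := M.b1
      rw [commutatorElement_def, h2, mul_inv_cancel_right]
    rw [← h1]
    exact commutator_mem_commutator he h.h2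
  have hk2 : r2 ^ k2 ∈ ⁅S, S⁆ := by
    have h1 : ⁅e, y2⁆ = r2 ^ k2 := by
      have h2 : e * y2 * e⁻¹ = r2 ^ k2 * y2 := M.b2
      rw [commutatorElement_def, h2, mul_inv_cancel_right]
    rw [← h1]
    exact commutator_mem_commutator he h.h4
  have c1 := hab _ hk1 _ hb
  have c2 := hab _ hk2 _ hb
  -- conjugation by `b = r2 ^ j1 y2 y1⁻¹` inverts `r1` and `r2`
  have i1 : cj (r2 ^ j1 * y2 * y1⁻¹) r1 = r1⁻¹ := by
    rw [cj_mul_left]
    have e1 : cj y1⁻¹ r1 = r1⁻¹ := by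
      apply cj_inj (s := y1)
      rw [cj_cj_inv, cj_inv, h.q1.inv, inv_inv]
    rw [e1, cj_inv]
    congr 1
    rw [cj_eq_self_iff]
    have e2 : Commute (r2 ^ j1) r1 := (show Commute r2 r1 from h.rr.symm).zpow_left j1
    exact (e2.mul_left (show Commute y2 r1 from h.ry.symm)).eq
  have i2 : cj (r2 ^ j1 * y2 * y1⁻¹) r2 = r2⁻¹ := by
    rw [cj_mul_left, cj_mul_left]
    have e1 : cj y1⁻¹ r2 = r2 := by
      rw [cj_eq_self_iff]
      exact ((show Commute y1 r2 from h.yr).inv_left).eq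
    rw [e1, h.q2.inv, cj_inv]
    congr 1
    rw [cj_eq_self_iff]
    exact ((Commute.refl r2).zpow_left j1).eq
  have key : ∀ {r y : G} (q : Qn z r y m) (k : ℤ) (g : G), cj g r = r⁻¹ → r ^ k * g = g * r ^ k → Even k := by
    intro r y q k g e1 e2
    have e3 : cj g (r ^ k) = r ^ k := cj_eq_self_iff.2 e2.symm
    rw [cj_zpow, e1, inv_zpow] at e3
    by_contra hk
    rw [Int.not_even_iff_odd] at hk
    have e4 : r ^ (2 * k) = 1 := by
      rw [two_mul, zpow_add]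
      nth_rewrite 1 [← e3]
      exact inv_mul_cancel _
    rw [q.zpow_eq_one] at e4
    obtain ⟨l, hl⟩ := hk
    obtain ⟨w, hw⟩ := e4
    have h5 : (2 : ℤ) ^ (m + 2) = 4 * 2 ^ m := by ring
    rw [h5, hl] at hw
    have h6 : (2 : ℤ) * (2 * l + 1) = 2 * (2 * (2 ^ m * w)) := by rw [hw]; ring
    omega
  exact ⟨key h.q1 k1 _ i1 c1, key h.q2 k2 _ i2 c2⟩

theorem m_zero : m = 0 := by
  have hb : r2 ^ j1 * y2 * y1⁻¹ ∈ ⁅S, S⁆ := by
    have h1 : ⁅s, y1⁆ = r2 ^ j1 * y2 * y1⁻¹ := by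
      have h2 : s * y1 * s⁻¹ = r2 ^ j1 * y2 := N.b1
      rw [commutatorElement_def, h2]
    rw [← h1]
    exact commutator_mem_commutator hs h.h2
  have ha : r2 ^ u1 * r1⁻¹ ∈ ⁅S, S⁆ := by
    have h1 : ⁅s, r1⁆ = r2 ^ u1 * r1⁻¹ := by
      have h2 : s * r1 * s⁻¹ = r2 ^ u1 := N.a1
      rw [commutatorElement_def, h2]
    rw [← h1]
    exact commutator_mem_commutator hs h.h1
  have i1 : cj (r2 ^ j1 * y2 * y1⁻¹) r1 = r1⁻¹ := by
    rw [cj_mul_left]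
    have e1 : cj y1⁻¹ r1 = r1⁻¹ := by
      apply cj_inj (s := y1)
      rw [cj_cj_inv, cj_inv, h.q1.inv, inv_inv]
    rw [e1, cj_inv]
    congr 1
    rw [cj_eq_self_iff]
    have e2 : Commute (r2 ^ j1) r1 := (show Commute r2 r1 from h.rr.symm).zpow_left j1
    exact (e2.mul_left (show Commute y2 r1 from h.ry.symm)).eq
  have i2 : cj (r2 ^ j1 * y2 * y1⁻¹) r2 = r2⁻¹ := by
    rw [cj_mul_left, cj_mul_left]
    have e1 : cj y1⁻¹ r2 = r2 := by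
      rw [cj_eq_self_iff]
      exact ((show Commute y1 r2 from h.yr).inv_left).eq
    rw [e1, h.q2.inv, cj_inv]
    congr 1
    rw [cj_eq_self_iff]
    exact ((Commute.refl r2).zpow_left j1).eq
  have c1 : cj (r2 ^ j1 * y2 * y1⁻¹) (r2 ^ u1 * r1⁻¹) = r2 ^ u1 * r1⁻¹ :=
    cj_eq_self_iff.2 (hab _ ha _ hb).symm
  rw [cj_mul, cj_zpow, cj_inv, i1, i2, inv_inv] at c1
  -- `r1 ^ 2 = r2 ^ (2 u1)`
  have c2 : r1 ^ (2 : ℤ) = r2 ^ (u1 + u1) := by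
    have h1 : r1 * r1 = (r2 ^ u1) * (r2 ^ u1 * r1⁻¹) * r1 := by
      rw [← c1, inv_zpow]
      group
    rw [zpow_two, h1, zpow_add]
    group
  have c3 := h.ind_zpow c2
  by_contra hm
  obtain ⟨k, rfl⟩ := Nat.exists_eq_succ_of_ne_zero hm
  have c4 : r1 ^ (4 : ℤ) = 1 := by
    have e : r1 ^ (4 : ℤ) = r1 ^ (2 : ℤ) * r1 ^ (2 : ℤ) := by rw [← zpow_add]; rfl
    rw [e]
    rcases c3 with c3 | c3 <;> rw [c3]
    · rw [one_mul]
    · exact h.q1.z_sq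
  rw [h.q1.zpow_eq_one] at c4
  have c5 := Int.le_of_dvd (by norm_num) c4
  have c6 : (2 : ℤ) ^ (k.succ + 2) = 8 * 2 ^ k := by rw [Nat.succ_eq_add_one]; ring
  have c7 : (1 : ℤ) ≤ 2 ^ k := one_le_pow₀ (by norm_num)
  omega

end swap

/-! ### The case `n = 0` -/

theorem sq0 (h : Qn z r1 y1 0) {q : G} (hq : q ∈ closure ({r1, y1} : Set G)) : q * q = 1 ∨ q * q = z := by
  obtain ⟨i, rfl | rfl⟩ := h.mem_iff.1 hq
  · have h1 : r1 ^ i * r1 ^ i = z ^ i := by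
      have h2 : r1 ^ (2 : ℤ) = z := by
        have := h.rzp
        simpa using this
      rw [← h2, ← zpow_mul, ← zpow_add, two_mul]
    rw [h1]
    exact h.zpow_one_or i
  · exact Or.inr (h.ry_sq i)

theorem sqR (h : Co z r1 y1 r2 y2 0 0) {g : G} (hg : g ∈ RR r1 y1 r2 y2) : g * g = 1 ∨ g * g = z := by
  obtain ⟨a, ha, b, hb, rfl⟩ := h.mem_R'.1 hg
  have h1 : a * b * (a * b) = (a * a) * (b * b) := by
    have := h.comm ha hb
    calc a * b * (a * b) = a * (b * a) * b := by group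
      _ = a * (a * b) * b := by rw [← this]
      _ = _ := by group
  rw [h1]
  rcases sq0 h.q1 ha with e1 | e1 <;> rcases sq0 h.q2 hb with e2 | e2 <;> rw [e1, e2]
  · left; rw [one_mul]
  · right; rw [one_mul]
  · right; rw [mul_one]
  · left; exact h.q1.z_sq

section zero

variable (h : Sd S z r1 y1 r2 y2 0 0)

include h

theorem comm_z (hs : s ∈ S) {w : G} (hw : w = 1 ∨ w = z) : s * w = w * s := by
  rcases hw with rfl | rfl
  · simp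
  · exact h.zc hs

theorem sq_z {w : G} (hw : w = 1 ∨ w = z) : w * w = 1 := by
  rcases hw with rfl | rfl
  · simp
  · exact h.q1.z_sq

theorem commR {a b : G} (ha : a ∈ RR r1 y1 r2 y2) (hb : b ∈ RR r1 y1 r2 y2) : ⁅a, b⁆ = 1 ∨ ⁅a, b⁆ = z := by
  have h1 := sqR h.toCo (mul_mem ha hb)
  have h2 := sqR h.toCo (inv_mem ha)
  have h3 := sqR h.toCo (inv_mem hb)
  have hbS := h.R_le hb
  have e : ⁅a, b⁆ = ((a * b) * (a * b)) * ((a⁻¹ * a⁻¹) * (b⁻¹ * b⁻¹)) := by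
    have h4 := comm_z h (inv_mem hbS) h2
    calc ⁅a, b⁆ = ((a * b) * (a * b)) * (b⁻¹ * (a⁻¹ * a⁻¹) * b⁻¹) := by rw [commutatorElement_def]; group
      _ = _ := by rw [h4, mul_assoc (a⁻¹ * a⁻¹)]
  rw [e]
  rcases h1 with h1 | h1 <;> rcases h2 with h2 | h2 <;> rcases h3 with h3 | h3 <;> rw [h1, h2, h3] <;>
    simp [h.q1.z_sq]

variable (hs : s ∈ S) (N : Sw r1 y1 r2 y2 s u1 j1 u2 j2)

include hs N

theorem sw_sq_mem (hR : ∀ g ∈ S, g ∈ RR r1 y1 r2 y2 ∨ s⁻¹ * g ∈ RR r1 y1 r2 y2) : s * s ∈ RR r1 y1 r2 y2 := by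
  rcases hR _ (mul_mem hs hs) with h1 | h1
  · exact h1
  · rw [inv_mul_cancel_left] at h1
    exact absurd N (fun N => Sd.not_sw_of_mem h.toCo h1 N)

theorem X_sq (hR : ∀ g ∈ S, g ∈ RR r1 y1 r2 y2 ∨ s⁻¹ * g ∈ RR r1 y1 r2 y2) {g : G}
    (hg : g ∈ RR r1 y1 r2 y2) : (g * cj s g⁻¹) * (g * cj s g⁻¹) = 1 := by
  obtain ⟨q1, hq1, q2, hq2, rfl⟩ := h.mem_R'.1 hg
  obtain ⟨A, hA⟩ : ∃ A, A = q1 * cj s q2⁻¹ := ⟨_, rfl⟩
  obtain ⟨B, hB⟩ : ∃ B, B = q2 * cj s q1⁻¹ := ⟨_, rfl⟩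
  have m2 : cj s q2⁻¹ ∈ closure ({r1, y1} : Set G) := N.cj_mem2 (inv_mem hq2)
  have m1 : cj s q1⁻¹ ∈ closure ({r2, y2} : Set G) := N.cj_mem1 (inv_mem hq1)
  have mA : A ∈ closure ({r1, y1} : Set G) := by rw [hA]; exact mul_mem hq1 m2
  have mB : B ∈ closure ({r2, y2} : Set G) := by rw [hB]; exact mul_mem hq2 m1
  have hX : q1 * q2 * cj s (q1 * q2)⁻¹ = A * B := by
    have c1 := h.comm m2 hq2
    calc q1 * q2 * cj s (q1 * q2)⁻¹ = q1 * (q2 * cj s q2⁻¹) * cj s q1⁻¹ := by simp only [cj]; group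
      _ = q1 * (cj s q2⁻¹ * q2) * cj s q1⁻¹ := by rw [c1]
      _ = A * B := by rw [hA, hB]; group
  have hAB := h.comm mA mB
  have sA := sq0 h.q1 mA
  have sB := sq0 h.q2 mB
  -- `cj s B = A⁻¹ w`
  obtain ⟨w, hw, hw'⟩ : ∃ w, (w = 1 ∨ w = z) ∧ cj s B = A⁻¹ * w := by
    refine ⟨⁅q1, s * s⁆, commR h (mem_sup_left hq1) (sw_sq_mem h hs N hR), ?_⟩
    rw [hA, hB, commutatorElement_def]
    simp only [cj]
    group
  have hB2 : B * B = A⁻¹ * A⁻¹ := by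
    have e1 : cj s (B * B) = B * B := cj_eq_self_iff.2 (comm_z h hs sB)
    rw [← e1, cj_mul, hw']
    have hAS : A⁻¹ ∈ S := inv_mem (h.R_le (mem_sup_left mA))
    have e2 := comm_z h hAS hw
    calc A⁻¹ * w * (A⁻¹ * w) = A⁻¹ * (w * A⁻¹) * w := by group
      _ = A⁻¹ * (A⁻¹ * w) * w := by rw [e2]
      _ = A⁻¹ * A⁻¹ * (w * w) := by group
      _ = A⁻¹ * A⁻¹ := by rw [sq_z h hw, mul_one]
  rw [hX]
  calc A * B * (A * B) = A * (B * A) * B := by group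
    _ = A * A * (B * B) := by rw [← hAB]; group
    _ = 1 := by rw [hB2]; group

theorem comm_sq (hR : ∀ g ∈ S, g ∈ RR r1 y1 r2 y2 ∨ s⁻¹ * g ∈ RR r1 y1 r2 y2) {a b : G} (ha : a ∈ S)
    (hb : b ∈ S) : ⁅a, b⁆ * ⁅a, b⁆ = 1 := by
  -- `a ∈ R`
  have key1 : ∀ a ∈ RR r1 y1 r2 y2, ∀ b ∈ S, ⁅a, b⁆ * ⁅a, b⁆ = 1 := by
    intro a ha b hb
    rcases hR b hb with h1 | h1
    · exact sq_z h (commR h ha h1)
    · obtain ⟨c, hc⟩ : ∃ c, c = s⁻¹ * b := ⟨_, rfl⟩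
      rw [← hc] at h1
      have hbc : b = s * c := by rw [hc]; group
      obtain ⟨w, hw, hw'⟩ : ∃ w, (w = 1 ∨ w = z) ∧ c * a⁻¹ * c⁻¹ = a⁻¹ * w := by
        refine ⟨⁅a, c⁆, commR h ha h1, ?_⟩
        rw [commutatorElement_def]; group
      have hwS : cj s w = w := cj_eq_self_iff.2 (comm_z h hs hw)
      have e : ⁅a, b⁆ = (a * cj s a⁻¹) * w := by
        calc ⁅a, b⁆ = a * cj s (c * a⁻¹ * c⁻¹) := by
              rw [commutatorElement_def, hbc]; simp only [cj]; group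
          _ = _ := by rw [hw', cj_mul, hwS, mul_assoc]
      have hXS : a * cj s a⁻¹ ∈ S := mul_mem (h.R_le ha) (mul_mem (mul_mem hs (inv_mem (h.R_le ha))) (inv_mem hs))
      rw [e]
      have e2 := comm_z h hXS hw
      calc a * cj s a⁻¹ * w * (a * cj s a⁻¹ * w) = a * cj s a⁻¹ * (w * (a * cj s a⁻¹)) * w := by group
        _ = (a * cj s a⁻¹) * (a * cj s a⁻¹) * (w * w) := by rw [← e2]; group
        _ = 1 := by rw [X_sq h hs N hR ha, sq_z h hw, one_mul]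
  have key2 : ∀ a ∈ S, ∀ b ∈ RR r1 y1 r2 y2, ⁅a, b⁆ * ⁅a, b⁆ = 1 := by
    intro a ha b hb
    have h1 := key1 b hb a ha
    rw [← commutatorElement_inv, ← mul_inv_rev, h1, inv_one]
  rcases hR a ha with h1 | h1
  · exact key1 a h1 b hb
  · rcases hR b hb with h2 | h2
    · exact key2 a ha b h2
    · -- `b = a d`
      have hd : a⁻¹ * b ∈ RR r1 y1 r2 y2 := by
        have e : a⁻¹ * b = (s⁻¹ * a)⁻¹ * (s⁻¹ * b) := by group
        rw [e]; exact mul_mem (inv_mem h1) h2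
      have e : ⁅a, b⁆ = a * ⁅a, a⁻¹ * b⁆ * a⁻¹ := by
        rw [commutatorElement_def, commutatorElement_def]; group
      rw [e]
      calc a * ⁅a, a⁻¹ * b⁆ * a⁻¹ * (a * ⁅a, a⁻¹ * b⁆ * a⁻¹) = a * (⁅a, a⁻¹ * b⁆ * ⁅a, a⁻¹ * b⁆) * a⁻¹ := by
            group
        _ = 1 := by rw [key2 a ha _ hd]; group

theorem mem_sq (hR : ∀ g ∈ S, g ∈ RR r1 y1 r2 y2 ∨ s⁻¹ * g ∈ RR r1 y1 r2 y2)
    (hab : ∀ a ∈ ⁅S, S⁆, ∀ b ∈ ⁅S, S⁆, a * b = b * a) {g : G} (hg : g ∈ ⁅S, S⁆) : g * g = 1 := by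
  let E : Subgroup G :=
    { carrier := {g | g ∈ ⁅S, S⁆ ∧ g * g = 1}
      one_mem' := ⟨one_mem _, by simp⟩
      mul_mem' := by
        rintro a b ⟨ha, ha2⟩ ⟨hb, hb2⟩
        refine ⟨mul_mem ha hb, ?_⟩
        calc a * b * (a * b) = a * (b * a) * b := by group
          _ = (a * a) * (b * b) := by rw [hab b hb a ha]; group
          _ = 1 := by rw [ha2, hb2, one_mul]
      inv_mem' := by
        rintro a ⟨ha, ha2⟩
        exact ⟨inv_mem ha, by rw [← mul_inv_rev, ha2, inv_one]⟩ }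
  have h1 : ⁅S, S⁆ ≤ E := by
    rw [commutator_le]
    intro a ha b hb
    exact ⟨commutator_mem_commutator ha hb, comm_sq h hs N hR ha hb⟩
  exact (h1 hg).2

end zero

/-- **The first target is impossible if some element interchanges the quaternion groups of some coordinates.** -/
theorem no_g2 {m : ℕ} (h : Sd S z r1 y1 r2 y2 m m) (hs : s ∈ S) (N : Sw r1 y1 r2 y2 s u1 j1 u2 j2)
    {a1 b1 a2 b2 : G} (h' : Sd S z a1 b1 a2 b2 n n) (hx : x ∈ S) (T : TX (a1 * a2) a1 b1 a2 b2 x)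
    (hc : ∀ s ∈ S, s ∈ RR a1 b1 a2 b2 ∨ x⁻¹ * s ∈ RR a1 b1 a2 b2) : False := by
  have hab : ∀ a ∈ ⁅S, S⁆, ∀ b ∈ ⁅S, S⁆, a * b = b * a := fun a ha b hb => tgt_comm h' hx T hc ha hb
  have hm := m_zero h hs N hab
  subst hm
  have hR : ∀ g ∈ S, g ∈ RR r1 y1 r2 y2 ∨ s⁻¹ * g ∈ RR r1 y1 r2 y2 := by
    intro g hg
    rcases h.act g hg with ⟨v1, k1, v2, k2, M⟩ | ⟨-, v1, k1, v2, k2, M⟩
    · obtain ⟨e1, e2⟩ := no_odd h hs N hab hg M
      exact Or.inl (h.inR g hg _ _ _ _ M e1 e2)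
    · right
      rcases h.act (s⁻¹ * g) (mul_mem (inv_mem hs) hg) with ⟨w1, l1, w2, l2, M'⟩ | ⟨-, w1, l1, w2, l2, M'⟩
      · obtain ⟨e1, e2⟩ := no_odd h hs N hab (mul_mem (inv_mem hs) hg) M'
        exact h.inR _ (mul_mem (inv_mem hs) hg) _ _ _ _ M' e1 e2
      · exfalso
        have h1 := N.mul M'
        rw [mul_inv_cancel_left] at h1
        exact h1.not_sw M h.toCo
  have h1 := mem_sq h hs N hR hab (tgt_mem h' hx T)
  have h2 := h'.q1.ord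
  have h3 : orderOf a1 ∣ 2 := orderOf_dvd_of_pow_eq_one (by rw [pow_two]; exact h1)
  rw [h2] at h3
  have h4 := Nat.le_of_dvd (by norm_num) h3
  have h5 : 2 ^ 1 < 2 ^ (n + 2) := Nat.pow_lt_pow_right (by norm_num) (by omega)
  omega

end Cfsg.Agent.GH.Q2.NoG2
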