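import Cfsg.Agent.GH.Q2.Struct

/-!
# GH-Q, case (II): squares and field exponents
-/

set_option autoImplicit false

namespace Cfsg.Agent.GH.Q2

open Subgroup

variable {G : Type*} [Group G]

theorem isCoprime_two_pow (n : ℕ) (k : ℤ) : IsCoprime ((2 : ℤ) ^ n) (2 * k + 1) :=
  IsCoprime.pow_left ⟨-k, 1, by ring⟩

/-- `u² ≡ ±1 mod 2^(n+2)` and `u ≡ 1 mod 4` give `u ≡ 1 mod 2^(n+1)`. -/
theorem num1 {n : ℕ} {u : ℤ} (h4 : (4 : ℤ) ∣ u - 1)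
    (h : (2 : ℤ) ^ (n + 2) ∣ u * u - 1 ∨ (2 : ℤ) ^ (n + 2) ∣ u * u - -1) :
    (2 : ℤ) ^ (n + 1) ∣ u - 1 := by
  obtain ⟨k, hk⟩ := h4
  have hu : u = 4 * k + 1 := by linarith
  rcases h with h | h
  · rw [hu] at h ⊢
    have e1 : (4 * k + 1) * (4 * k + 1) - 1 = 2 * (2 * (2 * k * (2 * k + 1))) := by ring
    have e2 : (2 : ℤ) ^ (n + 2) = 2 * (2 * 2 ^ n) := by ring
    rw [e1, e2] at h
    have h1 := Int.dvd_of_mul_dvd_mul_left (by norm_num) (Int.dvd_of_mul_dvd_mul_left (by norm_num) h)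
    have h2 := (isCoprime_two_pow n k).dvd_of_dvd_mul_right h1
    have e3 : 4 * k + 1 - 1 = 2 * (2 * k) := by ring
    rw [e3, pow_succ, mul_comm]
    exact mul_dvd_mul_left 2 h2
  · exfalso
    have h1 : (4 : ℤ) ∣ u * u - -1 := by
      exact dvd_trans ⟨2 ^ n, by ring⟩ h
    rw [hu] at h1
    obtain ⟨m, hm⟩ := h1
    have : (4 * k + 1) * (4 * k + 1) - -1 = 4 * (4 * k * k + 2 * k) + 2 := by ring
    omega

/-- from `cj s a = a`, `a = r^(2^n)`. -/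
theorem Qn.four_dvd {z r y : G} {n : ℕ} (h : Qn z r y n) {u : ℤ} {s : G} (e : cj s r = r ^ u)
    (ha : cj s (r ^ (2 ^ n)) = r ^ (2 ^ n)) : (4 : ℤ) ∣ u - 1 := by
  rw [cj_pow, e, ← zpow_natCast, ← zpow_mul, ← zpow_natCast, h.zpow_eq] at ha
  push_cast at ha
  have e1 : u * 2 ^ n - 2 ^ n = 2 ^ n * (u - 1) := by ring
  rw [e1, pow_add] at ha
  have := Int.dvd_of_mul_dvd_mul_left (by positivity) ha
  norm_num at this
  exact this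

theorem Qn.zpow_z {z r y : G} {n : ℕ} (h : Qn z r y n) {u f : ℤ}
    (hf : u - 1 = 2 ^ (n + 1) * f) : r ^ u = r * z ^ f := by
  have : u = 1 + 2 ^ (n + 1) * f := by linarith
  rw [this, zpow_add, zpow_one, zpow_mul, h.rzp]

namespace Sd

variable {S : Subgroup G} {z r1 y1 r2 y2 s s' : G} {n1 n2 : ℕ} {u1 j1 u2 j2 v1 k1 v2 k2 : ℤ}

theorem r_zpow_comm (h : Co z r1 y1 r2 y2 n1 n2) (i j : ℤ) : r1 ^ i * r2 ^ j = r2 ^ j * r1 ^ i :=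
  (Commute.zpow_zpow (show Commute r1 r2 from h.rr) i j)

/-- `r1 ^ i * r2 ^ j = 1` -/
theorem A0_one (h : Co z r1 y1 r2 y2 n1 n2) {i j : ℤ} (e : r1 ^ i * r2 ^ j = 1) :
    (r1 ^ i = 1 ∧ r2 ^ j = 1) ∨ (r1 ^ i = z ∧ r2 ^ j = z) :=
  h.mul_eq_one (h.q1.mem_iff.2 ⟨i, Or.inl rfl⟩) (h.q2.mem_iff.2 ⟨j, Or.inl rfl⟩) e

theorem A0_mul (h : Co z r1 y1 r2 y2 n1 n2) (i j k l : ℤ) :
    (r1 ^ i * r2 ^ j) * (r1 ^ k * r2 ^ l) = r1 ^ (i + k) * r2 ^ (j + l) := by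
  calc (r1 ^ i * r2 ^ j) * (r1 ^ k * r2 ^ l) = r1 ^ i * (r2 ^ j * r1 ^ k) * r2 ^ l := by group
    _ = r1 ^ i * (r1 ^ k * r2 ^ j) * r2 ^ l := by rw [r_zpow_comm h]
    _ = _ := by rw [zpow_add, zpow_add]; group

theorem A0_eq (h : Co z r1 y1 r2 y2 n1 n2) {i j k l : ℤ}
    (e : r1 ^ i * r2 ^ j = r1 ^ k * r2 ^ l) :
    (r1 ^ (i - k) = 1 ∧ r2 ^ (j - l) = 1) ∨ (r1 ^ (i - k) = z ∧ r2 ^ (j - l) = z) := by
  apply A0_one h
  have h1 := A0_mul h (i - k) (j - l) k l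
  rw [sub_add_cancel, sub_add_cancel, e] at h1
  exact mul_eq_right.1 h1

theorem A0_parity (h : Co z r1 y1 r2 y2 n1 n2) {i j k l : ℤ}
    (e : r1 ^ i * r2 ^ j = r1 ^ k * r2 ^ l) : (Even i ↔ Even k) ∧ (Even j ↔ Even l) := by
  have h1 := A0_eq h e
  have h2 : Even (i - k) := by
    by_contra hc
    rw [Int.not_even_iff_odd] at hc
    exact h.q1.odd_ne hc (by rcases h1 with h1 | h1; exacts [Or.inl h1.1, Or.inr h1.1])
  have h3 : Even (j - l) := by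
    by_contra hc
    rw [Int.not_even_iff_odd] at hc
    exact h.q2.odd_ne hc (by rcases h1 with h1 | h1; exacts [Or.inl h1.2, Or.inr h1.2])
  rw [Int.even_sub] at h2 h3
  exact ⟨h2, h3⟩

/-- Field exponents and squares of non-swapping elements centralizing `a1`, `a2`. -/
theorem sq_form (h : Sd S z r1 y1 r2 y2 n1 n2) (hs : s ∈ S) (N : Ns r1 y1 r2 y2 s u1 j1 u2 j2)
    (ha1 : (4 : ℤ) ∣ u1 - 1) (ha2 : (4 : ℤ) ∣ u2 - 1) :
    ∃ f1 f2 i j : ℤ, cj s r1 = r1 * z ^ f1 ∧ cj s r2 = r2 * z ^ f2 ∧ s * s = r1 ^ i * r2 ^ j ∧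
      (Even i ↔ Even j1) ∧ (Even j ↔ Even j2) ∧ Even (f1 * i + f2 * j) ∧
      (n1 = 0 → Even f1) ∧ (n2 = 0 → Even f2) := by
  have hsq := h.sq_mem hs N
  have NN := N.mul N
  obtain ⟨i, j, hc⟩ := h.ns_of_mem hsq
  -- signs of `s²`
  have key1 : ∀ v1 v2 : ℤ, (v1 = 1 ∨ v1 = -1) → Ns r1 y1 r2 y2 (s * s) v1 (2 * i) v2 (2 * j) →
      (2 : ℤ) ^ (n1 + 1) ∣ u1 - 1 := by
    intro v1 v2 hv M
    have h1 := NN.a1.symm.trans M.a1
    rw [h.q1.zpow_eq] at h1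
    apply num1 ha1
    rcases hv with rfl | rfl
    · exact Or.inl h1
    · exact Or.inr h1
  have key2 : ∀ v1 v2 : ℤ, (v2 = 1 ∨ v2 = -1) → Ns r1 y1 r2 y2 (s * s) v1 (2 * i) v2 (2 * j) →
      (2 : ℤ) ^ (n2 + 1) ∣ u2 - 1 := by
    intro v1 v2 hv M
    have h1 := NN.a2.symm.trans M.a2
    rw [h.q2.zpow_eq] at h1
    apply num1 ha2
    rcases hv with rfl | rfl
    · exact Or.inl h1
    · exact Or.inr h1
  have hd : (2 : ℤ) ^ (n1 + 1) ∣ u1 - 1 ∧ (2 : ℤ) ^ (n2 + 1) ∣ u2 - 1 := by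
    rcases hc with ⟨_, M⟩ | ⟨_, M⟩ | ⟨_, M⟩ | ⟨_, M⟩
    · exact ⟨key1 _ _ (by norm_num) M, key2 _ _ (by norm_num) M⟩
    · exact ⟨key1 _ _ (by norm_num) M, key2 _ _ (by norm_num) M⟩
    · exact ⟨key1 _ _ (by norm_num) M, key2 _ _ (by norm_num) M⟩
    · exact ⟨key1 _ _ (by norm_num) M, key2 _ _ (by norm_num) M⟩
  obtain ⟨⟨f1, hf1⟩, ⟨f2, hf2⟩⟩ := hd
  have c1 : cj s r1 = r1 * z ^ f1 := by rw [N.a1, h.q1.zpow_z hf1]
  have c2 : cj s r2 = r2 * z ^ f2 := by rw [N.a2, h.q2.zpow_z hf2]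
  have cz : ∀ f : ℤ, cj s (z ^ f) = z ^ f := fun f => by rw [cj_zpow, h.cj_z hs]
  have hzz : ∀ f : ℤ, z ^ f * z ^ f = 1 := fun f => by
    rw [← zpow_add, ← two_mul, zpow_mul, h.q1.z2, one_zpow]
  have c11 : cj (s * s) r1 = r1 := by
    rw [cj_mul_left, c1, cj_mul, c1, cz, mul_assoc, hzz, mul_one]
  have c22 : cj (s * s) r2 = r2 := by
    rw [cj_mul_left, c2, cj_mul, c2, cz, mul_assoc, hzz, mul_one]
  have hA : s * s = r1 ^ i * r2 ^ j ∧ Ns r1 y1 r2 y2 (s * s) 1 (2 * i) 1 (2 * j) := by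
    rcases hc with ⟨e, M⟩ | ⟨_, M⟩ | ⟨_, M⟩ | ⟨_, M⟩
    · exact ⟨e, M⟩
    · have h1 := M.a1.symm.trans c11
      rw [zpow_neg_one] at h1
      exact absurd h1.symm h.q1.r_ne_inv
    · have h1 := M.a2.symm.trans c22
      rw [zpow_neg_one] at h1
      exact absurd h1.symm h.q2.r_ne_inv
    · have h1 := M.a1.symm.trans c11
      rw [zpow_neg_one] at h1
      exact absurd h1.symm h.q1.r_ne_inv
  obtain ⟨e, M⟩ := hA
  -- parity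
  have par : ∀ (n : ℕ) (u f j i : ℤ), (4 : ℤ) ∣ u - 1 → u - 1 = 2 ^ (n + 1) * f →
      (2 : ℤ) ^ (n + 2) ∣ (u * j + j) - 2 * i → (Even i ↔ Even j) ∧ (n = 0 → Even f) := by
    intro n u f j i h4 hf hd
    have hnf : Even (2 ^ n * f) := by
      obtain ⟨k, hk⟩ := h4
      refine ⟨k, ?_⟩
      have e1 : (2 : ℤ) ^ (n + 1) * f = 2 * (2 ^ n * f) := by ring
      rw [e1] at hf
      linarith
    have e2 : (u * j + j) - 2 * i = 2 * ((j - i) + 2 ^ n * f * j) := by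
      have : u = 1 + 2 ^ (n + 1) * f := by linarith
      rw [this]; ring
    rw [e2, show (2 : ℤ) ^ (n + 2) = 2 * 2 ^ (n + 1) by ring] at hd
    have h1 := Int.dvd_of_mul_dvd_mul_left (by norm_num) hd
    have h2 : (2 : ℤ) ∣ (j - i) + 2 ^ n * f * j := (dvd_pow_self _ (by omega)).trans h1
    rw [← even_iff_two_dvd, Int.even_add, Int.even_sub] at h2
    refine ⟨?_, ?_⟩
    · have h3 : Even (2 ^ n * f * j) := hnf.mul_right _
      exact (h2.2 h3).symm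
    · rintro rfl
      simpa using hnf
  have h5 := NN.b1.symm.trans M.b1
  have h6 := NN.b2.symm.trans M.b2
  have h5 := mul_right_cancel h5
  have h6 := mul_right_cancel h6
  rw [h.q1.zpow_eq] at h5
  rw [h.q2.zpow_eq] at h6
  obtain ⟨p1, p1'⟩ := par n1 u1 f1 j1 i ha1 hf1 h5
  obtain ⟨p2, p2'⟩ := par n2 u2 f2 j2 j ha2 hf2 h6
  refine ⟨f1, f2, i, j, c1, c2, e, p1, p2, ?_, p1', p2'⟩
  -- `s` commutes with `s²`
  have h7 : cj s (s * s) = s * s := by rw [cj_mul, cj_self]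
  rw [e, cj_mul, cj_zpow, cj_zpow, c1, c2] at h7
  have z1 : Commute r1 (z ^ f1) := (Commute.zpow_right (show Commute r1 z from h.q1.zr.symm) _)
  have z2 : Commute r2 (z ^ f2) := (Commute.zpow_right (show Commute r2 z from h.q2.zr.symm) _)
  have z3 : Commute (z ^ (f1 * i)) (r2 ^ j) :=
    (Commute.zpow_zpow (show Commute z r2 from h.q2.zr) _ _)
  rw [z1.mul_zpow, z2.mul_zpow, ← zpow_mul, ← zpow_mul] at h7
  have h8 : r1 ^ i * z ^ (f1 * i) * (r2 ^ j * z ^ (f2 * j)) =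
      r1 ^ i * r2 ^ j * z ^ (f1 * i + f2 * j) := by
    rw [zpow_add]
    calc r1 ^ i * z ^ (f1 * i) * (r2 ^ j * z ^ (f2 * j)) =
        r1 ^ i * (z ^ (f1 * i) * r2 ^ j) * z ^ (f2 * j) := by group
      _ = r1 ^ i * (r2 ^ j * z ^ (f1 * i)) * z ^ (f2 * j) := by rw [z3.eq]
      _ = _ := by group
  rw [h8, mul_eq_left] at h7
  rcases h.q1.z_cases (f1 * i + f2 * j) with ⟨_, h9⟩ | ⟨h9, _⟩
  · exact h9
  · rw [h9] at h7
    exact absurd h7 h.q1.z_ne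

end Sd

end Cfsg.Agent.GH.Q2
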