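import Cfsg.Agent.GH.Q2.Base

/-!
# GH-Q, case (II): a 2-group `S` permuting two commuting generalized quaternion groups
-/

set_option autoImplicit false

namespace Cfsg.Agent.GH.Q2

open Subgroup

variable {G : Type*} [Group G]

section ns

variable {z r1 y1 r2 y2 s : G} {n1 n2 : ℕ} {u1 j1 u2 j2 v1 k1 v2 k2 : ℤ}

theorem Qn.pow_even {z r y : G} {n : ℕ} (h : Qn z r y n) {u : ℤ} (hu : Even u) :
    (r ^ u) ^ (2 ^ (n + 1)) = 1 := by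
  obtain ⟨k, rfl⟩ := hu
  have : (r ^ (k + k)) ^ (2 ^ (n + 1)) = (r ^ (2 ^ (n + 1))) ^ (k + k) := by
    rw [← zpow_natCast, ← zpow_mul, ← zpow_natCast r (2 ^ (n + 1)), ← zpow_mul, mul_comm]
  rw [this, h.rp, ← two_mul, zpow_mul, h.z2, one_zpow]

theorem Qn.pow_odd {z r y : G} {n : ℕ} (h : Qn z r y n) {u : ℤ} (hu : Odd u) :
    (r ^ u) ^ (2 ^ (n + 1)) = z := by
  obtain ⟨k, rfl⟩ := hu
  have : (r ^ (2 * k + 1)) ^ (2 ^ (n + 1)) = (r ^ (2 ^ (n + 1))) ^ (2 * k + 1) := by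
    rw [← zpow_natCast, ← zpow_mul, ← zpow_natCast r (2 ^ (n + 1)), ← zpow_mul, mul_comm]
  rw [this, h.rp, zpow_add, zpow_mul, h.z2, one_zpow, one_mul, zpow_one]

theorem Ns.odd1 (N : Ns r1 y1 r2 y2 s u1 j1 u2 j2) (h : Co z r1 y1 r2 y2 n1 n2) : Odd u1 := by
  by_contra hu
  rw [Int.not_odd_iff_even] at hu
  have h1 := h.q1.pow_even hu
  rw [← N.a1, ← cj_pow, h.q1.rp] at h1
  exact cj_ne_one h.q1.z_ne h1

theorem Ns.odd2 (N : Ns r1 y1 r2 y2 s u1 j1 u2 j2) (h : Co z r1 y1 r2 y2 n1 n2) : Odd u2 :=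
  N.symm.odd1 h.symm

theorem Ns.cj_z (N : Ns r1 y1 r2 y2 s u1 j1 u2 j2) (h : Co z r1 y1 r2 y2 n1 n2) : cj s z = z := by
  have h1 := h.q1.pow_odd (N.odd1 h)
  rw [← N.a1, ← cj_pow, h.q1.rp] at h1
  exact h1

theorem Sw.odd1 {n : ℕ} (N : Sw r1 y1 r2 y2 s u1 j1 u2 j2) (h : Co z r1 y1 r2 y2 n n) : Odd u1 := by
  by_contra hu
  rw [Int.not_odd_iff_even] at hu
  have h1 := h.q2.pow_even hu
  rw [← N.a1, ← cj_pow, h.q1.rp] at h1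
  exact cj_ne_one h.q1.z_ne h1

theorem Sw.odd2 {n : ℕ} (N : Sw r1 y1 r2 y2 s u1 j1 u2 j2) (h : Co z r1 y1 r2 y2 n n) : Odd u2 :=
  N.symm.odd1 h.symm

theorem Sw.cj_z {n : ℕ} (N : Sw r1 y1 r2 y2 s u1 j1 u2 j2) (h : Co z r1 y1 r2 y2 n n) :
    cj s z = z := by
  have h1 := h.q2.pow_odd (N.odd1 h)
  rw [← N.a1, ← cj_pow, h.q1.rp] at h1
  exact h1

/-- the parities of `j1`, `j2` are determined by `s`. -/
theorem Ns.parity1 (N : Ns r1 y1 r2 y2 s u1 j1 u2 j2) (N' : Ns r1 y1 r2 y2 s v1 k1 v2 k2)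
    (h : Co z r1 y1 r2 y2 n1 n2) : Even j1 ↔ Even k1 := by
  apply h.q1.parity
  have := N.b1.symm.trans N'.b1
  exact mul_right_cancel this

theorem Ns.parity2 (N : Ns r1 y1 r2 y2 s u1 j1 u2 j2) (N' : Ns r1 y1 r2 y2 s v1 k1 v2 k2)
    (h : Co z r1 y1 r2 y2 n1 n2) : Even j2 ↔ Even k2 :=
  N.symm.parity1 N'.symm h.symm

theorem Sw.parity1 (N : Sw r1 y1 r2 y2 s u1 j1 u2 j2) (N' : Sw r1 y1 r2 y2 s v1 k1 v2 k2)
    (h : Co z r1 y1 r2 y2 n1 n2) : Even j1 ↔ Even k1 := by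
  apply h.q2.parity
  have := N.b1.symm.trans N'.b1
  exact mul_right_cancel this

theorem Sw.parity2 (N : Sw r1 y1 r2 y2 s u1 j1 u2 j2) (N' : Sw r1 y1 r2 y2 s v1 k1 v2 k2)
    (h : Co z r1 y1 r2 y2 n1 n2) : Even j2 ↔ Even k2 :=
  N.symm.parity1 N'.symm h.symm

theorem Ns.not_sw (N : Ns r1 y1 r2 y2 s u1 j1 u2 j2) (N' : Sw r1 y1 r2 y2 s v1 k1 v2 k2)
    (h : Co z r1 y1 r2 y2 n1 n2) : False :=
  h.q1.odd_ne (N.odd1 h) (h.ind_zpow (N.a1.symm.trans N'.a1))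

end ns

/-- `S` permutes the two factors; elements of type `(0, 0)` lie in `R`. -/
structure Sd (S : Subgroup G) (z r1 y1 r2 y2 : G) (n1 n2 : ℕ) : Prop
    extends Co z r1 y1 r2 y2 n1 n2 where
  h1 : r1 ∈ S
  h2 : y1 ∈ S
  h3 : r2 ∈ S
  h4 : y2 ∈ S
  act : ∀ s ∈ S, (∃ u1 j1 u2 j2 : ℤ, Ns r1 y1 r2 y2 s u1 j1 u2 j2) ∨
    (n1 = n2 ∧ ∃ u1 j1 u2 j2 : ℤ, Sw r1 y1 r2 y2 s u1 j1 u2 j2)
  inR : ∀ s ∈ S, ∀ u1 j1 u2 j2 : ℤ, Ns r1 y1 r2 y2 s u1 j1 u2 j2 → Even j1 → Even j2 →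
    s ∈ RR r1 y1 r2 y2

namespace Sd

variable {S : Subgroup G} {z r1 y1 r2 y2 s s' : G} {n1 n2 : ℕ} {u1 j1 u2 j2 v1 k1 v2 k2 : ℤ}

theorem symm (h : Sd S z r1 y1 r2 y2 n1 n2) : Sd S z r2 y2 r1 y1 n2 n1 where
  toCo := h.toCo.symm
  h1 := h.h3
  h2 := h.h4
  h3 := h.h1
  h4 := h.h2
  act s hs := by
    rcases h.act s hs with ⟨u1, j1, u2, j2, N⟩ | ⟨e, u1, j1, u2, j2, N⟩
    · exact Or.inl ⟨_, _, _, _, N.symm⟩
    · exact Or.inr ⟨e.symm, _, _, _, _, N.symm⟩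
  inR s hs u1 j1 u2 j2 N e1 e2 := by
    rw [Co.RR_symm]
    exact h.inR s hs _ _ _ _ N.symm e2 e1

theorem R_le (h : Sd S z r1 y1 r2 y2 n1 n2) : RR r1 y1 r2 y2 ≤ S := by
  unfold RR
  rw [sup_le_iff, closure_le, closure_le]
  constructor
  · rintro x (rfl | rfl)
    · exact h.h1
    · exact h.h2
  · rintro x (rfl | rfl)
    · exact h.h3
    · exact h.h4

theorem hz (h : Sd S z r1 y1 r2 y2 n1 n2) : z ∈ S := h.R_le h.mz

theorem cj_z (h : Sd S z r1 y1 r2 y2 n1 n2) (hs : s ∈ S) : cj s z = z := by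
  rcases h.act s hs with ⟨u1, j1, u2, j2, N⟩ | ⟨e, u1, j1, u2, j2, N⟩
  · exact N.cj_z h.toCo
  · subst e
    exact N.cj_z h.toCo

theorem zc (h : Sd S z r1 y1 r2 y2 n1 n2) (hs : s ∈ S) : s * z = z * s :=
  cj_eq_self_iff.1 (h.cj_z hs)

/-- Elements of `R`: exponents and explicit form. -/
theorem _root_.Cfsg.Agent.GH.Q2.Co.ns_of_mem (h : Co z r1 y1 r2 y2 n1 n2)
    (hs : s ∈ RR r1 y1 r2 y2) :
    ∃ i j : ℤ, (s = r1 ^ i * r2 ^ j ∧ Ns r1 y1 r2 y2 s 1 (2 * i) 1 (2 * j)) ∨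
      (s = r1 ^ i * y1 * r2 ^ j ∧ Ns r1 y1 r2 y2 s (-1) (2 * i) 1 (2 * j)) ∨
      (s = r1 ^ i * (r2 ^ j * y2) ∧ Ns r1 y1 r2 y2 s 1 (2 * i) (-1) (2 * j)) ∨
      (s = r1 ^ i * y1 * (r2 ^ j * y2) ∧ Ns r1 y1 r2 y2 s (-1) (2 * i) (-1) (2 * j)) := by
  obtain ⟨i, j, hs⟩ := h.mem_R.1 hs
  have h1 := h.ns_r1 i
  have h2 := h.ns_r2 j
  have h3 := h.ns_y1
  have h4 := h.ns_y2
  refine ⟨i, j, ?_⟩
  rcases hs with rfl | rfl | rfl | rfl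
  · left
    refine ⟨rfl, ?_⟩
    have := h1.mul h2
    ring_nf at this ⊢
    exact this
  · right; left
    refine ⟨rfl, ?_⟩
    have := (h1.mul h3).mul h2
    ring_nf at this ⊢
    exact this
  · right; right; left
    refine ⟨rfl, ?_⟩
    have := h1.mul (h2.mul h4)
    ring_nf at this ⊢
    exact this
  · right; right; right
    refine ⟨rfl, ?_⟩
    have := (h1.mul h3).mul (h2.mul h4)
    ring_nf at this ⊢
    exact this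

/-- elements of `R` have type `(0, 0)` -/
theorem _root_.Cfsg.Agent.GH.Q2.Ns.even_of_mem (N : Ns r1 y1 r2 y2 s u1 j1 u2 j2)
    (h : Co z r1 y1 r2 y2 n1 n2) (hs : s ∈ RR r1 y1 r2 y2) : Even j1 ∧ Even j2 := by
  obtain ⟨i, j, h1⟩ := h.ns_of_mem hs
  rcases h1 with ⟨_, M⟩ | ⟨_, M⟩ | ⟨_, M⟩ | ⟨_, M⟩ <;>
  exact ⟨(N.parity1 M h).2 (even_two_mul _), (N.parity2 M h).2 (even_two_mul _)⟩

theorem not_sw_of_mem (h : Co z r1 y1 r2 y2 n1 n2) (hs : s ∈ RR r1 y1 r2 y2)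
    (N : Sw r1 y1 r2 y2 s u1 j1 u2 j2) : False := by
  obtain ⟨i, j, h1⟩ := h.ns_of_mem hs
  rcases h1 with ⟨_, M⟩ | ⟨_, M⟩ | ⟨_, M⟩ | ⟨_, M⟩ <;>
  exact M.not_sw N h

/-- the square of a non-swapping element is in `R`. -/
theorem sq_mem (h : Sd S z r1 y1 r2 y2 n1 n2) (hs : s ∈ S) (N : Ns r1 y1 r2 y2 s u1 j1 u2 j2) :
    s * s ∈ RR r1 y1 r2 y2 := by
  refine h.inR _ (mul_mem hs hs) _ _ _ _ (N.mul N) ?_ ?_
  · have := N.odd1 h.toCo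
    have e : u1 * j1 + j1 = (u1 + 1) * j1 := by ring
    rw [e]
    exact (this.add_odd odd_one).mul_right _
  · have := N.odd2 h.toCo
    have e : u2 * j2 + j2 = (u2 + 1) * j2 := by ring
    rw [e]
    exact (this.add_odd odd_one).mul_right _

/-- An element of `S` acting trivially on the generators is `1` or `z`. -/
theorem cen (h : Sd S z r1 y1 r2 y2 n1 n2) (hs : s ∈ S) (c1 : cj s r1 = r1) (c2 : cj s y1 = y1)
    (c3 : cj s r2 = r2) (c4 : cj s y2 = y2) : s = 1 ∨ s = z := by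
  have N : Ns r1 y1 r2 y2 s 1 0 1 0 := ⟨by rw [c1, zpow_one], by rw [c2, zpow_zero, one_mul],
    by rw [c3, zpow_one], by rw [c4, zpow_zero, one_mul]⟩
  have hR := h.inR s hs _ _ _ _ N Even.zero Even.zero
  obtain ⟨i, j, hc⟩ := h.ns_of_mem hR
  have key : ∀ v1 v2 : ℤ, Ns r1 y1 r2 y2 s v1 (2 * i) v2 (2 * j) →
      r1 ^ v1 = r1 ∧ r2 ^ v2 = r2 ∧ (r1 ^ i = 1 ∨ r1 ^ i = z) ∧ (r2 ^ j = 1 ∨ r2 ^ j = z) := by
    intro v1 v2 M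
    refine ⟨M.a1.symm.trans c1, M.a2.symm.trans c3, ?_, ?_⟩
    · have h1 := M.b1.symm.trans c2
      rw [mul_eq_right, h.q1.zpow_eq_one] at h1
      rw [h.q1.zpow_mem]
      rw [show (2 : ℤ) ^ (n1 + 2) = 2 * 2 ^ (n1 + 1) by ring] at h1
      exact Int.dvd_of_mul_dvd_mul_left (by norm_num) h1
    · have h1 := M.b2.symm.trans c4
      rw [mul_eq_right, h.q2.zpow_eq_one] at h1
      rw [h.q2.zpow_mem]
      rw [show (2 : ℤ) ^ (n2 + 2) = 2 * 2 ^ (n2 + 1) by ring] at h1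
      exact Int.dvd_of_mul_dvd_mul_left (by norm_num) h1
  rcases hc with ⟨e, M⟩ | ⟨_, M⟩ | ⟨_, M⟩ | ⟨_, M⟩
  · obtain ⟨_, _, h5, h6⟩ := key _ _ M
    rw [e]
    rcases h5 with h5 | h5 <;> rcases h6 with h6 | h6 <;> rw [h5, h6]
    · left; simp
    · right; simp
    · right; simp
    · left; exact h.q1.z_sq
  · obtain ⟨h3, _⟩ := key _ _ M
    rw [zpow_neg_one] at h3
    exact absurd h3.symm h.q1.r_ne_inv
  · obtain ⟨_, h3, _⟩ := key _ _ M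
    rw [zpow_neg_one] at h3
    exact absurd h3.symm h.q2.r_ne_inv
  · obtain ⟨h3, _⟩ := key _ _ M
    rw [zpow_neg_one] at h3
    exact absurd h3.symm h.q1.r_ne_inv

/-- Two elements of `S` with the same action differ by `1` or `z`. -/
theorem eq_or (h : Sd S z r1 y1 r2 y2 n1 n2) {a b : G} (ha : a ∈ S) (hb : b ∈ S)
    (c1 : cj a r1 = cj b r1) (c2 : cj a y1 = cj b y1)
    (c3 : cj a r2 = cj b r2) (c4 : cj a y2 = cj b y2) : a = b ∨ a = b * z := by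
  have key : ∀ x, cj a x = cj b x → cj (b⁻¹ * a) x = x := by
    intro x hx
    rw [cj_mul_left, hx, cj_inv_cj]
  rcases h.cen (mul_mem (inv_mem hb) ha) (key _ c1) (key _ c2) (key _ c3) (key _ c4) with e | e
  · left
    exact (inv_mul_eq_one.1 e).symm
  · right
    rw [← e]; group

end Sd

end Cfsg.Agent.GH.Q2
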